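/-
Orders of `SL`, `PSL`, `PGL` over finite fields.
-/
import Mathlib

set_option autoImplicit false

namespace CfsgLib.Linear

open Matrix

variable {n : Type*} [Fintype n] [DecidableEq n] {F : Type*} [Field F]

theorem range_toGL_eq_ker_det :
    (SpecialLinearGroup.toGL : SpecialLinearGroup n F →* GL n F).range =
      (GeneralLinearGroup.det : GL n F →* Fˣ).ker := by
  ext g
  constructor
  · rintro ⟨A, rfl⟩
    exact Units.ext (by simp)
  · intro hg
    have h : (g : Matrix n n F).det = 1 := by
      simpa [Units.ext_iff] using hg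
    exact ⟨⟨g, h⟩, Units.ext rfl⟩

theorem card_ker_det :
    Nat.card (GeneralLinearGroup.det : GL n F →* Fˣ).ker =
      Nat.card (SpecialLinearGroup n F) := by
  rw [← range_toGL_eq_ker_det]
  exact (Nat.card_congr (MonoidHom.ofInjective
    SpecialLinearGroup.toGL_injective).toEquiv).symm

variable [Fintype F]

theorem card_GL_eq_mul_card_SL [Nonempty n] :
    Nat.card (GL n F) = (Fintype.card F - 1) * Nat.card (SpecialLinearGroup n F) := by
  rw [← (GeneralLinearGroup.det : GL n F →* Fˣ).ker.card_mul_index, card_ker_det,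
    Subgroup.index_ker, MonoidHom.range_eq_top.2 GeneralLinearGroup.det_surjective,
    Subgroup.card_top, Nat.card_units, Nat.card_eq_fintype_card (α := F)]
  ring

theorem card_GL_fin (N : ℕ) :
    Nat.card (GL (Fin N) F) =
      ∏ i : Fin N, (Fintype.card F ^ N - Fintype.card F ^ (i : ℕ)) :=
  Matrix.card_GL_field N

theorem card_SL_mul (N : ℕ) (hN : 1 ≤ N) :
    (Fintype.card F - 1) * Nat.card (SpecialLinearGroup (Fin N) F) =
      ∏ i : Fin N, (Fintype.card F ^ N - Fintype.card F ^ (i : ℕ)) := by
  have : Nonempty (Fin N) := ⟨⟨0, hN⟩⟩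
  rw [← card_GL_eq_mul_card_SL, card_GL_fin]

/-- `|SL₂(q)| = q (q² - 1)`. -/
theorem card_SL_two :
    Nat.card (SpecialLinearGroup (Fin 2) F) =
      Fintype.card F * (Fintype.card F ^ 2 - 1) := by
  have h := card_SL_mul (F := F) 2 (by norm_num)
  have hq : 2 ≤ Fintype.card F := Fintype.one_lt_card
  simp only [Fin.prod_univ_two, Fin.val_zero, Fin.val_one, pow_zero, pow_one] at h
  obtain ⟨k, hk⟩ : ∃ k, Fintype.card F = k + 1 := ⟨_, (Nat.sub_add_cancel (by omega)).symm⟩
  rw [hk, Nat.add_sub_cancel] at h
  rw [hk]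
  have h2 : (k + 1) ^ 2 - (k + 1) = (k + 1) * k := by
    rw [pow_two, ← Nat.mul_sub_one, Nat.add_sub_cancel]
  rw [h2] at h
  refine Nat.eq_of_mul_eq_mul_left (show 0 < k by omega) ?_
  rw [h]
  ring

omit [Fintype F] in
theorem center_SL_equiv_rootsOfUnity [Nonempty n] :
    Nonempty (Subgroup.center (SpecialLinearGroup n F) ≃* rootsOfUnity (Fintype.card n) F) :=
  ⟨SpecialLinearGroup.center_equiv_rootsOfUnity' (Classical.arbitrary n)⟩

theorem card_rootsOfUnity_finite (d : ℕ) :
    Nat.card (rootsOfUnity d F) = Nat.gcd (Fintype.card F - 1) d := by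
  have h1 : rootsOfUnity d F = (powMonoidHom d : Fˣ →* Fˣ).ker := by
    ext x
    simp
  rw [h1, IsCyclic.card_powMonoidHom_ker, Nat.card_units, Nat.card_eq_fintype_card (α := F)]

theorem card_center_SL [Nonempty n] :
    Nat.card (Subgroup.center (SpecialLinearGroup n F)) =
      Nat.gcd (Fintype.card F - 1) (Fintype.card n) := by
  rw [Nat.card_congr (center_SL_equiv_rootsOfUnity (n := n) (F := F)).some.toEquiv,
    card_rootsOfUnity_finite]

theorem card_PSL_mul [Nonempty n] :
    Nat.gcd (Fintype.card n) (Fintype.card F - 1) *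
        Nat.card (ProjectiveSpecialLinearGroup n F) =
      Nat.card (SpecialLinearGroup n F) := by
  rw [Subgroup.card_eq_card_quotient_mul_card_subgroup
    (Subgroup.center (SpecialLinearGroup n F)), card_center_SL, Nat.gcd_comm, mul_comm]

theorem card_center_GL [Nonempty n] :
    Nat.card (Subgroup.center (GL n F)) = Fintype.card F - 1 := by
  have hinj : Function.Injective (GeneralLinearGroup.scalar n : Fˣ →* GL n F) := fun a b h ↦ by
    have h' := congrArg (fun g : GL n F ↦ (g : Matrix n n F)) h
    simp only [GeneralLinearGroup.coe_scalar, scalar_apply] at h'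
    exact Units.ext (congr_fun (diagonal_injective h') (Classical.arbitrary n))
  rw [GeneralLinearGroup.center_eq_range_scalar,
    ← Nat.card_congr (MonoidHom.ofInjective hinj).toEquiv, Nat.card_units,
    Nat.card_eq_fintype_card]

theorem card_PGL :
    Nat.card (ProjGenLinGroup n F) = Nat.card (SpecialLinearGroup n F) := by
  rcases isEmpty_or_nonempty n with hn | hn
  · have : Subsingleton (GL n F) := ⟨fun a b ↦ Units.ext (Subsingleton.elim _ _)⟩
    have : Subsingleton (ProjGenLinGroup n F) := ProjGenLinGroup.mk_surjective.subsingleton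
    rw [Nat.card_unique, Nat.card_unique]
  · have hq : 0 < Fintype.card F - 1 := by
      have := Fintype.one_lt_card (α := F)
      omega
    have h : Nat.card (GL n F) =
        Nat.card (ProjGenLinGroup n F) * (Fintype.card F - 1) := by
      rw [← card_center_GL (n := n)]
      exact Subgroup.card_eq_card_quotient_mul_card_subgroup (Subgroup.center (GL n F))
    rw [card_GL_eq_mul_card_SL, mul_comm] at h
    exact (Nat.eq_of_mul_eq_mul_right hq h).symm

end CfsgLib.Linear
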