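/-
Generation of `SL_n` by transvections over any field, perfectness of `SL_n`, commutator of `GL_n`.
-/
import Mathlib
import Cfsg.Agent.Lib.Linear.Card

set_option autoImplicit false

namespace CfsgLib.Linear

open Matrix
open scoped commutatorElement

variable {n : Type*} [Fintype n] [DecidableEq n] {F : Type*} [Field F]

theorem SL_smul_single_apply (A : SpecialLinearGroup n F) (k l : n) :
    (A • (Pi.single k 1 : n → F)) l = A.1 l k := by
  change (A.1 *ᵥ Pi.single k 1) l = A.1 l k
  rw [mulVec_single_one]
  rfl

theorem SL_transvection_smul_single_of_ne {i j k : n} (hij : i ≠ j) (hk : k ≠ j) (b : F) :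
    (SpecialLinearGroup.transvection hij b) • (Pi.single k 1 : n → F) = Pi.single k 1 := by
  ext l
  rw [SL_smul_single_apply]
  simp [SpecialLinearGroup.transvection_coe, one_apply, Pi.single_apply, hk.symm]

theorem SL_ext_single {A B : SpecialLinearGroup n F}
    (h : ∀ k : n, A • (Pi.single k 1 : n → F) = B • Pi.single k 1) : A = B := by
  ext i j
  rw [← SL_smul_single_apply, h, SL_smul_single_apply]

theorem diag2n_smul_single {i j k : n} (hij : i ≠ j) {a : F} (ha : a ≠ 0) :
    SpecialLinearGroup.diag2n hij a ha • (Pi.single k 1 : n → F) =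
      (if k = i then a else if k = j then a⁻¹ else 1) • Pi.single k (1 : F) := by
  ext l
  rw [SL_smul_single_apply]
  rcases eq_or_ne l k with rfl | hl <;>
    simp [SpecialLinearGroup.diag2n_coe, *]

theorem diag2n_eq_prod_transvection {i j : n} (hij : i ≠ j) {a : F} (ha : a ≠ 0) :
    SpecialLinearGroup.diag2n hij a ha =
      SpecialLinearGroup.transvection hij a * SpecialLinearGroup.transvection hij.symm (-a⁻¹) *
        SpecialLinearGroup.transvection hij a * SpecialLinearGroup.transvection hij (-1) *
        SpecialLinearGroup.transvection hij.symm 1 * SpecialLinearGroup.transvection hij (-1) := by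
  refine SL_ext_single fun k ↦ ?_
  simp only [diag2n_smul_single, mul_smul]
  by_cases hki : k = i
  · subst hki
    simp only [SpecialLinearGroup.transvection_smul_single_fst,
      SpecialLinearGroup.transvection_smul_single_snd, smul_add, smul_comm (_ : SpecialLinearGroup n F),
      if_true]
    match_scalars <;> field_simp <;> ring
  · by_cases hkj : k = j
    · subst hkj
      simp only [SpecialLinearGroup.transvection_smul_single_fst,
        SpecialLinearGroup.transvection_smul_single_snd, smul_add,
        smul_comm (_ : SpecialLinearGroup n F), if_neg hki, if_true]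
      match_scalars <;> field_simp <;> ring
    · simp [SL_transvection_smul_single_of_ne, hki, hkj]

/-- The set of elementary transvections of `SL_n`. -/
def elemTransvections (n : Type*) [Fintype n] [DecidableEq n] (F : Type*) [Field F] :
    Set (SpecialLinearGroup n F) :=
  {g | ∃ (i j : n) (h : i ≠ j) (c : F), g = SpecialLinearGroup.transvection h c}

theorem transvection_mem_elemTransvections {i j : n} (h : i ≠ j) (c : F) :
    SpecialLinearGroup.transvection h c ∈ elemTransvections n F :=
  ⟨i, j, h, c, rfl⟩

/-- Induction over products of elementary transvections. -/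
theorem SL_transvection_induction (P : SpecialLinearGroup n F → Prop) (hone : P 1)
    (htr : ∀ (i j : n) (h : i ≠ j) (c : F), P (SpecialLinearGroup.transvection h c))
    (hmul : ∀ A B, P A → P B → P (A * B)) (A : SpecialLinearGroup n F) : P A := by
  rcases subsingleton_or_nontrivial n with hn | hn
  · rwa [Subsingleton.elim A 1]
  refine SpecialLinearGroup.diagonal_transvection_induction' P A (fun i j hij c hc ↦ ?_) htr hmul
  rw [diag2n_eq_prod_transvection hij hc]
  exact hmul _ _ (hmul _ _ (hmul _ _ (hmul _ _ (hmul _ _ (htr ..) (htr ..)) (htr ..)) (htr ..))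
    (htr ..)) (htr ..)

theorem closure_elemTransvections_eq_top :
    Subgroup.closure (elemTransvections n F) = ⊤ :=
  (Subgroup.eq_top_iff' _).2 fun A ↦ SL_transvection_induction (· ∈ Subgroup.closure _)
    (one_mem _) (fun _ _ h c ↦ Subgroup.subset_closure (transvection_mem_elemTransvections h c))
    (fun _ _ ↦ mul_mem) A

theorem SL_eq_top_of_transvection_mem (H : Subgroup (SpecialLinearGroup n F))
    (h : ∀ (i j : n) (hij : i ≠ j) (c : F), SpecialLinearGroup.transvection hij c ∈ H) : H = ⊤ :=
  (Subgroup.eq_top_iff' _).2 fun A ↦
    SL_transvection_induction (· ∈ H) (one_mem _) h (fun _ _ ↦ mul_mem) A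

theorem SL_monoidHom_ext {M : Type*} [MulOneClass M] {f g : SpecialLinearGroup n F →* M}
    (h : ∀ (i j : n) (hij : i ≠ j) (c : F),
      f (SpecialLinearGroup.transvection hij c) = g (SpecialLinearGroup.transvection hij c)) :
    f = g :=
  MonoidHom.ext fun A ↦ SL_transvection_induction (fun A ↦ f A = g A) (by simp) h
    (fun A B hA hB ↦ by simp [hA, hB]) A

theorem commutator_transvection_transvection {i j k : n} (hij : i ≠ j) (hik : i ≠ k) (hkj : k ≠ j)
    (a b : F) :
    ⁅SpecialLinearGroup.transvection hik a, SpecialLinearGroup.transvection hkj b⁆ =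
      SpecialLinearGroup.transvection hij (a * b) := by
  rw [commutatorElement_def, SpecialLinearGroup.transvection_inv,
    SpecialLinearGroup.transvection_inv]
  refine SL_ext_single fun l ↦ ?_
  simp only [mul_smul]
  by_cases hlj : l = j
  · subst hlj
    simp only [SpecialLinearGroup.transvection_smul_single_fst,
      SpecialLinearGroup.transvection_smul_single_snd, smul_add,
      smul_comm (_ : SpecialLinearGroup n F),
      SL_transvection_smul_single_of_ne hkj hij, SL_transvection_smul_single_of_ne hik hkj.symm]
    match_scalars <;> ring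
  · by_cases hlk : l = k
    · subst hlk
      simp only [SpecialLinearGroup.transvection_smul_single_fst,
        SpecialLinearGroup.transvection_smul_single_snd, smul_add,
        smul_comm (_ : SpecialLinearGroup n F),
        SL_transvection_smul_single_of_ne hkj hij, SL_transvection_smul_single_of_ne hij hkj]
      match_scalars <;> ring
    · simp [SL_transvection_smul_single_of_ne, hlk, hlj]

theorem commutator_diag2n_transvection {i j : n} (hij : i ≠ j) {a : F} (ha : a ≠ 0) (b : F) :
    ⁅SpecialLinearGroup.diag2n hij a ha, SpecialLinearGroup.transvection hij b⁆ =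
      SpecialLinearGroup.transvection hij (b * (a ^ 2 - 1)) := by
  have hD : SpecialLinearGroup.diag2n hij a ha * SpecialLinearGroup.transvection hij b =
      SpecialLinearGroup.transvection hij (a ^ 2 * b) * SpecialLinearGroup.diag2n hij a ha := by
    refine SL_ext_single fun k ↦ ?_
    simp only [mul_smul]
    by_cases hkj : k = j
    · subst hkj
      simp only [SpecialLinearGroup.transvection_smul_single_snd, diag2n_smul_single, smul_add,
        smul_comm (_ : SpecialLinearGroup n F), if_neg hij.symm, if_true]
      match_scalars <;> field_simp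
    · simp [SL_transvection_smul_single_of_ne, diag2n_smul_single, hkj,
        smul_comm (_ : SpecialLinearGroup n F)]
  rw [commutatorElement_def, hD, mul_assoc, mul_assoc, ← mul_assoc (SpecialLinearGroup.diag2n _ _ _),
    mul_inv_cancel, one_mul, SpecialLinearGroup.transvection_inv,
    ← SpecialLinearGroup.transvection_add]
  congr 1
  ring

theorem transvection_mem_commutator_SL
    (hcond : 3 ≤ Fintype.card n ∨ ∃ a : F, a ≠ 0 ∧ a ^ 2 ≠ 1) {i j : n} (hij : i ≠ j) (c : F) :
    SpecialLinearGroup.transvection hij c ∈ commutator (SpecialLinearGroup n F) := by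
  rcases hcond with h3 | ⟨a, ha, ha2⟩
  · obtain ⟨k, hk⟩ := Finset.exists_mem_notMem_of_card_lt_card (s := ({i, j} : Finset n))
      (t := Finset.univ) (by rw [Finset.card_univ]; exact (Finset.card_le_two).trans_lt h3)
    simp only [Finset.mem_insert, Finset.mem_singleton, not_or] at hk
    rw [show c = c * 1 by ring, ← commutator_transvection_transvection hij (Ne.symm hk.2.1) hk.2.2]
    exact Subgroup.commutator_mem_commutator (Subgroup.mem_top _) (Subgroup.mem_top _)
  · rw [← div_mul_cancel₀ c (sub_ne_zero_of_ne ha2), ← commutator_diag2n_transvection hij ha]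
    exact Subgroup.commutator_mem_commutator (Subgroup.mem_top _) (Subgroup.mem_top _)

/-- `SL_n` is perfect for `n ≥ 3` and whenever the field has more than three elements. -/
theorem commutator_SL_eq_top
    (hcond : 3 ≤ Fintype.card n ∨ ∃ a : F, a ≠ 0 ∧ a ^ 2 ≠ 1) :
    commutator (SpecialLinearGroup n F) = ⊤ :=
  SL_eq_top_of_transvection_mem _ fun _ _ hij c ↦ transvection_mem_commutator_SL hcond hij c

theorem exists_sq_ne_one_of_four_le_card (hF : 4 ≤ Nat.card F) : ∃ a : F, a ≠ 0 ∧ a ^ 2 ≠ 1 := by
  have : Finite F := (Nat.card_pos_iff.1 (by omega)).2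
  obtain ⟨x, hx⟩ : IsCyclic Fˣ := by infer_instance
  refine ⟨x, Units.ne_zero x, fun h ↦ ?_⟩
  have h2 := orderOf_le_of_pow_eq_one zero_lt_two
    (Units.ext (by simpa using h) : x ^ 2 = 1)
  rw [orderOf_eq_card_of_forall_mem_zpowers hx] at h2
  have := Nat.card_eq_card_units_add_one F
  omega

theorem commutator_GL_eq_ker_det
    (h : Fintype.card n = 2 → ∃ a : F, a ≠ 0 ∧ a ≠ 1) :
    commutator (GL n F) = (GeneralLinearGroup.det : GL n F →* Fˣ).ker := by
  apply le_antisymm (Abelianization.commutator_subset_ker _)
  rw [← range_toGL_eq_ker_det]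
  rintro _ ⟨A, rfl⟩
  refine SL_transvection_induction
    (fun A ↦ SpecialLinearGroup.toGL A ∈ commutator (GL n F)) (by simp) ?_
    (fun A B hA hB ↦ by simpa using mul_mem hA hB) A
  intro i j hij c
  rcases le_or_gt 3 (Fintype.card n) with h3 | h3
  · have h1 := transvection_mem_commutator_SL (F := F) (Or.inl h3) hij c
    have h2 : (commutator (SpecialLinearGroup n F)).map SpecialLinearGroup.toGL ≤
        commutator (GL n F) := by
      rw [commutator_def, commutator_def, Subgroup.map_commutator]
      exact Subgroup.commutator_mono le_top le_top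
    exact h2 ⟨_, h1, rfl⟩
  · have h2 : Fintype.card n = 2 := by
      have : 1 < Fintype.card n := Fintype.one_lt_card_iff.2 ⟨i, j, hij⟩
      omega
    obtain ⟨a, ha, ha1⟩ := h h2
    let d : GL n F := GeneralLinearGroup.mkOfDetNeZero (diagonal (Function.update 1 i a)) (by
      rw [det_diagonal, Finset.prod_update_of_mem (Finset.mem_univ i)]
      simpa using ha)
    have key : d * SpecialLinearGroup.toGL (SpecialLinearGroup.transvection hij (c / (a - 1))) =
        SpecialLinearGroup.toGL (SpecialLinearGroup.transvection hij c) *
          SpecialLinearGroup.toGL (SpecialLinearGroup.transvection hij (c / (a - 1))) * d := by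
      rw [← map_mul, ← SpecialLinearGroup.transvection_add]
      ext k l
      change (diagonal (Function.update 1 i a) * (1 + single i j (c / (a - 1))) : Matrix n n F) k l =
        ((1 + single i j (c + c / (a - 1))) * diagonal (Function.update 1 i a) : Matrix n n F) k l
      rw [diagonal_mul, mul_diagonal]
      simp only [Matrix.add_apply, one_apply, single_apply]
      have hu : ∀ m, Function.update (1 : n → F) i a m = if m = i then a else 1 := fun m ↦ by
        simp [Function.update_apply]
      rw [hu, hu]
      split_ifs <;> try grind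
    have hc : SpecialLinearGroup.toGL (SpecialLinearGroup.transvection hij c) =
        ⁅d, SpecialLinearGroup.toGL (SpecialLinearGroup.transvection hij (c / (a - 1)))⁆ := by
      rw [commutatorElement_def, key, mul_inv_cancel_right, mul_inv_cancel_right]
    rw [hc]
    exact Subgroup.commutator_mem_commutator (Subgroup.mem_top _) (Subgroup.mem_top _)

end CfsgLib.Linear
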