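/-
Building permutation representations from a functional, multiplicative relation.
-/
import Mathlib

set_option autoImplicit false

namespace CfsgLib.Linear

variable {G α : Type*} [Group G]

/-- Data of a relation `R g i j` meaning "`g` sends `i` to `j`". -/
structure ObjAction (G α : Type*) [Group G] where
  /-- `g` sends `i` to `j`. -/
  R : G → α → α → Prop
  one : ∀ i, R 1 i i
  mul : ∀ g h i j k, R h i j → R g j k → R (g * h) i k
  unique : ∀ g i j k, R g i j → R g i k → j = k
  exists_img : ∀ g i, ∃ j, R g i j

/-- The induced permutation representation. -/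
noncomputable def ObjAction.toPerm (A : ObjAction G α) : G →* Equiv.Perm α :=
  letI : MulAction G α :=
    { smul := fun g i ↦ Classical.choose (A.exists_img g i)
      one_smul := fun i ↦ A.unique 1 i _ _ (Classical.choose_spec (A.exists_img 1 i)) (A.one i)
      mul_smul := fun g h i ↦ A.unique (g * h) i _ _ (Classical.choose_spec (A.exists_img (g * h) i))
        (A.mul g h i _ _ (Classical.choose_spec (A.exists_img h i))
          (Classical.choose_spec (A.exists_img g _))) }
  MulAction.toPermHom G α

theorem ObjAction.toPerm_spec (A : ObjAction G α) (g : G) (i : α) : A.R g i (A.toPerm g i) :=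
  Classical.choose_spec (A.exists_img g i)

theorem ObjAction.toPerm_ne_one (A : ObjAction G α) (g : G) (i j : α) (h : A.R g i j) (hij : j ≠ i) :
    A.toPerm g ≠ 1 := by
  intro e
  have := A.unique g i _ _ (A.toPerm_spec g i) h
  rw [e] at this
  exact hij this.symm

theorem injective_of_isSimpleGroup [IsSimpleGroup G] {H : Type*} [Group H] (f : G →* H)
    {g : G} (hg : f g ≠ 1) : Function.Injective f := by
  rw [← MonoidHom.ker_eq_bot_iff]
  refine (Subgroup.Normal.eq_bot_or_eq_top inferInstance).resolve_right fun h ↦ hg ?_
  rw [← MonoidHom.mem_ker, h]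
  trivial

end CfsgLib.Linear
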