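/-
Simplicity of `PSL_n(F)` by the Iwasawa criterion.
-/
import Mathlib
import Cfsg.Agent.Lib.Linear.Transvection

set_option autoImplicit false

namespace CfsgLib.Linear

open Matrix MulAction
open scoped LinearAlgebra.Projectivization

variable {n : Type*} [Fintype n] [DecidableEq n] {F : Type*} [Field F]

theorem iSup_iwasawaT_eq_top :
    iSup (PSL.iwasawaT (F := F) (ι := n)) = ⊤ := by
  rw [← Subgroup.map_iSup,
    SL_eq_top_of_transvection_mem (⨆ p : ℙ F (n → F), SpecialLinearGroup.lineStab p.submodule)
      fun i j hij c ↦ Subgroup.mem_iSup_of_mem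
        (Projectivization.mk F (Pi.single i (1 : F)) (Pi.single_ne_zero_iff.2 one_ne_zero))
        (by rw [Projectivization.submodule_mk]; exact SL2Gen.transvection_mem_lineStab hij c)]
  exact Subgroup.map_top_of_surjective _ (QuotientGroup.mk'_surjective _)

/-- The Iwasawa structure of `PSL_n(F)` on the projective space. -/
noncomputable def pslIwasawa :
    IwasawaStructure (ProjectiveSpecialLinearGroup n F) (ℙ F (n → F)) where
  T := PSL.iwasawaT
  is_comm p := by
    have hSL : IsMulCommutative (SpecialLinearGroup.lineStab (F := F) (ι := n) p.submodule) := by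
      rw [← Projectivization.mk_rep p, Projectivization.submodule_mk]
      exact SpecialLinearGroup.lineStab_isMulCommutative_of_span p.rep p.rep_nonzero
    exact Subgroup.map_isMulCommutative _ _
  is_conj g p := by
    obtain ⟨g, rfl⟩ := QuotientGroup.mk_surjective g
    rw [ProjectiveSpecialLinearGroup.smul_proj_mk]
    change Subgroup.map _ _ = _
    rw [PSL.smul_submodule, SpecialLinearGroup.lineStab_smul, PSL.iwasawaT_map_conj]
  is_generator := iSup_iwasawaT_eq_top

theorem commutator_PSL_eq_top (hcond : 3 ≤ Fintype.card n ∨ ∃ a : F, a ≠ 0 ∧ a ^ 2 ≠ 1) :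
    commutator (ProjectiveSpecialLinearGroup n F) = ⊤ := by
  have h := congrArg (Subgroup.map (QuotientGroup.mk' (Subgroup.center (SpecialLinearGroup n F))))
    (commutator_SL_eq_top (n := n) (F := F) hcond)
  rw [commutator_def, Subgroup.map_commutator,
    Subgroup.map_top_of_surjective _ (QuotientGroup.mk'_surjective _)] at h
  rw [commutator_def]
  exact h

/-- `PSL_n(F)` is simple for `n ≥ 3`, and for `n = 2` when the field has more than three elements. -/
theorem isSimpleGroup_PSL [Nontrivial n]
    (hcond : 3 ≤ Fintype.card n ∨ ∃ a : F, a ≠ 0 ∧ a ^ 2 ≠ 1) :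
    IsSimpleGroup (ProjectiveSpecialLinearGroup n F) :=
  IwasawaStructure.isSimpleGroup (commutator_PSL_eq_top hcond) pslIwasawa inferInstance

theorem isSimpleGroup_PSL_fin (N : ℕ) (hN : 2 ≤ N) (h : N = 2 → 4 ≤ Nat.card F) :
    IsSimpleGroup (ProjectiveSpecialLinearGroup (Fin N) F) := by
  have : Nontrivial (Fin N) := Fin.nontrivial_iff_two_le.2 hN
  refine isSimpleGroup_PSL ?_
  rcases eq_or_lt_of_le hN with h2 | h2
  · exact Or.inr (exists_sq_ne_one_of_four_le_card (h h2.symm))
  · exact Or.inl (by simpa using Nat.succ_le_of_lt h2)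

/-- A normal subgroup of `SL_n(F)` is central or the whole group. -/
theorem SL_normal_le_center_or_eq_top [Nontrivial n]
    (hcond : 3 ≤ Fintype.card n ∨ ∃ a : F, a ≠ 0 ∧ a ^ 2 ≠ 1)
    (N : Subgroup (SpecialLinearGroup n F)) [hN : N.Normal] :
    N ≤ Subgroup.center (SpecialLinearGroup n F) ∨ N = ⊤ := by
  have := isSimpleGroup_PSL (n := n) (F := F) hcond
  have hnm : (N.map (QuotientGroup.mk' (Subgroup.center (SpecialLinearGroup n F)))).Normal :=
    hN.map _ (QuotientGroup.mk'_surjective _)
  rcases hnm.eq_bot_or_eq_top with h | h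
  · rw [Subgroup.map_eq_bot_iff, QuotientGroup.ker_mk'] at h
    exact Or.inl h
  · right
    have hsup : N ⊔ Subgroup.center (SpecialLinearGroup n F) = ⊤ := by
      have h2 := congrArg (Subgroup.comap (QuotientGroup.mk'
        (Subgroup.center (SpecialLinearGroup n F)))) h
      rwa [Subgroup.comap_map_eq, QuotientGroup.ker_mk', Subgroup.comap_top] at h2
    have hle : commutator (SpecialLinearGroup n F) ≤ N :=
      hN.commutator_le_of_self_sup_commutative_eq_top hsup inferInstance
    rwa [commutator_SL_eq_top hcond, top_le_iff] at hle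

end CfsgLib.Linear
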