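/-
Concrete labellings of the projective line and permutation representations of SL_2 on derived objects.
-/
import Mathlib
import Cfsg.Agent.Lib.Linear.Simple
import Cfsg.Agent.Lib.Linear.PermHom

set_option autoImplicit false

namespace CfsgLib.Linear

open Matrix
open scoped MatrixGroups LinearAlgebra.Projectivization

/-- A labelling of the points of the projective line by `Fin N`, through representing vectors. -/
structure LineModel (F : Type*) [Field F] [Fintype F] (N : ℕ) where
  vec : Fin N → F × F
  card_eq : N = Fintype.card F + 1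
  ne_zero : ∀ i, vec i ≠ 0
  distinct : ∀ i j, i ≠ j → (vec i).1 * (vec j).2 - (vec i).2 * (vec j).1 ≠ 0

namespace LineModel

variable {F : Type*} [Field F] [Fintype F] {N : ℕ} (L : LineModel F N)

/-- The representing vector as a function. -/
def fvec (i : Fin N) : Fin 2 → F := ![(L.vec i).1, (L.vec i).2]

theorem fvec_ne_zero (i : Fin N) : L.fvec i ≠ 0 := fun h ↦
  L.ne_zero i (Prod.ext (congr_fun h 0) (congr_fun h 1))

/-- The point with label `i`. -/
def pt (i : Fin N) : ℙ F (Fin 2 → F) := Projectivization.mk F (L.fvec i) (L.fvec_ne_zero i)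

theorem pt_injective : Function.Injective L.pt := by
  intro i j h
  by_contra hne
  refine L.distinct i j hne ?_
  obtain ⟨a, ha⟩ := (Projectivization.mk_eq_mk_iff' F _ _ _ _).1 h
  have h0 := congr_fun ha 0
  have h1 := congr_fun ha 1
  simp [fvec] at h0 h1
  rw [← h0, ← h1]
  ring

theorem pt_bijective : Function.Bijective L.pt := by
  have : Finite (ℙ F (Fin 2 → F)) := Quotient.finite _
  refine (Nat.bijective_iff_injective_and_card _).2 ⟨L.pt_injective, ?_⟩
  rw [Nat.card_fin, Projectivization.card_of_finrank_two F (Fin 2 → F) (Module.finrank_fin_fun F),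
    Nat.card_eq_fintype_card (α := F), L.card_eq]

/-- The permutation representation on labels. -/
noncomputable def rho : SpecialLinearGroup (Fin 2) F →* Equiv.Perm (Fin N) :=
  (Equiv.ofBijective L.pt L.pt_bijective).symm.permCongrHom.toMonoidHom.comp
    (MulAction.toPermHom (SpecialLinearGroup (Fin 2) F) (ℙ F (Fin 2 → F)))

theorem pt_rho (g : SpecialLinearGroup (Fin 2) F) (i : Fin N) : L.pt (L.rho g i) = g • L.pt i :=
  (Equiv.ofBijective L.pt L.pt_bijective).apply_symm_apply _

theorem rho_apply_eq (g : SpecialLinearGroup (Fin 2) F) (i j : Fin N)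
    (h : (g.1 0 0 * (L.vec i).1 + g.1 0 1 * (L.vec i).2) * (L.vec j).2 -
      (g.1 1 0 * (L.vec i).1 + g.1 1 1 * (L.vec i).2) * (L.vec j).1 = 0) :
    L.rho g i = j := by
  apply L.pt_injective
  rw [L.pt_rho]
  by_contra hne
  have hw : g • L.fvec i ≠ 0 := (smul_ne_zero_iff_ne g).2 (L.fvec_ne_zero i)
  have hne' : Projectivization.mk F (g • L.fvec i) hw ≠ Projectivization.mk F (L.fvec j) (L.fvec_ne_zero j) := hne
  apply hne'
  rw [Projectivization.mk_eq_mk_iff']
  have h0 : (g • L.fvec i) 0 = g.1 0 0 * (L.vec i).1 + g.1 0 1 * (L.vec i).2 := by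
    change (g.1 *ᵥ L.fvec i) 0 = _
    simp [mulVec, dotProduct, Fin.sum_univ_two, fvec]
  have h1 : (g • L.fvec i) 1 = g.1 1 0 * (L.vec i).1 + g.1 1 1 * (L.vec i).2 := by
    change (g.1 *ᵥ L.fvec i) 1 = _
    simp [mulVec, dotProduct, Fin.sum_univ_two, fvec]
  rw [← h0, ← h1] at h
  clear hne hne' h0 h1 hw
  generalize g • L.fvec i = w at h ⊢
  by_cases hx : (L.vec j).1 = 0
  · have hy : (L.vec j).2 ≠ 0 := fun e ↦ L.ne_zero j (Prod.ext hx e)
    rw [hx, mul_zero, sub_zero, mul_eq_zero] at h
    refine ⟨w 1 / (L.vec j).2, funext fun k ↦ ?_⟩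
    fin_cases k
    · simp [fvec, hx, h.resolve_right hy]
    · simp [fvec, hy]
  · refine ⟨w 0 / (L.vec j).1, funext fun k ↦ ?_⟩
    fin_cases k
    · simp [fvec, hx]
    · simp only [fvec, Fin.mk_one, Pi.smul_apply, smul_eq_mul, cons_val_one, cons_val_fin_one]
      field_simp
      linear_combination h

/-- Upper transvections act by `(x, y) ↦ (x + c y, y)`. -/
theorem rho_upper_eq (c : F) (σ : Fin N → Fin N)
    (h : ∀ i, ((L.vec i).1 + c * (L.vec i).2) * (L.vec (σ i)).2 -
      (L.vec i).2 * (L.vec (σ i)).1 = 0) (i : Fin N) :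
    L.rho (SpecialLinearGroup.transvection (show (0 : Fin 2) ≠ 1 by decide) c) i = σ i := by
  refine L.rho_apply_eq _ i _ ?_
  simpa [SpecialLinearGroup.transvection_coe] using h i

/-- Lower transvections act by `(x, y) ↦ (x, c x + y)`. -/
theorem rho_lower_eq (c : F) (σ : Fin N → Fin N)
    (h : ∀ i, (L.vec i).1 * (L.vec (σ i)).2 -
      (c * (L.vec i).1 + (L.vec i).2) * (L.vec (σ i)).1 = 0) (i : Fin N) :
    L.rho (SpecialLinearGroup.transvection (show (1 : Fin 2) ≠ 0 by decide) c) i = σ i := by
  refine L.rho_apply_eq _ i _ ?_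
  simpa [SpecialLinearGroup.transvection_coe] using h i

theorem rho_eq_one_of_center {z : SpecialLinearGroup (Fin 2) F}
    (hz : z ∈ Subgroup.center (SpecialLinearGroup (Fin 2) F)) : L.rho z = 1 := by
  have h : MulAction.toPermHom (SpecialLinearGroup (Fin 2) F) (ℙ F (Fin 2 → F)) z = 1 := by
    rw [← MonoidHom.mem_ker, Projectivization.SL_mulAction_ker]
    exact hz
  rw [rho, MonoidHom.comp_apply, h, map_one]

end LineModel

variable {F : Type*} [Field F]

/-- A subgroup of `SL_2` containing the two families of transvections at additive generators is `⊤`. -/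
theorem SL2_eq_top_of_gens (H : Subgroup (SpecialLinearGroup (Fin 2) F)) (B : Set F)
    (hB : AddSubgroup.closure B = ⊤)
    (h : ∀ b ∈ B, SpecialLinearGroup.transvection (show (0 : Fin 2) ≠ 1 by decide) b ∈ H ∧
      SpecialLinearGroup.transvection (show (1 : Fin 2) ≠ 0 by decide) b ∈ H) : H = ⊤ := by
  refine SL_eq_top_of_transvection_mem H fun i j hij c ↦ ?_
  have hc : c ∈ AddSubgroup.closure B := hB.ge (AddSubgroup.mem_top c)
  induction hc using AddSubgroup.closure_induction with
  | mem b hb => fin_cases i <;> fin_cases j <;> first | exact absurd rfl hij | exact (h b hb).1 | exact (h b hb).2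
  | zero => simp [SpecialLinearGroup.transvection_coeff_zero, one_mem]
  | add x y _ _ hx hy => rw [SpecialLinearGroup.transvection_add]; exact mul_mem hx hy
  | neg x _ hx => rw [← SpecialLinearGroup.transvection_inv]; exact inv_mem hx

theorem map_center_mulEquiv {G H : Type*} [Group G] [Group H] (e : G ≃* H) :
    (Subgroup.center G).map (e : G →* H) = Subgroup.center H := by
  ext x
  constructor
  · rintro ⟨y, hy, rfl⟩
    refine Subgroup.mem_center_iff.2 fun z ↦ e.symm.injective ?_
    simpa using Subgroup.mem_center_iff.1 hy (e.symm z)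
  · intro hx
    refine ⟨e.symm x, Subgroup.mem_center_iff.2 fun z ↦ e.injective ?_, e.apply_symm_apply x⟩
    simpa using Subgroup.mem_center_iff.1 hx (e z)

/-- A ring isomorphism gives an isomorphism of special linear groups. -/
noncomputable def slRingEquiv {n : Type*} [Fintype n] [DecidableEq n] {R S : Type*} [CommRing R] [CommRing S]
    (e : R ≃+* S) : SpecialLinearGroup n R ≃* SpecialLinearGroup n S :=
  MulEquiv.ofBijective (SpecialLinearGroup.map e.toRingHom)
    ⟨fun a b h ↦ Subtype.ext (Matrix.map_injective e.injective (congrArg Subtype.val h)),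
      fun a ↦ ⟨SpecialLinearGroup.map e.symm.toRingHom a, by ext i j; simp⟩⟩

/-- A ring isomorphism gives an isomorphism of projective special linear groups. -/
noncomputable def pslRingEquiv {n : Type*} [Fintype n] [DecidableEq n] {R S : Type*} [CommRing R]
    [CommRing S] (e : R ≃+* S) :
    ProjectiveSpecialLinearGroup n R ≃* ProjectiveSpecialLinearGroup n S :=
  QuotientGroup.congr _ _ (slRingEquiv e) (map_center_mulEquiv _)

/-- A non-trivial hom killing the centre identifies `PSL_2(q)` with a group of the same order. -/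
theorem PSL2_equiv_of_hom [Fintype F] (h4 : 4 ≤ Fintype.card F) {H : Type*} [Group H] [Finite H]
    (f : SpecialLinearGroup (Fin 2) F →* H)
    (hc : Subgroup.center (SpecialLinearGroup (Fin 2) F) ≤ f.ker) (hne : f ≠ 1)
    (hcard : Nat.card H = Nat.card (ProjectiveSpecialLinearGroup (Fin 2) F)) :
    Nonempty (ProjectiveSpecialLinearGroup (Fin 2) F ≃* H) := by
  have : IsSimpleGroup (ProjectiveSpecialLinearGroup (Fin 2) F) :=
    isSimpleGroup_PSL_fin 2 le_rfl fun _ ↦ by rwa [Nat.card_eq_fintype_card]
  let g : ProjectiveSpecialLinearGroup (Fin 2) F →* H := QuotientGroup.lift _ f hc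
  obtain ⟨x, hx⟩ : ∃ x, f x ≠ 1 := by
    by_contra! hall
    exact hne (MonoidHom.ext hall)
  have hinj : Function.Injective g :=
    injective_of_isSimpleGroup g (g := QuotientGroup.mk x) hx
  exact ⟨MulEquiv.ofBijective g ((Nat.bijective_iff_injective_and_card g).2 ⟨hinj, hcard.symm⟩)⟩

end CfsgLib.Linear
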