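/-
PSL_2(7) is isomorphic to PSL_3(2).
-/
import Mathlib
import Cfsg.Agent.Lib.Linear.LineModel

set_option autoImplicit false

namespace CfsgLib.Linear.PSL2Seven

open Matrix

local instance fact_prime_seven : Fact (Nat.Prime 7) := ⟨by norm_num⟩

/-- The eight points. -/
def vec : Fin 8 → ZMod 7 × ZMod 7 :=
  ![(0, 1), (1, 1), (2, 1), (3, 1), (4, 1), (5, 1), (6, 1), (1, 0)]

/-- The labelling of the projective line over `ZMod 7`. -/
def model : LineModel (ZMod 7) 8 where
  vec := vec
  card_eq := by rw [ZMod.card]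
  ne_zero := by decide
  distinct := by decide +kernel

/-- The seven pairings. -/
def obj : Fin 7 → Finset (Finset (Fin 8)) :=
  ![{{0, 7}, {1, 5}, {2, 3}, {4, 6}},
    {{0, 5}, {1, 7}, {2, 6}, {3, 4}},
    {{0, 1}, {2, 4}, {3, 6}, {5, 7}},
    {{0, 3}, {1, 6}, {2, 7}, {4, 5}},
    {{0, 2}, {1, 4}, {3, 7}, {5, 6}},
    {{0, 4}, {1, 2}, {3, 5}, {6, 7}},
    {{0, 6}, {1, 3}, {2, 5}, {4, 7}}]

/-- The permutation of the points induced by `x ↦ x + 1`. -/
def sU : Fin 8 → Fin 8 := ![1, 2, 3, 4, 5, 6, 0, 7]

/-- The permutation of the points induced by `x ↦ x / (x + 1)`. -/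
def sL : Fin 8 → Fin 8 := ![0, 4, 3, 6, 5, 2, 7, 1]

/-- The induced permutation of the pairings. -/
def pU : Fin 7 → Fin 7 := ![1, 3, 5, 4, 6, 0, 2]

/-- The induced permutation of the pairings. -/
def pL : Fin 7 → Fin 7 := ![2, 4, 5, 6, 3, 1, 0]

theorem obj_injective : Function.Injective obj := by decide +kernel

theorem obj_sU : ∀ i, (obj i).image (Finset.image sU) = obj (pU i) := by decide +kernel

theorem obj_sL : ∀ i, (obj i).image (Finset.image sL) = obj (pL i) := by decide +kernel

theorem sU_spec : ∀ i, ((vec i).1 + 1 * (vec i).2) * (vec (sU i)).2 -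
    (vec i).2 * (vec (sU i)).1 = 0 := by decide +kernel

theorem sL_spec : ∀ i, (vec i).1 * (vec (sL i)).2 -
    (1 * (vec i).1 + (vec i).2) * (vec (sL i)).1 = 0 := by decide +kernel

theorem closure_one : AddSubgroup.closure ({1} : Set (ZMod 7)) = ⊤ := by
  refine (AddSubgroup.eq_top_iff' _).2 fun c ↦ AddSubgroup.mem_closure_singleton.2 ⟨(c.val : ℤ), ?_⟩
  simp

theorem image_image_id (s : Finset (Finset (Fin 8))) : s.image (Finset.image id) = s := by
  rw [show Finset.image (id : Fin 8 → Fin 8) = id from funext fun _ ↦ Finset.image_id, Finset.image_id]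

/-- The action on the seven pairings. -/
def objAction : ObjAction (SpecialLinearGroup (Fin 2) (ZMod 7)) (Fin 7) where
  R g i j := (obj i).image (Finset.image (model.rho g)) = obj j
  one i := by simp [image_image_id]
  mul g h i j k h1 h2 := by
    rw [← h2, ← h1, Finset.image_image]
    congr 1
    funext s
    rw [Function.comp_apply, Finset.image_image, map_mul, Equiv.Perm.coe_mul]
  unique g i j k h1 h2 := obj_injective (h1.symm.trans h2)
  exists_img g := by
    let H : Subgroup (SpecialLinearGroup (Fin 2) (ZMod 7)) :=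
      { carrier := {g | ∀ i, ∃ j, (obj i).image (Finset.image (model.rho g)) = obj j}
        one_mem' := fun i ↦ ⟨i, by simp [image_image_id]⟩
        mul_mem' := fun {a b} ha hb i ↦ by
          obtain ⟨j, hj⟩ := hb i
          obtain ⟨k, hk⟩ := ha j
          refine ⟨k, ?_⟩
          rw [← hk, ← hj, Finset.image_image]
          congr 1
          funext s
          rw [Function.comp_apply, Finset.image_image, map_mul, Equiv.Perm.coe_mul]
        inv_mem' := fun {a} ha i ↦ by
          choose f hf using ha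
          have hinj : Function.Injective f := fun x y e ↦ obj_injective <|
            Finset.image_injective (Finset.image_injective (model.rho a).injective)
              (by rw [hf, hf, e])
          obtain ⟨j, rfl⟩ := (Finite.injective_iff_surjective.1 hinj) i
          refine ⟨j, ?_⟩
          rw [← hf, Finset.image_image]
          conv_rhs => rw [← Finset.image_id (s := obj j)]
          congr 1
          funext s
          rw [Function.comp_apply, Finset.image_image, map_inv, ← Equiv.Perm.coe_mul, inv_mul_cancel,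
            Equiv.Perm.coe_one, Finset.image_id]
          rfl }
    have hH : H = ⊤ := by
      refine SL2_eq_top_of_gens H {1} closure_one fun b hb ↦ ?_
      obtain rfl : b = 1 := hb
      exact ⟨fun i ↦ ⟨pU i, by rw [funext (model.rho_upper_eq 1 sU sU_spec)]; exact obj_sU i⟩,
        fun i ↦ ⟨pL i, by rw [funext (model.rho_lower_eq 1 sL sL_spec)]; exact obj_sL i⟩⟩
    exact hH.ge (Subgroup.mem_top g)

theorem objPerm_upper (i : Fin 7) :
    objAction.toPerm (SpecialLinearGroup.transvection (show (0 : Fin 2) ≠ 1 by decide) 1) i = pU i := by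
  refine objAction.unique _ i _ _ (objAction.toPerm_spec _ i) ?_
  change (obj i).image _ = _
  rw [funext (model.rho_upper_eq 1 sU sU_spec)]
  exact obj_sU i

theorem objPerm_lower (i : Fin 7) :
    objAction.toPerm (SpecialLinearGroup.transvection (show (1 : Fin 2) ≠ 0 by decide) 1) i = pL i := by
  refine objAction.unique _ i _ _ (objAction.toPerm_spec _ i) ?_
  change (obj i).image _ = _
  rw [funext (model.rho_lower_eq 1 sL sL_spec)]
  exact obj_sL i

theorem center_le_ker : Subgroup.center (SpecialLinearGroup (Fin 2) (ZMod 7)) ≤ objAction.toPerm.ker := by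
  intro z hz
  refine Equiv.ext fun i ↦ objAction.unique _ i _ _ (objAction.toPerm_spec _ i) ?_
  change (obj i).image _ = _
  simp [model.rho_eq_one_of_center hz, image_image_id]

/-- The seven non-zero vectors of the space of dimension three over two elements. -/
def lab (i : Fin 7) : Fin 3 → ZMod 2 := fun k ↦ (((i.val + 1) / 2 ^ k.val % 2 : ℕ) : ZMod 2)

theorem lab_injective : Function.Injective lab := by decide +kernel

theorem lab_ne_zero : ∀ i, lab i ≠ 0 := by decide +kernel

theorem lab_surjective : ∀ v : Fin 3 → ZMod 2, v ≠ 0 → ∃ i, lab i = v := by decide +kernel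

/-- The action of `SL_3(2)` on labels. -/
def linAction : ObjAction (SpecialLinearGroup (Fin 3) (ZMod 2)) (Fin 7) where
  R g i j := g.1 *ᵥ lab i = lab j
  one i := by simp
  mul g h i j k h1 h2 := ((mulVec_mulVec (lab i) g.1 h.1).symm.trans (congrArg (g.1 *ᵥ ·) h1)).trans h2
  unique g i j k h1 h2 := lab_injective (h1.symm.trans h2)
  exists_img g i := by
    obtain ⟨j, hj⟩ := lab_surjective (g.1 *ᵥ lab i) (fun h ↦ lab_ne_zero i (by
      have h' := congrArg (fun v ↦ (g⁻¹).1 *ᵥ v) h
      simp only [mulVec_mulVec, mulVec_zero] at h'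
      rwa [show (g⁻¹).1 * g.1 = 1 from congrArg Subtype.val (inv_mul_cancel g), one_mulVec] at h'))
    exact ⟨j, hj.symm⟩

theorem linPerm_injective : Function.Injective linAction.toPerm := by
  rw [injective_iff_map_eq_one]
  intro g hg
  have h : ∀ i, g.1 *ᵥ lab i = lab i := fun i ↦ by
    have h' := linAction.toPerm_spec g i
    rwa [hg] at h'
  refine Subtype.ext (ext_of_mulVec_single fun k ↦ ?_)
  obtain ⟨i, hi⟩ := lab_surjective (Pi.single k 1) (by simp)
  rw [← hi, h]
  exact (one_mulVec _).symm

/-- The matrix of `pU`. -/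
def matU : SpecialLinearGroup (Fin 3) (ZMod 2) :=
  ⟨!![0, 0, 1; 1, 0, 0; 0, 1, 1], by decide +kernel⟩

/-- The matrix of `pL`. -/
def matL : SpecialLinearGroup (Fin 3) (ZMod 2) :=
  ⟨!![1, 1, 1; 1, 0, 1; 0, 1, 1], by decide +kernel⟩

theorem matU_spec : ∀ i, matU.1 *ᵥ lab i = lab (pU i) := by decide +kernel

theorem matL_spec : ∀ i, matL.1 *ᵥ lab i = lab (pL i) := by decide +kernel

theorem range_le : ∀ g, objAction.toPerm g ∈ linAction.toPerm.range := by
  intro g
  have h := SL2_eq_top_of_gens (linAction.toPerm.range.comap objAction.toPerm) {1} closure_one fun b hb ↦ ?_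
  · exact h.ge (Subgroup.mem_top g)
  obtain rfl : b = 1 := hb
  exact ⟨⟨matU, Equiv.ext fun i ↦ by
      rw [objPerm_upper]; exact linAction.unique _ i _ _ (linAction.toPerm_spec _ i) (matU_spec i)⟩,
    ⟨matL, Equiv.ext fun i ↦ by
      rw [objPerm_lower]; exact linAction.unique _ i _ _ (linAction.toPerm_spec _ i) (matL_spec i)⟩⟩

theorem card_SL3Two : Nat.card (SpecialLinearGroup (Fin 3) (ZMod 2)) = 168 := by
  have h := card_SL_mul (F := ZMod 2) 3 (by norm_num)
  have e : (∏ i : Fin 3, (2 ^ 3 - 2 ^ (i : ℕ))) = 168 := by rw [Fin.prod_univ_three]; rfl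
  rw [ZMod.card, e, show (2 : ℕ) - 1 = 1 from rfl, one_mul] at h
  exact h

theorem card_PSL2Seven : Nat.card (ProjectiveSpecialLinearGroup (Fin 2) (ZMod 7)) = 168 := by
  have h := card_PSL_mul (n := Fin 2) (F := ZMod 7)
  rw [card_SL_two, ZMod.card, Fintype.card_fin, show Nat.gcd 2 (7 - 1) = 2 from rfl,
    show 7 * (7 ^ 2 - 1) = 336 from rfl] at h
  omega

theorem equiv_SL3Two :
    Nonempty (ProjectiveSpecialLinearGroup (Fin 2) (ZMod 7) ≃* SpecialLinearGroup (Fin 3) (ZMod 2)) := by
  let f : SpecialLinearGroup (Fin 2) (ZMod 7) →* SpecialLinearGroup (Fin 3) (ZMod 2) :=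
    (MonoidHom.ofInjective linPerm_injective).symm.toMonoidHom.comp
      (objAction.toPerm.codRestrict linAction.toPerm.range range_le)
  refine PSL2_equiv_of_hom (by rw [ZMod.card]; norm_num) f (fun z hz ↦ ?_) (fun e ↦ ?_)
    (by rw [card_SL3Two, card_PSL2Seven])
  · have : objAction.toPerm.codRestrict linAction.toPerm.range range_le z = 1 :=
      Subtype.ext (center_le_ker hz)
    rw [MonoidHom.mem_ker, MonoidHom.comp_apply, this, map_one]
  · have h := congrArg (fun k ↦ k (SpecialLinearGroup.transvection (show (0 : Fin 2) ≠ 1 by decide) (1 : ZMod 7))) e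
    simp only [f, MonoidHom.comp_apply, MonoidHom.one_apply, MulEquiv.coe_toMonoidHom,
      EmbeddingLike.map_eq_one_iff] at h
    have h' := DFunLike.congr_fun (congrArg Subtype.val h) 0
    simp [objPerm_upper, pU] at h'

theorem exists_PSL2_equiv_PSL3 {F K : Type*} [Field F] [Fintype F] [Field K] [Fintype K]
    (hF : Fintype.card F = 7) (hK : Fintype.card K = 2) :
    Nonempty (ProjectiveSpecialLinearGroup (Fin 2) F ≃* ProjectiveSpecialLinearGroup (Fin 3) K) := by
  have eF : ZMod 7 ≃+* F := ZMod.ringEquivOfPrime F (by norm_num) hF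
  have eK : ZMod 2 ≃+* K := ZMod.ringEquivOfPrime K Nat.prime_two hK
  have hc : Subgroup.center (SpecialLinearGroup (Fin 3) K) = ⊥ := by
    rw [← Subgroup.card_eq_one, card_center_SL, hK]
    rfl
  obtain ⟨e⟩ := equiv_SL3Two
  exact ⟨(pslRingEquiv eF.symm).trans (e.trans ((slRingEquiv eK).trans
    ((QuotientGroup.quotientMulEquivOfEq hc).trans QuotientGroup.quotientBot).symm))⟩

end CfsgLib.Linear.PSL2Seven
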