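/-
The projective line: sharp triple transitivity of PGL_2, and small isomorphisms obtained from it.
-/
import Mathlib
import Cfsg.Agent.Lib.Linear.Simple

set_option autoImplicit false

namespace CfsgLib.Linear

open Matrix MulAction
open scoped MatrixGroups LinearAlgebra.Projectivization

variable {F : Type*} [Field F]

theorem pgl_smul_mk (g : GL (Fin 2) F) {v : Fin 2 → F} (hv : v ≠ 0) :
    (ProjGenLinGroup.mk g : ProjGenLinGroup (Fin 2) F) • Projectivization.mk F v hv =
      Projectivization.mk F (g • v) ((smul_ne_zero_iff_ne g).2 hv) := rfl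

theorem glTwo_smul (g : GL (Fin 2) F) (v : Fin 2 → F) :
    g • v = (g : Matrix (Fin 2) (Fin 2) F) *ᵥ v := rfl

theorem vec_two_ext {v w : Fin 2 → F} (h0 : v 0 = w 0) (h1 : v 1 = w 1) : v = w :=
  funext fun i ↦ by fin_cases i <;> assumption

theorem mk_ne_iff_det_ne_zero {u v : Fin 2 → F} (hu : u ≠ 0) (hv : v ≠ 0) :
    Projectivization.mk F u hu ≠ Projectivization.mk F v hv ↔ u 0 * v 1 - u 1 * v 0 ≠ 0 := by
  constructor
  · intro h hd
    apply h
    rw [Projectivization.mk_eq_mk_iff']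
    by_cases hv0 : v 0 = 0
    · have hv1 : v 1 ≠ 0 := fun e ↦ hv (vec_two_ext hv0 e)
      refine ⟨u 1 / v 1, vec_two_ext ?_ ?_⟩
      · rw [hv0, mul_zero, sub_zero, mul_eq_zero] at hd
        simp [hv0, hd.resolve_right hv1]
      · simp [hv1]
    · refine ⟨u 0 / v 0, vec_two_ext ?_ ?_⟩
      · simp [hv0]
      · simp only [Pi.smul_apply, smul_eq_mul]
        field_simp
        linear_combination hd
  · intro hd h
    obtain ⟨a, ha⟩ := (Projectivization.mk_eq_mk_iff' F _ _ _ _).1 h
    exact hd (by rw [← ha]; simp; ring)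

theorem triple_ne_zero : (![1, 0] : Fin 2 → F) ≠ 0 ∧ (![0, 1] : Fin 2 → F) ≠ 0 ∧
    (![1, 1] : Fin 2 → F) ≠ 0 :=
  ⟨fun h ↦ by simpa using congr_fun h 0, fun h ↦ by simpa using congr_fun h 1,
    fun h ↦ by simpa using congr_fun h 0⟩

/-- The point `[1:0]`. -/
abbrev frameX (F : Type*) [Field F] : ℙ F (Fin 2 → F) :=
  Projectivization.mk F (![1, 0] : Fin 2 → F) triple_ne_zero.1

/-- The point `[0:1]`. -/
abbrev frameY (F : Type*) [Field F] : ℙ F (Fin 2 → F) :=
  Projectivization.mk F (![0, 1] : Fin 2 → F) triple_ne_zero.2.1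

/-- The point `[1:1]`. -/
abbrev frameZ (F : Type*) [Field F] : ℙ F (Fin 2 → F) :=
  Projectivization.mk F (![1, 1] : Fin 2 → F) triple_ne_zero.2.2

/-- Any three distinct points of the projective line are the image of the standard frame. -/
theorem exists_gl_triple (a b c : ℙ F (Fin 2 → F)) (hab : a ≠ b) (hac : a ≠ c) (hbc : b ≠ c) :
    ∃ g : GL (Fin 2) F,
      (ProjGenLinGroup.mk g : ProjGenLinGroup (Fin 2) F) •
          frameX F = a ∧
        (ProjGenLinGroup.mk g : ProjGenLinGroup (Fin 2) F) •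
          frameY F = b ∧
        (ProjGenLinGroup.mk g : ProjGenLinGroup (Fin 2) F) •
          frameZ F = c := by
  induction a using Projectivization.ind with | _ u hu => ?_
  induction b using Projectivization.ind with | _ v hv => ?_
  induction c using Projectivization.ind with | _ w hw => ?_
  rw [mk_ne_iff_det_ne_zero] at hab hac hbc
  let d := u 0 * v 1 - u 1 * v 0
  let α := (w 0 * v 1 - w 1 * v 0) / d
  let β := (u 0 * w 1 - u 1 * w 0) / d
  have hα : α ≠ 0 := div_ne_zero (fun e ↦ hbc (by linear_combination -e)) hab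
  have hβ : β ≠ 0 := div_ne_zero hac hab
  let g : GL (Fin 2) F := GeneralLinearGroup.mkOfDetNeZero !![α * u 0, β * v 0; α * u 1, β * v 1]
    (by
      rw [det_fin_two_of,
        show α * u 0 * (β * v 1) - β * v 0 * (α * u 1) = α * β * d by ring]
      exact mul_ne_zero (mul_ne_zero hα hβ) hab)
  refine ⟨g, ?_, ?_, ?_⟩ <;> rw [pgl_smul_mk, Projectivization.mk_eq_mk_iff']
  · exact ⟨α, vec_two_ext (by simp [g, glTwo_smul]) (by simp [g, glTwo_smul])⟩
  · exact ⟨β, vec_two_ext (by simp [g, glTwo_smul]) (by simp [g, glTwo_smul])⟩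
  · refine ⟨1, vec_two_ext ?_ ?_⟩ <;>
      simp [g, glTwo_smul, α, β] <;> rw [div_mul_eq_mul_div, div_mul_eq_mul_div, ← add_div,
        eq_div_iff hab] <;> ring

theorem mk_eq_one_of_fix_frame (M : GL (Fin 2) F)
    (h0 : (ProjGenLinGroup.mk M : ProjGenLinGroup (Fin 2) F) •
        frameX F = frameX F)
    (h1 : (ProjGenLinGroup.mk M : ProjGenLinGroup (Fin 2) F) •
        frameY F = frameY F)
    (h2 : (ProjGenLinGroup.mk M : ProjGenLinGroup (Fin 2) F) •
        frameZ F = frameZ F) :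
    (ProjGenLinGroup.mk M : ProjGenLinGroup (Fin 2) F) = 1 := by
  rw [pgl_smul_mk, Projectivization.mk_eq_mk_iff'] at h0 h1 h2
  obtain ⟨x, hx⟩ := h0
  obtain ⟨y, hy⟩ := h1
  obtain ⟨z, hz⟩ := h2
  have x0 := congr_fun hx 0
  have x1 := congr_fun hx 1
  have y0 := congr_fun hy 0
  have y1 := congr_fun hy 1
  have z0 := congr_fun hz 0
  have z1 := congr_fun hz 1
  simp [glTwo_smul] at x0 x1 y0 y1 z0 z1
  have hne : (M : Matrix (Fin 2) (Fin 2) F) 0 0 ≠ 0 := by
    intro e
    apply M.det_ne_zero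
    rw [det_fin_two, e, ← y0]
    ring
  have hscal : M = GeneralLinearGroup.scalar (Fin 2) (Units.mk0 _ hne) := by
    ext i j
    fin_cases i <;> fin_cases j <;> simp [← x1, ← y0] <;> grind
  rw [hscal]
  exact ProjGenLinGroup.mk_scalar _

theorem pgl_eq_one_of_fix_triple (g : ProjGenLinGroup (Fin 2) F) (a b c : ℙ F (Fin 2 → F))
    (hab : a ≠ b) (hac : a ≠ c) (hbc : b ≠ c) (ha : g • a = a) (hb : g • b = b) (hc : g • c = c) :
    g = 1 := by
  obtain ⟨k, rfl, rfl, rfl⟩ := exists_gl_triple a b c hab hac hbc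
  obtain ⟨g, rfl⟩ : ∃ g', ProjGenLinGroup.mk g' = g := ProjGenLinGroup.mk_surjective g
  rw [← mul_smul, ← map_mul] at ha hb hc
  have key := mk_eq_one_of_fix_frame (k⁻¹ * (g * k))
    (by rw [map_mul, map_inv, mul_smul, ha, inv_smul_smul])
    (by rw [map_mul, map_inv, mul_smul, hb, inv_smul_smul])
    (by rw [map_mul, map_inv, mul_smul, hc, inv_smul_smul])
  rw [map_mul, map_inv, map_mul, inv_mul_eq_one, eq_comm, mul_eq_right] at key
  exact key

theorem pgl_three_pretransitive :
    IsMultiplyPretransitive (ProjGenLinGroup (Fin 2) F) (ℙ F (Fin 2 → F)) 3 := by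
  let base : Fin 3 → ℙ F (Fin 2 → F) := ![frameX F,
    frameY F, frameZ F]
  have key : ∀ y : Fin 3 ↪ ℙ F (Fin 2 → F), ∃ g : ProjGenLinGroup (Fin 2) F, ∀ i, g • base i = y i := by
    intro y
    obtain ⟨g, h0, h1, h2⟩ := exists_gl_triple (y 0) (y 1) (y 2) (by simp) (by simp) (by simp)
    exact ⟨ProjGenLinGroup.mk g, fun i ↦ by fin_cases i <;> [exact h0; exact h1; exact h2]⟩
  constructor
  intro x y
  obtain ⟨g, hg⟩ := key x
  obtain ⟨g', hg'⟩ := key y
  refine ⟨g' * g⁻¹, Function.Embedding.ext fun i ↦ ?_⟩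
  rw [Function.Embedding.smul_apply, mul_smul, ← hg i, inv_smul_smul, hg']

theorem sl2_smul_mk (g : SpecialLinearGroup (Fin 2) F) {v : Fin 2 → F} (hv : v ≠ 0) :
    g • Projectivization.mk F v hv = Projectivization.mk F (g • v) ((smul_ne_zero_iff_ne g).2 hv) :=
  rfl

theorem sl2_smul_eq (g : SpecialLinearGroup (Fin 2) F) (v : Fin 2 → F) :
    g • v = g.1 *ᵥ v := rfl

theorem sl2_three_pretransitive_iff [Fintype F] :
    IsMultiplyPretransitive (SpecialLinearGroup (Fin 2) F) (ℙ F (Fin 2 → F)) 3 ↔ ringChar F = 2 := by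
  constructor
  · intro h
    by_contra h2
    obtain ⟨c, hc⟩ := FiniteField.exists_nonsquare (F := F) h2
    have hc0 : c ≠ 0 := by rintro rfl; exact hc ⟨0, (mul_zero 0).symm⟩
    have hc1 : (![1, c] : Fin 2 → F) ≠ 0 := fun e ↦ by simpa using congr_fun e 0
    let base : Fin 3 → ℙ F (Fin 2 → F) := ![frameX F,
      frameY F, frameZ F]
    let tgt : Fin 3 → ℙ F (Fin 2 → F) := ![frameX F,
      frameY F, Projectivization.mk F ![1, c] hc1]
    have hinj : ∀ (v : Fin 3 → ℙ F (Fin 2 → F)), v 0 ≠ v 1 → v 0 ≠ v 2 → v 1 ≠ v 2 →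
        Function.Injective v := by
      intro v a b c i j h
      fin_cases i <;> fin_cases j <;> simp_all [eq_comm]
    obtain ⟨g, hg⟩ := h.exists_smul_eq
      ⟨base, hinj base (by simp [base, mk_ne_iff_det_ne_zero]) (by simp [base, mk_ne_iff_det_ne_zero])
        (by simp [base, mk_ne_iff_det_ne_zero])⟩
      ⟨tgt, hinj tgt (by simp [tgt, mk_ne_iff_det_ne_zero]) (by simp [tgt, mk_ne_iff_det_ne_zero, hc0])
        (by simp [tgt, mk_ne_iff_det_ne_zero])⟩
    have h0 : g • base 0 = tgt 0 := DFunLike.congr_fun hg 0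
    have h1 : g • base 1 = tgt 1 := DFunLike.congr_fun hg 1
    have h2' : g • base 2 = tgt 2 := DFunLike.congr_fun hg 2
    simp only [base, tgt, cons_val_zero, cons_val_one, cons_val_two, head_cons, tail_cons, sl2_smul_mk,
      Projectivization.mk_eq_mk_iff'] at h0 h1 h2'
    obtain ⟨x, hx⟩ := h0
    obtain ⟨y, hy⟩ := h1
    obtain ⟨z, hz⟩ := h2'
    have x1 := congr_fun hx 1
    have y0 := congr_fun hy 0
    have z0 := congr_fun hz 0
    have z1 := congr_fun hz 1
    simp [sl2_smul_eq, mulVec, dotProduct, Fin.sum_univ_two] at x1 y0 z0 z1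
    have hdet : g.1 0 0 * g.1 1 1 - g.1 0 1 * g.1 1 0 = 1 := by rw [← det_fin_two]; exact g.2
    rw [← x1, ← y0, mul_zero, sub_zero] at hdet
    rw [← y0, add_zero] at z0
    rw [← x1, zero_add] at z1
    exact hc ⟨g.1 1 1, by
      rw [← z0] at hdet
      linear_combination (-c) * hdet + g.1 1 1 * z1⟩
  · intro h2
    have : CharP F 2 := ringChar.eq_iff.1 h2
    let base : Fin 3 → ℙ F (Fin 2 → F) := ![frameX F,
      frameY F, frameZ F]
    have key : ∀ y : Fin 3 ↪ ℙ F (Fin 2 → F),
        ∃ g : SpecialLinearGroup (Fin 2) F, ∀ i, g • base i = y i := by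
      intro y
      obtain ⟨g, h0, h1, h2⟩ := exists_gl_triple (y 0) (y 1) (y 2) (by simp) (by simp) (by simp)
      obtain ⟨r, hr⟩ := FiniteField.isSquare_of_char_two (ringChar.eq_iff.2 this) (g : Matrix (Fin 2) (Fin 2) F).det
      have hr0 : r ≠ 0 := by rintro rfl; exact g.det_ne_zero (by simpa using hr)
      let G : SpecialLinearGroup (Fin 2) F := ⟨r⁻¹ • (g : Matrix (Fin 2) (Fin 2) F), by
        rw [det_smul, Fintype.card_fin, hr]; field_simp⟩
      have hG : ∀ (v : Fin 2 → F) (hv : v ≠ 0), G • Projectivization.mk F v hv =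
          (ProjGenLinGroup.mk g : ProjGenLinGroup (Fin 2) F) • Projectivization.mk F v hv := by
        intro v hv
        rw [sl2_smul_mk, pgl_smul_mk, Projectivization.mk_eq_mk_iff']
        exact ⟨r⁻¹, (smul_mulVec _ _ _).symm⟩
      exact ⟨G, fun i ↦ by
        fin_cases i <;>
          [exact (hG _ _).trans h0; exact (hG _ _).trans h1; exact (hG _ _).trans h2]⟩
    constructor
    intro x y
    obtain ⟨g, hg⟩ := key x
    obtain ⟨g', hg'⟩ := key y
    refine ⟨g' * g⁻¹, Function.Embedding.ext fun i ↦ ?_⟩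
    rw [Function.Embedding.smul_apply, mul_smul, ← hg i, inv_smul_smul, hg']

theorem equiv_alternatingGroup_of_injective {G : Type*} [Group G] {α : Type*} [Fintype α]
    [DecidableEq α] [Nontrivial α] (f : G →* Equiv.Perm α) (hf : Function.Injective f)
    (hcard : 2 * Nat.card G = (Fintype.card α).factorial) :
    Nonempty (G ≃* alternatingGroup α) := by
  have hidx : f.range.index = 2 := by
    have h := f.range.card_mul_index
    rw [Nat.card_congr (MonoidHom.ofInjective hf).toEquiv.symm, Nat.card_perm,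
      Nat.card_eq_fintype_card (α := α), ← hcard, mul_comm 2] at h
    refine Nat.eq_of_mul_eq_mul_left (Nat.pos_of_ne_zero fun h0 ↦ ?_) h
    rw [h0, mul_zero] at hcard
    exact Nat.factorial_ne_zero _ hcard.symm
  exact ⟨(MonoidHom.ofInjective hf).trans (MulEquiv.subgroupCongr
    (Equiv.Perm.eq_alternatingGroup_of_index_eq_two hidx))⟩

/-- `PSL_2(F)` as a permutation group on `q + 1` points. -/
theorem exists_injective_psl_two_perm [Fintype F] (N : ℕ) (hN : Fintype.card F + 1 = N) :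
    ∃ f : ProjectiveSpecialLinearGroup (Fin 2) F →* Equiv.Perm (Fin N), Function.Injective f := by
  have hc : Nat.card (ℙ F (Fin 2 → F)) = Nat.card (Fin N) := by
    rw [Projectivization.card_of_finrank_two F (Fin 2 → F) (Module.finrank_fin_fun F), Nat.card_eq_fintype_card (α := F), hN,
      Nat.card_fin]
  have : Finite (ℙ F (Fin 2 → F)) := Quotient.finite _
  obtain ⟨e⟩ := (Finite.card_eq).1 hc
  exact ⟨(e.permCongrHom.toMonoidHom).comp Projectivization.PSLAction.toPermHom,
    e.permCongrHom.injective.comp Matrix.ProjectiveSpecialLinearGroup.toPermHom_injective⟩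

end CfsgLib.Linear
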