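/-
Sylow p-subgroups of GL_n(q) and the Borel/unipotent subgroups of GL_2(q), p the characteristic.
-/
import Mathlib
import Cfsg.Agent.Lib.Linear.Transvection

set_option autoImplicit false

namespace CfsgLib.Linear

open Matrix
open scoped MatrixGroups

theorem card_sylow_of_card_eq {G : Type*} [Group G] [Finite G] {p : ℕ} [hp : Fact p.Prime] {k r : ℕ}
    (h : Nat.card G = p ^ k * r) (hr : ¬ p ∣ r) (P : Sylow p G) : Nat.card P = p ^ k := by
  have hr0 : r ≠ 0 := by rintro rfl; exact hr (dvd_zero p)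
  rw [P.card_eq_multiplicity, h, Nat.factorization_mul (pow_ne_zero _ hp.out.ne_zero) hr0,
    Finsupp.add_apply, hp.out.factorization_pow, Finsupp.single_eq_same,
    Nat.factorization_eq_zero_of_not_dvd hr, add_zero]

theorem not_char_dvd_pow_sub_one {F : Type*} [Field F] [Fintype F] (p : ℕ) [Fact p.Prime]
    [CharP F p] {k : ℕ} (hk : k ≠ 0) : ¬ p ∣ Fintype.card F ^ k - 1 := by
  obtain ⟨n, hp, hq⟩ := FiniteField.card F p
  intro h
  have h2 : p ∣ Fintype.card F ^ k := by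
    rw [hq, ← pow_mul]; exact dvd_pow_self p (mul_ne_zero n.ne_zero hk)
  have h3 : 1 ≤ Fintype.card F ^ k := Nat.one_le_pow _ _ Fintype.card_pos
  have := Nat.dvd_sub h2 h
  rw [show Fintype.card F ^ k - (Fintype.card F ^ k - 1) = 1 by omega] at this
  exact hp.not_dvd_one this

theorem card_sylow_char_GL {F : Type*} [Field F] [Fintype F] (p : ℕ) [hp : Fact p.Prime] [CharP F p]
    (n : ℕ) (P : Sylow p (GL (Fin n) F)) :
    Nat.card P = Fintype.card F ^ (n * (n - 1) / 2) := by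
  set q := Fintype.card F with hq
  obtain ⟨f, -, hf⟩ := FiniteField.card F p
  have hsplit : ∏ i : Fin n, (q ^ n - q ^ (i : ℕ)) =
      q ^ (n * (n - 1) / 2) * ∏ i : Fin n, (q ^ (n - i) - 1) := by
    rw [show n * (n - 1) / 2 = ∑ i : Fin n, (i : ℕ) by
      rw [Fin.sum_univ_eq_sum_range (fun i ↦ i), Finset.sum_range_id],
      ← Finset.prod_pow_eq_pow_sum, ← Finset.prod_mul_distrib]
    refine Finset.prod_congr rfl fun i _ ↦ ?_
    rw [Nat.mul_sub_one, ← pow_add, Nat.add_sub_cancel' (Nat.le_of_lt i.isLt)]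
  rw [hq, hf, ← pow_mul]
  refine card_sylow_of_card_eq (r := ∏ i : Fin n, (q ^ (n - i) - 1)) ?_ ?_ P
  · rw [card_GL_fin, ← hq, hsplit, pow_mul, ← hf]
  · intro h
    obtain ⟨i, -, hi⟩ := (Prime.dvd_finsetProd_iff hp.out.prime _).1 h
    exact not_char_dvd_pow_sub_one p (by omega) hi

variable {F : Type*} [Field F]

/-- An upper triangular element of `GL₂`. -/
def gl2Tri (a d : Fˣ) (x : F) : GL (Fin 2) F :=
  GeneralLinearGroup.mkOfDetNeZero !![(a : F), x; 0, (d : F)] (by simp [det_fin_two_of])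

theorem gl2Tri_val (a d : Fˣ) (x : F) :
    (gl2Tri a d x : Matrix (Fin 2) (Fin 2) F) = !![(a : F), x; 0, (d : F)] := rfl

theorem gl2Tri_mul (a d a' d' : Fˣ) (x x' : F) :
    gl2Tri a d x * gl2Tri a' d' x' = gl2Tri (a * a') (d * d') (a * x' + x * d') := by
  ext i j
  fin_cases i <;> fin_cases j <;> simp [gl2Tri_val]

theorem gl2Tri_one : gl2Tri (1 : Fˣ) 1 0 = 1 := by
  ext i j
  fin_cases i <;> fin_cases j <;> simp [gl2Tri_val]

theorem gl2Tri_inv (a d : Fˣ) (x : F) :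
    (gl2Tri a d x)⁻¹ = gl2Tri a⁻¹ d⁻¹ (-((a⁻¹ : Fˣ) : F) * x * ((d⁻¹ : Fˣ) : F)) := by
  rw [inv_eq_iff_mul_eq_one, gl2Tri_mul, mul_inv_cancel, mul_inv_cancel, ← gl2Tri_one]
  congr 1
  rw [← mul_assoc, ← mul_assoc, mul_neg, Units.mul_inv]
  ring

theorem gl2_entry_congr {g h : GL (Fin 2) F} (e : g = h) (i j : Fin 2) :
    (g : Matrix (Fin 2) (Fin 2) F) i j = (h : Matrix (Fin 2) (Fin 2) F) i j := by rw [e]

theorem gl2Tri_inj {a d a' d' : Fˣ} {x x' : F} (h : gl2Tri a d x = gl2Tri a' d' x') :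
    a = a' ∧ d = d' ∧ x = x' := by
  have h1 := gl2_entry_congr h 0 0
  have h2 := gl2_entry_congr h 1 1
  have h3 := gl2_entry_congr h 0 1
  simp [gl2Tri_val] at h1 h2 h3
  exact ⟨Units.ext h1, Units.ext h2, h3⟩

/-- The Borel subgroup of upper triangular matrices in `GL₂`. -/
def gl2Borel (F : Type*) [Field F] : Subgroup (GL (Fin 2) F) where
  carrier := {g | ∃ a d x, g = gl2Tri a d x}
  one_mem' := ⟨1, 1, 0, gl2Tri_one.symm⟩
  mul_mem' := by rintro _ _ ⟨a, d, x, rfl⟩ ⟨a', d', x', rfl⟩; exact ⟨_, _, _, gl2Tri_mul ..⟩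
  inv_mem' := by rintro _ ⟨a, d, x, rfl⟩; exact ⟨_, _, _, gl2Tri_inv ..⟩

theorem mem_gl2Borel_iff {g : GL (Fin 2) F} :
    g ∈ gl2Borel F ↔ (g : Matrix (Fin 2) (Fin 2) F) 1 0 = 0 := by
  constructor
  · rintro ⟨a, d, x, rfl⟩; rfl
  · intro h
    have hdet : (g : Matrix (Fin 2) (Fin 2) F) 0 0 * (g : Matrix (Fin 2) (Fin 2) F) 1 1 ≠ 0 := by
      have h' := g.det_ne_zero
      rwa [det_fin_two, h, mul_zero, sub_zero] at h'
    refine ⟨Units.mk0 _ (left_ne_zero_of_mul hdet), Units.mk0 _ (right_ne_zero_of_mul hdet),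
      (g : Matrix (Fin 2) (Fin 2) F) 0 1, ?_⟩
    ext i j
    fin_cases i <;> fin_cases j <;> simp [gl2Tri_val, h]

theorem card_gl2Borel [Fintype F] :
    Nat.card (gl2Borel F) = Fintype.card F * (Fintype.card F - 1) ^ 2 := by
  let e : Fˣ × Fˣ × F → gl2Borel F := fun t ↦ ⟨gl2Tri t.1 t.2.1 t.2.2, _, _, _, rfl⟩
  have he : Function.Bijective e := by
    refine ⟨fun a b h ↦ ?_, fun g ↦ ?_⟩
    · obtain ⟨h1, h2, h3⟩ := gl2Tri_inj (congrArg Subtype.val h)
      exact Prod.ext h1 (Prod.ext h2 h3)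
    · obtain ⟨a, d, x, hg⟩ := g.2
      exact ⟨(a, d, x), Subtype.ext hg.symm⟩
  rw [← Nat.card_eq_of_bijective e he, Nat.card_prod, Nat.card_prod, Nat.card_units,
    Nat.card_eq_fintype_card (α := F)]
  ring

/-- The upper unitriangular subgroup of `GL₂`. -/
def gl2U (F : Type*) [Field F] : Subgroup (GL (Fin 2) F) where
  carrier := Set.range fun x ↦ gl2Tri 1 1 x
  one_mem' := ⟨0, gl2Tri_one⟩
  mul_mem' := by rintro _ _ ⟨x, rfl⟩ ⟨y, rfl⟩; exact ⟨y + x, by simp [gl2Tri_mul]⟩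
  inv_mem' := by rintro _ ⟨x, rfl⟩; exact ⟨-x, by simp [gl2Tri_inv]⟩

theorem card_gl2U [Fintype F] : Nat.card (gl2U F) = Fintype.card F := by
  let e : F → gl2U F := fun x ↦ ⟨gl2Tri 1 1 x, x, rfl⟩
  have he : Function.Bijective e :=
    ⟨fun a b h ↦ (gl2Tri_inj (congrArg Subtype.val h)).2.2,
      fun g ↦ g.2.imp fun _ hx ↦ Subtype.ext hx⟩
  rw [← Nat.card_eq_of_bijective e he, Nat.card_eq_fintype_card]

theorem normalizer_gl2U :
    Subgroup.normalizer ((gl2U F : Subgroup (GL (Fin 2) F)) : Set (GL (Fin 2) F)) = gl2Borel F := by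
  ext g
  constructor
  · intro hg
    obtain ⟨y, hy⟩ := (Subgroup.mem_normalizer_iff.1 hg (gl2Tri 1 1 1)).1 ⟨1, rfl⟩
    have h : gl2Tri 1 1 y * g = g * gl2Tri 1 1 1 := by
      rw [show gl2Tri 1 1 y = g * gl2Tri 1 1 1 * g⁻¹ from hy, inv_mul_cancel_right]
    rw [mem_gl2Borel_iff]
    simpa [gl2Tri_val, mul_apply, Fin.sum_univ_two] using gl2_entry_congr h 1 1
  · intro hg
    have key : ∀ b ∈ gl2Borel F, ∀ h ∈ gl2U F, b * h * b⁻¹ ∈ gl2U F := by
      rintro _ ⟨a, d, x, rfl⟩ _ ⟨y, rfl⟩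
      refine ⟨(a : F) * y * ((d⁻¹ : Fˣ) : F), ?_⟩
      simp only [gl2Tri_inv, gl2Tri_mul, mul_one, mul_inv_cancel]
      congr 1
      push_cast
      field_simp [a.ne_zero, d.ne_zero]
      ring
    refine Subgroup.mem_normalizer_iff.2 fun h ↦ ⟨key g hg h, fun hh ↦ ?_⟩
    simpa [mul_assoc] using key g⁻¹ (inv_mem hg) _ hh

theorem centralizer_gl2U_le {t : GL (Fin 2) F} (ht : t ∈ gl2U F) (h1 : t ≠ 1) :
    Subgroup.centralizer ({t} : Set (GL (Fin 2) F)) ≤ gl2Borel F := by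
  intro g hg
  obtain ⟨x, rfl⟩ := ht
  have hx : x ≠ 0 := by rintro rfl; exact h1 gl2Tri_one
  have h := gl2_entry_congr (Subgroup.mem_centralizer_singleton_iff.1 hg) 1 1
  simp [gl2Tri_val, mul_apply, Fin.sum_univ_two, hx] at h
  rwa [mem_gl2Borel_iff]

theorem card_centralizer_gl2U [Fintype F] {t : GL (Fin 2) F} (ht : t ∈ gl2U F) (h1 : t ≠ 1) :
    Nat.card (Subgroup.centralizer ({t} : Set (GL (Fin 2) F))) =
      Fintype.card F * (Fintype.card F - 1) := by
  obtain ⟨y, rfl⟩ := ht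
  have hy : y ≠ 0 := by rintro rfl; exact h1 gl2Tri_one
  let e : F × Fˣ → Subgroup.centralizer ({gl2Tri 1 1 y} : Set (GL (Fin 2) F)) := fun t ↦
    ⟨gl2Tri t.2 t.2 t.1, by
      rw [Subgroup.mem_centralizer_singleton_iff, gl2Tri_mul, gl2Tri_mul]
      simp only [mul_one, one_mul, Units.val_one]
      congr 1
      ring⟩
  have he : Function.Bijective e := by
    refine ⟨fun a b h ↦ ?_, fun g ↦ ?_⟩
    · obtain ⟨h1, -, h3⟩ := gl2Tri_inj (congrArg Subtype.val h)
      exact Prod.ext h3 h1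
    · obtain ⟨a, d, x, hg⟩ := centralizer_gl2U_le ⟨y, rfl⟩ h1 g.2
      have hc := Subgroup.mem_centralizer_singleton_iff.1 g.2
      rw [hg, gl2Tri_mul, gl2Tri_mul] at hc
      have h3 := (gl2Tri_inj hc).2.2
      simp only [Units.val_one, mul_one, one_mul] at h3
      have hd : d = a := Units.ext (mul_left_cancel₀ hy (by linear_combination -h3))
      exact ⟨(x, a), Subtype.ext (by rw [hg, hd])⟩
  rw [← Nat.card_eq_of_bijective e he, Nat.card_prod, Nat.card_units,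
    Nat.card_eq_fintype_card (α := F)]

section Sylow

variable [Fintype F] (p : ℕ) [hp : Fact p.Prime] [CharP F p]

/-- `gl2U` as a Sylow subgroup. -/
noncomputable def gl2USylow : Sylow p (GL (Fin 2) F) :=
  Sylow.ofCard (gl2U F) <| by
    rw [card_gl2U, ← (default : Sylow p (GL (Fin 2) F)).card_eq_multiplicity,
      card_sylow_char_GL p 2 default]
    simp

theorem gl2USylow_coe : ((gl2USylow p : Sylow p (GL (Fin 2) F)) : Subgroup (GL (Fin 2) F)) = gl2U F :=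
  rfl

theorem exists_conj_gl2U (P : Sylow p (GL (Fin 2) F)) :
    ∃ g : GL (Fin 2) F, (P : Subgroup (GL (Fin 2) F)) = (gl2U F).map (MulAut.conj g).toMonoidHom := by
  obtain ⟨g, hg⟩ := MulAction.exists_smul_eq (GL (Fin 2) F) (gl2USylow p) P
  refine ⟨g, ?_⟩
  rw [← hg, Sylow.coe_subgroup_smul]
  rfl

theorem card_gl2_eq : Nat.card (GL (Fin 2) F) =
    (Fintype.card F + 1) * (Fintype.card F * (Fintype.card F - 1) ^ 2) := by
  have h2 : 1 < Fintype.card F := Fintype.one_lt_card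
  obtain ⟨k, hk⟩ : ∃ k, Fintype.card F = k + 1 := ⟨_, (Nat.sub_add_cancel h2.le).symm⟩
  rw [card_GL_fin]
  simp only [Fin.prod_univ_two, Fin.val_zero, Fin.val_one, pow_zero, pow_one]
  rw [hk, Nat.add_sub_cancel]
  have e1 : (k + 1) ^ 2 - 1 = (k + 2) * k := by
    have : (k + 1) ^ 2 = (k + 2) * k + 1 := by ring
    omega
  have e2 : (k + 1) ^ 2 - (k + 1) = (k + 1) * k := by
    have : (k + 1) ^ 2 = (k + 1) * k + (k + 1) := by ring
    omega
  rw [e1, e2]
  ring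

theorem card_normalizer_sylow_gl2 (P : Sylow p (GL (Fin 2) F)) :
    Nat.card (Subgroup.normalizer ((P : Subgroup (GL (Fin 2) F)) : Set (GL (Fin 2) F))) =
      Fintype.card F * (Fintype.card F - 1) ^ 2 := by
  have e1 : ∀ Q : Sylow p (GL (Fin 2) F),
      (Subgroup.normalizer ((Q : Subgroup (GL (Fin 2) F)) : Set (GL (Fin 2) F))).index =
        Nat.card (Sylow p (GL (Fin 2) F)) := fun Q ↦ Q.card_eq_index_normalizer.symm
  have h1 := (Subgroup.normalizer ((P : Subgroup (GL (Fin 2) F)) : Set (GL (Fin 2) F))).card_mul_index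
  have h2 := (Subgroup.normalizer (((gl2USylow p : Sylow p (GL (Fin 2) F)) :
    Subgroup (GL (Fin 2) F)) : Set (GL (Fin 2) F))).card_mul_index
  rw [e1] at h1 h2
  rw [gl2USylow_coe, normalizer_gl2U, card_gl2Borel] at h2
  exact Nat.eq_of_mul_eq_mul_right Nat.card_pos (h1.trans h2.symm)

theorem card_sylow_gl2 : Nat.card (Sylow p (GL (Fin 2) F)) = Fintype.card F + 1 := by
  let P : Sylow p (GL (Fin 2) F) := default
  have h := (Subgroup.normalizer ((P : Subgroup (GL (Fin 2) F)) : Set (GL (Fin 2) F))).card_mul_index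
  rw [show (Subgroup.normalizer ((P : Subgroup (GL (Fin 2) F)) : Set (GL (Fin 2) F))).index = Nat.card (Sylow p (GL (Fin 2) F)) from P.card_eq_index_normalizer.symm, card_normalizer_sylow_gl2 p P, card_gl2_eq,
    mul_comm (Fintype.card F + 1)] at h
  have : 0 < Fintype.card F * (Fintype.card F - 1) ^ 2 := by
    have h2 : 1 < Fintype.card F := Fintype.one_lt_card
    have : 0 < Fintype.card F - 1 := by omega
    positivity
  exact Nat.eq_of_mul_eq_mul_left this h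

theorem conj_mem_gl2U {g x : GL (Fin 2) F} :
    x ∈ (gl2U F).map (MulAut.conj g).toMonoidHom ↔ g⁻¹ * x * g ∈ gl2U F := by
  rw [Subgroup.mem_map_equiv, MulAut.conj_symm_apply]

theorem sylow_gl2_disjoint (P Q : Sylow p (GL (Fin 2) F)) (h : P ≠ Q) :
    (P : Subgroup (GL (Fin 2) F)) ⊓ Q = ⊥ := by
  refine (Subgroup.eq_bot_iff_forall _).2 fun a ha ↦ ?_
  by_contra ha1
  apply h
  have key : ∀ R : Sylow p (GL (Fin 2) F), a ∈ R →
      ∀ R' : Sylow p (GL (Fin 2) F), a ∈ R' → (R' : Subgroup (GL (Fin 2) F)) ≤ R := by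
    intro R hR R' hR'
    obtain ⟨g, hg⟩ := exists_conj_gl2U p R
    obtain ⟨g', hg'⟩ := exists_conj_gl2U p R'
    have hcomm : ∀ b ∈ (R' : Subgroup (GL (Fin 2) F)), b * a = a * b := by
      intro b hb
      have ha' : a ∈ (R' : Subgroup (GL (Fin 2) F)) := hR'
      rw [hg'] at hb ha'
      obtain ⟨_, ⟨x, rfl⟩, rfl⟩ := hb
      obtain ⟨_, ⟨y, rfl⟩, rfl⟩ := ha'
      rw [← map_mul, ← map_mul, gl2Tri_mul, gl2Tri_mul]
      simp [add_comm]
    have hnorm : (R' : Subgroup (GL (Fin 2) F)) ≤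
        Subgroup.normalizer ((R : Subgroup (GL (Fin 2) F)) : Set (GL (Fin 2) F)) := by
      intro b hb
      have hat : g⁻¹ * a * g ∈ gl2U F := by
        have : a ∈ (R : Subgroup (GL (Fin 2) F)) := hR
        rwa [hg, conj_mem_gl2U] at this
      have hne : g⁻¹ * a * g ≠ 1 := fun e ↦ ha1 (by
        have := congrArg (fun t ↦ g * t * g⁻¹) e
        simpa [mul_assoc] using this)
      have hc : g⁻¹ * b * g ∈ gl2Borel F := by
        refine centralizer_gl2U_le hat hne (Subgroup.mem_centralizer_singleton_iff.2 ?_)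
        calc g⁻¹ * b * g * (g⁻¹ * a * g) = g⁻¹ * (b * a) * g := by group
          _ = g⁻¹ * (a * b) * g := by rw [hcomm b hb]
          _ = g⁻¹ * a * g * (g⁻¹ * b * g) := by group
      rw [← normalizer_gl2U, Subgroup.mem_normalizer_iff] at hc
      refine Subgroup.mem_normalizer_iff.2 fun x ↦ ?_
      rw [hg, conj_mem_gl2U, conj_mem_gl2U, hc (g⁻¹ * x * g)]
      exact iff_of_eq (congrArg (· ∈ gl2U F) (by group))
    exact inf_eq_left.1 ((R'.isPGroup'.inf_normalizer_sylow R).symm.trans (inf_eq_left.2 hnorm))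
  exact Sylow.ext (le_antisymm (key Q ha.2 P ha.1) (key P ha.1 Q ha.2))

theorem card_centralizer_sylow_gl2 (P : Sylow p (GL (Fin 2) F)) (a : GL (Fin 2) F) (ha : a ∈ P)
    (ha1 : a ≠ 1) :
    Nat.card (Subgroup.centralizer ({a} : Set (GL (Fin 2) F))) =
      Fintype.card F * (Fintype.card F - 1) := by
  obtain ⟨g, hg⟩ := exists_conj_gl2U p P
  have ha' : g⁻¹ * a * g ∈ gl2U F := by
    have : a ∈ (P : Subgroup (GL (Fin 2) F)) := ha
    rwa [hg, conj_mem_gl2U] at this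
  have hne : g⁻¹ * a * g ≠ 1 := fun e ↦ ha1 (by
    have := congrArg (fun t ↦ g * t * g⁻¹) e
    simpa [mul_assoc] using this)
  rw [← card_centralizer_gl2U ha' hne]
  refine Nat.card_congr ((MulAut.conj g⁻¹).toEquiv.subtypeEquiv fun b ↦ ?_)
  rw [Subgroup.mem_centralizer_singleton_iff, Subgroup.mem_centralizer_singleton_iff]
  simp only [MulEquiv.toEquiv_eq_coe, MulEquiv.coe_toEquiv, MulAut.conj_apply, inv_inv]
  constructor
  · intro h
    calc g⁻¹ * b * g * (g⁻¹ * a * g) = g⁻¹ * (b * a) * g := by group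
      _ = g⁻¹ * (a * b) * g := by rw [h]
      _ = g⁻¹ * a * g * (g⁻¹ * b * g) := by group
  · intro h
    calc b * a = g * (g⁻¹ * b * g * (g⁻¹ * a * g)) * g⁻¹ := by group
      _ = g * (g⁻¹ * a * g * (g⁻¹ * b * g)) * g⁻¹ := by rw [h]
      _ = a * b := by group

theorem sylow_gl2_det (P : Sylow p (GL (Fin 2) F)) :
    (P : Subgroup (GL (Fin 2) F)) ≤ (GeneralLinearGroup.det : GL (Fin 2) F →* Fˣ).ker := by
  obtain ⟨g, hg⟩ := exists_conj_gl2U p P
  intro a ha
  rw [hg] at ha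
  obtain ⟨_, ⟨x, rfl⟩, rfl⟩ := ha
  rw [MonoidHom.mem_ker]
  simp only [MulEquiv.coe_toMonoidHom, MulAut.conj_apply, map_mul, map_inv, mul_inv_cancel_comm]
  ext
  rw [GeneralLinearGroup.val_det_apply, gl2Tri_val, det_fin_two_of]
  simp

end Sylow

end CfsgLib.Linear
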