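/-
SL_2: generation by Sylow p-subgroups, centralisers of semisimple elements, Sylow r-subgroups.
-/
import Mathlib
import Cfsg.Agent.Lib.Linear.GL2

set_option autoImplicit false

namespace CfsgLib.Linear

open Matrix
open scoped MatrixGroups

variable {F : Type*} [Field F]

theorem SL2_entry_congr {g h : SL(2, F)} (e : g = h) (i j : Fin 2) : g.1 i j = h.1 i j := by
  rw [e]

theorem SL2_det_eq (g : SL(2, F)) : g.1 0 0 * g.1 1 1 - g.1 0 1 * g.1 1 0 = 1 := by
  rw [← det_fin_two]; exact g.2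

theorem SL2_mul_apply (g h : SL(2, F)) (i j : Fin 2) :
    (g * h).1 i j = g.1 i 0 * h.1 0 j + g.1 i 1 * h.1 1 j := by
  simp [mul_apply, Fin.sum_univ_two]

theorem SL2_eq_one_or_neg_one_of_sq_eq_one (h2 : (2 : F) ≠ 0) (g : SL(2, F)) (hg : g * g = 1) :
    g.1 = 1 ∨ g.1 = -1 := by
  have hinv : g⁻¹ = g := inv_eq_of_mul_eq_one_left hg
  have e00 := SL2_entry_congr hinv 0 0
  have e01 := SL2_entry_congr hinv 0 1
  have e10 := SL2_entry_congr hinv 1 0
  simp [adjugate_fin_two] at e00 e01 e10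
  have b : g.1 0 1 = 0 := by
    have : (2 : F) * g.1 0 1 = 0 := by linear_combination -e01
    simpa [h2] using this
  have c : g.1 1 0 = 0 := by
    have : (2 : F) * g.1 1 0 = 0 := by linear_combination -e10
    simpa [h2] using this
  have hd := SL2_det_eq g
  rw [b, c, e00] at hd
  have ha : g.1 0 0 = 1 ∨ g.1 0 0 = -1 := sq_eq_one_iff.1 (by linear_combination hd)
  rcases ha with ha | ha <;> [left; right] <;>
    (ext i j; fin_cases i <;> fin_cases j <;> simp [b, c, e00, ha])

theorem two_ne_zero_of_odd_card [Fintype F] (h : Odd (Fintype.card F)) : (2 : F) ≠ 0 := by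
  refine Ring.two_ne_zero fun hc ↦ ?_
  have := (FiniteField.even_card_iff_char_two).1 hc
  rw [Nat.odd_iff] at h
  omega

/-- A commuting matrix of a non-scalar `z ∈ SL₂` is a linear combination of `1` and `z`. -/
theorem exists_eq_smul_one_add_of_commute {z g : SL(2, F)}
    (hz : z.1 0 1 ≠ 0 ∨ z.1 1 0 ≠ 0 ∨ z.1 0 0 ≠ z.1 1 1) (h : g * z = z * g) :
    ∃ a b : F, g.1 = a • (1 : Matrix (Fin 2) (Fin 2) F) + b • z.1 := by
  have e00 := SL2_entry_congr h 0 0
  have e01 := SL2_entry_congr h 0 1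
  have e10 := SL2_entry_congr h 1 0
  simp only [SL2_mul_apply] at e00 e01 e10
  have mk : ∀ a b : F, g.1 0 0 = a + b * z.1 0 0 → g.1 0 1 = b * z.1 0 1 →
      g.1 1 0 = b * z.1 1 0 → g.1 1 1 = a + b * z.1 1 1 →
      g.1 = a • (1 : Matrix (Fin 2) (Fin 2) F) + b • z.1 := by
    intro a b h1 h2 h3 h4
    ext i j; fin_cases i <;> fin_cases j <;> simp [h1, h2, h3, h4]
  by_cases hb : z.1 0 1 = 0
  · by_cases hc : z.1 1 0 = 0
    · have hd : z.1 0 0 - z.1 1 1 ≠ 0 := sub_ne_zero.2 (by tauto)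
      obtain ⟨b, hb'⟩ : ∃ b, g.1 0 0 - g.1 1 1 = b * (z.1 0 0 - z.1 1 1) :=
        ⟨_, (div_mul_cancel₀ _ hd).symm⟩
      have g01 : g.1 0 1 = 0 := by
        have : (z.1 0 0 - z.1 1 1) * g.1 0 1 = 0 := by
          linear_combination -e01 + (g.1 0 0 - g.1 1 1) * hb
        simpa [hd] using this
      have g10 : g.1 1 0 = 0 := by
        have : (z.1 0 0 - z.1 1 1) * g.1 1 0 = 0 := by
          linear_combination e10 + (g.1 0 0 - g.1 1 1) * hc
        simpa [hd] using this
      exact ⟨g.1 0 0 - b * z.1 0 0, b, mk _ _ (by ring) (by rw [g01, hb, mul_zero])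
        (by rw [g10, hc, mul_zero]) (by linear_combination -hb')⟩
    · obtain ⟨b, hb'⟩ : ∃ b, g.1 1 0 = b * z.1 1 0 := ⟨_, (div_mul_cancel₀ _ hc).symm⟩
      refine ⟨g.1 0 0 - b * z.1 0 0, b, mk _ _ (by ring) ?_ hb' ?_⟩
      · refine mul_right_cancel₀ hc ?_
        linear_combination e00 + z.1 0 1 * hb'
      · refine mul_right_cancel₀ hc ?_
        linear_combination e10 + (z.1 1 1 - z.1 0 0) * hb'
  · obtain ⟨b, hb'⟩ : ∃ b, g.1 0 1 = b * z.1 0 1 := ⟨_, (div_mul_cancel₀ _ hb).symm⟩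
    refine ⟨g.1 0 0 - b * z.1 0 0, b, mk _ _ (by ring) hb' ?_ ?_⟩
    · refine mul_right_cancel₀ hb ?_
      linear_combination -e00 + z.1 1 0 * hb'
    · refine mul_right_cancel₀ hb ?_
      linear_combination -e01 + (z.1 1 1 - z.1 0 0) * hb'

/-- The centraliser of an element of `SL₂(q)` with trace not `±2` is cyclic. -/
theorem isCyclic_centralizer_SL2 [Finite F] {z : SL(2, F)}
    (ht : (z.1 0 0 + z.1 1 1) ^ 2 ≠ 4) :
    IsCyclic (Subgroup.centralizer ({z} : Set SL(2, F))) := by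
  have hdet := SL2_det_eq z
  have hz : z.1 0 1 ≠ 0 ∨ z.1 1 0 ≠ 0 ∨ z.1 0 0 ≠ z.1 1 1 := by
    by_contra! hc
    obtain ⟨h1, h2, h3⟩ := hc
    rw [h1, h2, h3] at hdet
    exact ht (by rw [h3]; linear_combination 4 * hdet)
  let t := z.1 0 0 + z.1 1 1
  let K := AlgebraicClosure F
  let φ : F →+* K := algebraMap F K
  obtain ⟨l, hl⟩ : ∃ l : K, l * l - φ t * l + 1 = 0 := by
    obtain ⟨l, hl⟩ := IsAlgClosed.exists_root (k := K)
      (Polynomial.X ^ 2 - Polynomial.C (φ t) * Polynomial.X + Polynomial.C 1)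
      (by
        rw [show (Polynomial.X ^ 2 - Polynomial.C (φ t) * Polynomial.X + Polynomial.C 1 : Polynomial K) =
          Polynomial.C 1 * Polynomial.X ^ 2 + Polynomial.C (-φ t) * Polynomial.X + Polynomial.C 1 by
            simp only [map_one, map_neg]; ring, Polynomial.degree_quadratic one_ne_zero]
        decide)
    exact ⟨l, by simpa [pow_two] using hl⟩
  have hne : (φ t - 2 * l) ≠ 0 := by
    intro h
    apply ht
    apply φ.injective
    rw [map_pow, map_ofNat]
    linear_combination (φ t - 2 * l) * h - (4 : K) * hl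
  -- eigenvalue character
  let C := Subgroup.centralizer ({z} : Set SL(2, F))
  have hC : ∀ g : C, ∃ a b : F, (g.1).1 = a • (1 : Matrix (Fin 2) (Fin 2) F) + b • z.1 := fun g ↦
    exists_eq_smul_one_add_of_commute hz (Subgroup.mem_centralizer_singleton_iff.1 g.2)
  choose fa fb hfab using hC
  have uniq : ∀ (g : C) (a b : F), (g.1).1 = a • (1 : Matrix (Fin 2) (Fin 2) F) + b • z.1 →
      a = fa g ∧ b = fb g := by
    intro g a b hg
    have h := (hfab g).symm.trans hg
    have h00 := congr_fun₂ h 0 0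
    have h01 := congr_fun₂ h 0 1
    have h10 := congr_fun₂ h 1 0
    have h11 := congr_fun₂ h 1 1
    simp at h00 h01 h10 h11
    have hbb : fb g = b := by
      rcases hz with h | h | h
      · exact h01.resolve_right h
      · exact h10.resolve_right h
      · refine mul_right_cancel₀ (sub_ne_zero.2 h) ?_
        linear_combination h00 - h11
    exact ⟨by linear_combination -h00 + z.1 0 0 * hbb, hbb.symm⟩
  have hzz : z.1 * z.1 = t • z.1 - 1 := by
    ext i j
    fin_cases i <;> fin_cases j <;>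
      simp [mul_apply, Fin.sum_univ_two, t] <;>
      first | ring1 | linear_combination hdet | linear_combination -hdet
  let f : C →* K :=
    { toFun := fun g ↦ φ (fa g) + φ (fb g) * l
      map_one' := by
        obtain ⟨h1, h2⟩ := uniq 1 1 0 (by simp)
        rw [← h1, ← h2]; simp
      map_mul' := fun g h ↦ by
        obtain ⟨h1, h2⟩ := uniq (g * h) (fa g * fa h - fb g * fb h)
          (fa g * fb h + fb g * fa h + t * (fb g * fb h)) (by
            change (g.1).1 * (h.1).1 = _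
            rw [hfab g, hfab h]
            simp only [add_mul, mul_add, smul_mul_assoc, mul_smul_comm, one_mul, mul_one, hzz]
            module)
        rw [← h1, ← h2]
        simp only [map_add, map_sub, map_mul]
        linear_combination (-(φ (fb g) * φ (fb h))) * hl }
  refine isCyclic_of_injective_ringHom f fun g h hgh ↦ ?_
  have hone : ∀ g : C, f g = 1 → g = 1 := by
    intro g hg
    have hN : fa g * fa g + fa g * fb g * t + fb g * fb g = 1 := by
      have h1 := SL2_det_eq g.1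
      rw [hfab g] at h1
      simp at h1
      linear_combination h1 - fb g * fb g * hdet
    have hN' := congrArg φ hN
    simp only [map_add, map_mul, map_one] at hN'
    change φ (fa g) + φ (fb g) * l = 1 at hg
    have hb : φ (fb g) * (φ t - 2 * l) = 0 := by
      linear_combination hN' + (-(φ (fa g)) - φ (fb g) * (φ t - l) - 1) * hg -
        φ (fb g) * φ (fb g) * hl
    have hb0 : fb g = 0 := φ.injective (by simpa [hne] using hb)
    have ha1 : fa g = 1 := φ.injective (by simpa [hb0] using hg)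
    refine Subtype.ext (Subtype.ext ?_)
    rw [hfab g, hb0, ha1]
    simp
  exact inv_mul_eq_one.1 (hone (g⁻¹ * h) (by rw [map_mul, ← hgh, ← map_mul, inv_mul_cancel, map_one]))

theorem isCyclic_sylow_SL2 [Fintype F] (p : ℕ) [hp : Fact p.Prime] [CharP F p] (r : ℕ)
    [hr : Fact r.Prime] (hr2 : r ≠ 2) (hrp : r ≠ p) (R : Sylow r SL(2, F)) :
    IsCyclic (R : Subgroup SL(2, F)) := by
  rcases subsingleton_or_nontrivial (R : Subgroup SL(2, F)) with h | h
  · infer_instance
  have := IsPGroup.center_nontrivial R.isPGroup'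
  obtain ⟨⟨z, hzc⟩, hz1⟩ := exists_ne (1 : Subgroup.center (R : Subgroup SL(2, F)))
  have hz1' : (z.1 : SL(2, F)) ≠ 1 := fun e ↦ hz1 (Subtype.ext (Subtype.ext e))
  have hR : (R : Subgroup SL(2, F)) ≤ Subgroup.centralizer ({z.1} : Set SL(2, F)) := fun g hg ↦
    Subgroup.mem_centralizer_singleton_iff.2
      (congrArg Subtype.val (Subgroup.mem_center_iff.1 hzc ⟨g, hg⟩))
  obtain ⟨k, hk⟩ := R.isPGroup' z
  have hk' : (z.1 : SL(2, F)) ^ r ^ k = 1 := by
    rw [← Subgroup.coe_pow, hk, Subgroup.coe_one]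
  have ht : ((z.1).1 0 0 + (z.1).1 1 1) ^ 2 ≠ 4 := by
    intro ht
    have hd := SL2_det_eq z.1
    -- `u` is `±1` with `(z - u)² = 0`
    obtain ⟨u, hu, hu2⟩ : ∃ u : F, u * u = 1 ∧ (z.1).1 0 0 + (z.1).1 1 1 = 2 * u := by
      by_cases h2 : (2 : F) = 0
      · refine ⟨1, one_mul 1, ?_⟩
        have : ((z.1).1 0 0 + (z.1).1 1 1) ^ 2 = 0 := by
          rw [ht]; linear_combination (2 : F) * h2
        rw [pow_eq_zero_iff two_ne_zero] at this
        rw [this, h2, zero_mul]
      · refine ⟨((z.1).1 0 0 + (z.1).1 1 1) / 2, ?_, by field_simp⟩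
        field_simp
        linear_combination ht
    have hsq : ((z.1).1 - u • 1) * ((z.1).1 - u • 1) = 0 := by
      ext i j
      fin_cases i <;> fin_cases j <;>
        simp [mul_apply, Fin.sum_univ_two] <;> grind
    have hsq2 : ((z.1).1 - u • 1) ^ 2 = 0 := by rw [pow_two, hsq]
    have hcomm : Commute ((z.1).1 - u • 1) (u • (1 : Matrix (Fin 2) (Fin 2) F)) :=
      Commute.smul_right (Commute.one_right _) u
    have hp2 : 2 ≤ p := hp.out.two_le
    have hchar : CharP (Matrix (Fin 2) (Fin 2) F) p := inferInstance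
    have hzp : (z.1).1 ^ p = u ^ p • (1 : Matrix (Fin 2) (Fin 2) F) := by
      have h := add_pow_char_of_commute p hcomm
      rw [sub_add_cancel, smul_pow, one_pow] at h
      rw [h, pow_eq_zero_of_le hp2 hsq2, zero_add]
    have hz2p : (z.1 : SL(2, F)) ^ (2 * p) = 1 := by
      refine Subtype.ext ?_
      change (z.1).1 ^ (2 * p) = (1 : Matrix (Fin 2) (Fin 2) F)
      rw [mul_comm, pow_mul, hzp, smul_pow, one_pow, ← pow_mul, mul_comm, pow_mul, pow_two, hu,
        one_pow, one_smul]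
    have hcop : Nat.Coprime (r ^ k) (2 * p) :=
      Nat.Coprime.pow_left _ (Nat.Coprime.mul_right ((Nat.coprime_primes hr.out Nat.prime_two).2 hr2)
        ((Nat.coprime_primes hr.out hp.out).2 hrp))
    have h1 := orderOf_dvd_of_pow_eq_one hk'
    have h2 := orderOf_dvd_of_pow_eq_one hz2p
    exact hz1' (orderOf_eq_one_iff.1 (Nat.eq_one_of_dvd_coprimes hcop h1 h2))
  have := isCyclic_centralizer_SL2 ht
  exact isCyclic_of_injective (Subgroup.inclusion hR) (Subgroup.inclusion_injective hR)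

theorem SL2_sylow_map [Fintype F] (p : ℕ) [hp : Fact p.Prime] [CharP F p] (P : Sylow p SL(2, F)) :
    ∃ P' : Sylow p (GL (Fin 2) F),
      (P' : Subgroup (GL (Fin 2) F)) = (P : Subgroup SL(2, F)).map SpecialLinearGroup.toGL := by
  obtain ⟨P', hP'⟩ := (P.isPGroup'.map SpecialLinearGroup.toGL).exists_le_sylow
  refine ⟨P', le_antisymm ?_ hP'⟩
  intro x hx
  obtain ⟨y, rfl⟩ : x ∈ (SpecialLinearGroup.toGL : SL(2, F) →* GL (Fin 2) F).range :=
    range_toGL_eq_ker_det.ge (sylow_gl2_det p P' hx)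
  refine Subgroup.mem_map_of_mem _ ?_
  have hle : (P : Subgroup SL(2, F)) ≤ (P' : Subgroup (GL (Fin 2) F)).comap SpecialLinearGroup.toGL :=
    fun z hz ↦ hP' (Subgroup.mem_map_of_mem _ hz)
  have hpg : IsPGroup p ((P' : Subgroup (GL (Fin 2) F)).comap SpecialLinearGroup.toGL) :=
    P'.isPGroup'.comap_of_injective _ SpecialLinearGroup.toGL_injective
  exact (P.is_maximal' hpg hle).le hx

/-- Two distinct Sylow p-subgroups generate `SL₂(q)`. -/
theorem sylow_sup_eq_top_SL2 [Fintype F] (p : ℕ) [hp : Fact p.Prime] [CharP F p]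
    (P Q : Sylow p SL(2, F)) (h : P ≠ Q) :
    (P : Subgroup SL(2, F)) ⊔ (Q : Subgroup SL(2, F)) = ⊤ := by
  let S := (P : Subgroup SL(2, F)) ⊔ (Q : Subgroup SL(2, F))
  obtain ⟨P', hP'⟩ := SL2_sylow_map p P
  obtain ⟨Q', hQ'⟩ := SL2_sylow_map p Q
  obtain ⟨g, hg⟩ := exists_conj_gl2U p P'
  obtain ⟨k, hk⟩ := exists_conj_gl2U p Q'
  have hb : g⁻¹ * k ∉ gl2Borel F := by
    intro hb
    rw [← normalizer_gl2U, Subgroup.mem_normalizer_iff] at hb
    apply h
    refine Sylow.ext (Subgroup.map_injective SpecialLinearGroup.toGL_injective ?_)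
    rw [← hP', ← hQ', hg, hk]
    ext x
    rw [conj_mem_gl2U, conj_mem_gl2U, hb (k⁻¹ * x * k)]
    exact iff_of_eq (congrArg (· ∈ gl2U F) (by group))
  rw [mem_gl2Borel_iff] at hb
  set M := g⁻¹ * k with hM
  let u : GL (Fin 2) F :=
    gl2Tri 1 1 ((M : Matrix (Fin 2) (Fin 2) F) 0 0 / (M : Matrix (Fin 2) (Fin 2) F) 1 0)
  let w : GL (Fin 2) F := GeneralLinearGroup.mkOfDetNeZero !![0, 1; 1, 0] (by simp [det_fin_two_of])
  obtain ⟨b, hbB, hkb⟩ : ∃ b ∈ gl2Borel F, k = g * u * w * b := by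
    refine ⟨w⁻¹ * u⁻¹ * M, ?_, by rw [hM]; group⟩
    have hw : w⁻¹ = w := by
      rw [inv_eq_iff_mul_eq_one]
      ext i j; fin_cases i <;> fin_cases j <;> simp [w]
    rw [mem_gl2Borel_iff, hw]
    simp [w, u, gl2Tri_inv, gl2Tri_val, mul_apply, Fin.sum_univ_two]
    field_simp
    ring
  -- both standard root groups, conjugated by `g * u`, lie in the image of the join
  have hU : ∀ t : F, g * u * gl2Tri 1 1 t * (g * u)⁻¹ ∈ S.map SpecialLinearGroup.toGL := by
    intro t
    apply Subgroup.map_mono (le_sup_left (a := (P : Subgroup SL(2, F))))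
    rw [← hP', hg, conj_mem_gl2U]
    refine ⟨t, ?_⟩
    have : u * gl2Tri 1 1 t * u⁻¹ = gl2Tri 1 1 t := by
      simp [u, gl2Tri_inv, gl2Tri_mul]
    change gl2Tri 1 1 t = _
    conv_lhs => rw [← this]
    group
  have hL : ∀ t : F, g * u * (w * gl2Tri 1 1 t * w⁻¹) * (g * u)⁻¹ ∈
      S.map SpecialLinearGroup.toGL := by
    intro t
    apply Subgroup.map_mono (le_sup_right (b := (Q : Subgroup SL(2, F))))
    rw [← hQ', hk, conj_mem_gl2U, hkb]
    have hb' : b⁻¹ ∈ Subgroup.normalizer ((gl2U F : Subgroup (GL (Fin 2) F)) : Set (GL (Fin 2) F)) :=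
      normalizer_gl2U.ge (inv_mem hbB)
    rw [show (g * u * w * b)⁻¹ * (g * u * (w * gl2Tri 1 1 t * w⁻¹) * (g * u)⁻¹) * (g * u * w * b) =
      b⁻¹ * gl2Tri 1 1 t * b⁻¹⁻¹ by group]
    exact (Subgroup.mem_normalizer_iff.1 hb' _).1 ⟨t, rfl⟩
  have hall : ∀ A : SL(2, F),
      g * u * SpecialLinearGroup.toGL A * (g * u)⁻¹ ∈ S.map SpecialLinearGroup.toGL := by
    intro A
    refine SL_transvection_induction
      (fun A ↦ g * u * SpecialLinearGroup.toGL A * (g * u)⁻¹ ∈ S.map SpecialLinearGroup.toGL) ?_ ?_ ?_ A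
    · simp only [map_one, mul_one, mul_inv_cancel]; exact one_mem _
    · intro i j hij c
      fin_cases i <;> fin_cases j <;> first | exact absurd rfl hij | skip
      · convert hU c using 3
        ext i' j'
        fin_cases i' <;> fin_cases j' <;>
          simp [gl2Tri_val, SpecialLinearGroup.transvection_coe, one_apply, single_apply]
      · convert hL c using 3
        have hw : w⁻¹ = w := by
          rw [inv_eq_iff_mul_eq_one]
          ext i j; fin_cases i <;> fin_cases j <;> simp [w]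
        rw [hw]
        ext i' j'
        fin_cases i' <;> fin_cases j' <;>
          simp [w, gl2Tri_val, SpecialLinearGroup.transvection_coe, one_apply, single_apply]
    · intro A B hA hB
      rw [map_mul, show g * u * (SpecialLinearGroup.toGL A * SpecialLinearGroup.toGL B) * (g * u)⁻¹ =
        g * u * SpecialLinearGroup.toGL A * (g * u)⁻¹ *
          (g * u * SpecialLinearGroup.toGL B * (g * u)⁻¹) by group]
      exact mul_mem hA hB
  refine (Subgroup.eq_top_iff' _).2 fun A ↦ ?_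
  -- conjugate back
  obtain ⟨A', hA'⟩ : (g * u)⁻¹ * SpecialLinearGroup.toGL A * (g * u) ∈
      (SpecialLinearGroup.toGL : SL(2, F) →* GL (Fin 2) F).range := by
    rw [range_toGL_eq_ker_det, MonoidHom.mem_ker, map_mul, map_mul, map_inv, inv_mul_cancel_comm,
      ← MonoidHom.mem_ker, ← range_toGL_eq_ker_det]
    exact ⟨A, rfl⟩
  obtain ⟨B, hB, hBA⟩ := hall A'
  rw [hA', show g * u * ((g * u)⁻¹ * SpecialLinearGroup.toGL A * (g * u)) * (g * u)⁻¹ =
    SpecialLinearGroup.toGL A by group] at hBA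
  exact SpecialLinearGroup.toGL_injective hBA ▸ hB

end CfsgLib.Linear
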