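/-
Sylow 2-subgroups of SL_2(q), q odd, are generalised quaternion.
-/
import Mathlib
import Cfsg.Agent.Lib.Linear.SL2

set_option autoImplicit false

namespace CfsgLib.Linear

open Matrix
open scoped MatrixGroups

/-- A homomorphism out of a quaternion group from a pair of elements with the defining relations. -/
theorem exists_quaternionGroup_hom {G : Type*} [Group G] (n : ℕ) [NeZero n] (x j : G)
    (hx : x ^ (2 * n) = 1) (hj : j * j = x ^ n) (hjx : j * x * j⁻¹ = x⁻¹) :
    ∃ f : QuaternionGroup n →* G,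
      (∀ i, f (.a i) = x ^ i.val) ∧ ∀ i, f (.xa i) = j * x ^ i.val := by
  have hmod : ∀ a b : ℕ, a ≡ b [MOD 2 * n] → x ^ a = x ^ b := fun a b h ↦
    pow_eq_pow_iff_modEq.2 (h.of_dvd (orderOf_dvd_of_pow_eq_one hx))
  have hadd : ∀ a b : ZMod (2 * n), x ^ (a + b).val = x ^ a.val * x ^ b.val := fun a b ↦ by
    rw [← pow_add]
    exact hmod _ _ (by rw [ZMod.val_add]; exact Nat.mod_modEq _ _)
  have hinv : ∀ a : ZMod (2 * n), x ^ (-a).val = (x ^ a.val)⁻¹ := fun a ↦ by
    refine eq_inv_of_mul_eq_one_left ?_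
    rw [← hadd, neg_add_cancel, ZMod.val_zero, pow_zero]
  have hsub : ∀ a b : ZMod (2 * n), x ^ (a - b).val = x ^ a.val * (x ^ b.val)⁻¹ := fun a b ↦ by
    rw [sub_eq_add_neg, hadd, hinv]
  have hn : x ^ (n : ZMod (2 * n)).val = x ^ n :=
    hmod _ _ (by rw [ZMod.val_natCast]; exact Nat.mod_modEq _ _)
  have hconj : ∀ k : ℕ, x ^ k * j = j * (x ^ k)⁻¹ := fun k ↦ by
    have h : (MulAut.conj j) (x ^ k) = (x ^ k)⁻¹ := by
      rw [map_pow, MulAut.conj_apply, hjx, inv_pow]
    rw [MulAut.conj_apply, mul_inv_eq_iff_eq_mul] at h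
    -- h : j * x ^ k = (x ^ k)⁻¹ * j
    calc x ^ k * j = x ^ k * j * x ^ k * (x ^ k)⁻¹ := by group
      _ = x ^ k * (j * x ^ k) * (x ^ k)⁻¹ := by group
      _ = x ^ k * ((x ^ k)⁻¹ * j) * (x ^ k)⁻¹ := by rw [h]
      _ = j * (x ^ k)⁻¹ := by group
  let f : QuaternionGroup n → G := fun q ↦
    match q with
    | .a i => x ^ i.val
    | .xa i => j * x ^ i.val
  refine ⟨MonoidHom.mk' f ?_, fun _ ↦ rfl, fun _ ↦ rfl⟩
  rintro (a | a) (b | b)
  · rw [QuaternionGroup.a_mul_a]; exact hadd a b
  · rw [QuaternionGroup.a_mul_xa]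
    change j * x ^ (b - a).val = x ^ a.val * (j * x ^ b.val)
    rw [hsub, ← mul_assoc (x ^ a.val), hconj, mul_assoc]
    congr 1
    exact ((Commute.refl x).pow_pow _ _).inv_right.eq
  · rw [QuaternionGroup.xa_mul_a]
    change j * x ^ (a + b).val = j * x ^ a.val * x ^ b.val
    rw [hadd, mul_assoc]
  · rw [QuaternionGroup.xa_mul_xa]
    change x ^ (n + b - a).val = j * x ^ a.val * (j * x ^ b.val)
    rw [hsub, hadd, hn, mul_assoc j, ← mul_assoc (x ^ a.val), hconj, mul_assoc j (x ^ a.val)⁻¹,
      ← mul_assoc j j, hj, mul_assoc]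
    congr 1
    exact ((Commute.refl x).pow_pow _ _).inv_right.eq

variable {F : Type*} [Field F]

/-- The element of order four. -/
def slW (F : Type*) [Field F] : SL(2, F) :=
  ⟨!![0, 1; -1, 0], by simp [det_fin_two_of]⟩

theorem slW_val : (slW F).1 = !![0, 1; -1, 0] := rfl

theorem slW_sq : (slW F * slW F).1 = -1 := by
  ext i j
  fin_cases i <;> fin_cases j <;> simp [SL2_mul_apply, slW_val]

theorem slW_sq_ne_one (h2 : (2 : F) ≠ 0) : slW F * slW F ≠ 1 := fun e ↦ h2 (by
  have h := SL2_entry_congr e 0 0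
  rw [slW_sq] at h
  simp at h
  linear_combination -h)

theorem centralizer_slW_form {g : SL(2, F)} (hg : g ∈ Subgroup.centralizer ({slW F} : Set SL(2, F))) :
    g.1 1 0 = -g.1 0 1 ∧ g.1 1 1 = g.1 0 0 ∧ g.1 0 0 ^ 2 + g.1 0 1 ^ 2 = 1 := by
  have h := Subgroup.mem_centralizer_singleton_iff.1 hg
  have e00 := SL2_entry_congr h 0 0
  have e01 := SL2_entry_congr h 0 1
  simp [SL2_mul_apply, slW_val] at e00 e01
  have hd := SL2_det_eq g
  have h1 : g.1 1 0 = -g.1 0 1 := by linear_combination -e00
  have h2 : g.1 1 1 = g.1 0 0 := by linear_combination -e01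
  refine ⟨h1, h2, ?_⟩
  rw [h1, h2] at hd
  linear_combination hd

/-- The rational parametrisation of the circle. -/
noncomputable def circleMap (F : Type*) [Field F] :
    {s : F // 1 + s ^ 2 ≠ 0} ⊕ Unit → {ab : F × F // ab.1 ^ 2 + ab.2 ^ 2 = 1}
  | .inl s => ⟨((1 - s.1 ^ 2) / (1 + s.1 ^ 2), 2 * s.1 / (1 + s.1 ^ 2)), by field_simp [s.2]; ring⟩
  | .inr _ => ⟨(-1, 0), by simp⟩

theorem circleMap_bijective (h2 : (2 : F) ≠ 0) : Function.Bijective (circleMap F) := by
  constructor
  · rintro (⟨s, hs⟩ | u) (⟨t, ht⟩ | v) h <;>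
      simp only [circleMap, Subtype.mk.injEq, Prod.mk.injEq] at h
    · obtain ⟨ha, hb⟩ := h
      have key : ∀ r : F, 1 + r ^ 2 ≠ 0 →
          r = 2 * r / (1 + r ^ 2) / (1 + (1 - r ^ 2) / (1 + r ^ 2)) := fun r hr ↦ by
        rw [one_add_div hr, show 1 + r ^ 2 + (1 - r ^ 2) = 2 by ring]
        field_simp
      congr
      rw [key s hs, key t ht, ha, hb]
    · obtain ⟨h, -⟩ := h
      rw [div_eq_iff hs] at h
      exact absurd (by linear_combination h : (2 : F) = 0) h2
    · obtain ⟨h, -⟩ := h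
      rw [eq_comm (a := (-1 : F)), div_eq_iff ht] at h
      exact absurd (by linear_combination h : (2 : F) = 0) h2
    · rfl
  · rintro ⟨⟨a, b⟩, hab⟩
    simp only at hab
    by_cases ha : a = -1
    · subst ha
      refine ⟨Sum.inr (), ?_⟩
      have : b = 0 := by
        have h : b ^ 2 = 0 := by linear_combination hab
        simpa using h
      subst this
      rfl
    · have ha' : 1 + a ≠ 0 := fun h ↦ ha (by linear_combination h)
      have hs : 1 + (b / (1 + a)) ^ 2 = 2 / (1 + a) := by
        field_simp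
        linear_combination hab
      refine ⟨Sum.inl ⟨b / (1 + a), by rw [hs]; exact div_ne_zero h2 ha'⟩, ?_⟩
      simp only [circleMap, Subtype.mk.injEq, Prod.mk.injEq, hs]
      constructor
      · field_simp
        linear_combination -hab
      · field_simp

theorem card_centralizer_slW [Fintype F] (h2 : (2 : F) ≠ 0) :
    Nat.card (Subgroup.centralizer ({slW F} : Set SL(2, F))) + 1 = Fintype.card F ∨
      Nat.card (Subgroup.centralizer ({slW F} : Set SL(2, F))) = Fintype.card F + 1 := by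
  classical
  have hq4 : Fintype.card F % 2 = 1 := FiniteField.odd_card_of_char_ne_two fun hc ↦ h2 (by
    have := ringChar.Nat.cast_ringChar (R := F)
    rw [hc] at this
    exact_mod_cast this)
  set S := {ab : F × F // ab.1 ^ 2 + ab.2 ^ 2 = 1}
  have e : Subgroup.centralizer ({slW F} : Set SL(2, F)) ≃ S :=
    { toFun := fun g ↦ ⟨((g.1).1 0 0, (g.1).1 0 1), (centralizer_slW_form g.2).2.2⟩
      invFun := fun ab ↦ ⟨⟨!![ab.1.1, ab.1.2; -ab.1.2, ab.1.1], by
          rw [det_fin_two_of]; linear_combination ab.2⟩, by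
        refine Subgroup.mem_centralizer_singleton_iff.2 (Subtype.ext ?_)
        change !![ab.1.1, ab.1.2; -ab.1.2, ab.1.1] * (slW F).1 = (slW F).1 * !![ab.1.1, ab.1.2; -ab.1.2, ab.1.1]
        rw [slW_val]
        ext i j
        fin_cases i <;> fin_cases j <;> simp⟩
      left_inv := fun g ↦ by
        obtain ⟨h1, h2, -⟩ := centralizer_slW_form g.2
        refine Subtype.ext (Subtype.ext ?_)
        ext i j
        fin_cases i <;> fin_cases j <;> simp [h1, h2]
      right_inv := fun ab ↦ by simp }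
  have hS : Nat.card (Subgroup.centralizer ({slW F} : Set SL(2, F))) =
      Fintype.card {s : F // 1 + s ^ 2 ≠ 0} + 1 := by
    rw [Nat.card_congr e, ← Nat.card_eq_of_bijective _ (circleMap_bijective h2), Nat.card_sum,
      Nat.card_unique (α := Unit), Nat.card_eq_fintype_card]
  rw [hS, Fintype.card_subtype_compl]
  have hle := Fintype.card_subtype_le fun s : F ↦ 1 + s ^ 2 = 0
  by_cases hsq : IsSquare (-1 : F)
  · obtain ⟨i, hi⟩ := hsq
    have h : Fintype.card {s : F // 1 + s ^ 2 = 0} = 2 := by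
      have hset : (Finset.univ.filter fun s : F ↦ 1 + s ^ 2 = 0) = {i, -i} := by
        ext s
        simp only [Finset.mem_filter, Finset.mem_univ, true_and, Finset.mem_insert, Finset.mem_singleton]
        constructor
        · intro hs
          exact sq_eq_sq_iff_eq_or_eq_neg.1 (by linear_combination hs + hi)
        · rintro (rfl | rfl) <;> linear_combination -hi
      rw [Fintype.card_subtype, hset, Finset.card_pair]
      intro hii
      have : (2 : F) * i = 0 := by linear_combination hii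
      rcases mul_eq_zero.1 this with h | h
      · exact h2 h
      · rw [h, mul_zero] at hi
        exact one_ne_zero (neg_eq_zero.1 hi)
    left
    omega
  · have h : Fintype.card {s : F // 1 + s ^ 2 = 0} = 0 := by
      rw [Fintype.card_eq_zero_iff]
      exact ⟨fun s ↦ hsq ⟨s.1, by linear_combination -s.2⟩⟩
    right
    omega

theorem exists_sq_add_sq_eq_neg_one [Fintype F] (h2 : (2 : F) ≠ 0) : ∃ a b : F, a ^ 2 + b ^ 2 = -1 := by
  open Polynomial in
  obtain ⟨a, b, h⟩ := FiniteField.exists_root_sum_quadratic (R := F) (f := X ^ 2)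
    (g := X ^ 2 - C (-1)) (degree_X_pow 2) (degree_X_pow_sub_C two_pos _)
    (FiniteField.odd_card_of_char_ne_two fun hc ↦ h2 (by
      have := ringChar.Nat.cast_ringChar (R := F)
      rw [hc] at this
      exact_mod_cast this))
  simp at h
  exact ⟨a, b, by linear_combination h⟩

theorem sylow_two_SL2_quaternion [Fintype F] (hF : Odd (Fintype.card F))
    (P : Sylow 2 SL(2, F)) :
    ∃ k : ℕ, 1 ≤ k ∧ Nonempty ((P : Subgroup SL(2, F)) ≃* QuaternionGroup (2 ^ k)) := by
  have h2 := two_ne_zero_of_odd_card hF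
  set q := Fintype.card F with hq
  set C := Subgroup.centralizer ({slW F} : Set SL(2, F)) with hC
  have hcyc : IsCyclic C := isCyclic_centralizer_SL2 (by
    intro h
    simp [slW_val] at h
    exact h2 (by
      have : (2 : F) * 2 = 0 := by linear_combination -h
      simpa using this))
  set K := (Nat.card C).factorization 2 with hK
  obtain ⟨r, hcard, hr⟩ : ∃ r, Nat.card C * 2 * r = Nat.card SL(2, F) ∧ ¬ 2 ∣ r := by
    obtain ⟨t, ht⟩ := hF
    have hcase := card_centralizer_slW (F := F) h2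
    rw [← hC] at hcase
    rw [card_SL_two, ← hq, ht,
      show (2 * t + 1) ^ 2 - 1 = 2 * (2 * (t * (t + 1))) by
        rw [show (2 * t + 1) ^ 2 = 2 * (2 * (t * (t + 1))) + 1 by ring, Nat.add_sub_cancel]]
    rw [← hq, ht] at hcase
    rcases hcase with hc | hc
    · -- q - 1 = |C|; the other factor is q + 1 with t + 1 odd
      rw [show Nat.card C = 2 * t by omega]
      have hev : Even t := by
        obtain ⟨c, hc'⟩ : 4 ∣ Nat.card C := by
          have hw : slW F ∈ C := Subgroup.mem_centralizer_singleton_iff.2 rfl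
          have ho : orderOf (⟨slW F, hw⟩ : C) = 2 ^ 2 := by
            rw [← Subgroup.orderOf_coe]
            refine orderOf_eq_prime_pow (p := 2) (n := 1) ?_ ?_
            · rw [pow_one, pow_two]; exact slW_sq_ne_one h2
            · refine Subtype.ext ?_
              change (slW F).1 ^ (2 ^ 2) = 1
              rw [show (2 : ℕ) ^ 2 = 2 * 2 from rfl, pow_mul, pow_two (slW F).1,
                show (slW F).1 * (slW F).1 = -1 from slW_sq, pow_two, neg_mul_neg, one_mul]
          have := orderOf_dvd_natCard (⟨slW F, hw⟩ : C)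
          rwa [ho] at this
        exact ⟨c, by omega⟩
      exact ⟨(2 * t + 1) * (t + 1), by ring, by
        rw [Nat.prime_two.dvd_mul]; obtain ⟨c, rfl⟩ := hev; omega⟩
    · rw [show Nat.card C = 2 * (t + 1) by omega]
      have hod : ¬ 2 ∣ t := by
        intro hdvd
        obtain ⟨c, hc'⟩ : 4 ∣ Nat.card C := by
          have hw : slW F ∈ C := Subgroup.mem_centralizer_singleton_iff.2 rfl
          have ho : orderOf (⟨slW F, hw⟩ : C) = 2 ^ 2 := by
            rw [← Subgroup.orderOf_coe]
            refine orderOf_eq_prime_pow (p := 2) (n := 1) ?_ ?_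
            · rw [pow_one, pow_two]; exact slW_sq_ne_one h2
            · refine Subtype.ext ?_
              change (slW F).1 ^ (2 ^ 2) = 1
              rw [show (2 : ℕ) ^ 2 = 2 * 2 from rfl, pow_mul, pow_two (slW F).1,
                show (slW F).1 * (slW F).1 = -1 from slW_sq, pow_two, neg_mul_neg, one_mul]
          have := orderOf_dvd_natCard (⟨slW F, hw⟩ : C)
          rwa [ho] at this
        omega
      exact ⟨(2 * t + 1) * t, by ring, by rw [Nat.prime_two.dvd_mul]; omega⟩
  have hC0 : Nat.card C ≠ 0 := Nat.card_pos.ne'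
  have hw : slW F ∈ C := Subgroup.mem_centralizer_singleton_iff.2 rfl
  have h4 : 4 ∣ Nat.card C := by
    have ho : orderOf (⟨slW F, hw⟩ : C) = 2 ^ 2 := by
      rw [← Subgroup.orderOf_coe]
      refine orderOf_eq_prime_pow (p := 2) (n := 1) ?_ ?_
      · rw [pow_one, pow_two]; exact slW_sq_ne_one h2
      · refine Subtype.ext ?_
        change (slW F).1 ^ (2 ^ 2) = 1
        rw [show (2 : ℕ) ^ 2 = 2 * 2 from rfl, pow_mul, pow_two (slW F).1,
          show (slW F).1 * (slW F).1 = -1 from slW_sq, pow_two, neg_mul_neg, one_mul]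
    have := orderOf_dvd_natCard (⟨slW F, hw⟩ : C)
    rwa [ho] at this
  have hK2 : 2 ≤ K := (Nat.Prime.pow_dvd_iff_le_factorization Nat.prime_two hC0).1 h4
  obtain ⟨m, hm⟩ : 2 ^ K ∣ Nat.card C := Nat.ordProj_dvd _ _
  obtain ⟨c, hc⟩ := hcyc.exists_ofOrder_eq_natCard
  set x : SL(2, F) := ((c ^ m : C) : SL(2, F)) with hxdef
  have hm0 : m ≠ 0 := by rintro rfl; exact hC0 (by rw [hm, mul_zero])
  have hox : orderOf x = 2 ^ K := by
    rw [hxdef, Subgroup.orderOf_coe, orderOf_pow' c hm0, hc, hm,
      Nat.gcd_eq_right (Dvd.intro_left _ rfl), Nat.mul_div_cancel _ (Nat.pos_of_ne_zero hm0)]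
  set n := 2 ^ (K - 1) with hn
  have h2n : 2 * n = 2 ^ K := by rw [hn, ← pow_succ', Nat.sub_add_cancel (by omega)]
  have hn0 : NeZero n := ⟨by positivity⟩
  obtain ⟨a, b, hab⟩ := exists_sq_add_sq_eq_neg_one (F := F) h2
  let j : SL(2, F) := ⟨!![a, b; b, -a], by rw [det_fin_two_of]; linear_combination -hab⟩
  have hjv : j.1 = !![a, b; b, -a] := rfl
  have hxC : x ∈ C := (c ^ m).2
  have hjx : j * x * j⁻¹ = x⁻¹ := by
    obtain ⟨e1, e2, e3⟩ := centralizer_slW_form hxC
    have key : x * (j * x) = j := by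
      refine Subtype.ext ?_
      change x.1 * (j.1 * x.1) = j.1
      have hxv : x.1 = !![x.1 0 0, x.1 0 1; -x.1 0 1, x.1 0 0] := by
        ext i k
        fin_cases i <;> fin_cases k <;> simp [e1, e2]
      rw [hjv, hxv]
      generalize x.1 0 0 = u, x.1 0 1 = v at e3 ⊢
      ext i k
      fin_cases i <;> fin_cases k <;> simp [mul_apply, Fin.sum_univ_two] <;>
        first
          | linear_combination a * e3
          | linear_combination b * e3
          | linear_combination -a * e3
          | linear_combination -b * e3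
    calc j * x * j⁻¹ = x⁻¹ * (x * (j * x)) * j⁻¹ := by group
      _ = x⁻¹ * j * j⁻¹ := by rw [key]
      _ = x⁻¹ := by group
  have hxn : (x ^ n).1 = -1 := by
    refine (SL2_eq_one_or_neg_one_of_sq_eq_one h2 (x ^ n) ?_).resolve_left fun h ↦ ?_
    · rw [← pow_add, ← two_mul, h2n, ← hox, pow_orderOf_eq_one]
    · have hd := orderOf_dvd_of_pow_eq_one (show x ^ n = 1 from Subtype.ext h)
      rw [hox, hn] at hd
      have := (Nat.pow_dvd_pow_iff_le_right (by norm_num)).1 hd
      omega
  have hjj : j * j = x ^ n := by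
    refine Subtype.ext ?_
    change j.1 * j.1 = _
    rw [hxn, hjv]
    ext i k
    fin_cases i <;> fin_cases k <;> simp <;>
      first | ring1 | linear_combination hab
  obtain ⟨f, hfa, hfx⟩ := exists_quaternionGroup_hom n x j (by rw [h2n, ← hox, pow_orderOf_eq_one]) hjj hjx
  have hinj : Function.Injective f := by
    rw [injective_iff_map_eq_one]
    rintro (i | i) h
    · rw [hfa] at h
      have hd := orderOf_dvd_of_pow_eq_one h
      rw [hox, ← h2n] at hd
      have := Nat.eq_zero_of_dvd_of_lt hd (ZMod.val_lt i)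
      rw [QuaternionGroup.one_def, (ZMod.val_eq_zero i).1 this]
    · rw [hfx] at h
      have hjC : j ∈ C := by
        rw [eq_inv_of_mul_eq_one_left h]
        exact inv_mem (pow_mem hxC _)
      have hcomm : j * x = x * j := by
        have := hcyc.isMulCommutative.is_comm.comm (⟨j, hjC⟩ : C) ⟨x, hxC⟩
        exact congrArg Subtype.val this
      rw [hcomm, mul_inv_cancel_right] at hjx
      have : x ^ 2 = 1 := by rw [pow_two]; nth_rw 1 [hjx]; exact inv_mul_cancel x
      have hd := orderOf_dvd_of_pow_eq_one this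
      rw [hox] at hd
      have := Nat.le_of_dvd two_pos hd
      have : 2 ^ 2 ≤ 2 ^ K := Nat.pow_le_pow_right two_pos hK2
      omega
  have hsplit : Nat.card SL(2, F) = 2 ^ (K + 1) * (m * r) := by
    rw [← hcard, hm, pow_succ]; ring
  have hmodd : ¬ 2 ∣ m := by
    intro hd
    obtain ⟨m', rfl⟩ := hd
    have : 2 ^ (K + 1) ∣ Nat.card C := ⟨m', by rw [hm, pow_succ]; ring⟩
    have := (Nat.Prime.pow_dvd_iff_le_factorization Nat.prime_two hC0).1 this
    omega
  have hfact : (Nat.card SL(2, F)).factorization 2 = K + 1 := by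
    refine Nat.pow_right_injective le_rfl ?_
    change 2 ^ _ = 2 ^ _
    rw [← P.card_eq_multiplicity]
    exact card_sylow_of_card_eq hsplit (by rw [Nat.prime_two.dvd_mul]; exact not_or.2 ⟨hmodd, hr⟩) P
  let Q : Sylow 2 SL(2, F) := Sylow.ofCard f.range (by
    rw [Nat.card_congr (MonoidHom.ofInjective hinj).toEquiv.symm, hfact, Nat.card_eq_fintype_card,
      QuaternionGroup.card, show 4 * n = 2 * (2 * n) by ring, h2n, pow_succ'])
  exact ⟨K - 1, by omega, ⟨(P.equiv Q).trans (MonoidHom.ofInjective hinj).symm⟩⟩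

end CfsgLib.Linear
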