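/-
The symplectic group: transvections, transitivity, generation, centre.
-/
import Mathlib
import Cfsg.Prelude.Def_ClassicalGeometry

set_option autoImplicit false

namespace CfsgLib.Linear.Symp

open Matrix Cfsg

variable {F : Type*} [Field F] {m : ℕ}

theorem sympForm_eq_sum (u v : Fin m ⊕ Fin m → F) :
    sympForm m F u v = ∑ i, (u (.inr i) * v (.inl i) - u (.inl i) * v (.inr i)) := by
  rw [Finset.sum_sub_distrib]
  simp [sympForm, J, dotProduct, Fintype.sum_sum_type, fromBlocks_mulVec, mulVec_neg, neg_mulVec]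
  ring

theorem form_add_left (u u' v : Fin m ⊕ Fin m → F) :
    sympForm m F (u + u') v = sympForm m F u v + sympForm m F u' v := add_dotProduct _ _ _

theorem form_add_right (u v v' : Fin m ⊕ Fin m → F) :
    sympForm m F u (v + v') = sympForm m F u v + sympForm m F u v' := by
  simp [sympForm, mulVec_add, dotProduct_add]

theorem form_smul_left (a : F) (u v : Fin m ⊕ Fin m → F) :
    sympForm m F (a • u) v = a * sympForm m F u v := by
  simp [sympForm, smul_dotProduct]

theorem form_smul_right (a : F) (u v : Fin m ⊕ Fin m → F) :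
    sympForm m F u (a • v) = a * sympForm m F u v := by
  simp [sympForm, mulVec_smul, dotProduct_smul]

theorem form_self (v : Fin m ⊕ Fin m → F) : sympForm m F v v = 0 := by
  rw [sympForm_eq_sum]
  exact Finset.sum_eq_zero fun i _ ↦ by ring

theorem form_swap (u v : Fin m ⊕ Fin m → F) : sympForm m F v u = -sympForm m F u v := by
  rw [sympForm_eq_sum, sympForm_eq_sum, ← Finset.sum_neg_distrib]
  exact Finset.sum_congr rfl fun i _ ↦ by ring

theorem form_neg_left (u v : Fin m ⊕ Fin m → F) :
    sympForm m F (-u) v = -sympForm m F u v := neg_dotProduct _ _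

theorem form_neg_right (u v : Fin m ⊕ Fin m → F) :
    sympForm m F u (-v) = -sympForm m F u v := by
  rw [form_swap, form_neg_left, neg_neg, form_swap]

theorem form_sub_left (u u' v : Fin m ⊕ Fin m → F) :
    sympForm m F (u - u') v = sympForm m F u v - sympForm m F u' v := sub_dotProduct _ _ _

theorem form_sub_right (u v v' : Fin m ⊕ Fin m → F) :
    sympForm m F u (v - v') = sympForm m F u v - sympForm m F u v' := by
  simp [sympForm, mulVec_sub, dotProduct_sub]

theorem form_zero_left (v : Fin m ⊕ Fin m → F) : sympForm m F 0 v = 0 := zero_dotProduct _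

theorem form_zero_right (v : Fin m ⊕ Fin m → F) : sympForm m F v 0 = 0 := by
  simp [sympForm]

theorem form_single_inl (u : Fin m ⊕ Fin m → F) (j : Fin m) :
    sympForm m F u (Pi.single (.inl j) 1) = u (.inr j) := by
  rw [sympForm_eq_sum]
  simp [Pi.single_apply]

theorem form_single_inr (u : Fin m ⊕ Fin m → F) (j : Fin m) :
    sympForm m F u (Pi.single (.inr j) 1) = -u (.inl j) := by
  rw [sympForm_eq_sum]
  simp [Pi.single_apply]

theorem exists_form_ne_zero {u : Fin m ⊕ Fin m → F} (hu : u ≠ 0) :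
    ∃ w, sympForm m F u w ≠ 0 := by
  obtain ⟨i | i, hi⟩ := Function.ne_iff.1 hu
  · exact ⟨Pi.single (.inr i) 1, by simpa [form_single_inr] using hi⟩
  · exact ⟨Pi.single (.inl i) 1, by simpa [form_single_inl] using hi⟩

theorem eq_zero_of_forall_form {u : Fin m ⊕ Fin m → F} (h : ∀ w, sympForm m F u w = 0) :
    u = 0 := by
  by_contra hu
  obtain ⟨w, hw⟩ := exists_form_ne_zero hu
  exact hw (h w)

theorem smul_def (g : symplecticGroup (Fin m) F) (v : Fin m ⊕ Fin m → F) : g • v = g.1 *ᵥ v :=
  rfl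

theorem form_mulVec {A : Matrix (Fin m ⊕ Fin m) (Fin m ⊕ Fin m) F}
    (hA : A ∈ symplecticGroup (Fin m) F) (u v : Fin m ⊕ Fin m → F) :
    sympForm m F (A *ᵥ u) (A *ᵥ v) = sympForm m F u v := by
  have h : Aᵀ * J (Fin m) F * A = J (Fin m) F := SymplecticGroup.mem_iff'.1 hA
  unfold sympForm
  conv_rhs => rw [← h]
  rw [← mulVec_mulVec, ← mulVec_mulVec, dotProduct_mulVec u Aᵀ, vecMul_transpose]

theorem form_smul_smul (g : symplecticGroup (Fin m) F) (u v : Fin m ⊕ Fin m → F) :
    sympForm m F (g • u) (g • v) = sympForm m F u v := form_mulVec g.2 u v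

theorem mem_of_form_mulVec {A : Matrix (Fin m ⊕ Fin m) (Fin m ⊕ Fin m) F}
    (hA : ∀ u v, sympForm m F (A *ᵥ u) (A *ᵥ v) = sympForm m F u v) :
    A ∈ symplecticGroup (Fin m) F := by
  rw [SymplecticGroup.mem_iff']
  ext i j
  have key : ∀ (M : Matrix (Fin m ⊕ Fin m) (Fin m ⊕ Fin m) F),
      Pi.single i (1 : F) ⬝ᵥ (M *ᵥ Pi.single j 1) = M i j := fun M ↦ by
    simp [single_dotProduct]
  have := hA (Pi.single i 1) (Pi.single j 1)
  unfold sympForm at this
  rwa [key, ← vecMul_transpose A, ← dotProduct_mulVec, mulVec_mulVec, mulVec_mulVec, key] at this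

theorem transvection_mulVec (v x : Fin m ⊕ Fin m → F) (c : F) :
    sympTransvection m v c *ᵥ x = x + (c * sympForm m F x v) • v := by
  rw [sympTransvection, add_mulVec, one_mulVec, smul_mulVec, vecMulVec_mulVec, op_smul_eq_smul,
    smul_smul, sympForm, dotProduct_comm x]

theorem transvection_mem (v : Fin m ⊕ Fin m → F) (c : F) :
    sympTransvection m v c ∈ symplecticGroup (Fin m) F := by
  refine mem_of_form_mulVec fun x y ↦ ?_
  simp only [transvection_mulVec, form_add_left, form_add_right, form_smul_left, form_smul_right,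
    form_self]
  rw [form_swap y v]
  ring

/-- The symplectic transvection `x ↦ x + c f(x,v) v` as an element of the symplectic group. -/
def tv (v : Fin m ⊕ Fin m → F) (c : F) : symplecticGroup (Fin m) F :=
  ⟨sympTransvection m v c, transvection_mem v c⟩

theorem tv_smul (v x : Fin m ⊕ Fin m → F) (c : F) :
    tv v c • x = x + (c * sympForm m F x v) • v := transvection_mulVec v x c

theorem group_ext {g h : symplecticGroup (Fin m) F}
    (H : ∀ x : Fin m ⊕ Fin m → F, g • x = h • x) : g = h :=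
  Subtype.ext (ext_of_mulVec_single fun i ↦ H (Pi.single i 1))

theorem tv_add (v : Fin m ⊕ Fin m → F) (c d : F) : tv v c * tv v d = tv v (c + d) := by
  refine group_ext fun x ↦ ?_
  simp only [mul_smul, tv_smul, form_add_left, form_smul_left, form_self, mul_zero, add_zero]
  module

theorem tv_zero (v : Fin m ⊕ Fin m → F) : tv v 0 = 1 := by
  refine group_ext fun x ↦ ?_
  simp [tv_smul]

theorem tv_inv (v : Fin m ⊕ Fin m → F) (c : F) : (tv v c)⁻¹ = tv v (-c) := by
  rw [inv_eq_iff_mul_eq_one, tv_add, add_neg_cancel, tv_zero]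

theorem tv_pow (v : Fin m ⊕ Fin m → F) (c : F) (k : ℕ) : tv v c ^ k = tv v (k * c) := by
  induction k with
  | zero => simp [tv_zero]
  | succ k ih => rw [pow_succ, ih, tv_add]; push_cast; ring_nf

theorem tv_smul_vec (a : F) (v : Fin m ⊕ Fin m → F) (c : F) :
    tv (a • v) c = tv v (a * a * c) := by
  refine group_ext fun x ↦ ?_
  simp only [tv_smul, form_smul_right]
  module

theorem tv_conj (g : symplecticGroup (Fin m) F) (v : Fin m ⊕ Fin m → F) (c : F) :
    g * tv v c * g⁻¹ = tv (g • v) c := by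
  refine group_ext fun x ↦ ?_
  obtain ⟨y, rfl⟩ : ∃ y, g • y = x := ⟨g⁻¹ • x, smul_inv_smul g x⟩
  rw [mul_smul, mul_smul, inv_smul_smul, tv_smul, tv_smul, form_smul_smul, smul_add, smul_comm]

theorem tv_commute {u v : Fin m ⊕ Fin m → F} (h : sympForm m F u v = 0) (c d : F) :
    tv u c * tv v d = tv v d * tv u c := by
  have h' : sympForm m F v u = 0 := by rw [form_swap, h, neg_zero]
  refine group_ext fun x ↦ ?_
  simp only [mul_smul, tv_smul, form_add_left, form_smul_left, h, h', mul_zero, add_zero]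
  module

theorem tv_ne_one {v : Fin m ⊕ Fin m → F} (hv : v ≠ 0) {c : F} (hc : c ≠ 0) : tv v c ≠ 1 := by
  intro h
  obtain ⟨w, hw⟩ := exists_form_ne_zero hv
  have := congrArg (fun g ↦ g • w) h
  simp only [tv_smul, one_smul, add_eq_left, smul_eq_zero, mul_eq_zero, hc, hv, false_or,
    or_false] at this
  exact hw (by rw [form_swap, this, neg_zero])

/-- The subgroup generated by all symplectic transvections. -/
def transvectionSubgroup (m : ℕ) (F : Type*) [Field F] : Subgroup (symplecticGroup (Fin m) F) :=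
  Subgroup.closure {A : symplecticGroup (Fin m) F | ∃ (w : Fin m ⊕ Fin m → F) (c : F),
    (A : Matrix (Fin m ⊕ Fin m) (Fin m ⊕ Fin m) F) = sympTransvection m w c}

theorem tv_mem (w : Fin m ⊕ Fin m → F) (c : F) : tv w c ∈ transvectionSubgroup m F :=
  Subgroup.subset_closure ⟨w, c, rfl⟩

/-- Vectors orthogonal to the standard hyperbolic pairs indexed by `S`. -/
def InW (S : Finset (Fin m)) (x : Fin m ⊕ Fin m → F) : Prop :=
  ∀ j ∈ S, x (.inl j) = 0 ∧ x (.inr j) = 0

theorem inW_empty (x : Fin m ⊕ Fin m → F) : InW ∅ x := by simp [InW]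

theorem inW_add {S : Finset (Fin m)} {x y : Fin m ⊕ Fin m → F} (hx : InW S x) (hy : InW S y) :
    InW S (x + y) := fun j hj ↦ by simp [hx j hj, hy j hj]

theorem inW_smul {S : Finset (Fin m)} {x : Fin m ⊕ Fin m → F} (hx : InW S x) (a : F) :
    InW S (a • x) := fun j hj ↦ by simp [hx j hj]

theorem inW_sub {S : Finset (Fin m)} {x y : Fin m ⊕ Fin m → F} (hx : InW S x) (hy : InW S y) :
    InW S (x - y) := fun j hj ↦ by simp [hx j hj, hy j hj]

theorem inW_single {S : Finset (Fin m)} {i : Fin m} (hi : i ∉ S) :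
    InW S (Pi.single (.inl i) (1 : F)) ∧ InW S (Pi.single (.inr i) (1 : F)) :=
  ⟨fun j hj ↦ by simp [ne_of_mem_of_not_mem hj hi],
    fun j hj ↦ by simp [ne_of_mem_of_not_mem hj hi]⟩

theorem exists_form_ne_zero_inW {S : Finset (Fin m)} {u : Fin m ⊕ Fin m → F} (hu : u ≠ 0)
    (hS : InW S u) : ∃ w, InW S w ∧ sympForm m F u w ≠ 0 := by
  obtain ⟨i | i, hi⟩ := Function.ne_iff.1 hu
  · have hiS : i ∉ S := fun h ↦ hi (hS i h).1
    exact ⟨Pi.single (.inr i) 1, (inW_single hiS).2, by simpa [form_single_inr] using hi⟩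
  · have hiS : i ∉ S := fun h ↦ hi (hS i h).2
    exact ⟨Pi.single (.inl i) 1, (inW_single hiS).1, by simpa [form_single_inl] using hi⟩

/-- The subgroup generated by the transvections of vectors in the perp of the `S`-pairs. -/
def transvectionSubgroupW (S : Finset (Fin m)) (F : Type*) [Field F] :
    Subgroup (symplecticGroup (Fin m) F) :=
  Subgroup.closure {A | ∃ (w : Fin m ⊕ Fin m → F) (c : F), InW S w ∧ A = tv w c}

theorem tv_mem_W {S : Finset (Fin m)} {w : Fin m ⊕ Fin m → F} (hw : InW S w) (c : F) :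
    tv w c ∈ transvectionSubgroupW S F :=
  Subgroup.subset_closure ⟨w, c, hw, rfl⟩

theorem transvectionSubgroupW_le (S : Finset (Fin m)) :
    transvectionSubgroupW S F ≤ transvectionSubgroup m F :=
  (Subgroup.closure_le _).2 fun _ ⟨w, c, _, h⟩ ↦ h ▸ tv_mem w c

theorem transvectionSubgroupW_fix {S : Finset (Fin m)} {g : symplecticGroup (Fin m) F}
    (hg : g ∈ transvectionSubgroupW S F) {j : Fin m} (hj : j ∈ S) :
    g • (Pi.single (.inl j) 1 : Fin m ⊕ Fin m → F) = Pi.single (.inl j) 1 ∧
      g • (Pi.single (.inr j) 1 : Fin m ⊕ Fin m → F) = Pi.single (.inr j) 1 := by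
  let H := MulAction.stabilizer (symplecticGroup (Fin m) F)
      (Pi.single (.inl j) 1 : Fin m ⊕ Fin m → F) ⊓
    MulAction.stabilizer (symplecticGroup (Fin m) F) (Pi.single (.inr j) 1 : Fin m ⊕ Fin m → F)
  suffices transvectionSubgroupW S F ≤ H from this hg
  refine (Subgroup.closure_le _).2 ?_
  rintro _ ⟨w, c, hw, rfl⟩
  refine ⟨MulAction.mem_stabilizer_iff.2 ?_, MulAction.mem_stabilizer_iff.2 ?_⟩ <;>
    rw [tv_smul, form_swap w] <;> simp [form_single_inl, form_single_inr, hw j hj]

theorem exists_smul_eq_of_form_ne_zero {S : Finset (Fin m)} {u u' : Fin m ⊕ Fin m → F}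
    (hu : InW S u) (hu' : InW S u') (h : sympForm m F u u' ≠ 0) :
    ∃ g ∈ transvectionSubgroupW S F, g • u = u' ∧
      ∀ x, sympForm m F x (u' - u) = 0 → g • x = x := by
  refine ⟨tv (u' - u) (sympForm m F u u')⁻¹, tv_mem_W (inW_sub hu' hu) _, ?_, fun x hx ↦ ?_⟩
  · rw [tv_smul, form_sub_right, form_self, sub_zero, inv_mul_cancel₀ h, one_smul,
      add_sub_cancel]
  · rw [tv_smul, hx, mul_zero, zero_smul, add_zero]

theorem exists_smul_eq_inW {S : Finset (Fin m)} {u u' : Fin m ⊕ Fin m → F}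
    (hu : InW S u) (hu' : InW S u') (h0 : u ≠ 0) (h0' : u' ≠ 0) :
    ∃ g ∈ transvectionSubgroupW S F, g • u = u' := by
  by_cases h : sympForm m F u u' = 0
  · obtain ⟨w, hw, h1, h2⟩ : ∃ w, InW S w ∧ sympForm m F u w ≠ 0 ∧ sympForm m F w u' ≠ 0 := by
      obtain ⟨a, ha, ha1⟩ := exists_form_ne_zero_inW h0 hu
      obtain ⟨b, hb, hb1⟩ := exists_form_ne_zero_inW h0' hu'
      rw [form_swap, neg_ne_zero] at hb1
      by_cases ha2 : sympForm m F a u' = 0
      · by_cases hb2 : sympForm m F u b = 0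
        · refine ⟨a + b, inW_add ha hb, ?_, ?_⟩
          · rwa [form_add_right, hb2, add_zero]
          · rwa [form_add_left, ha2, zero_add]
        · exact ⟨b, hb, hb2, hb1⟩
      · exact ⟨a, ha, ha1, ha2⟩
    obtain ⟨g, hg, hgu, -⟩ := exists_smul_eq_of_form_ne_zero hu hw h1
    obtain ⟨k, hk, hkw, -⟩ := exists_smul_eq_of_form_ne_zero hw hu' h2
    exact ⟨k * g, mul_mem hk hg, by rw [mul_smul, hgu, hkw]⟩
  · obtain ⟨g, hg, hgu, -⟩ := exists_smul_eq_of_form_ne_zero hu hu' h
    exact ⟨g, hg, hgu⟩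

theorem exists_fix_smul_eq {S : Finset (Fin m)} {u v v' : Fin m ⊕ Fin m → F}
    (hu : InW S u) (hv : InW S v) (hv' : InW S v') (h : sympForm m F u v = 1)
    (h' : sympForm m F u v' = 1) :
    ∃ g ∈ transvectionSubgroupW S F, g • u = u ∧ g • v = v' := by
  by_cases hvv : sympForm m F v v' = 0
  · have h1 : sympForm m F v (u + v) ≠ 0 := by
      rw [form_add_right, form_self, add_zero, form_swap, h]; simp
    have h2 : sympForm m F (u + v) v' ≠ 0 := by
      rw [form_add_left, h', hvv, add_zero]; exact one_ne_zero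
    obtain ⟨g, hg, hgv, hgf⟩ := exists_smul_eq_of_form_ne_zero hv (inW_add hu hv) h1
    obtain ⟨k, hk, hkv, hkf⟩ := exists_smul_eq_of_form_ne_zero (inW_add hu hv) hv' h2
    refine ⟨k * g, mul_mem hk hg, ?_, by rw [mul_smul, hgv, hkv]⟩
    rw [mul_smul, hgf u (by simp [form_self]),
      hkf u (by rw [form_sub_right, form_add_right, form_self, h, h']; ring)]
  · obtain ⟨g, hg, hgv, hgf⟩ := exists_smul_eq_of_form_ne_zero hv hv' hvv
    exact ⟨g, hg, hgf u (by rw [form_sub_right, h, h', sub_self]), hgv⟩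

theorem exists_smul_pair_inW {S : Finset (Fin m)} {u v u' v' : Fin m ⊕ Fin m → F}
    (hu : InW S u) (hv : InW S v) (hu' : InW S u') (hv' : InW S v')
    (h : sympForm m F u v = 1) (h' : sympForm m F u' v' = 1) :
    ∃ g ∈ transvectionSubgroupW S F, g • u = u' ∧ g • v = v' := by
  have h0 : u ≠ 0 := by rintro rfl; simp [form_zero_left] at h
  have h0' : u' ≠ 0 := by rintro rfl; simp [form_zero_left] at h'
  obtain ⟨g, hg, hgu⟩ := exists_smul_eq_inW hu hu' h0 h0'
  have hgv : InW S (g • v) := by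
    intro j hj
    obtain ⟨e1, e2⟩ := transvectionSubgroupW_fix hg hj
    have a1 : sympForm m F (g • v) (Pi.single (.inr j) 1) = 0 := by
      rw [← e2, form_smul_smul, form_single_inr, (hv j hj).1, neg_zero]
    have a2 : sympForm m F (g • v) (Pi.single (.inl j) 1) = 0 := by
      rw [← e1, form_smul_smul, form_single_inl, (hv j hj).2]
    rw [form_single_inr, neg_eq_zero] at a1
    rw [form_single_inl] at a2
    exact ⟨a1, a2⟩
  obtain ⟨k, hk, hku, hkv⟩ := exists_fix_smul_eq hu' hgv hv'
    (by rw [← hgu, form_smul_smul, h]) h'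
  exact ⟨k * g, mul_mem hk hg, by rw [mul_smul, hgu, hku], by rw [mul_smul, hkv]⟩

/-- The elements fixing the standard hyperbolic pairs indexed by `S`. -/
def pairsFixer (S : Finset (Fin m)) (F : Type*) [Field F] :
    Subgroup (symplecticGroup (Fin m) F) where
  carrier := {g | ∀ j ∈ S,
    g • (Pi.single (.inl j) 1 : Fin m ⊕ Fin m → F) = Pi.single (.inl j) 1 ∧
      g • (Pi.single (.inr j) 1 : Fin m ⊕ Fin m → F) = Pi.single (.inr j) 1}
  one_mem' := fun j _ ↦ by simp
  mul_mem' {a b} ha hb := fun j hj ↦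
    ⟨by rw [mul_smul, (hb j hj).1, (ha j hj).1], by rw [mul_smul, (hb j hj).2, (ha j hj).2]⟩
  inv_mem' {a} ha := fun j hj ↦
    ⟨inv_smul_eq_iff.2 (ha j hj).1.symm, inv_smul_eq_iff.2 (ha j hj).2.symm⟩

theorem pairsFixer_inW {S : Finset (Fin m)} {g : symplecticGroup (Fin m) F}
    (hg : g ∈ pairsFixer S F) {x : Fin m ⊕ Fin m → F} (hx : InW S x) : InW S (g • x) := by
  intro j hj
  have a1 : sympForm m F (g • x) (Pi.single (.inr j) 1) = 0 := by
    rw [← (hg j hj).2, form_smul_smul, form_single_inr, (hx j hj).1, neg_zero]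
  have a2 : sympForm m F (g • x) (Pi.single (.inl j) 1) = 0 := by
    rw [← (hg j hj).1, form_smul_smul, form_single_inl, (hx j hj).2]
  rw [form_single_inr, neg_eq_zero] at a1
  rw [form_single_inl] at a2
  exact ⟨a1, a2⟩

theorem pairsFixer_empty : pairsFixer (∅ : Finset (Fin m)) F = ⊤ := by
  ext g
  simp [pairsFixer]

theorem pairsFixer_univ : pairsFixer (Finset.univ : Finset (Fin m)) F = ⊥ := by
  ext g
  refine ⟨fun hg ↦ ?_, fun hg ↦ by rw [Subgroup.mem_bot.1 hg]; exact one_mem _⟩
  refine Subgroup.mem_bot.2 (Subtype.ext (ext_of_mulVec_single fun i ↦ ?_))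
  rcases i with i | i
  · exact (hg i (Finset.mem_univ i)).1.trans (one_mulVec _).symm
  · exact (hg i (Finset.mem_univ i)).2.trans (one_mulVec _).symm

theorem pairsFixer_le_transvectionSubgroup (S : Finset (Fin m)) :
    pairsFixer S F ≤ transvectionSubgroup m F := by
  induction hc : Fintype.card (Fin m) - S.card generalizing S with
  | zero =>
    rw [Finset.card_eq_iff_eq_univ S |>.1 (le_antisymm (Finset.card_le_univ S) (by omega)),
      pairsFixer_univ]
    exact bot_le
  | succ k ih =>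
    intro g hg
    obtain ⟨i, -, hi⟩ := Finset.exists_mem_notMem_of_card_lt_card (s := S) (t := Finset.univ)
      (by rw [Finset.card_univ]; omega)
    obtain ⟨he, hf⟩ := inW_single (F := F) hi
    have hef : sympForm m F (Pi.single (.inr i) 1) (Pi.single (.inl i) (1 : F)) = 1 := by
      simp [form_single_inl]
    obtain ⟨h, hh, h1, h2⟩ := exists_smul_pair_inW (pairsFixer_inW hg hf) (pairsFixer_inW hg he)
      hf he (by rw [form_smul_smul, hef]) hef
    have hmem : h * g ∈ pairsFixer (insert i S) F := by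
      intro j hj
      rcases Finset.mem_insert.1 hj with rfl | hj
      · exact ⟨by rw [mul_smul, h2], by rw [mul_smul, h1]⟩
      · exact ⟨by rw [mul_smul, (hg j hj).1, (transvectionSubgroupW_fix hh hj).1],
          by rw [mul_smul, (hg j hj).2, (transvectionSubgroupW_fix hh hj).2]⟩
    have := ih (insert i S) (by rw [Finset.card_insert_of_notMem hi]; omega) hmem
    simpa using mul_mem (inv_mem (transvectionSubgroupW_le S hh)) this

/-- The symplectic group is generated by transvections. -/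
theorem transvectionSubgroup_eq_top : transvectionSubgroup m F = ⊤ :=
  top_le_iff.1 (pairsFixer_empty (F := F) (m := m) ▸ pairsFixer_le_transvectionSubgroup ∅)

theorem exists_smul_eq_of_ne_zero {u u' : Fin m ⊕ Fin m → F} (h0 : u ≠ 0) (h0' : u' ≠ 0) :
    ∃ g : symplecticGroup (Fin m) F, g • u = u' :=
  let ⟨g, _, h⟩ := exists_smul_eq_inW (inW_empty u) (inW_empty u') h0 h0'
  ⟨g, h⟩

theorem exists_smul_pair {u v u' v' : Fin m ⊕ Fin m → F} (h : sympForm m F u v = 1)
    (h' : sympForm m F u' v' = 1) :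
    ∃ g : symplecticGroup (Fin m) F, g • u = u' ∧ g • v = v' :=
  let ⟨g, _, hg⟩ := exists_smul_pair_inW (inW_empty u) (inW_empty v) (inW_empty u') (inW_empty v') h h'
  ⟨g, hg⟩

theorem mem_center_iff {g : symplecticGroup (Fin m) F} :
    g ∈ Subgroup.center (symplecticGroup (Fin m) F) ↔
      ∃ a : F, a ^ 2 = 1 ∧ ∀ x : Fin m ⊕ Fin m → F, g • x = a • x := by
  constructor
  · intro hg
    have eig : ∀ v : Fin m ⊕ Fin m → F, ∃ a : F, g • v = a • v := by
      intro v
      by_cases hv : v = 0
      · exact ⟨0, by simp [hv]⟩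
      have hgv : g • v ≠ 0 := (smul_ne_zero_iff_ne g).2 hv
      obtain ⟨w, hw⟩ := exists_form_ne_zero hgv
      have h1 : tv (g • v) 1 = tv v 1 := by
        rw [← tv_conj, ← Subgroup.mem_center_iff.1 hg (tv v 1), mul_inv_cancel_right]
      have h2 := congrArg (fun t ↦ t • w) h1
      simp only [tv_smul, add_right_inj, one_mul] at h2
      refine ⟨(sympForm m F w (g • v))⁻¹ * sympForm m F w v, ?_⟩
      rw [mul_smul, ← h2, inv_smul_smul₀]
      rwa [form_swap, neg_ne_zero]
    rcases Nat.eq_zero_or_pos m with rfl | hm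
    · exact ⟨1, one_pow 2, fun x ↦ funext fun i ↦ i.elim Fin.elim0 Fin.elim0⟩
    let i : Fin m := ⟨0, hm⟩
    let e : Fin m ⊕ Fin m → F := Pi.single (.inr i) 1
    let f : Fin m ⊕ Fin m → F := Pi.single (.inl i) 1
    have hef : sympForm m F e f = 1 := by simp [e, f, form_single_inl]
    have hall : ∀ x, sympForm m F x f ≠ 0 → ∀ a b : F, g • x = a • x → g • f = b • f → a * b = 1 := by
      intro x hx a b ha hb
      have := form_smul_smul g x f
      rw [ha, hb, form_smul_left, form_smul_right, ← mul_assoc] at this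
      exact mul_eq_right₀ hx |>.1 this
    obtain ⟨a, ha⟩ := eig e
    obtain ⟨b, hb⟩ := eig f
    have hab := hall e (by rw [hef]; exact one_ne_zero) a b ha hb
    have hb0 : b ≠ 0 := right_ne_zero_of_mul_eq_one hab
    have key : ∀ x, sympForm m F x f ≠ 0 → g • x = a • x := fun x hx ↦ by
      obtain ⟨c, hc⟩ := eig x
      rw [hc, mul_right_cancel₀ hb0 ((hall x hx c b hc hb).trans hab.symm)]
    have key2 : ∀ x, g • x = a • x := fun x ↦ by
      by_cases hx : sympForm m F x f = 0
      · have h1 := key (x + e) (by rw [form_add_left, hx, hef, zero_add]; exact one_ne_zero)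
        rw [smul_add, smul_add, ha] at h1
        exact add_right_cancel h1
      · exact key x hx
    refine ⟨a, ?_, key2⟩
    have := form_smul_smul g e f
    rw [key2, key2, form_smul_left, form_smul_right, hef] at this
    linear_combination this
  · rintro ⟨a, -, ha⟩
    refine Subgroup.mem_center_iff.2 fun h ↦ group_ext fun x ↦ ?_
    rw [mul_smul, mul_smul, ha, ha, smul_comm]

end CfsgLib.Linear.Symp
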