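/-
The order of the finite symplectic group, and of its centre.
-/
import Mathlib
import Cfsg.Agent.Lib.Linear.Symplectic
import Cfsg.Agent.Lib.Linear.Card

set_option autoImplicit false

namespace CfsgLib.Linear.Symp

open Matrix Cfsg

variable {F : Type*} [Field F] {m : ℕ}

/-- Hyperbolic pairs inside the perp of the `S`-pairs. -/
abbrev HypPair (S : Finset (Fin m)) (F : Type*) [Field F] : Type _ :=
  {p : (Fin m ⊕ Fin m → F) × (Fin m ⊕ Fin m → F) //
    InW S p.1 ∧ InW S p.2 ∧ sympForm m F p.1 p.2 = 1}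

/-- `InW S` as a submodule. -/
def perpW (S : Finset (Fin m)) (F : Type*) [Field F] : Submodule F (Fin m ⊕ Fin m → F) where
  carrier := {x | InW S x}
  add_mem' := inW_add
  zero_mem' := fun j _ ↦ ⟨rfl, rfl⟩
  smul_mem' := fun a _ hx ↦ inW_smul hx a

/-- The perp of the `S`-pairs is a coordinate subspace. -/
noncomputable def perpWEquiv (S : Finset (Fin m)) :
    perpW S F ≃ ({j : Fin m // j ∉ S} ⊕ {j : Fin m // j ∉ S} → F) := by
  classical
  exact
  { toFun := fun x k ↦ x.1 (k.map Subtype.val Subtype.val)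
    invFun := fun y ↦ ⟨Sum.elim (fun j ↦ if h : j ∈ S then 0 else y (.inl ⟨j, h⟩))
      (fun j ↦ if h : j ∈ S then 0 else y (.inr ⟨j, h⟩)),
      fun j hj ↦ by simp [hj]⟩
    left_inv := fun x ↦ Subtype.ext <| funext fun k ↦ by
      rcases k with j | j <;> by_cases h : j ∈ S <;> simp [h, x.2 j]
    right_inv := fun y ↦ funext fun k ↦ by rcases k with j | j <;> simp [j.2] }

theorem card_perpW [Fintype F] (S : Finset (Fin m)) :
    Nat.card (perpW S F) = Fintype.card F ^ (2 * (m - S.card)) := by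
  classical
  rw [Nat.card_congr (perpWEquiv S), Nat.card_fun, Nat.card_sum, Nat.card_eq_fintype_card (α := F),
    Nat.card_eq_fintype_card, Fintype.card_subtype_compl, Fintype.card_coe, Fintype.card_fin, two_mul]

theorem card_hypPair [Fintype F] (S : Finset (Fin m)) (hS : S.card < m) :
    Nat.card (HypPair S F) = (Fintype.card F ^ (2 * (m - S.card)) - 1) *
      Fintype.card F ^ (2 * (m - S.card) - 1) := by
  classical
  set q := Fintype.card F with hq
  have hq0 : 0 < q := Fintype.card_pos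
  let φ (u : perpW S F) : perpW S F →+ F :=
    { toFun := fun v ↦ sympForm m F u.1 v.1
      map_zero' := form_zero_right _
      map_add' := fun a b ↦ form_add_right _ _ _ }
  have hfib : ∀ u : perpW S F, u ≠ 0 →
      Nat.card {v : perpW S F // φ u v = 1} = q ^ (2 * (m - S.card) - 1) := by
    intro u hu
    obtain ⟨w, hw, hw0⟩ := exists_form_ne_zero_inW (fun h ↦ hu (Subtype.ext h)) u.2
    have hsur : Function.Surjective (φ u) := fun a ↦
      ⟨⟨(a / sympForm m F u.1 w) • w, inW_smul hw _⟩, by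
        change sympForm m F u.1 _ = a
        rw [form_smul_right, div_mul_cancel₀ a hw0]⟩
    obtain ⟨v0, hv0⟩ := hsur 1
    have e : (φ u).ker ≃ {v : perpW S F // φ u v = 1} :=
      (Equiv.addRight v0).subtypeEquiv fun a ↦ by simp [AddMonoidHom.mem_ker, hv0]
    have h1 := (φ u).ker.card_mul_index
    rw [AddSubgroup.index_ker, AddMonoidHom.range_eq_top.2 hsur, AddSubgroup.card_top,
      card_perpW, Nat.card_eq_fintype_card (α := F), ← hq, Nat.card_congr e,
      show 2 * (m - S.card) = 2 * (m - S.card) - 1 + 1 by omega, pow_succ] at h1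
    exact Nat.eq_of_mul_eq_mul_right hq0 h1
  let e : HypPair S F ≃ Σ u : {u : perpW S F // u ≠ 0}, {v : perpW S F // φ u.1 v = 1} :=
    { toFun := fun p ↦ ⟨⟨⟨p.1.1, p.2.1⟩, fun h ↦ by
        have h' : p.1.1 = 0 := congrArg Subtype.val h
        have := p.2.2.2
        rw [h', form_zero_left] at this
        exact zero_ne_one this⟩, ⟨⟨p.1.2, p.2.2.1⟩, p.2.2.2⟩⟩
      invFun := fun p ↦ ⟨(p.1.1.1, p.2.1.1), p.1.1.2, p.2.1.2, p.2.2⟩
      left_inv := fun p ↦ rfl
      right_inv := fun p ↦ rfl }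
  rw [Nat.card_congr e, Nat.card_sigma, Finset.sum_congr rfl fun u _ ↦ hfib u.1 u.2,
    Finset.sum_const, smul_eq_mul, Finset.card_univ]
  congr 1
  rw [Fintype.card_subtype_compl, Fintype.card_subtype_eq, ← Nat.card_eq_fintype_card, card_perpW]

theorem card_pairsFixer_succ [Fintype F] (S : Finset (Fin m)) {i : Fin m} (hi : i ∉ S) :
    Nat.card (pairsFixer S F) = Nat.card (HypPair S F) * Nat.card (pairsFixer (insert i S) F) := by
  classical
  obtain ⟨he, hf⟩ := inW_single (F := F) hi
  let base : HypPair S F :=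
    ⟨(Pi.single (.inr i) 1, Pi.single (.inl i) 1), hf, he, by simp [form_single_inl]⟩
  letI act : MulAction (pairsFixer S F) (HypPair S F) :=
    { smul := fun g p ↦ ⟨(g.1 • p.1.1, g.1 • p.1.2), pairsFixer_inW g.2 p.2.1,
        pairsFixer_inW g.2 p.2.2.1, by rw [form_smul_smul]; exact p.2.2.2⟩
      one_smul := fun p ↦ Subtype.ext (Prod.ext (one_smul _ _) (one_smul _ _))
      mul_smul := fun g h p ↦ Subtype.ext (Prod.ext (mul_smul _ _ _) (mul_smul _ _ _)) }
  have horb : MulAction.orbit (pairsFixer S F) base = Set.univ := by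
    refine Set.eq_univ_of_forall fun p ↦ ?_
    obtain ⟨g, hg, h1, h2⟩ := exists_smul_pair_inW base.2.1 base.2.2.1 p.2.1 p.2.2.1 base.2.2.2 p.2.2.2
    refine ⟨⟨g, fun j hj ↦ transvectionSubgroupW_fix hg hj⟩, Subtype.ext (Prod.ext h1 h2)⟩
  have hstab : Nat.card (MulAction.stabilizer (pairsFixer S F) base) =
      Nat.card (pairsFixer (insert i S) F) := by
    refine Nat.card_congr
      { toFun := fun g ↦ ⟨g.1.1, fun j hj ↦ ?_⟩
        invFun := fun g ↦ ⟨⟨g.1, fun j hj ↦ g.2 j (Finset.mem_insert_of_mem hj)⟩,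
          Subtype.ext (Prod.ext (g.2 i (Finset.mem_insert_self i S)).2
            (g.2 i (Finset.mem_insert_self i S)).1)⟩
        left_inv := fun g ↦ rfl
        right_inv := fun g ↦ rfl }
    rcases Finset.mem_insert.1 hj with rfl | hj
    · have h : g.1 • base = base := g.2
      exact ⟨congrArg (fun p : HypPair S F ↦ p.1.2) h, congrArg (fun p : HypPair S F ↦ p.1.1) h⟩
    · exact g.1.2 j hj
  rw [← (MulAction.stabilizer (pairsFixer S F) base).index_mul_card, hstab,
    MulAction.index_stabilizer, horb, Set.ncard_univ]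

theorem card_pairsFixer [Fintype F] (S : Finset (Fin m)) :
    Nat.card (pairsFixer S F) = Fintype.card F ^ ((m - S.card) ^ 2) *
      ∏ k ∈ Finset.range (m - S.card), (Fintype.card F ^ (2 * (k + 1)) - 1) := by
  induction hc : m - S.card generalizing S with
  | zero =>
    rw [Finset.card_eq_iff_eq_univ S |>.1
      (le_antisymm (Finset.card_le_univ S) (by rw [Fintype.card_fin]; omega)), pairsFixer_univ]
    simp
  | succ k ih =>
    obtain ⟨i, -, hi⟩ := Finset.exists_mem_notMem_of_card_lt_card (s := S) (t := Finset.univ)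
      (by rw [Finset.card_univ, Fintype.card_fin]; omega)
    rw [card_pairsFixer_succ S hi, card_hypPair S (by omega),
      ih (insert i S) (by rw [Finset.card_insert_of_notMem hi]; omega), hc, Finset.prod_range_succ,
      show (k + 1) ^ 2 = 2 * (k + 1) - 1 + k ^ 2 by
        rw [show 2 * (k + 1) - 1 = 2 * k + 1 by omega]; ring, pow_add]
    ring

/-- The order of `Sp_{2m}(q)`. -/
theorem card_symplectic [Fintype F] :
    Nat.card (symplecticGroup (Fin m) F) = Fintype.card F ^ (m ^ 2) *
      ∏ k ∈ Finset.range m, (Fintype.card F ^ (2 * (k + 1)) - 1) := by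
  rw [← Subgroup.card_top, ← pairsFixer_empty, card_pairsFixer]
  simp

theorem card_center [Fintype F] (hm : 1 ≤ m) :
    Nat.card (Subgroup.center (symplecticGroup (Fin m) F)) = Nat.gcd 2 (Fintype.card F - 1) := by
  rw [Nat.gcd_comm, ← card_rootsOfUnity_finite 2]
  let i : Fin m ⊕ Fin m := .inl ⟨0, hm⟩
  let φ : rootsOfUnity 2 F → Subgroup.center (symplecticGroup (Fin m) F) := fun a ↦
    ⟨⟨(a.1 : F) • 1, mem_of_form_mulVec fun u v ↦ by
      have ha : ((a.1 : F)) ^ 2 = 1 := (mem_rootsOfUnity' 2 a.1).1 a.2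
      simp only [smul_mulVec, one_mulVec, form_smul_left, form_smul_right, ← mul_assoc, ← pow_two,
        ha, one_mul]⟩,
      mem_center_iff.2 ⟨a.1, (mem_rootsOfUnity' 2 a.1).1 a.2, fun x ↦ by
        rw [smul_def, smul_mulVec, one_mulVec]⟩⟩
  refine (Nat.card_eq_of_bijective φ ⟨fun a b h ↦ ?_, fun g ↦ ?_⟩).symm
  · have h1 := congr_fun₂ (congrArg
      (fun g : Subgroup.center (symplecticGroup (Fin m) F) ↦ g.1.1) h) i i
    simp only [φ, Matrix.smul_apply, Matrix.one_apply_eq, smul_eq_mul, mul_one] at h1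
    exact Subtype.ext (Units.ext h1)
  · obtain ⟨a, ha, hg⟩ := mem_center_iff.1 g.2
    refine ⟨rootsOfUnity.mkOfPowEq a ha, Subtype.ext (group_ext fun x ↦ ?_)⟩
    rw [hg, smul_def, smul_mulVec, one_mulVec, rootsOfUnity.val_mkOfPowEq_coe]

end CfsgLib.Linear.Symp
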