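/-
Perfectness, primitivity and simplicity for the symplectic groups.
-/
import Mathlib
import Cfsg.Agent.Lib.Linear.Symplectic
import Cfsg.Agent.Lib.Linear.Transvection

set_option autoImplicit false

namespace CfsgLib.Linear.Symp

open Matrix Cfsg MulAction
open scoped commutatorElement LinearAlgebra.Projectivization Pointwise

variable {F : Type*} [Field F] {m : ℕ}

theorem tv_eq_tv_mul_commutator (g : symplecticGroup (Fin m) F) (v : Fin m ⊕ Fin m → F) (c : F) :
    tv (g • v) c = ⁅g, tv v c⁆ * tv v c := by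
  rw [commutatorElement_def, inv_mul_cancel_right, tv_conj]

theorem quotient_commutator_tv_eq {u v : Fin m ⊕ Fin m → F} (hu : u ≠ 0) (hv : v ≠ 0) (c : F) :
    (Abelianization.of (tv u c)) = Abelianization.of (tv v c) := by
  obtain ⟨g, rfl⟩ := exists_smul_eq_of_ne_zero hv hu
  rw [← tv_conj, map_mul, map_mul, mul_right_comm, ← map_mul, mul_inv_cancel, map_one, one_mul]

theorem smul_four (w x y z u : Fin m ⊕ Fin m → F) (a b c d : F)
    (hxy : sympForm m F x y = 0) (hxz : sympForm m F x z = 0) (hxu : sympForm m F x u = 0)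
    (hyz : sympForm m F y z = 0) (hyu : sympForm m F y u = 0) (hzu : sympForm m F z u = 0) :
    (tv x a * tv y b * tv z c * tv u d) • w = w + (a * sympForm m F w x) • x +
      (b * sympForm m F w y) • y + (c * sympForm m F w z) • z + (d * sympForm m F w u) • u := by
  have h1 : sympForm m F y x = 0 := by rw [form_swap, hxy, neg_zero]
  have h2 : sympForm m F z x = 0 := by rw [form_swap, hxz, neg_zero]
  have h3 : sympForm m F u x = 0 := by rw [form_swap, hxu, neg_zero]
  have h4 : sympForm m F z y = 0 := by rw [form_swap, hyz, neg_zero]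
  have h5 : sympForm m F u y = 0 := by rw [form_swap, hyu, neg_zero]
  have h6 : sympForm m F u z = 0 := by rw [form_swap, hzu, neg_zero]
  simp only [mul_smul, tv_smul, form_add_left, form_smul_left, h1, h2, h3, h4, h5, h6, mul_zero,
    add_zero]
  abel

/-- A relation between transvections on a totally isotropic plane. -/
theorem tv_relation_plane {x y : Fin m ⊕ Fin m → F} (hxy : sympForm m F x y = 0) :
    tv (x + y) 1 * tv (x - y) 1 * tv x (-2) * tv y (-2) = 1 := by
  have hyx : sympForm m F y x = 0 := by rw [form_swap, hxy, neg_zero]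
  refine group_ext fun w ↦ ?_
  rw [smul_four, one_smul]
  · simp only [form_add_right, form_sub_right]
    module
  all_goals
    simp [form_add_left, form_add_right, form_sub_left, form_sub_right, form_self, hxy, hyx]

/-- A relation between transvections on a totally isotropic 3-space in characteristic 2. -/
theorem tv_relation_space (h2 : (2 : F) = 0) {x y z : Fin m ⊕ Fin m → F}
    (hxy : sympForm m F x y = 0) (hxz : sympForm m F x z = 0) (hyz : sympForm m F y z = 0) :
    tv (x + y + z) 1 * tv (x + y) 1 * tv (x + z) 1 * tv (y + z) 1 * tv x 1 * tv y 1 * tv z 1 = 1 := by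
  have hyx : sympForm m F y x = 0 := by rw [form_swap, hxy, neg_zero]
  have hzx : sympForm m F z x = 0 := by rw [form_swap, hxz, neg_zero]
  have hzy : sympForm m F z y = 0 := by rw [form_swap, hyz, neg_zero]
  refine group_ext fun w ↦ ?_
  simp only [mul_smul, tv_smul, form_add_left, form_add_right, form_smul_left, form_self, hxy, hxz,
    hyz, hyx, hzx, hzy, mul_zero, add_zero, one_mul, one_smul]
  have h4 : (4 : F) = 0 := by linear_combination (2 : F) * h2
  match_scalars <;> ring_nf <;> simp [h2, h4]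

theorem pair_data (hm : 2 ≤ m) : ∃ x y : Fin m ⊕ Fin m → F, sympForm m F x y = 0 ∧ x ≠ 0 ∧ y ≠ 0 ∧
    x + y ≠ 0 ∧ x - y ≠ 0 := by
  refine ⟨Pi.single (.inl ⟨0, by omega⟩) 1, Pi.single (.inl ⟨1, hm⟩) 1, ?_, ?_, ?_, ?_, ?_⟩
  · simp [form_single_inl]
  · simp
  · simp
  all_goals
    exact fun h ↦ by simpa [Pi.single_apply, Fin.ext_iff] using congr_fun h (.inl ⟨0, by omega⟩)

theorem triple_data (hm : 3 ≤ m) : ∃ x y z : Fin m ⊕ Fin m → F, sympForm m F x y = 0 ∧
    sympForm m F x z = 0 ∧ sympForm m F y z = 0 ∧ x ≠ 0 ∧ y ≠ 0 ∧ z ≠ 0 ∧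
    x + y ≠ 0 ∧ x + z ≠ 0 ∧ y + z ≠ 0 ∧ x + y + z ≠ 0 := by
  refine ⟨Pi.single (.inl ⟨0, by omega⟩) 1, Pi.single (.inl ⟨1, by omega⟩) 1,
    Pi.single (.inl ⟨2, by omega⟩) 1, ?_, ?_, ?_, ?_, ?_, ?_, ?_, ?_, ?_, ?_⟩
  iterate 3 simp [form_single_inl]
  iterate 3 simp
  iterate 2 exact fun h ↦ by simpa [Pi.single_apply, Fin.ext_iff] using congr_fun h (.inl ⟨0, by omega⟩)
  · exact fun h ↦ by simpa [Pi.single_apply, Fin.ext_iff] using congr_fun h (.inl ⟨1, by omega⟩)
  · exact fun h ↦ by simpa [Pi.single_apply, Fin.ext_iff] using congr_fun h (.inl ⟨0, by omega⟩)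

theorem tv_mem_commutator_of_sq_ne_one {a : F} (ha : a ≠ 0) (ha2 : a ^ 2 ≠ 1)
    {v : Fin m ⊕ Fin m → F} (hv : v ≠ 0) (c : F) :
    tv v c ∈ commutator (symplecticGroup (Fin m) F) := by
  obtain ⟨g, hg⟩ := exists_smul_eq_of_ne_zero hv (smul_ne_zero ha hv)
  have h := tv_eq_tv_mul_commutator g v (c / (a ^ 2 - 1))
  rw [hg, tv_smul_vec] at h
  have h2 : tv v c = ⁅g, tv v (c / (a ^ 2 - 1))⁆ := by
    rw [← mul_right_cancel_iff (a := tv v (c / (a ^ 2 - 1))), ← h, tv_add]
    congr 1
    field_simp [sub_ne_zero_of_ne ha2]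
    ring
  rw [h2]
  exact Subgroup.commutator_mem_commutator (Subgroup.mem_top _) (Subgroup.mem_top _)

theorem of_tv_one_eq_one_of_card_three [Fintype F] (hq : Fintype.card F = 3) (hm : 2 ≤ m)
    {v : Fin m ⊕ Fin m → F} (hv : v ≠ 0) : Abelianization.of (tv v (1 : F)) = 1 := by
  have h3 : (3 : F) = 0 := by
    have := FiniteField.cast_card_eq_zero F
    rw [hq] at this
    exact_mod_cast this
  obtain ⟨x, y, hxy, hx, hy, hp, hm'⟩ := pair_data (F := F) hm
  have hrel := congrArg Abelianization.of (tv_relation_plane hxy)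
  simp only [map_mul, map_one, show (-2 : F) = 1 by linear_combination -h3] at hrel
  rw [quotient_commutator_tv_eq hp hv, quotient_commutator_tv_eq hm' hv,
    quotient_commutator_tv_eq hx hv, quotient_commutator_tv_eq hy hv] at hrel
  have hp3 : Abelianization.of (tv v (1 : F)) * Abelianization.of (tv v 1) *
      Abelianization.of (tv v 1) = 1 := by
    rw [← map_mul, ← map_mul, tv_add, tv_add, show (1 : F) + 1 + 1 = 0 by linear_combination h3,
      tv_zero, map_one]
  rwa [hp3, one_mul] at hrel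

theorem of_tv_one_eq_one_of_card_two [Fintype F] (hq : Fintype.card F = 2) (hm : 3 ≤ m)
    {v : Fin m ⊕ Fin m → F} (hv : v ≠ 0) : Abelianization.of (tv v (1 : F)) = 1 := by
  have h2 : (2 : F) = 0 := by
    have := FiniteField.cast_card_eq_zero F
    rw [hq] at this
    exact_mod_cast this
  obtain ⟨x, y, z, hxy, hxz, hyz, hx, hy, hz, h1, h1', h1'', h1'''⟩ := triple_data (F := F) hm
  have hrel := congrArg Abelianization.of (tv_relation_space h2 hxy hxz hyz)
  simp only [map_mul, map_one] at hrel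
  rw [quotient_commutator_tv_eq h1''' hv, quotient_commutator_tv_eq h1 hv,
    quotient_commutator_tv_eq h1' hv, quotient_commutator_tv_eq h1'' hv,
    quotient_commutator_tv_eq hx hv, quotient_commutator_tv_eq hy hv,
    quotient_commutator_tv_eq hz hv] at hrel
  have hp2 : Abelianization.of (tv v (1 : F)) * Abelianization.of (tv v 1) = 1 := by
    rw [← map_mul, tv_add, show (1 : F) + 1 = 0 by linear_combination h2, tv_zero, map_one]
  simpa [hp2] using hrel

/-- The symplectic groups are perfect, except for `Sp_2(2)`, `Sp_2(3)`, `Sp_4(2)`. -/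
theorem commutator_eq_top [Fintype F]
    (h : 3 ≤ m ∨ (m = 2 ∧ 3 ≤ Fintype.card F) ∨ 4 ≤ Fintype.card F) :
    commutator (symplecticGroup (Fin m) F) = ⊤ := by
  rw [← top_le_iff, ← transvectionSubgroup_eq_top]
  refine (Subgroup.closure_le _).2 ?_
  rintro A ⟨w, c, hA⟩
  obtain rfl : A = tv w c := Subtype.ext hA
  rw [SetLike.mem_coe]
  by_cases hw : w = 0
  · subst hw
    rw [show tv (0 : Fin m ⊕ Fin m → F) c = 1 from group_ext fun x ↦ by simp [tv_smul]]
    exact one_mem _
  by_cases h4 : 4 ≤ Fintype.card F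
  · obtain ⟨a, ha, ha2⟩ := CfsgLib.Linear.exists_sq_ne_one_of_four_le_card (F := F)
      (by rwa [Nat.card_eq_fintype_card])
    exact tv_mem_commutator_of_sq_ne_one ha ha2 hw c
  have h2 : 1 < Fintype.card F := Fintype.one_lt_card
  have hone : Abelianization.of (tv w (1 : F)) = 1 := by
    rcases h with h | ⟨h, h'⟩ | h
    · rcases (show Fintype.card F = 2 ∨ Fintype.card F = 3 by omega) with hq | hq
      · exact of_tv_one_eq_one_of_card_two hq h hw
      · exact of_tv_one_eq_one_of_card_three hq (by omega) hw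
    · exact of_tv_one_eq_one_of_card_three (by omega) (by omega) hw
    · omega
  have hgen : ∀ c : F, c = 0 ∨ c = 1 ∨ c = -1 := by
    classical
    intro c
    by_cases hc : c = 0
    · exact Or.inl hc
    right
    have hpow := FiniteField.pow_card_sub_one_eq_one c hc
    rcases (show Fintype.card F = 2 ∨ Fintype.card F = 3 by omega) with hq | hq
    · rw [hq] at hpow
      exact Or.inl (by simpa using hpow)
    · rw [hq] at hpow
      exact sq_eq_one_iff.1 hpow
  rw [← Abelianization.ker_of, MonoidHom.mem_ker]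
  rcases hgen c with rfl | rfl | rfl
  · rw [tv_zero, map_one]
  · exact hone
  · rw [← tv_inv, map_inv, hone, inv_one]

theorem smul_mk_eq (g : symplecticGroup (Fin m) F) {v : Fin m ⊕ Fin m → F} (hv : v ≠ 0) :
    g • Projectivization.mk F v hv = Projectivization.mk F (g • v) ((smul_ne_zero_iff_ne g).2 hv) :=
  rfl

theorem isPretransitive_proj :
    IsPretransitive (symplecticGroup (Fin m) F) (ℙ F (Fin m ⊕ Fin m → F)) := by
  constructor
  intro p q
  induction p using Projectivization.ind with | _ v hv => ?_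
  induction q using Projectivization.ind with | _ w hw => ?_
  obtain ⟨g, hg⟩ := exists_smul_eq_of_ne_zero hv hw
  refine ⟨g, ?_⟩
  simp only [smul_mk_eq, hg]

theorem exists_form_ne_zero_two {u v : Fin m ⊕ Fin m → F} (hu : u ≠ 0) (hv : v ≠ 0) :
    ∃ w, sympForm m F u w ≠ 0 ∧ sympForm m F v w ≠ 0 := by
  obtain ⟨a, ha⟩ := exists_form_ne_zero hu
  obtain ⟨b, hb⟩ := exists_form_ne_zero hv
  by_cases ha' : sympForm m F v a = 0
  · by_cases hb' : sympForm m F u b = 0
    · exact ⟨a + b, by rwa [form_add_right, hb', add_zero],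
        by rwa [form_add_right, ha', zero_add]⟩
    · exact ⟨b, hb', hb⟩
  · exact ⟨a, ha, ha'⟩

/-- `Sp_{2m}(F)` acts primitively on the points of the projective space. -/
theorem isPreprimitive_proj :
    IsPreprimitive (symplecticGroup (Fin m) F) (ℙ F (Fin m ⊕ Fin m → F)) := by
  have := isPretransitive_proj (F := F) (m := m)
  refine ⟨fun {B} hB ↦ ?_⟩
  refine or_iff_not_imp_left.2 fun hns ↦ ?_
  rw [Set.not_subsingleton_iff, Set.nontrivial_iff_pair_subset] at hns
  obtain ⟨p, q, hpq, hsub⟩ := hns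
  have hp : p ∈ B := hsub (by simp)
  have hq : q ∈ B := hsub (by simp)
  have step1 : ∀ (x y z : Fin m ⊕ Fin m → F) (hx : x ≠ 0) (hy : y ≠ 0) (hz : z ≠ 0),
      Projectivization.mk F x hx ∈ B → Projectivization.mk F y hy ∈ B →
      sympForm m F x y ≠ 0 → sympForm m F x z ≠ 0 → Projectivization.mk F z hz ∈ B := by
    intro x y z hx hy hz hxB hyB hxy hxz
    obtain ⟨g, hgx, hgy⟩ := exists_smul_pair (u := x) (v := (sympForm m F x y)⁻¹ • y) (u' := x)
      (v' := (sympForm m F x z)⁻¹ • z) (by rw [form_smul_right, inv_mul_cancel₀ hxy])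
      (by rw [form_smul_right, inv_mul_cancel₀ hxz])
    have hgxp : g • Projectivization.mk F x hx = Projectivization.mk F x hx := by
      simp only [smul_mk_eq, hgx]
    have hgB : g • B = B := hB.smul_eq_of_mem hxB (by rw [hgxp]; exact hxB)
    have hgyp : g • Projectivization.mk F y hy = Projectivization.mk F z hz := by
      rw [smul_mk_eq, Projectivization.mk_eq_mk_iff']
      refine ⟨sympForm m F x y / sympForm m F x z, ?_⟩
      rw [smul_comm] at hgy
      rw [div_eq_mul_inv, mul_smul, ← hgy, smul_smul, mul_inv_cancel₀ hxy, one_smul]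
    rw [← hgB, ← hgyp]
    exact Set.smul_mem_smul_set hyB
  induction p using Projectivization.ind with | _ u hu => ?_
  induction q using Projectivization.ind with | _ v hv => ?_
  obtain ⟨r, hr, hrB, hur⟩ : ∃ (r : Fin m ⊕ Fin m → F) (hr : r ≠ 0),
      Projectivization.mk F r hr ∈ B ∧ sympForm m F u r ≠ 0 := by
    by_cases huv : sympForm m F u v = 0
    · obtain ⟨w, hwv, huw⟩ : ∃ w, sympForm m F v w = 0 ∧ sympForm m F u w ≠ 0 := by
        by_contra! hcon
        obtain ⟨a, ha⟩ := exists_form_ne_zero hv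
        apply hpq
        rw [Projectivization.mk_eq_mk_iff']
        refine ⟨sympForm m F u a / sympForm m F v a, sub_eq_zero.1 ?_⟩
        refine eq_zero_of_forall_form fun x ↦ ?_
        have hx := hcon (x - (sympForm m F v x / sympForm m F v a) • a)
          (by rw [form_sub_right, form_smul_right, div_mul_cancel₀ _ ha, sub_self])
        rw [form_sub_right, form_smul_right] at hx
        rw [form_sub_left, form_smul_left]
        field_simp at hx ⊢
        linear_combination -hx
      refine ⟨tv w 1 • u, (smul_ne_zero_iff_ne _).2 hu, ?_, ?_⟩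
      · have hfix : tv w (1 : F) • Projectivization.mk F v hv = Projectivization.mk F v hv := by
          have : tv w (1 : F) • v = v := by rw [tv_smul, hwv, mul_zero, zero_smul, add_zero]
          simp only [smul_mk_eq, this]
        have hgB : tv w (1 : F) • B = B := hB.smul_eq_of_mem hq (by rw [hfix]; exact hq)
        rw [← hgB, ← smul_mk_eq _ hu]
        exact Set.smul_mem_smul_set hp
      · rw [tv_smul, form_add_right, form_self, zero_add, form_smul_right, one_mul]
        exact mul_ne_zero huw huw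
    · exact ⟨v, hv, hq, huv⟩
  refine Set.eq_univ_of_forall fun s ↦ ?_
  induction s using Projectivization.ind with | _ z hz => ?_
  by_cases huz : sympForm m F u z = 0
  · obtain ⟨w, huw, hzw⟩ := exists_form_ne_zero_two hu hz
    have hw : w ≠ 0 := by rintro rfl; exact huw (form_zero_right _)
    have hwB := step1 u r w hu hr hw hp hrB hur huw
    exact step1 w u z hw hu hz hwB hp (by rwa [form_swap, neg_ne_zero])
      (by rwa [form_swap, neg_ne_zero])
  · exact step1 u r z hu hr hz hp hrB hur huz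

/-- The root group of a vector. -/
def rootSubgroup (v : Fin m ⊕ Fin m → F) : Subgroup (symplecticGroup (Fin m) F) where
  carrier := Set.range (tv v)
  one_mem' := ⟨0, tv_zero v⟩
  mul_mem' := by rintro _ _ ⟨c, rfl⟩ ⟨d, rfl⟩; exact ⟨c + d, (tv_add v c d).symm⟩
  inv_mem' := by rintro _ ⟨c, rfl⟩; exact ⟨-c, (tv_inv v c).symm⟩

theorem rootSubgroup_smul_vec {a : F} (ha : a ≠ 0) (v : Fin m ⊕ Fin m → F) :
    rootSubgroup (a • v) = rootSubgroup v := by
  ext g
  constructor
  · rintro ⟨c, rfl⟩; exact ⟨a * a * c, (tv_smul_vec a v c).symm⟩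
  · rintro ⟨c, rfl⟩
    exact ⟨c / (a * a), by rw [tv_smul_vec, mul_div_cancel₀ c (mul_ne_zero ha ha)]⟩

/-- The Iwasawa structure of `Sp_{2m}(F)` on the projective space. -/
noncomputable def sympIwasawa :
    IwasawaStructure (symplecticGroup (Fin m) F) (ℙ F (Fin m ⊕ Fin m → F)) where
  T p := rootSubgroup p.rep
  is_comm p := ⟨⟨by
    rintro ⟨_, c, rfl⟩ ⟨_, d, rfl⟩
    exact Subtype.ext (tv_commute (form_self _) c d)⟩⟩
  is_conj g p := by
    induction p using Projectivization.ind with | _ v hv => ?_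
    obtain ⟨a, ha⟩ := Projectivization.exists_smul_eq_mk_rep F v hv
    obtain ⟨b, hb⟩ := Projectivization.exists_smul_eq_mk_rep F (g • v) ((smul_ne_zero_iff_ne g).2 hv)
    have hL : rootSubgroup (g • Projectivization.mk F v hv).rep = rootSubgroup (g • v) := by
      rw [show (g • Projectivization.mk F v hv).rep = (b : F) • (g • v) from
        (hb.symm.trans (Units.smul_def b _)), rootSubgroup_smul_vec b.ne_zero]
    rw [hL, ← ha, Units.smul_def, rootSubgroup_smul_vec a.ne_zero]
    ext x
    rw [Subgroup.mem_pointwise_smul_iff_inv_smul_mem]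
    simp only [MulAut.smul_def, MulAut.inv_apply, MulAut.conj_symm_apply]
    constructor
    · rintro ⟨c, rfl⟩
      exact ⟨c, by rw [← tv_conj g v c]; group⟩
    · rintro ⟨c, hc⟩
      exact ⟨c, by rw [← tv_conj g v c, hc]; group⟩
  is_generator := by
    rw [← top_le_iff, ← transvectionSubgroup_eq_top]
    refine (Subgroup.closure_le _).2 ?_
    rintro A ⟨w, c, hA⟩
    obtain rfl : A = tv w c := Subtype.ext hA
    rw [SetLike.mem_coe]
    by_cases hw : w = 0
    · subst hw
      rw [show tv (0 : Fin m ⊕ Fin m → F) c = 1 from group_ext fun x ↦ by simp [tv_smul]]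
      exact one_mem _
    obtain ⟨a, ha⟩ := Projectivization.exists_smul_eq_mk_rep F w hw
    refine Subgroup.mem_iSup_of_mem (Projectivization.mk F w hw) ?_
    rw [← ha, Units.smul_def, rootSubgroup_smul_vec a.ne_zero]
    exact ⟨c, rfl⟩

/-- A normal subgroup of a perfect symplectic group is central or the whole group. -/
theorem normal_le_center_or_eq_top [Fintype F]
    (h : 3 ≤ m ∨ (m = 2 ∧ 3 ≤ Fintype.card F) ∨ 4 ≤ Fintype.card F)
    (N : Subgroup (symplecticGroup (Fin m) F)) [hN : N.Normal] :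
    N ≤ Subgroup.center (symplecticGroup (Fin m) F) ∨ N = ⊤ := by
  have := isPreprimitive_proj (F := F) (m := m)
  by_cases hfix : fixedPoints N (ℙ F (Fin m ⊕ Fin m → F)) = Set.univ
  · refine Or.inl fun g hg ↦ ?_
    have eig : ∀ v : Fin m ⊕ Fin m → F, ∃ a : F, g • v = a • v := by
      intro v
      by_cases hv : v = 0
      · exact ⟨0, by simp [hv]⟩
      have hf : (⟨g, hg⟩ : N) • Projectivization.mk F v hv = Projectivization.mk F v hv :=
        mem_fixedPoints.1 (hfix.ge (Set.mem_univ _)) _
      obtain ⟨a, ha⟩ := (Projectivization.mk_eq_mk_iff' F _ _ _ _).1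
        ((smul_mk_eq g hv).symm.trans hf)
      exact ⟨a, ha.symm⟩
    rw [Subgroup.mem_center_iff]
    intro k
    refine group_ext fun x ↦ ?_
    rw [mul_smul, mul_smul]
    obtain ⟨a, ha⟩ := eig x
    obtain ⟨b, hb⟩ := eig (k • x)
    by_cases hx : x = 0
    · simp [hx]
    rw [ha, smul_comm, hb]
    by_contra hab
    have hkx : k • x ≠ 0 := (smul_ne_zero_iff_ne k).2 hx
    have hne : a ≠ b := fun e ↦ hab (by rw [e])
    obtain ⟨z, hz1, hz2⟩ := exists_form_ne_zero_two hx hkx
    obtain ⟨d, hd⟩ := eig z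
    have e1 := form_smul_smul g x z
    have e2 := form_smul_smul g (k • x) z
    rw [ha, hd, form_smul_left, form_smul_right, ← mul_assoc] at e1
    rw [hb, hd, form_smul_left, form_smul_right, ← mul_assoc] at e2
    have ea : a * d = 1 := (mul_eq_right₀ hz1).1 e1
    have eb : b * d = 1 := (mul_eq_right₀ hz2).1 e2
    exact hne (mul_right_cancel₀ (right_ne_zero_of_mul_eq_one ea) (ea.trans eb.symm))
  · exact Or.inr (top_le_iff.1 (commutator_eq_top h ▸ sympIwasawa.commutator_le N hfix))

theorem exists_noncentral (hm : 1 ≤ m) :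
    ∃ g : symplecticGroup (Fin m) F, g ∉ Subgroup.center (symplecticGroup (Fin m) F) := by
  let i : Fin m := ⟨0, hm⟩
  refine ⟨tv (Pi.single (.inl i) 1) 1, fun h ↦ ?_⟩
  obtain ⟨a, -, ha⟩ := mem_center_iff.1 h
  have := congr_fun (ha (Pi.single (.inr i) 1)) (.inl i)
  simp [tv_smul, form_single_inl] at this

/-- `PSp_{2m}(q)` is simple. -/
theorem isSimpleGroup_PSp [Fintype F] (hm : 1 ≤ m)
    (h : 3 ≤ m ∨ (m = 2 ∧ 3 ≤ Fintype.card F) ∨ 4 ≤ Fintype.card F) :
    IsSimpleGroup (Cfsg.PSp m F) := by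
  obtain ⟨g, hg⟩ := exists_noncentral (F := F) hm
  have : Nontrivial (Cfsg.PSp m F) :=
    ⟨⟨QuotientGroup.mk g, 1, fun e ↦ hg ((QuotientGroup.eq_one_iff g).1 e)⟩⟩
  refine ⟨fun H hH ↦ ?_⟩
  have := hH.comap (QuotientGroup.mk' (Subgroup.center (symplecticGroup (Fin m) F)))
  rcases normal_le_center_or_eq_top h
    (H.comap (QuotientGroup.mk' (Subgroup.center (symplecticGroup (Fin m) F)))) with h1 | h1
  · refine Or.inl ((Subgroup.eq_bot_iff_forall H).2 fun x hx ↦ ?_)
    obtain ⟨x, rfl⟩ := QuotientGroup.mk_surjective x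
    exact (QuotientGroup.eq_one_iff x).2 (h1 hx)
  · refine Or.inr ((Subgroup.eq_top_iff' H).2 fun x ↦ ?_)
    obtain ⟨x, rfl⟩ := QuotientGroup.mk_surjective x
    exact h1.ge (Subgroup.mem_top x)

end CfsgLib.Linear.Symp
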