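/-
Subgroups of SL_2 in odd characteristic containing two root elements: basic structure.
-/
import Mathlib
import Cfsg.Agent.Lib.Linear.SL2

set_option autoImplicit false

namespace CfsgLib.Linear.Dickson

open Matrix
open scoped MatrixGroups

variable {F : Type*} [Field F]

/-- Upper root element. -/
def up (a : F) : SL(2, F) := SpecialLinearGroup.transvection (show (0 : Fin 2) ≠ 1 by decide) a

/-- Lower root element. -/
def lo (a : F) : SL(2, F) := SpecialLinearGroup.transvection (show (1 : Fin 2) ≠ 0 by decide) a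

/-- The scalar `-1`. -/
def negOne : SL(2, F) := ⟨-1, by simp [det_neg]⟩

theorem up_val (a : F) : (up a).1 = !![1, a; 0, 1] := by
  ext i j; fin_cases i <;> fin_cases j <;> simp [up, SpecialLinearGroup.transvection_coe]

theorem lo_val (a : F) : (lo a).1 = !![1, 0; a, 1] := by
  ext i j; fin_cases i <;> fin_cases j <;> simp [lo, SpecialLinearGroup.transvection_coe]

theorem up_add (a b : F) : up (a + b) = up a * up b := SpecialLinearGroup.transvection_add _ a b

theorem lo_add (a b : F) : lo (a + b) = lo a * lo b := SpecialLinearGroup.transvection_add _ a b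

theorem up_zero : up (0 : F) = 1 := SpecialLinearGroup.transvection_coeff_zero _

theorem lo_zero : lo (0 : F) = 1 := SpecialLinearGroup.transvection_coeff_zero _

theorem up_inv (a : F) : (up a)⁻¹ = up (-a) := SpecialLinearGroup.transvection_inv _ a

theorem lo_inv (a : F) : (lo a)⁻¹ = lo (-a) := SpecialLinearGroup.transvection_inv _ a

theorem up_injective : Function.Injective (up : F → SL(2, F)) := fun a b h ↦ by
  simpa [up_val] using SL2_entry_congr h 0 1

theorem lo_injective : Function.Injective (lo : F → SL(2, F)) := fun a b h ↦ by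
  simpa [lo_val] using SL2_entry_congr h 1 0

theorem negOne_val : (negOne : SL(2, F)).1 = -1 := rfl

theorem negOne_mul_val (g : SL(2, F)) : (negOne * g).1 = -g.1 := by
  change (negOne : SL(2, F)).1 * g.1 = _
  rw [negOne_val, neg_one_mul]

theorem negOne_comm (g : SL(2, F)) : negOne * g = g * negOne := by
  refine Subtype.ext ?_
  change (negOne : SL(2, F)).1 * g.1 = g.1 * (negOne : SL(2, F)).1
  rw [negOne_val, neg_one_mul, mul_neg_one]

theorem negOne_sq : negOne * negOne = (1 : SL(2, F)) := by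
  refine Subtype.ext ?_
  rw [negOne_mul_val, negOne_val, neg_neg]
  rfl

/-- The trace of an element. -/
def tr (g : SL(2, F)) : F := g.1 0 0 + g.1 1 1

theorem tr_conj (x g : SL(2, F)) : tr (x * g * x⁻¹) = tr g := by
  have h1 : tr (x * g * x⁻¹) = (x.1 * g.1 * (x⁻¹).1).trace := (trace_fin_two _).symm
  have hx : (x⁻¹).1 * x.1 = 1 := congrArg Subtype.val (inv_mul_cancel x)
  rw [h1, trace_mul_cycle, hx, one_mul]
  exact trace_fin_two _

theorem ne_scalar_of_tr {z : SL(2, F)} (hz : tr z ^ 2 ≠ 4) :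
    z.1 0 1 ≠ 0 ∨ z.1 1 0 ≠ 0 ∨ z.1 0 0 ≠ z.1 1 1 := by
  by_contra! h
  obtain ⟨h1, h2, h3⟩ := h
  have hd := SL2_det_eq z
  rw [h1, h2, h3] at hd
  exact hz (by rw [tr, h3]; linear_combination 4 * hd)

theorem span_data {z g : SL(2, F)} {a b : F}
    (hg : g.1 = a • (1 : Matrix (Fin 2) (Fin 2) F) + b • z.1) :
    tr g = 2 * a + b * tr z ∧ a * a + a * b * tr z + b * b = 1 := by
  have hd := SL2_det_eq g
  have hz := SL2_det_eq z
  unfold tr
  rw [hg] at hd ⊢
  simp at hd ⊢
  exact ⟨by ring, by linear_combination hd - b * b * hz⟩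

theorem span_data_disc {z g : SL(2, F)} {a b : F}
    (hg : g.1 = a • (1 : Matrix (Fin 2) (Fin 2) F) + b • z.1) :
    tr g ^ 2 - 4 = b ^ 2 * (tr z ^ 2 - 4) := by
  obtain ⟨h1, h2⟩ := span_data hg
  rw [h1]
  linear_combination 4 * h2

theorem mem_centralizer_of_span {z g : SL(2, F)} {a b : F}
    (hg : g.1 = a • (1 : Matrix (Fin 2) (Fin 2) F) + b • z.1) :
    g ∈ Subgroup.centralizer ({z} : Set SL(2, F)) := by
  refine Subgroup.mem_centralizer_singleton_iff.2 (Subtype.ext ?_)
  change g.1 * z.1 = z.1 * g.1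
  rw [hg]
  simp [add_mul, mul_add]

theorem eq_one_or_negOne_of_scalar {g : SL(2, F)} {a : F}
    (hg : g.1 = a • (1 : Matrix (Fin 2) (Fin 2) F)) : g = 1 ∨ g = negOne := by
  have hd := SL2_det_eq g
  rw [hg] at hd
  simp at hd
  rcases mul_self_eq_one_iff.1 hd with h | h
  · exact Or.inl (Subtype.ext (by rw [hg, h, one_smul]; rfl))
  · exact Or.inr (Subtype.ext (by rw [hg, h, negOne_val, neg_smul, one_smul]))

theorem centralizer_eq_of_mem {z g : SL(2, F)} (hz : tr z ^ 2 ≠ 4)
    (hg : g ∈ Subgroup.centralizer ({z} : Set SL(2, F))) (h1 : g ≠ 1) (h2 : g ≠ negOne) :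
    tr g ^ 2 ≠ 4 ∧
      Subgroup.centralizer ({g} : Set SL(2, F)) = Subgroup.centralizer ({z} : Set SL(2, F)) := by
  obtain ⟨a, b, hab⟩ := exists_eq_smul_one_add_of_commute (ne_scalar_of_tr hz)
    (Subgroup.mem_centralizer_singleton_iff.1 hg)
  have hb : b ≠ 0 := by
    rintro rfl
    rw [zero_smul, add_zero] at hab
    exact (eq_one_or_negOne_of_scalar hab).elim h1 h2
  have hg4 : tr g ^ 2 ≠ 4 := fun e ↦ by
    have h := span_data_disc hab
    rw [e, sub_self] at h
    exact mul_ne_zero (pow_ne_zero 2 hb) (sub_ne_zero.2 hz) h.symm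
  refine ⟨hg4, le_antisymm (fun k hk ↦ ?_) (fun k hk ↦ ?_)⟩
  · obtain ⟨c, d, hcd⟩ := exists_eq_smul_one_add_of_commute (ne_scalar_of_tr hg4)
      (Subgroup.mem_centralizer_singleton_iff.1 hk)
    refine mem_centralizer_of_span (a := c + d * a) (b := d * b) ?_
    rw [hcd, hab]; module
  · obtain ⟨c, d, hcd⟩ := exists_eq_smul_one_add_of_commute (ne_scalar_of_tr hz)
      (Subgroup.mem_centralizer_singleton_iff.1 hk)
    refine mem_centralizer_of_span (a := c - d / b * a) (b := d / b) ?_
    rw [hcd, hab, smul_add, smul_smul, smul_smul, div_mul_cancel₀ _ hb]; module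

/-- A conjugate of `z` in its centraliser is `z` or `z⁻¹`. -/
theorem eq_or_eq_inv_of_mem_centralizer (h2 : (2 : F) ≠ 0) {z g : SL(2, F)} (hz : tr z ^ 2 ≠ 4)
    (hg : g ∈ Subgroup.centralizer ({z} : Set SL(2, F))) (ht : tr g = tr z) : g = z ∨ g = z⁻¹ := by
  obtain ⟨a, b, hab⟩ := exists_eq_smul_one_add_of_commute (ne_scalar_of_tr hz)
    (Subgroup.mem_centralizer_singleton_iff.1 hg)
  obtain ⟨h1, -⟩ := span_data hab
  have hd := span_data_disc hab
  rw [ht] at h1 hd
  have hb : b * b = 1 := by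
    refine mul_right_cancel₀ (sub_ne_zero.2 hz) ?_
    linear_combination -hd
  rcases mul_self_eq_one_iff.1 hb with rfl | rfl
  · have ha : a = 0 := by
      have : (2 : F) * a = 0 := by linear_combination -h1
      simpa [h2] using this
    left
    refine Subtype.ext ?_
    rw [hab, ha, zero_smul, zero_add, one_smul]
  · have ha : a = tr z := mul_left_cancel₀ h2 (by linear_combination -h1)
    right
    refine Subtype.ext ?_
    change g.1 = adjugate z.1
    rw [hab, ha, adjugate_fin_two, tr]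
    ext i j
    fin_cases i <;> fin_cases j <;> simp <;> ring

/-- An element with trace `2e` has `(e z - 1)² = 0`. -/
theorem pow_char_eq_one_of_tr_two (p : ℕ) [hp : Fact p.Prime] [CharP F p] {z : SL(2, F)}
    (hz : tr z = 2) : z ^ p = 1 := by
  have hd := SL2_det_eq z
  unfold tr at hz
  have hsq : (z.1 - 1) * (z.1 - 1) = 0 := by
    ext i j
    fin_cases i <;> fin_cases j <;> simp [mul_apply, Fin.sum_univ_two] <;>
      first
        | linear_combination -hd + (z.1 0 0) * hz
        | linear_combination (z.1 0 1) * hz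
        | linear_combination (z.1 1 0) * hz
        | linear_combination -hd + (z.1 1 1) * hz
  refine Subtype.ext ?_
  change z.1 ^ p = 1
  have h := add_pow_char_of_commute p (Commute.one_right (z.1 - 1))
  rw [sub_add_cancel, one_pow,
    pow_eq_zero_of_le hp.out.two_le (show (z.1 - 1) ^ 2 = 0 by rw [pow_two, hsq]), zero_add] at h
  exact h

theorem eq_up_of_pow_char (p : ℕ) [hp : Fact p.Prime] [CharP F p] (hp2 : p ≠ 2) {z : SL(2, F)}
    (hc : z * up 1 = up 1 * z) {k : ℕ} (hk : z ^ p ^ k = 1) : z = up (z.1 0 1) := by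
  have e00 := SL2_entry_congr hc 0 0
  have e01 := SL2_entry_congr hc 0 1
  simp [SL2_mul_apply, up_val] at e00 e01
  have h10 : z.1 1 0 = 0 := e00
  have h11 : z.1 1 1 = z.1 0 0 := by linear_combination -e01
  have hd := SL2_det_eq z
  rw [h10, h11, mul_zero, sub_zero] at hd
  have hpow : ∀ m : ℕ, (z ^ m).1 1 0 = 0 ∧ (z ^ m).1 0 0 = z.1 0 0 ^ m := by
    intro m
    induction m with
    | zero => simp
    | succ m ih => simp [pow_succ, SL2_mul_apply, ih.1, ih.2, h10]
  have h00 : z.1 0 0 ^ p ^ k = 1 := by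
    rw [← (hpow _).2, hk]; simp
  have h1 : z.1 0 0 = 1 := by
    rcases mul_self_eq_one_iff.1 hd with h | h
    · exact h
    · rw [h, Odd.neg_one_pow ((hp.out.odd_of_ne_two hp2).pow)] at h00
      rw [h, h00]
  refine Subtype.ext ?_
  rw [up_val]
  ext i j
  fin_cases i <;> fin_cases j <;> simp [h10, h11, h1]

theorem conj_up {b : SL(2, F)} (hb : b.1 1 0 = 0) (t : F) :
    b * up t * b⁻¹ = up (b.1 0 0 * b.1 0 0 * t) := by
  rw [mul_inv_eq_iff_eq_mul]
  have hd := SL2_det_eq b
  rw [hb, mul_zero, sub_zero] at hd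
  refine Subtype.ext (Matrix.ext fun i j ↦ ?_)
  rw [SL2_mul_apply, SL2_mul_apply, up_val, up_val]
  fin_cases i <;> fin_cases j <;> simp [hb] <;> linear_combination (-(b.1 0 0 * t)) * hd

end CfsgLib.Linear.Dickson
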