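/-
Dickson: a subgroup of SL_2(q), q odd, with two Sylow p-subgroups contains a copy of SL_2(p).
-/
import Mathlib
import Cfsg.Agent.Lib.Linear.DicksonBasic
import Cfsg.Agent.Lib.PSL2Sub.Generation

set_option autoImplicit false

namespace CfsgLib.Linear.Dickson

open Matrix
open scoped MatrixGroups

variable {F : Type*} [Field F]

theorem tr_eq_two_of_pow_char (p : ℕ) [hp : Fact p.Prime] [CharP F p] {z : SL(2, F)} {k : ℕ}
    (hz : z ^ p ^ k = 1) : tr z = 2 := by
  have h0 : (z.1 - 1) ^ p ^ k = 0 := by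
    rw [sub_pow_char_pow_of_commute p k (Commute.one_right _), one_pow, sub_eq_zero]
    exact congrArg Subtype.val hz
  have h := (Matrix.isNilpotent_trace_of_isNilpotent (M := z.1 - 1) ⟨_, h0⟩).eq_zero
  rw [trace_sub, trace_one, trace_fin_two, sub_eq_zero, Fintype.card_fin] at h
  rw [tr, h]; norm_num

theorem eq_up_of_tr {z : SL(2, F)} (ht : tr z = 2) (h10 : z.1 1 0 = 0) : z = up (z.1 0 1) := by
  have hd := SL2_det_eq z
  unfold tr at ht
  rw [h10, mul_zero, sub_zero] at hd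
  have hsq : (z.1 0 0 - 1) * (z.1 0 0 - 1) = 0 := by linear_combination -hd + z.1 0 0 * ht
  have h00 : z.1 0 0 = 1 := sub_eq_zero.1 (mul_self_eq_zero.1 hsq)
  refine Subtype.ext ?_
  rw [up_val]
  ext i j
  fin_cases i <;> fin_cases j <;> simp [h10, h00] <;> linear_combination ht - h00

theorem exists_conj_lo {z : SL(2, F)} (ht : tr z = 2) (h10 : z.1 1 0 ≠ 0) :
    ∃ t : F, up t * z * (up t)⁻¹ = lo (z.1 1 0) := by
  have hd := SL2_det_eq z
  unfold tr at ht
  refine ⟨(1 - z.1 0 0) / z.1 1 0, ?_⟩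
  rw [mul_inv_eq_iff_eq_mul]
  refine Subtype.ext (Matrix.ext fun i j ↦ ?_)
  rw [SL2_mul_apply, SL2_mul_apply, up_val, lo_val]
  fin_cases i <;> fin_cases j <;> simp <;> field_simp
  · ring
  · linear_combination -hd + ht
  · linear_combination ht

/-- The Weyl element. -/
def wElt : SL(2, F) := CfsgLib.SL2Trace.mk2 0 1 (-1) 0 (by ring)

theorem wElt_conj_lo (r : F) : wElt * lo r * wElt⁻¹ = up (-r) := by
  rw [mul_inv_eq_iff_eq_mul]
  refine Subtype.ext (Matrix.ext fun i j ↦ ?_)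
  rw [SL2_mul_apply, SL2_mul_apply, up_val, lo_val]
  fin_cases i <;> fin_cases j <;> simp [wElt, CfsgLib.SL2Trace.coe_mk2]

/-- Two non-commuting unipotent elements are conjugate to root elements of opposite groups. -/
theorem exists_conj_pair {a b : SL(2, F)} (ha : tr a = 2) (hb : tr b = 2) (hab : a * b ≠ b * a) :
    ∃ (x : SL(2, F)) (α β : F), α ≠ 0 ∧ β ≠ 0 ∧ x * a * x⁻¹ = up α ∧ x * b * x⁻¹ = lo β := by
  obtain ⟨x, α, hx⟩ : ∃ (x : SL(2, F)) (α : F), x * a * x⁻¹ = up α := by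
    by_cases h : a.1 1 0 = 0
    · exact ⟨1, a.1 0 1, by simpa using eq_up_of_tr ha h⟩
    · obtain ⟨t, ht⟩ := exists_conj_lo ha h
      refine ⟨wElt * up t, -(a.1 1 0), ?_⟩
      rw [← wElt_conj_lo, ← ht]; group
  have hcomm : up α * (x * b * x⁻¹) ≠ x * b * x⁻¹ * up α := by
    rw [← hx]
    intro e
    apply hab
    simpa [mul_assoc] using congrArg (fun y ↦ x⁻¹ * y * x) e
  have htb : tr (x * b * x⁻¹) = 2 := (tr_conj x b).trans hb
  have h10 : (x * b * x⁻¹).1 1 0 ≠ 0 := fun h ↦ hcomm (by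
    rw [eq_up_of_tr htb h, ← up_add, ← up_add, add_comm])
  obtain ⟨t, ht⟩ := exists_conj_lo htb h10
  refine ⟨up t * x, α, (x * b * x⁻¹).1 1 0, ?_, h10, ?_, ?_⟩
  · rintro rfl
    exact hcomm (by rw [up_zero, one_mul, mul_one])
  · calc up t * x * a * (up t * x)⁻¹ = up t * (x * a * x⁻¹) * (up t)⁻¹ := by group
      _ = up α := by rw [hx, up_inv, ← up_add, ← up_add]; congr 1; ring
  · rw [← ht]; group

/-- Conjugation by a diagonal matrix of `GL_2`. -/
def dilate (c : Fˣ) : SL(2, F) ≃* SL(2, F) where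
  toFun g := CfsgLib.SL2Trace.mk2 (g.1 0 0) (g.1 0 1 * ↑c⁻¹) (g.1 1 0 * c) (g.1 1 1)
    (by linear_combination SL2_det_eq g - g.1 0 1 * g.1 1 0 * c.inv_mul)
  invFun g := CfsgLib.SL2Trace.mk2 (g.1 0 0) (g.1 0 1 * c) (g.1 1 0 * ↑c⁻¹) (g.1 1 1)
    (by linear_combination SL2_det_eq g - g.1 0 1 * g.1 1 0 * c.inv_mul)
  left_inv g := Subtype.ext (Matrix.ext fun i j ↦ by
    fin_cases i <;> fin_cases j <;> simp [CfsgLib.SL2Trace.coe_mk2])
  right_inv g := Subtype.ext (Matrix.ext fun i j ↦ by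
    fin_cases i <;> fin_cases j <;> simp [CfsgLib.SL2Trace.coe_mk2])
  map_mul' g h := Subtype.ext (Matrix.ext fun i j ↦ by
    fin_cases i <;> fin_cases j <;>
      simp [CfsgLib.SL2Trace.coe_mk2, SL2_mul_apply] <;> field_simp)

theorem dilate_up (c : Fˣ) (a : F) : dilate c (up a) = up (a * ↑c⁻¹) :=
  Subtype.ext (Matrix.ext fun i j ↦ by
    fin_cases i <;> fin_cases j <;> simp [dilate, CfsgLib.SL2Trace.coe_mk2, up_val])

theorem dilate_lo (c : Fˣ) (a : F) : dilate c (lo a) = lo (a * c) :=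
  Subtype.ext (Matrix.ext fun i j ↦ by
    fin_cases i <;> fin_cases j <;> simp [dilate, CfsgLib.SL2Trace.coe_mk2, lo_val])

theorem genLower_eq : (CfsgLib.PSL2Sub.genLower : SL(2, F)) = lo 1 :=
  Subtype.ext (by rw [lo_val]; rfl)

theorem genUpper_eq (a : F) : CfsgLib.PSL2Sub.genUpper a = up a :=
  Subtype.ext (by rw [up_val]; rfl)

theorem map_lo {K : Type*} [Field K] (f : K →+* F) (a : K) :
    SpecialLinearGroup.map f (lo a) = lo (f a) :=
  Subtype.ext (Matrix.ext fun i j ↦ by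
    fin_cases i <;> fin_cases j <;> simp [lo_val])

theorem map_up {K : Type*} [Field K] (f : K →+* F) (a : K) :
    SpecialLinearGroup.map f (up a) = up (f a) :=
  Subtype.ext (Matrix.ext fun i j ↦ by
    fin_cases i <;> fin_cases j <;> simp [up_val])

/-- Property of containing a copy of `SL_2(p)`. -/
def HasPrimeSL (p : ℕ) (H : Subgroup SL(2, F)) : Prop :=
  ∃ K : Subgroup SL(2, F), K ≤ H ∧ Nonempty (K ≃* SpecialLinearGroup (Fin 2) (ZMod p))

theorem hasPrimeSL_of_map (p : ℕ) {H : Subgroup SL(2, F)} (e : SL(2, F) ≃* SL(2, F))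
    (h : HasPrimeSL p (H.map e.toMonoidHom)) : HasPrimeSL p H := by
  obtain ⟨K, hK, ⟨eK⟩⟩ := h
  refine ⟨K.map e.symm.toMonoidHom, ?_,
    ⟨(K.equivMapOfInjective e.symm.toMonoidHom e.symm.injective).symm.trans eK⟩⟩
  rintro _ ⟨k, hk, rfl⟩
  obtain ⟨h, hh, rfl⟩ := hK hk
  simpa using hh

theorem hasPrimeSL_of_mem (p : ℕ) [hp : Fact p.Prime] [CharP F p] (hp2 : p ≠ 2)
    {H : Subgroup SL(2, F)} (hl : lo (1 : F) ∈ H) (hu : up (1 : F) ∈ H) : HasPrimeSL p H := by
  have h2 : (2 : ZMod p) ≠ 0 := Ring.two_ne_zero (by rw [ringChar.eq (ZMod p) p]; exact hp2)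
  have hgen : Subfield.closure ({1} : Set (ZMod p)) = ⊤ := by
    refine eq_top_iff.2 fun x _ ↦ ?_
    rw [← ZMod.natCast_zmod_val x]
    exact natCast_mem _ _
  have h9 : ¬ (Nat.card (ZMod p) = 9 ∧ (1 : ZMod p) ^ 2 = -1) := fun h ↦ by
    have := hp.out
    rw [Nat.card_zmod] at h
    rw [h.1] at this
    norm_num at this
  have htop := CfsgLib.PSL2Sub.closure_eq_top h2 1 one_ne_zero hgen h9
  let f := SpecialLinearGroup.map (n := Fin 2) (ZMod.castHom (dvd_refl p) F)
  have hf : Function.Injective f := fun g g' e ↦ Subtype.ext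
    (Matrix.map_injective (ZMod.castHom (dvd_refl p) F).injective (congrArg Subtype.val e))
  refine ⟨f.range, ?_, ⟨(MonoidHom.ofInjective hf).symm⟩⟩
  rw [MonoidHom.range_eq_map, ← htop, MonoidHom.map_closure, Subgroup.closure_le]
  rintro _ ⟨g, hg | hg, rfl⟩
  · rw [hg, genLower_eq]
    simpa [f, map_lo] using hl
  · rw [Set.mem_singleton_iff.1 hg, genUpper_eq]
    simpa [f, map_up] using hu

theorem hasPrimeSL_of_lo_up [Finite F] (p : ℕ) [hp : Fact p.Prime] [CharP F p] (hp2 : p ≠ 2)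
    {H : Subgroup SL(2, F)} {lam : F} (hlam : lam ≠ 0) (hl : lo (1 : F) ∈ H) (hu : up lam ∈ H) :
    HasPrimeSL p H := by
  by_cases hsq : lam ^ 2 = -1
  · refine hasPrimeSL_of_map p (MulAut.conj (lo lam)) (hasPrimeSL_of_mem p hp2 ?_ ?_)
    · refine ⟨lo 1, hl, ?_⟩
      show lo lam * lo 1 * (lo lam)⁻¹ = lo 1
      rw [lo_inv, ← lo_add, ← lo_add, add_neg_cancel_comm]
    · refine ⟨up lam * lo 1 * (up lam)⁻¹, mul_mem (mul_mem hu hl) (inv_mem hu), ?_⟩
      show lo lam * (up lam * lo 1 * (up lam)⁻¹) * (lo lam)⁻¹ = up 1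
      rw [mul_inv_eq_iff_eq_mul, ← mul_assoc, ← mul_assoc, mul_inv_eq_iff_eq_mul]
      refine Subtype.ext (Matrix.ext fun i j ↦ ?_)
      rw [SL2_mul_apply, SL2_mul_apply]
      fin_cases i <;> fin_cases j <;> simp [SL2_mul_apply, up_val, lo_val] <;>
        first
          | ring1
          | linear_combination hsq
          | linear_combination -hsq
          | linear_combination lam * hsq
          | linear_combination -lam * hsq
  · let K := Subfield.closure ({lam} : Set F)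
    let lam' : K := ⟨lam, Subfield.subset_closure rfl⟩
    have hgen : Subfield.closure ({lam'} : Set K) = ⊤ := by
      refine eq_top_iff.2 fun x _ ↦ ?_
      have hx : (x : F) ∈ (Subfield.closure ({lam'} : Set K)).map K.subtype := by
        rw [RingHom.map_field_closure, Set.image_singleton]
        exact x.2
      obtain ⟨y, hy, hyx⟩ := hx
      rwa [show y = x from Subtype.ext hyx] at hy
    have h2 : (2 : K) ≠ 0 := fun h ↦ Ring.two_ne_zero (R := F) (by rw [ringChar.eq F p]; exact hp2)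
      ((map_ofNat K.subtype 2).symm.trans (by rw [h, map_zero]))
    have hlam' : lam' ≠ 0 := fun h ↦ hlam (congrArg Subtype.val h)
    have htop := CfsgLib.PSL2Sub.closure_eq_top h2 lam' hlam' hgen
      fun h ↦ hsq (by simpa using congrArg K.subtype h.2)
    refine hasPrimeSL_of_mem p hp2 hl ?_
    have hle : Subgroup.closure ({CfsgLib.PSL2Sub.genLower, CfsgLib.PSL2Sub.genUpper lam'} :
        Set SL(2, K)) ≤ H.comap (SpecialLinearGroup.map K.subtype) := by
      rw [Subgroup.closure_le]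
      rintro g (hg | hg)
      · rw [hg, genLower_eq, SetLike.mem_coe, Subgroup.mem_comap, map_lo, map_one]
        exact hl
      · rw [Set.mem_singleton_iff.1 hg, genUpper_eq, SetLike.mem_coe, Subgroup.mem_comap, map_up]
        exact hu
    rw [htop] at hle
    have := hle (Subgroup.mem_top (up (1 : K)))
    rwa [Subgroup.mem_comap, map_up, map_one] at this

/-- Dickson. -/
theorem hasPrimeSL_of_two_sylow [Finite F] (p : ℕ) [hp : Fact p.Prime] [CharP F p] (hp2 : p ≠ 2)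
    {H : Subgroup SL(2, F)} (hH : 1 < Nat.card (Sylow p H)) : HasPrimeSL p H := by
  have := Finite.one_lt_card_iff_nontrivial.1 hH
  obtain ⟨P, Q, hPQ⟩ := exists_pair_ne (Sylow p H)
  obtain ⟨a, haP, b, hbQ, hab⟩ : ∃ a ∈ P, ∃ b ∈ Q, a * b ≠ b * a := by
    by_contra! h
    have hn : (Q : Subgroup H) ≤ Subgroup.normalizer ((P : Subgroup H) : Set H) :=
      le_trans (fun b hb ↦ Subgroup.mem_centralizer_iff.2 fun a ha ↦ h a ha b hb)
        (Subgroup.centralizer_le_normalizer _)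
    have hpg := IsPGroup.to_sup_of_normal_left' P.isPGroup' Q.isPGroup' hn
    exact hPQ (Sylow.ext ((P.is_maximal' hpg le_sup_left).symm.trans
      (Q.is_maximal' hpg le_sup_right)))
  have htr : ∀ (R : Sylow p H) (c : H), c ∈ R → tr (c : SL(2, F)) = 2 := by
    intro R c hc
    obtain ⟨k, hk⟩ := R.isPGroup' ⟨c, hc⟩
    exact tr_eq_two_of_pow_char p (k := k) (congrArg (fun y : R ↦ (((y : H) : SL(2, F)))) hk)
  obtain ⟨x, α, β, hα, hβ, hxa, hxb⟩ := exists_conj_pair (htr P a haP) (htr Q b hbQ)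
    (fun e ↦ hab (Subtype.ext e))
  refine hasPrimeSL_of_map p ((MulAut.conj x).trans (dilate (Units.mk0 β hβ)⁻¹)) ?_
  refine hasPrimeSL_of_lo_up p hp2 (mul_ne_zero hα hβ) ⟨b, b.2, ?_⟩ ⟨a, a.2, ?_⟩
  · show dilate _ (x * (b : SL(2, F)) * x⁻¹) = lo 1
    rw [hxb, dilate_lo]
    congr 1
    simp [hβ]
  · show dilate _ (x * (a : SL(2, F)) * x⁻¹) = up (α * β)
    rw [hxa, dilate_up]
    simp

end CfsgLib.Linear.Dickson
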