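/-
Three transvections generating `SL₂(q)`, including even `q` and the case `q = 9`.
-/
import Cfsg.Agent.Lib.PSL2Sub.Generation
import Cfsg.Agent.Lib.Linear.DicksonSL

set_option autoImplicit false
set_option linter.unusedSectionVars false

open Matrix OnePoint Matrix.SpecialLinearGroup
open scoped MatrixGroups

namespace CfsgLib.Linear.Three

open CfsgLib.PSL2Sub CfsgLib.Linear.Dickson

variable {F : Type*} [Field F] [Finite F]

/-- `up lam`, `lo 1` and the conjugate of `lo 1` fixing `γ` generate `SL₂(F)` when `lam, γ`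
generate the field, apart from dihedral and icosahedral configurations. -/
theorem closure_three (p : ℕ) [Fact p.Prime] [CharP F p] (S : Subgroup SL(2, F)) {lam γ : F}
    (hlam : lam ≠ 0) (hu : up lam ∈ S) (hl : lo 1 ∈ S) (hc : up γ * lo 1 * (up γ)⁻¹ ∈ S)
    (hgen : Subfield.closure ({lam, γ} : Set F) = ⊤)
    (hdih : p = 2 → lam = 1 ∧ γ ≠ 0 ∧ γ ≠ 1)
    (hico : p = 3 → ∃ M ∈ S, (tr M) ^ 2 = -1) : S = ⊤ := by
  classical
  set T : SL(2, F) →* PG F := SpecialLinearGroup.toPGL with hT
  set H := S.map T with hH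
  set C := up γ * lo 1 * (up γ)⁻¹ with hC
  have hTu : T (up lam) = aff 1 lam := upper_eq _ lam (up_val lam)
  have hTl : T (lo 1) = invol * aff 1 1 * invol := lower_eq _ 1 (lo_val 1)
  have hTg : T (up γ) = aff 1 γ := upper_eq _ γ (up_val γ)
  have huH : aff 1 lam ∈ H := ⟨_, hu, hTu⟩
  have hlH : invol * aff 1 1 * invol ∈ H := ⟨_, hl, hTl⟩
  have hcH : aff 1 γ * (invol * aff 1 1 * invol) * (aff 1 γ)⁻¹ ∈ H :=
    ⟨_, hc, by rw [map_mul, map_mul, map_inv, hTg, hTl]⟩
  have hu1 : (aff 1 lam : PG F) ≠ 1 := by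
    rw [← aff_one_zero]
    exact fun e => hlam (aff_injective e).2
  have hup : (aff 1 lam : PG F) ^ p = 1 := translation_pow_char p lam
  have hlp : (invol * aff 1 1 * invol : PG F) ^ p = 1 := by
    nth_rewrite 2 [← invol_inv]
    rw [conj_pow, translation_pow_char p, mul_one, mul_inv_cancel]
  have hl1 : (invol * aff 1 1 * invol : PG F) ≠ 1 := by
    nth_rewrite 2 [← invol_inv]
    rw [Ne, conj_eq_one_iff, ← aff_one_zero]
    exact fun e => one_ne_zero (aff_injective e).2
  have hl0 : (invol * aff 1 1 * invol : PG F) • ((0 : F) : OnePoint F) = ((0 : F) : OnePoint F) := by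
    rw [mul_smul, mul_smul, invol_zero, aff_smul_infty, invol_infty]
  have hlinf : (invol * aff 1 1 * invol : PG F) • (∞ : OnePoint F) = ((1 : F) : OnePoint F) := by
    rw [mul_smul, mul_smul, invol_infty, aff_smul_coe, mul_zero, zero_add, invol_one]
  haveI : Finite (PG F) := Finite.of_surjective _ ProjGenLinGroup.mk_surjective
  have hdvd : p ∣ Nat.card H := by
    have : orderOf (⟨_, huH⟩ : H) = p :=
      orderOf_eq_prime (Subtype.ext hup) fun e => hu1 (congrArg Subtype.val e)
    exact this ▸ orderOf_dvd_natCard _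
  have key : (SpecialLinearGroup.toPGL : SL(2, F) →* PG F).range ≤ H := by
    rcases classify_finite p H with h | h | h | h | h | h | h
    · exact absurd hdvd h.2
    · obtain ⟨A, hidx, hcyc, hpA, -, -⟩ := h
      have hdvd' := hdvd
      rw [← Subgroup.card_mul_index A, hidx] at hdvd'
      have hp2 : p = 2 := by
        rcases (Nat.Prime.dvd_mul Fact.out).mp hdvd' with h | h
        · exact absurd h hpA
        · exact (Nat.prime_dvd_prime_iff_eq Fact.out Nat.prime_two).mp h
      subst hp2
      obtain ⟨rfl, hg0, hg1⟩ := hdih rfl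
      exfalso
      have hnot : ∀ x : H, x ^ 2 = 1 → x ≠ 1 → x ∉ A := fun x hx hx1 hxA => hpA (by
        have : orderOf (⟨x, hxA⟩ : A) = 2 :=
          orderOf_eq_prime (Subtype.ext hx) fun e => hx1 (congrArg Subtype.val e)
        have h := orderOf_dvd_natCard (⟨x, hxA⟩ : A)
        rwa [this] at h)
      set a : H := ⟨_, huH⟩
      set b : H := ⟨_, hlH⟩
      set c : H := ⟨_, hcH⟩
      have hc2 : c ^ 2 = 1 := by
        refine Subtype.ext ?_
        show (aff 1 γ * (invol * aff 1 1 * invol) * (aff 1 γ)⁻¹ : PG F) ^ 2 = 1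
        rw [conj_pow, hlp, mul_one, mul_inv_cancel]
      have ha' := hnot a (Subtype.ext hup) fun e => hu1 (congrArg Subtype.val e)
      have hb' := hnot b (Subtype.ext hlp) fun e => hl1 (congrArg Subtype.val e)
      have hc' := hnot c hc2 fun e => hl1 (conj_eq_one_iff.mp (congrArg Subtype.val e))
      have hab : a * b ∈ A := (Subgroup.mul_mem_iff_of_index_two hidx).2 (iff_of_false ha' hb')
      have hbc : b * c ∈ A := (Subgroup.mul_mem_iff_of_index_two hidx).2 (iff_of_false hb' hc')
      have hcomm : (a * b) * (b * c) = (b * c) * (a * b) := by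
        obtain ⟨g, hg⟩ := hcyc.exists_generator
        obtain ⟨i, hi⟩ := Subgroup.mem_zpowers_iff.1 (hg ⟨_, hab⟩)
        obtain ⟨j, hj⟩ := Subgroup.mem_zpowers_iff.1 (hg ⟨_, hbc⟩)
        have := congrArg Subtype.val ((Commute.zpow_zpow_self g i j).eq)
        rwa [hi, hj] at this
      have hcomm' : T ((up 1 * lo 1) * (lo 1 * C)) = T ((lo 1 * C) * (up 1 * lo 1)) := by
        have h := congrArg Subtype.val hcomm
        simp only [map_mul, map_inv, hC, hTu, hTl, hTg]
        exact h
      have hinj : Function.Injective T := by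
        rw [injective_iff_map_eq_one]
        intro z hz
        obtain ⟨h01, h10, h00⟩ := CfsgLib.SL2Trace.mem_center_iff_entries.1 (toPGL_eq_one hz)
        have hdet := CfsgLib.SL2Trace.det_coe z
        rw [h01, h10, ← h00, mul_zero, sub_zero] at hdet
        have h1 : (z : Matrix (Fin 2) (Fin 2) F) 0 0 = 1 := by
          have : ((z : Matrix (Fin 2) (Fin 2) F) 0 0 - 1) ^ 2 = 0 := by
            have h2 : (2 : F) = 0 := CharP.cast_eq_zero F 2
            linear_combination hdet - ((z : Matrix (Fin 2) (Fin 2) F) 0 0 - 1) * h2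
          exact sub_eq_zero.1 (pow_eq_zero_iff two_ne_zero |>.1 this)
        refine Subtype.ext (Matrix.ext fun i j => ?_)
        fin_cases i <;> fin_cases j <;> simp [h01, h10, h1, ← h00]
      have h00 := congrArg (fun z : SL(2, F) => z.1 0 0) (hinj hcomm')
      have h2 : (2 : F) = 0 := CharP.cast_eq_zero F 2
      simp [hC, up_inv, up_val, lo_val] at h00
      have : γ * (γ + 1) = 0 := by
        linear_combination h00 - h2
      rcases mul_eq_zero.1 this with h | h
      · exact hg0 h
      · exact hg1 (by linear_combination h - h2)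
    · obtain ⟨-, x, hx⟩ := h
      have e1 : x = ∞ := unique_fixed_of_pow_char p hu1 hup (aff_smul_infty 1 lam) (hx ⟨_, huH⟩)
      have e2 : x = ((0 : F) : OnePoint F) :=
        unique_fixed_of_pow_char p hl1 hlp hl0 (hx ⟨_, hlH⟩)
      exact absurd (e1.symm.trans e2) (OnePoint.infty_ne_coe _)
    · exact absurd hdvd h.1
    · exact absurd hdvd h.1
    · obtain ⟨h3, ⟨e⟩⟩ := h
      exfalso
      obtain rfl : p = 3 := h3.resolve_left fun h => h hdvd
      obtain ⟨M, hM, ht⟩ := hico rfl
      have c3 : (3 : F) = 0 := by exact_mod_cast CharP.cast_eq_zero F 3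
      have h2ne : (2 : F) ≠ 0 := fun h => one_ne_zero (α := F) (by linear_combination c3 - h)
      have hdet := CfsgLib.SL2Trace.det_coe M
      unfold tr at ht
      set m00 := (M : Matrix (Fin 2) (Fin 2) F) 0 0
      set m01 := (M : Matrix (Fin 2) (Fin 2) F) 0 1
      set m10 := (M : Matrix (Fin 2) (Fin 2) F) 1 0
      set m11 := (M : Matrix (Fin 2) (Fin 2) F) 1 1
      have hM2 : (M ^ 2).1 = !![(m00 + m11) * m00 - 1, (m00 + m11) * m01;
          (m00 + m11) * m10, (m00 + m11) * m11 - 1] := by
        refine Matrix.ext fun i j => ?_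
        fin_cases i <;> fin_cases j <;>
          simp [pow_two, SL2_mul_apply] <;>
          simp only [m00, m01, m10, m11] at hdet ⊢ <;>
          first | ring1 | linear_combination -hdet | linear_combination hdet
      have hM4 : M ^ 4 ∈ Subgroup.center SL(2, F) := by
        have : (M ^ 4).1 = (M ^ 2).1 * (M ^ 2).1 :=
          (congrArg Subtype.val (pow_add M 2 2)).trans (Matrix.SpecialLinearGroup.coe_mul _ _)
        rw [CfsgLib.SL2Trace.mem_center_iff_entries, this, hM2]
        simp [Matrix.mul_apply, Fin.sum_univ_two]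
        refine ⟨?_, ?_, ?_⟩
        · linear_combination ((m00 + m11) * m01) * ht - (m00 + m11) * m01 * c3
        · linear_combination ((m00 + m11) * m10) * ht - (m00 + m11) * m10 * c3
        · linear_combination ((m00 + m11) * (m00 - m11)) * ht - (m00 + m11) * (m00 - m11) * c3
      have hM2n : M ^ 2 ∉ Subgroup.center SL(2, F) := by
        rw [CfsgLib.SL2Trace.mem_center_iff_entries, hM2]
        simp
        intro a b
        have ht0 : m00 + m11 ≠ 0 := fun h => by
          rw [h] at ht
          exact one_ne_zero (α := F) (by linear_combination ht)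
        refine ⟨fun hc => ?_, ht0⟩
        have hb : m01 = 0 := a.resolve_left ht0
        have hd : m00 * m00 = 1 := by rw [hb] at hdet; rw [← hc] at hdet; linear_combination hdet
        apply h2ne
        rw [← hc] at ht
        linear_combination ht - 4 * hd - c3
      set g := e ⟨T M, M, hM, rfl⟩
      have hcen : ∀ z ∈ Subgroup.center SL(2, F), T z = 1 := fun z hz => by
        rwa [← Matrix.SpecialLinearGroup.toPGL_ker, MonoidHom.mem_ker] at hz
      have hg4 : g ^ 4 = 1 := by
        rw [← map_pow, map_eq_one_iff e e.injective]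
        exact Subtype.ext (by rw [SubgroupClass.coe_pow, OneMemClass.coe_one, ← map_pow, hcen _ hM4])
      have hg2 : g ^ 2 ≠ 1 := by
        intro h
        rw [← map_pow, map_eq_one_iff e e.injective] at h
        refine hM2n (toPGL_eq_one ?_)
        have := congrArg Subtype.val h
        rwa [SubgroupClass.coe_pow, OneMemClass.coe_one, ← map_pow] at this
      rcases alt_five_pow g with h | h | h
      · exact hg2 h
      · rw [pow_succ, h, one_mul] at hg4; exact hg2 (by rw [hg4, one_pow])
      · rw [pow_succ, hg4, one_mul] at h; exact hg2 (by rw [h, one_pow])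
    · obtain ⟨g₁, E, -, hpts, hH'⟩ := h
      have pts : ∀ x : OnePoint F, ∀ h : PG F, h ∈ H → h ≠ 1 → h ^ p = 1 → h • x = x →
          ∃ z : OnePoint E, g₁⁻¹ • x = OnePoint.map E.subtype z := by
        intro x h hh h1 hp' hx
        obtain ⟨z, hz⟩ := (hpts x).mp ⟨⟨h, hh⟩, fun e => h1 (congrArg Subtype.val e), hp', hx⟩
        exact ⟨z, hz.symm⟩
      obtain ⟨a, ha⟩ := pts ∞ _ huH hu1 hup (aff_smul_infty 1 lam)
      obtain ⟨b, hb⟩ := pts _ _ hlH hl1 hlp hl0
      have hconj : ∀ (g h : PG F) (x : OnePoint F), h • x = x → (g * h * g⁻¹) • (g • x) = g • x := fun g h x hx => by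
        rw [mul_smul, inv_smul_smul, mul_smul, hx]
      obtain ⟨c, hc⟩ := pts ((1 : F) : OnePoint F) _
        (H.mul_mem (H.mul_mem hlH huH) (H.inv_mem hlH)) (fun e => hu1 (conj_eq_one_iff.mp e))
        (by rw [conj_pow, hup, mul_one, mul_inv_cancel])
        (by rw [← hlinf]; exact hconj _ _ _ (aff_smul_infty 1 lam))
      obtain ⟨d, hd⟩ := pts ((lam : F) : OnePoint F) _
        (H.mul_mem (H.mul_mem huH hlH) (H.inv_mem huH)) (fun e => hl1 (conj_eq_one_iff.mp e))
        (by rw [conj_pow, hlp, mul_one, mul_inv_cancel])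
        (by
          have := hconj (aff 1 lam) _ _ hl0
          rwa [aff_smul_coe, mul_zero, zero_add] at this)
      obtain ⟨d', hd'⟩ := pts ((γ : F) : OnePoint F) _ hcH (fun e => hl1 (conj_eq_one_iff.mp e))
        (by rw [conj_pow, hlp, mul_one, mul_inv_cancel])
        (by
          have := hconj (aff 1 γ) _ _ hl0
          rwa [aff_smul_coe, mul_zero, zero_add] at this)
      obtain ⟨g₂, hg₂⟩ := mem_range_map_of_three E.subtype (g := g₁⁻¹)
        (a := ∞) (b := ((0 : E) : OnePoint E)) (c := ((1 : E) : OnePoint E))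
        (OnePoint.infty_ne_coe _) (OnePoint.infty_ne_coe _) zero_ne_one_onePoint
        (x := a) (y := b) (z := c) ha (by simpa using hb) (by simpa using hc)
      have hmemE : ∀ (r : F) (z : OnePoint E), g₁⁻¹ • ((r : F) : OnePoint F) = OnePoint.map E.subtype z →
          r ∈ E := by
        intro r z hz
        rw [← hg₂, ← smul_inv_smul g₂ z, ← map_smul_onePoint] at hz
        have h' := MulAction.injective _ hz
        cases hz' : g₂⁻¹ • z with
        | infty => rw [hz'] at h'; exact absurd h' (OnePoint.coe_ne_infty r)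
        | coe e =>
          rw [hz'] at h'
          rw [OnePoint.coe_eq_coe.mp h']
          exact e.2
      have hEt : E = ⊤ := by
        rw [eq_top_iff, ← hgen, Subfield.closure_le, Set.insert_subset_iff, Set.singleton_subset_iff]
        exact ⟨hmemE _ _ hd, hmemE _ _ hd'⟩
      subst hEt
      have hbij : Function.Bijective ((⊤ : Subfield F).subtype) :=
        ⟨Subtype.coe_injective, fun x => ⟨⟨x, trivial⟩, rfl⟩⟩
      rintro x hx
      obtain ⟨y, hy⟩ := (range_toPGL_normal F).conj_mem x hx g₁⁻¹
      obtain ⟨y', rfl⟩ := sl_map_surjective _ hbij y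
      have hin : g₁⁻¹ * x * g₁⁻¹⁻¹ ∈ H.map (MulAut.conj g₁⁻¹).toMonoidHom := by
        rw [← hy]
        rcases hH' with h | ⟨-, h⟩ <;> rw [h, ← pg_map_toPGL]
        · exact ⟨_, rfl⟩
        · exact ⟨y', rfl⟩
      obtain ⟨h', hh', he⟩ := Subgroup.mem_map.mp hin
      have he' : g₁⁻¹ * h' * g₁⁻¹⁻¹ = g₁⁻¹ * x * g₁⁻¹⁻¹ := he
      rw [mul_right_cancel_iff, mul_left_cancel_iff] at he'
      rwa [he'] at hh'
  -- squares of the elements of order `p`
  rw [eq_top_iff]
  intro g _
  refine Linear.SL_transvection_induction (fun g => g ∈ S) S.one_mem ?_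
    (fun a b ha hb => S.mul_mem ha hb) g
  intro i j hij c
  set t := SpecialLinearGroup.transvection hij c
  obtain ⟨s, hs, he⟩ := key ⟨t, rfl⟩
  set z := s⁻¹ * t with hzdef
  have hz : z ∈ Subgroup.center SL(2, F) :=
    toPGL_eq_one (by rw [hzdef, map_mul, map_inv, ← he]; exact inv_mul_cancel _)
  have hts : t = s * z := by rw [hzdef, mul_inv_cancel_left]
  have hzsq : z * z = 1 := CfsgLib.SL2Trace.mul_self_eq_one_of_mem_center hz
  rcases eq_or_ne p 2 with hp2 | hp2
  · have hz1 : z = 1 := by
      obtain ⟨h01, h10, h00⟩ := CfsgLib.SL2Trace.mem_center_iff_entries.1 hz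
      have hdet := CfsgLib.SL2Trace.det_coe z
      rw [h01, h10, ← h00, mul_zero, sub_zero] at hdet
      have h1 : (z : Matrix (Fin 2) (Fin 2) F) 0 0 = 1 := by
        subst hp2
        have : ((z : Matrix (Fin 2) (Fin 2) F) 0 0 - 1) ^ 2 = 0 := by
          have h2 : (2 : F) = 0 := CharP.cast_eq_zero F 2
          linear_combination hdet - ((z : Matrix (Fin 2) (Fin 2) F) 0 0 - 1) * h2
        exact sub_eq_zero.1 (pow_eq_zero_iff two_ne_zero |>.1 this)
      refine Subtype.ext (Matrix.ext fun i j => ?_)
      fin_cases i <;> fin_cases j <;> simp [h01, h10, h1, ← h00]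
    show t ∈ S
    rw [hts, hz1, mul_one]; exact hs
  · -- `t` has odd order, so it is a power of `t * t = s * s`
    have hzc : Commute s z := Subgroup.mem_center_iff.mp hz s
    have ht2 : t ^ 2 = s ^ 2 := by
      rw [hts, hzc.mul_pow, pow_two z, hzsq, mul_one]
    have hpodd : Odd p := (Fact.out : p.Prime).odd_of_ne_two hp2
    obtain ⟨r, hr⟩ := hpodd
    have htp : t ^ p = 1 := by
      refine Subtype.ext ((Matrix.SpecialLinearGroup.coe_pow t p).trans ?_)
      have hN : t.1 - 1 = Matrix.single i j c := by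
        simp [t, SpecialLinearGroup.transvection_coe]
      haveI : CharP (Matrix (Fin 2) (Fin 2) F) p := inferInstance
      have hsq0 : (t.1 - 1) ^ 2 = 0 := by
        rw [hN, pow_two, Matrix.single_mul_single_of_ne (h := hij.symm)]
      have := pow_eq_zero_of_le (Fact.out : p.Prime).two_le hsq0
      rw [sub_pow_char_of_commute _ (Commute.one_right _), one_pow, sub_eq_zero] at this
      exact this
    show t ∈ S
    have : t = (t ^ 2) ^ (r + 1) := by
      rw [← pow_mul, show 2 * (r + 1) = p + 1 by omega, pow_succ, htp, one_mul]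
    rw [this, ht2, ← pow_mul]
    exact S.pow_mem hs _

end CfsgLib.Linear.Three
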