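/-
The regular unipotent `u = diag(J, J⁻ᵀ) T(a,1)` of `Sp_{2n}(F)`, a Witt lemma for three vectors,
and a generation criterion through vectors all of whose transvections lie in a subgroup.
-/
import Cfsg.Agent.Lib.Linear.Symplectic

set_option autoImplicit false

namespace CfsgLib.Linear.SympReg

open Matrix Cfsg CfsgLib.Linear.Symp

variable {F : Type*} [Field F] {m : ℕ}

/-- The vector `a_i`. -/
def eA (i : Fin m) : Fin m ⊕ Fin m → F := Pi.single (.inl i) 1

/-- The vector `b_i`. -/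
def eB (i : Fin m) : Fin m ⊕ Fin m → F := Pi.single (.inr i) 1

theorem eA_ne_zero (i : Fin m) : (eA i : Fin m ⊕ Fin m → F) ≠ 0 :=
  Pi.single_ne_zero_iff.2 one_ne_zero

theorem eB_ne_zero (i : Fin m) : (eB i : Fin m ⊕ Fin m → F) ≠ 0 :=
  Pi.single_ne_zero_iff.2 one_ne_zero

theorem form_eA (u : Fin m ⊕ Fin m → F) (i : Fin m) : sympForm m F u (eA i) = u (.inr i) :=
  form_single_inl u i

theorem form_eB (u : Fin m ⊕ Fin m → F) (i : Fin m) : sympForm m F u (eB i) = -u (.inl i) :=
  form_single_inr u i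

theorem form_eA_eA (i j : Fin m) : sympForm m F (eA i) (eA j) = 0 := by
  rw [form_eA]; simp [eA]

theorem form_eB_eB (i j : Fin m) : sympForm m F (eB i) (eB j) = 0 := by
  rw [form_eB]; simp [eB]

theorem form_eB_eA (i : Fin m) : sympForm m F (eB i) (eA i) = 1 := by
  rw [form_eA]; simp [eB]

theorem form_eA_eB (i : Fin m) : sympForm m F (eA i) (eB i) = -1 := by
  rw [form_eB]; simp [eA]

/-! ### Witt's lemma for three vectors -/

/-- Vectors `x, y, z` with `f(y,x) = κ ≠ 0` and `z ∉ ⟨x,y⟩` go to `a_i`, `κ b_i`, and a vector with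
prescribed component orthogonal to the pair. -/
theorem exists_witt (i : Fin m) {x y z t : Fin m ⊕ Fin m → F} {κ : F} (hκ : κ ≠ 0)
    (hyx : sympForm m F y x = κ) (hz : ∀ p q : F, z ≠ p • x + q • y)
    (ht : InW {i} t) (ht0 : t ≠ 0) :
    ∃ h : symplecticGroup (Fin m) F, h • x = eA i ∧ h • y = κ • eB i ∧
      h • z = (-(sympForm m F z y / κ)) • eA i + sympForm m F z x • eB i + t := by
  obtain ⟨h₁, h1y, h1x⟩ := exists_smul_pair (u := κ⁻¹ • y) (v := x) (u' := eB i) (v' := eA i)
    (by rw [form_smul_left, hyx, inv_mul_cancel₀ hκ]) (form_eB_eA i)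
  have h1y' : h₁ • y = κ • eB i := by
    rw [← h1y, smul_comm κ h₁, smul_inv_smul₀ hκ]
  set r := h₁ • z with hr
  have hrx : r (.inr i) = sympForm m F z x := by
    rw [← form_eA r i, hr, ← h1x, form_smul_smul]
  have hry : r (.inl i) = -(sympForm m F z y / κ) := by
    have h := form_smul_smul h₁ z y
    rw [h1y', form_smul_right, form_eB, ← hr] at h
    field_simp
    linear_combination -h
  set Z := r - r (.inl i) • eA i - r (.inr i) • eB i with hZ
  have hZW : InW {i} Z := by
    intro j hj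
    rw [Finset.mem_singleton.1 hj]
    simp [hZ, eA, eB]
  have hZ0 : Z ≠ 0 := by
    intro h0
    apply hz (r (.inl i)) (r (.inr i) / κ)
    refine MulAction.injective h₁ ?_
    show h₁ • z = h₁ • (_ + _)
    rw [smul_add, smul_comm h₁, smul_comm h₁, h1x, h1y', ← hr, smul_smul, div_mul_cancel₀ _ hκ]
    have := h0
    rw [hZ, sub_sub, sub_eq_zero] at this
    exact this
  obtain ⟨k, hk, hkZ⟩ := exists_smul_eq_inW hZW ht hZ0 ht0
  have hfix := transvectionSubgroupW_fix hk (Finset.mem_singleton_self i)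
  have hfa : k • (eA i : Fin m ⊕ Fin m → F) = eA i := hfix.1
  have hfb : k • (eB i : Fin m ⊕ Fin m → F) = eB i := hfix.2
  refine ⟨k * h₁, ?_, ?_, ?_⟩
  · rw [mul_smul, h1x, hfa]
  · rw [mul_smul, h1y', smul_comm, hfb]
  · rw [mul_smul, ← hr, ← hrx, ← hry]
    have hdec : r = r (.inl i) • eA i + r (.inr i) • eB i + Z := by rw [hZ]; abel
    conv_lhs => rw [hdec]
    rw [smul_add, smul_add, smul_comm k, smul_comm k, hfa, hfb, hkZ]

/-! ### Vectors with all transvections in a subgroup -/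

/-- All transvections of `v` lie in `G`. -/
def FullVec (G : Subgroup (symplecticGroup (Fin m) F)) (v : Fin m ⊕ Fin m → F) : Prop :=
  ∀ c : F, tv v c ∈ G

variable {G : Subgroup (symplecticGroup (Fin m) F)} {v w e : Fin m ⊕ Fin m → F}

theorem FullVec.smul (hv : FullVec G v) (a : F) : FullVec G (a • v) := fun c => by
  rw [tv_smul_vec]; exact hv _

theorem FullVec.image (hv : FullVec G v) {g : symplecticGroup (Fin m) F} (hg : g ∈ G) :
    FullVec G (g • v) := fun c => by
  rw [← tv_conj]; exact mul_mem (mul_mem hg (hv c)) (inv_mem hg)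

theorem FullVec.comb (hv : FullVec G v) (hw : FullVec G w) (h : sympForm m F v w ≠ 0) (a b : F) :
    FullVec G (a • v + b • w) := by
  rcases eq_or_ne a 0 with rfl | ha
  · rw [zero_smul, zero_add]; exact hw.smul b
  have h1 : FullVec G (v + (b / a) • w) := by
    have h2 := hv.image (hw (b / a / sympForm m F v w))
    rwa [tv_smul, div_mul_cancel₀ _ h] at h2
  have h3 := h1.smul a
  rwa [smul_add, smul_smul, mul_div_cancel₀ _ ha] at h3

theorem FullVec.add (hv : FullVec G v) (hw : FullVec G w) (h : sympForm m F v w ≠ 0) :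
    FullVec G (v + w) := by
  simpa using hv.comb hw h 1 1

theorem FullVec.sub (hv : FullVec G v) (hw : FullVec G w) (h : sympForm m F v w ≠ 0) :
    FullVec G (v - w) := by
  have := hv.comb hw h 1 (-1)
  rwa [one_smul, neg_one_smul, ← sub_eq_add_neg] at this

theorem FullVec.add_of_pair (he : FullVec G e) (hv : FullVec G v) (hw : FullVec G w)
    (hve : sympForm m F v e ≠ 0) (hwe : sympForm m F w e ≠ 0) (hs : sympForm m F (v + w) e ≠ 0) :
    FullVec G (v + w) := by
  by_cases h : sympForm m F v w = 0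
  · have h1 : FullVec G (v + (w + e)) :=
      hv.add (hw.add he hwe) (by rw [form_add_right, h, zero_add]; exact hve)
    have h2 := h1.sub he (by rw [← add_assoc, form_add_left, form_self, add_zero]; exact hs)
    rwa [← add_assoc, add_sub_cancel_right] at h2
  · exact hv.add hw h

/-- The translations preserving the full vectors not orthogonal to `e`. -/
def shiftSpace (G : Subgroup (symplecticGroup (Fin m) F)) (e : Fin m ⊕ Fin m → F) :
    Submodule F (Fin m ⊕ Fin m → F) where
  carrier := {h | sympForm m F h e = 0 ∧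
    ∀ v, FullVec G v → sympForm m F v e ≠ 0 → FullVec G (v + h)}
  add_mem' := fun {a b} ha hb => ⟨by rw [form_add_left, ha.1, hb.1, add_zero], fun v hv hve => by
    rw [← add_assoc]
    exact hb.2 _ (ha.2 v hv hve) (by rwa [form_add_left, ha.1, add_zero])⟩
  zero_mem' := ⟨form_zero_left e, fun v hv _ => by rwa [add_zero]⟩
  smul_mem' := fun c h hh => ⟨by rw [form_smul_left, hh.1, mul_zero], fun v hv hve => by
    rcases eq_or_ne c 0 with rfl | hc
    · rwa [zero_smul, add_zero]
    · have h1 := (hh.2 (c⁻¹ • v) (hv.smul _) (by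
        rw [form_smul_left]; exact mul_ne_zero (inv_ne_zero hc) hve)).smul c
      rwa [smul_add, smul_inv_smul₀ hc] at h1⟩

theorem self_mem_shiftSpace (he : FullVec G e) : e ∈ shiftSpace G e :=
  ⟨form_self e, fun _ hv hve => hv.add he hve⟩

theorem smul_mem_shiftSpace {g : symplecticGroup (Fin m) F} (hg : g ∈ G) (hge : g • e = e)
    {h : Fin m ⊕ Fin m → F} (hh : h ∈ shiftSpace G e) : g • h ∈ shiftSpace G e := by
  refine ⟨?_, fun v hv hve => ?_⟩
  · conv_lhs => rw [← hge]
    rw [form_smul_smul]; exact hh.1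
  · have h1 := hh.2 (g⁻¹ • v) (hv.image (inv_mem hg)) (by
      rwa [← form_smul_smul g, smul_inv_smul, hge])
    have h2 := h1.image hg
    rwa [smul_add, smul_inv_smul] at h2

/-- With at least three scalars, differences of full vectors with equal pairing are shifts. -/
theorem sub_mem_shiftSpace (hq : ∀ a b : F, ∃ t, t ≠ a ∧ t ≠ b) (he : FullVec G e)
    (hv : FullVec G v) (hw : FullVec G w) (hve : sympForm m F v e ≠ 0)
    (heq : sympForm m F w e = sympForm m F v e) : w - v ∈ shiftSpace G e := by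
  refine ⟨by rw [form_sub_left, heq, sub_self], fun x hx hxe => ?_⟩
  set φ := sympForm m F v e with hφ
  set ρ := sympForm m F x e
  obtain ⟨t, ht1, ht2⟩ := hq (-ρ / φ) (1 - ρ / φ)
  have hadd : ∀ (p : Fin m ⊕ Fin m → F) (c : F), FullVec G p → sympForm m F p e ≠ 0 →
      sympForm m F (p + c • w) e ≠ 0 → FullVec G (p + c • w) := by
    intro p c hp hpe hs
    rcases eq_or_ne c 0 with rfl | hc
    · rwa [zero_smul, add_zero]
    · exact he.add_of_pair hp (hw.smul c) hpe
        (by rw [form_smul_left, heq]; exact mul_ne_zero hc hve) hs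
  have hval1 : sympForm m F (x + t • w) e = ρ + t * φ := by
    rw [form_add_left, form_smul_left, heq]
  have hne1 : ρ + t * φ ≠ 0 := fun h => ht1 (by field_simp; linear_combination h)
  have h1 : FullVec G (x + t • w) := hadd x t hx hxe (by rwa [hval1])
  have hval2 : sympForm m F (x + t • w + (-1 : F) • v) e = ρ + t * φ - φ := by
    rw [form_add_left, hval1, form_smul_left, ← hφ]; ring
  have hne2 : ρ + t * φ - φ ≠ 0 := fun h => ht2 (by field_simp; linear_combination h)
  have h2 : FullVec G (x + t • w + (-1 : F) • v) := he.add_of_pair h1 (hv.smul _) (by rwa [hval1])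
    (by rw [form_smul_left, ← hφ]; simpa using hve) (by rwa [hval2])
  have h3 := hadd _ (1 - t) h2 (by rwa [hval2]) (by
    rw [form_add_left, hval2, form_smul_left, heq]
    ring_nf
    exact hxe)
  have hid : x + t • w + (-1 : F) • v + (1 - t) • w = x + (w - v) := by module
  rwa [hid] at h3

/-- A difference `h` of full vectors is a shift as soon as some shift is not orthogonal to it. -/
theorem mem_shiftSpace_of_pair {h k : Fin m ⊕ Fin m → F} (hh : sympForm m F h e = 0)
    (hk : k ∈ shiftSpace G e) (hkh : sympForm m F k h ≠ 0) (hv : FullVec G v)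
    (hve : sympForm m F v e ≠ 0) (hvh : FullVec G (v + h)) : h ∈ shiftSpace G e := by
  have hfull : FullVec G h := by
    have key : ∀ p, FullVec G p → FullVec G (p + h) → sympForm m F p h ≠ 0 → FullVec G h := by
      intro p hp hph hne
      have := hph.sub hp (by rw [form_add_left, form_self, zero_add, form_swap, neg_ne_zero]; exact hne)
      rwa [add_sub_cancel_left] at this
    by_cases h0 : sympForm m F v h = 0
    · refine key (v + k) (hk.2 v hv hve) ?_ (by rw [form_add_left, h0, zero_add]; exact hkh)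
      have h1 := hk.2 (v + h) hvh (by rwa [form_add_left, hh, add_zero])
      rwa [add_right_comm] at h1
    · exact key v hv hvh h0
  refine ⟨hh, fun x hx hxe => ?_⟩
  by_cases h0 : sympForm m F x h = 0
  · have hxk : sympForm m F (x + k) e ≠ 0 := by rwa [form_add_left, hk.1, add_zero]
    have h1 : FullVec G (x + k + h) :=
      (hk.2 x hx hxe).add hfull (by rw [form_add_left, h0, zero_add]; exact hkh)
    have h2 := ((shiftSpace G e).neg_mem hk).2 _ h1 (by rwa [form_add_left, hh, add_zero])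
    rwa [show x + k + h + -k = x + h by abel] at h2
  · exact hx.add hfull h0

/-- If all vectors orthogonal to `e` are shifts then `G` is the whole group. -/
theorem eq_top_of_shiftSpace {s : Fin m ⊕ Fin m → F} (hs : FullVec G s)
    (hse : sympForm m F s e ≠ 0) (hK : ∀ h, sympForm m F h e = 0 → h ∈ shiftSpace G e) :
    G = ⊤ := by
  have hpair : ∀ x, sympForm m F x e ≠ 0 → FullVec G x := by
    intro x hx
    set l := sympForm m F x e / sympForm m F s e
    have h0 : sympForm m F (x - l • s) e = 0 := by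
      rw [form_sub_left, form_smul_left, div_mul_cancel₀ _ hse, sub_self]
    have h := (hK _ h0).2 (l • s) (hs.smul l) (by
      rw [form_smul_left, div_mul_cancel₀ _ hse]; exact hx)
    rwa [add_sub_cancel] at h
  have hall : ∀ x, FullVec G x := by
    intro x
    by_cases hx : sympForm m F x e = 0
    · rcases eq_or_ne x 0 with rfl | hx0
      · simpa using hs.smul 0
      obtain ⟨w, hwx, hwe⟩ : ∃ w, sympForm m F w x ≠ 0 ∧ sympForm m F w e ≠ 0 := by
        by_cases h : sympForm m F s x = 0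
        · obtain ⟨w, hw⟩ := exists_form_ne_zero hx0
          have hw' : sympForm m F w x ≠ 0 := by rw [form_swap]; exact neg_ne_zero.2 hw
          by_cases hwe : sympForm m F w e = 0
          · exact ⟨w + s, by rwa [form_add_left, h, add_zero], by rwa [form_add_left, hwe, zero_add]⟩
          · exact ⟨w, hw', hwe⟩
        · exact ⟨s, h, hse⟩
      have h1 := (hpair (w + x) (by rwa [form_add_left, hx, add_zero])).sub (hpair w hwe)
        (by rw [form_add_left, form_self, zero_add, form_swap, neg_ne_zero]; exact hwx)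
      rwa [add_sub_cancel_left] at h1
    · exact hpair x hx
  rw [eq_top_iff, ← transvectionSubgroup_eq_top, transvectionSubgroup, Subgroup.closure_le]
  rintro A ⟨x, c, hA⟩
  rw [show A = tv x c from Subtype.ext hA]
  exact hall x c

/-! ### The regular unipotent element -/

variable {k : ℕ}

/-- The upper unitriangular Jordan block. -/
def jMat (k : ℕ) (F : Type*) [Field F] : Matrix (Fin (k + 2)) (Fin (k + 2)) F :=
  Matrix.of fun i j => if j = i ∨ (j : ℕ) = i + 1 then 1 else 0

theorem det_jMat : (jMat k F).det = 1 := by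
  rw [Matrix.det_of_isUpperTriangular (fun i j (hij : j < i) => by
    simp only [jMat, Matrix.of_apply]
    rw [if_neg]
    rintro (rfl | h)
    · exact lt_irrefl _ hij
    · exact absurd (Fin.lt_def.1 hij) (by omega))]
  simp [jMat]

theorem jMat_mulVec_single (j : Fin (k + 2)) :
    jMat k F *ᵥ Pi.single j 1 = fun i => if j = i ∨ (j : ℕ) = i + 1 then 1 else 0 := by
  ext i; simp [jMat]

/-- The block diagonal matrix `diag(A, A⁻ᵀ)`. -/
noncomputable def blockDiag (A : Matrix (Fin m) (Fin m) F) (hA : IsUnit A.det) :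
    symplecticGroup (Fin m) F :=
  ⟨fromBlocks A 0 0 A⁻¹ᵀ, by
    rw [SymplecticGroup.mem_iff']
    simp only [J, fromBlocks_transpose, transpose_zero, transpose_transpose, fromBlocks_multiply]
    simp [← transpose_mul, Matrix.nonsing_inv_mul _ hA]⟩

/-- The block diagonal part of the regular unipotent element. -/
noncomputable def dJ (k : ℕ) (F : Type*) [Field F] : symplecticGroup (Fin (k + 2)) F :=
  blockDiag (jMat k F) (by rw [det_jMat]; exact isUnit_one)

/-- The regular unipotent element. -/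
noncomputable def uReg (k : ℕ) (F : Type*) [Field F] : symplecticGroup (Fin (k + 2)) F :=
  dJ k F * tv (eA (Fin.last (k + 1))) 1

theorem dJ_inv : (((dJ k F)⁻¹ : symplecticGroup (Fin (k + 2)) F) : Matrix _ _ F) =
    fromBlocks (jMat k F)⁻¹ 0 0 (jMat k F)ᵀ := by
  have hu : IsUnit (jMat k F).det := by rw [det_jMat]; exact isUnit_one
  have : (dJ k F)⁻¹ = blockDiag (jMat k F)⁻¹ (Matrix.isUnit_nonsing_inv_det _ hu) := by
    refine inv_eq_of_mul_eq_one_right (Subtype.ext ?_)
    show fromBlocks _ _ _ _ * fromBlocks _ _ _ _ = 1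
    simp [fromBlocks_multiply, ← transpose_mul, Matrix.mul_nonsing_inv _ hu,
      Matrix.nonsing_inv_nonsing_inv _ hu, fromBlocks_one]
  rw [this]
  show fromBlocks _ _ _ _ = _
  rw [Matrix.nonsing_inv_nonsing_inv _ hu]

theorem dJ_smul_eA_zero : dJ k F • (eA 0 : Fin (k + 2) ⊕ Fin (k + 2) → F) = eA 0 := by
  rw [smul_def]
  ext (i | i)
  · show (fromBlocks _ _ _ _ *ᵥ _) _ = _
    simp [eA, fromBlocks, jMat, Pi.single_apply, eq_comm]
  · show (fromBlocks _ _ _ _ *ᵥ _) _ = _
    simp [eA, fromBlocks]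

theorem dJ_smul_eA {i j : Fin (k + 2)} (h : (i : ℕ) + 1 = j) :
    dJ k F • (eA j : Fin (k + 2) ⊕ Fin (k + 2) → F) = eA j + eA i := by
  rw [smul_def]
  ext (l | l)
  · show (fromBlocks _ _ _ _ *ᵥ _) _ = _
    simp only [eA, mulVec_single_one, col_apply, fromBlocks_apply₁₁, jMat, of_apply, Pi.add_apply,
      Pi.single_apply, Sum.inl.injEq]
    rcases eq_or_ne l j with rfl | hlj
    · have : l ≠ i := fun e => by rw [e] at h; omega
      simp [this]
    · rcases eq_or_ne l i with rfl | hli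
      · simp [hlj, h.symm]
      · have : (j : ℕ) ≠ l + 1 := fun e => hli (Fin.ext (by omega))
        simp [hlj, hli, hlj.symm, this]
  · show (fromBlocks _ _ _ _ *ᵥ _) _ = _
    simp [eA, fromBlocks]

theorem dJ_inv_smul_eB {i j : Fin (k + 2)} (h : (i : ℕ) + 1 = j) :
    (dJ k F)⁻¹ • (eB i : Fin (k + 2) ⊕ Fin (k + 2) → F) = eB i + eB j := by
  rw [smul_def, dJ_inv]
  ext (l | l)
  · simp [eB, fromBlocks]
  · simp only [eB, mulVec_single_one, col_apply, fromBlocks_apply₂₂, jMat, transpose_apply,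
      of_apply, Pi.add_apply, Pi.single_apply, Sum.inr.injEq]
    rcases eq_or_ne l i with rfl | hli
    · have : l ≠ j := fun e => by rw [← e] at h; omega
      simp [this]
    · rcases eq_or_ne l j with rfl | hlj
      · simp [hli, h.symm]
      · have : (l : ℕ) ≠ i + 1 := fun e => hlj (Fin.ext (by omega))
        simp [hlj, hli, this]

theorem dJ_inv_smul_eB_last :
    (dJ k F)⁻¹ • (eB (Fin.last (k + 1)) : Fin (k + 2) ⊕ Fin (k + 2) → F) = eB (Fin.last (k + 1)) := by
  rw [smul_def, dJ_inv]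
  ext (l | l)
  · simp [eB, fromBlocks]
  · simp only [eB, mulVec_single_one, col_apply, fromBlocks_apply₂₂, jMat, transpose_apply,
      of_apply, Pi.single_apply, Sum.inr.injEq]
    have : (l : ℕ) ≠ (k + 1) + 1 := by omega
    simp [this]

theorem dJ_smul_eB_last :
    dJ k F • (eB (Fin.last (k + 1)) : Fin (k + 2) ⊕ Fin (k + 2) → F) = eB (Fin.last (k + 1)) :=
  (eq_inv_smul_iff.1 dJ_inv_smul_eB_last.symm)

theorem uReg_smul_eA (j : Fin (k + 2)) :
    uReg k F • (eA j : Fin (k + 2) ⊕ Fin (k + 2) → F) = dJ k F • eA j := by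
  rw [uReg, mul_smul, tv_smul, form_eA_eA, mul_zero, zero_smul, add_zero]

theorem uReg_fix : uReg k F • (eA 0 : Fin (k + 2) ⊕ Fin (k + 2) → F) = eA 0 := by
  rw [uReg_smul_eA, dJ_smul_eA_zero]

theorem uReg_inv_smul (x : Fin (k + 2) ⊕ Fin (k + 2) → F) :
    (uReg k F)⁻¹ • x = (dJ k F)⁻¹ • x
      - ((dJ k F)⁻¹ • x) (.inr (Fin.last (k + 1))) • eA (Fin.last (k + 1)) := by
  rw [uReg, _root_.mul_inv_rev, mul_smul, tv_inv, tv_smul, form_eA, neg_one_mul, neg_smul, ← sub_eq_add_neg]

theorem uReg_inv_smul_eB_last :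
    (uReg k F)⁻¹ • (eB (Fin.last (k + 1)) : Fin (k + 2) ⊕ Fin (k + 2) → F) =
      eB (Fin.last (k + 1)) - eA (Fin.last (k + 1)) := by
  rw [uReg_inv_smul, dJ_inv_smul_eB_last]
  simp [eB]

theorem uReg_inv_smul_eB {i j : Fin (k + 2)} (h : (i : ℕ) + 1 = j) :
    (uReg k F)⁻¹ • (eB i : Fin (k + 2) ⊕ Fin (k + 2) → F) = eB i + eB j
      - (if j = Fin.last (k + 1) then (1 : F) else 0) • eA (Fin.last (k + 1)) := by
  rw [uReg_inv_smul, dJ_inv_smul_eB h]
  have hi : i ≠ Fin.last (k + 1) := fun e => by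
    have := j.isLt
    rw [e, Fin.val_last] at h; omega
  simp only [eB, Pi.add_apply, Pi.single_apply, Sum.inr.injEq, eq_comm]
  rw [if_neg hi, zero_add]

/-! ### Nilpotency -/

/-- `u - 1`. -/
noncomputable def pMat (k : ℕ) (F : Type*) [Field F] :
    Matrix (Fin (k + 2) ⊕ Fin (k + 2)) (Fin (k + 2) ⊕ Fin (k + 2)) F :=
  (uReg k F).1 - 1

/-- `u⁻¹ - 1`. -/
noncomputable def qMat (k : ℕ) (F : Type*) [Field F] :
    Matrix (Fin (k + 2) ⊕ Fin (k + 2)) (Fin (k + 2) ⊕ Fin (k + 2)) F :=
  ((uReg k F)⁻¹).1 - 1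

theorem pMat_mulVec (x : Fin (k + 2) ⊕ Fin (k + 2) → F) :
    pMat k F *ᵥ x = uReg k F • x - x := by rw [pMat, sub_mulVec, one_mulVec, smul_def]

theorem qMat_mulVec (x : Fin (k + 2) ⊕ Fin (k + 2) → F) :
    qMat k F *ᵥ x = (uReg k F)⁻¹ • x - x := by rw [qMat, sub_mulVec, one_mulVec, smul_def]

theorem mul_eq_one_u : (uReg k F).1 * ((uReg k F)⁻¹).1 = 1 :=
  congrArg Subtype.val (mul_inv_cancel (uReg k F))

theorem mul_eq_one_u' : ((uReg k F)⁻¹).1 * (uReg k F).1 = 1 :=
  congrArg Subtype.val (inv_mul_cancel (uReg k F))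

theorem pMat_eq : pMat k F = -((uReg k F).1 * qMat k F) := by
  rw [qMat, pMat, mul_sub, mul_eq_one_u, mul_one, neg_sub]

theorem commute_u_q : Commute (uReg k F).1 (qMat k F) := by
  unfold qMat Commute SemiconjBy
  rw [mul_sub, sub_mul, mul_eq_one_u, mul_eq_one_u', mul_one, one_mul]

theorem commute_p_q : Commute (pMat k F) (qMat k F) := by
  rw [pMat]; exact commute_u_q.sub_left (Commute.one_left _)

theorem pMat_pow_eA : ∀ (i : ℕ) (hi : i < k + 2),
    pMat k F ^ i *ᵥ (eA ⟨i, hi⟩) = eA 0 ∧ pMat k F ^ (i + 1) *ᵥ (eA ⟨i, hi⟩) = 0 := by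
  intro i
  induction i with
  | zero =>
    intro hi
    rw [pow_zero, one_mulVec, pow_one, pMat_mulVec]
    exact ⟨rfl, by rw [show (⟨0, hi⟩ : Fin (k + 2)) = 0 from rfl, uReg_fix, sub_self]⟩
  | succ i ih =>
    intro hi
    have hstep : pMat k F *ᵥ (eA ⟨i + 1, hi⟩) = eA ⟨i, by omega⟩ := by
      rw [pMat_mulVec, uReg_smul_eA, dJ_smul_eA (i := ⟨i, by omega⟩) rfl, add_sub_cancel_left]
    obtain ⟨h1, h2⟩ := ih (by omega)
    constructor
    · rw [pow_succ, ← mulVec_mulVec, hstep, h1]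
    · rw [pow_succ, ← mulVec_mulVec, hstep, h2]

theorem pMat_pow_eA_eq_zero (i : Fin (k + 2)) : pMat k F ^ (k + 2) *ᵥ (eA i) = 0 := by
  have hsplit : pMat k F ^ (k + 2) = pMat k F ^ (k + 1 - i) * pMat k F ^ ((i : ℕ) + 1) := by
    rw [← pow_add]; congr 1; have := i.isLt; omega
  rw [hsplit, ← mulVec_mulVec]
  rw [(pMat_pow_eA i.1 i.isLt).2, mulVec_zero]

theorem qMat_eB_last :
    qMat k F *ᵥ (eB (Fin.last (k + 1))) = -eA (Fin.last (k + 1)) := by
  rw [qMat_mulVec, uReg_inv_smul_eB_last]; abel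

theorem qMat_eB {i j : Fin (k + 2)} (h : (i : ℕ) + 1 = j) :
    qMat k F *ᵥ (eB i) = eB j - (if j = Fin.last (k + 1) then (1 : F) else 0) • eA (Fin.last (k + 1)) := by
  rw [qMat_mulVec, uReg_inv_smul_eB h]; abel

theorem pMat_qMat_eA (j : ℕ) (i : Fin (k + 2)) :
    pMat k F ^ (k + 2) *ᵥ (qMat k F ^ j *ᵥ eA i) = 0 := by
  rw [mulVec_mulVec, (commute_p_q.pow_pow _ _).eq, ← mulVec_mulVec, pMat_pow_eA_eq_zero, mulVec_zero]

theorem pMat_qMat_eB : ∀ (d : ℕ) (i : Fin (k + 2)), (i : ℕ) + d = k + 1 →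
    pMat k F ^ (k + 2) *ᵥ (qMat k F ^ (d + 1) *ᵥ eB i) = 0 := by
  intro d
  induction d with
  | zero =>
    intro i hi
    rw [show i = Fin.last (k + 1) from Fin.ext (by simpa using hi), zero_add, pow_one, qMat_eB_last,
      mulVec_neg, pMat_pow_eA_eq_zero, neg_zero]
  | succ d ih =>
    intro i hi
    rw [pow_succ (qMat k F), ← mulVec_mulVec, qMat_eB (j := ⟨i + 1, by omega⟩) rfl, mulVec_sub,
      mulVec_smul, mulVec_sub, mulVec_smul, ih _ (by show i + 1 + d = k + 1; omega), pMat_qMat_eA,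
      smul_zero, sub_zero]

theorem pMat_pow_two_mul : pMat k F ^ (2 * (k + 2)) = 0 := by
  have hc : Commute (pMat k F) (qMat k F) := commute_p_q
  have hzero : pMat k F ^ (k + 2) * qMat k F ^ (k + 2) = 0 := by
    refine Matrix.ext_of_mulVec_single fun i => ?_
    rw [zero_mulVec, ← mulVec_mulVec]
    rcases i with i | i
    · exact pMat_qMat_eA _ i
    · have hsplit : qMat k F ^ (k + 2) = qMat k F ^ (i : ℕ) * qMat k F ^ ((k + 1 - i) + 1) := by
        rw [← pow_add]; congr 1; have := i.isLt; omega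
      rw [hsplit, ← mulVec_mulVec, mulVec_mulVec, (hc.pow_pow _ _).eq, ← mulVec_mulVec]
      exact (congrArg _ (pMat_qMat_eB (k + 1 - i) i (by have := i.isLt; omega))).trans (mulVec_zero _)
  rw [two_mul, pow_add]
  nth_rewrite 2 [pMat_eq]
  rw [neg_pow, commute_u_q.mul_pow]
  have hcu : Commute ((uReg k F).1 ^ (k + 2)) (pMat k F ^ (k + 2)) := by
    refine Commute.pow_pow ?_ _ _
    rw [pMat]
    exact (Commute.refl _).sub_right (Commute.one_right _)
  rw [← mul_assoc, ← mul_assoc]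
  have h1 : pMat k F ^ (k + 2) * (-1) ^ (k + 2) = (-1) ^ (k + 2) * pMat k F ^ (k + 2) :=
    ((Commute.neg_one_right _).pow_right _).eq
  rw [h1, mul_assoc ((-1) ^ (k + 2)), ← hcu.eq, mul_assoc, mul_assoc, hzero, mul_zero, mul_zero]

theorem qMat_pow_eB_zero : ∀ (i : ℕ) (hi : i ≤ k),
    qMat k F ^ i *ᵥ eB 0 = eB ⟨i, by omega⟩ := by
  intro i
  induction i with
  | zero => intro _; rw [pow_zero, one_mulVec]; rfl
  | succ i ih =>
    intro hi
    rw [pow_succ', ← mulVec_mulVec, ih (by omega),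
      qMat_eB (i := ⟨i, by omega⟩) (j := ⟨i + 1, by omega⟩) rfl, if_neg, zero_smul, sub_zero]
    intro h
    have := congrArg Fin.val h
    simp at this
    omega

theorem pMat_top_eB_zero :
    pMat k F ^ (2 * (k + 2) - 1) *ᵥ eB 0 = (-1 : F) ^ (k + 1) • eA 0 := by
  have hq : qMat k F ^ (k + 2) *ᵥ eB 0
      = -eA (Fin.last (k + 1)) - qMat k F *ᵥ eA (Fin.last (k + 1)) := by
    have hsplit : qMat k F ^ (k + 2) = qMat k F ^ 2 * qMat k F ^ k := by
      rw [← pow_add]; congr 1; omega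
    rw [hsplit, ← mulVec_mulVec, qMat_pow_eB_zero k le_rfl,
      pow_two, ← mulVec_mulVec, qMat_eB (j := Fin.last (k + 1)) (by simp), if_pos rfl, one_smul,
      mulVec_sub, qMat_eB_last]
  have hp : pMat k F ^ (k + 1) *ᵥ eA (Fin.last (k + 1)) = eA 0 :=
    (pMat_pow_eA (k + 1) (Nat.lt_succ_self _)).1
  have hq0 : qMat k F *ᵥ (eA 0) = 0 := by
    rw [qMat_mulVec, inv_smul_eq_iff.2 uReg_fix.symm, sub_self]
  have hpq : pMat k F ^ (k + 1) *ᵥ (qMat k F ^ (k + 2) *ᵥ eB 0) = -eA 0 := by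
    rw [hq, mulVec_sub, mulVec_neg, hp, mulVec_mulVec, (commute_p_q.pow_left _).eq, ← mulVec_mulVec,
      hp, hq0, sub_zero]
  have hu : ∀ j : ℕ, (uReg k F).1 ^ j *ᵥ eA 0 = eA 0 := by
    intro j
    induction j with
    | zero => rw [pow_zero, one_mulVec]
    | succ j ih => rw [pow_succ, ← mulVec_mulVec, ← smul_def, uReg_fix, ih]
  rw [show 2 * (k + 2) - 1 = (k + 2) + (k + 1) from by omega, pow_add]
  nth_rewrite 1 [pMat_eq]
  rw [neg_pow, commute_u_q.mul_pow, mul_assoc, mul_assoc,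
    ← (commute_p_q.pow_pow (k + 1) (k + 2)).eq, ← mulVec_mulVec, ← mulVec_mulVec, ← mulVec_mulVec,
    hpq, mulVec_neg, hu,
    show (-1 : Matrix (Fin (k + 2) ⊕ Fin (k + 2)) (Fin (k + 2) ⊕ Fin (k + 2)) F) ^ (k + 2)
      = ((-1 : F) ^ (k + 2)) • 1 by
        rw [← neg_one_smul F (1 : Matrix (Fin (k + 2) ⊕ Fin (k + 2)) (Fin (k + 2) ⊕ Fin (k + 2)) F), smul_pow, one_pow],
    smul_mulVec, one_mulVec, smul_neg, ← neg_smul, pow_succ (-1 : F) (k + 1), mul_neg, mul_one,
    neg_neg]

theorem pMat_top_ne_zero : pMat k F ^ (2 * (k + 2) - 1) ≠ 0 := by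
  intro h
  have h1 := pMat_top_eB_zero (F := F) (k := k)
  rw [h, zero_mulVec] at h1
  exact smul_ne_zero (pow_ne_zero _ (neg_ne_zero.2 one_ne_zero)) (eA_ne_zero 0) h1.symm

/-- The orbit of `b₀` under powers of `u⁻¹ - 1` spans. -/
theorem span_qMat_orbit :
    Submodule.span F (Set.range fun j : Fin (2 * (k + 2)) => qMat k F ^ (j : ℕ) *ᵥ eB 0) = ⊤ := by
  have hq : qMat k F = -(((uReg k F)⁻¹).1 * pMat k F) := by
    rw [qMat, pMat, mul_sub, mul_eq_one_u', mul_one, neg_sub]
  have hc : Commute ((uReg k F)⁻¹).1 (pMat k F) := by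
    unfold pMat Commute SemiconjBy
    rw [mul_sub, sub_mul, mul_eq_one_u, mul_eq_one_u', mul_one, one_mul]
  have hqpow : ∀ j, qMat k F ^ j = (-1) ^ j * (((uReg k F)⁻¹).1 ^ j * pMat k F ^ j) := by
    intro j; rw [hq, neg_pow, hc.mul_pow]
  have hzero : ∀ j, 2 * (k + 2) ≤ j → qMat k F ^ j = 0 := by
    intro j hj
    have h0 : pMat k F ^ j = 0 := by
      obtain ⟨d, rfl⟩ := Nat.exists_eq_add_of_le hj
      rw [pow_add, pMat_pow_two_mul, zero_mul]
    rw [hqpow, h0, mul_zero, mul_zero]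
  have htop : qMat k F ^ (2 * (k + 2) - 1) *ᵥ eB 0 ≠ 0 := by
    have hu : ∀ j : ℕ, ((uReg k F)⁻¹).1 ^ j *ᵥ eA 0 = eA 0 := by
      intro j
      induction j with
      | zero => rw [pow_zero, one_mulVec]
      | succ j ih => rw [pow_succ, ← mulVec_mulVec, ← smul_def, inv_smul_eq_iff.2 uReg_fix.symm, ih]
    rw [hqpow, ← mulVec_mulVec, ← mulVec_mulVec, pMat_top_eB_zero, mulVec_smul, hu,
      ← neg_one_smul F (1 : Matrix (Fin (k + 2) ⊕ Fin (k + 2)) (Fin (k + 2) ⊕ Fin (k + 2)) F),
      smul_pow, one_pow, smul_mulVec, one_mulVec, smul_smul]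
    exact smul_ne_zero (mul_ne_zero (pow_ne_zero _ (neg_ne_zero.2 one_ne_zero))
      (pow_ne_zero _ (neg_ne_zero.2 one_ne_zero))) (eA_ne_zero 0)
  have hli : LinearIndependent F (fun j : Fin (2 * (k + 2)) => qMat k F ^ (j : ℕ) *ᵥ eB 0) := by
    classical
    rw [Fintype.linearIndependent_iff]
    intro c hc'
    by_contra hcon
    push Not at hcon
    have hne : (Finset.univ.filter fun j => c j ≠ 0).Nonempty := by
      obtain ⟨j, hj⟩ := hcon
      exact ⟨j, Finset.mem_filter.2 ⟨Finset.mem_univ _, hj⟩⟩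
    set j₀ := (Finset.univ.filter fun j => c j ≠ 0).min' hne with hj₀
    have hc0 : c j₀ ≠ 0 := (Finset.mem_filter.1 (Finset.min'_mem _ hne)).2
    have h := congrArg (fun x => qMat k F ^ (2 * (k + 2) - 1 - (j₀ : ℕ)) *ᵥ x) hc'
    simp only [mulVec_zero, mulVec_sum, mulVec_smul, mulVec_mulVec, ← pow_add] at h
    rw [Finset.sum_eq_single j₀] at h
    · rw [Nat.sub_add_cancel (by have := j₀.isLt; omega)] at h
      exact smul_ne_zero hc0 htop h
    · intro j _ hj
      by_cases hcj : c j = 0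
      · rw [hcj, zero_smul]
      · have hlt : j₀ < j := lt_of_le_of_ne
          (Finset.min'_le (Finset.univ.filter fun j => c j ≠ 0) j (Finset.mem_filter.2 ⟨Finset.mem_univ j, hcj⟩)) (Ne.symm hj)
        have : (j₀ : ℕ) < j := hlt
        rw [hzero _ (by have := j.isLt; omega), zero_mulVec, smul_zero]
    · intro hh; exact absurd (Finset.mem_univ _) hh
  exact hli.span_eq_top_of_card_eq_finrank' (by
    rw [Module.finrank_pi, Fintype.card_sum, Fintype.card_fin, Fintype.card_fin]; omega)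

end CfsgLib.Linear.SympReg
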