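/-
`Sp_{2n}(q)` is generated by three conjugates of a regular unipotent element.
-/
import Cfsg.Agent.Lib.Linear.SympRegular
import Cfsg.Agent.Lib.Linear.SL2Three

set_option autoImplicit false
set_option linter.unusedSimpArgs false
set_option linter.style.haveILetI false
set_option linter.unusedSectionVars false

namespace CfsgLib.Linear.SympReg

open Matrix Cfsg CfsgLib.Linear.Symp CfsgLib.Linear.Dickson
open scoped MatrixGroups

variable {F : Type*} [Field F] {m : ℕ}

/-! ### `SL₂` on a hyperbolic pair -/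

/-- The action of a `2 × 2` matrix on the pair `(a_i, b_i)`. -/
def planeMat (i : Fin m) (M : Matrix (Fin 2) (Fin 2) F) :
    Matrix (Fin m ⊕ Fin m) (Fin m ⊕ Fin m) F :=
  1 + Matrix.single (.inl i) (.inl i) (M 0 0 - 1) + Matrix.single (.inl i) (.inr i) (M 0 1)
    + Matrix.single (.inr i) (.inl i) (M 1 0) + Matrix.single (.inr i) (.inr i) (M 1 1 - 1)

theorem planeMat_mulVec (i : Fin m) (M : Matrix (Fin 2) (Fin 2) F) (x : Fin m ⊕ Fin m → F) :
    planeMat i M *ᵥ x = x + ((M 0 0 - 1) * x (.inl i) + M 0 1 * x (.inr i)) • eA i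
      + (M 1 0 * x (.inl i) + (M 1 1 - 1) * x (.inr i)) • eB i := by
  ext j
  simp only [planeMat, add_mulVec, one_mulVec, Pi.add_apply, Matrix.single_mulVec,
    Function.update_apply, Pi.zero_apply, Pi.smul_apply, eA, eB, Pi.single_apply, smul_eq_mul,
    mul_ite, mul_one, mul_zero]
  rcases j with j | j <;> by_cases hj : j = i <;> simp [hj] <;> ring

/-- `SL₂(F)` acting on the pair `(a_i, b_i)`. -/
def planeHom (i : Fin m) : SL(2, F) →* symplecticGroup (Fin m) F where
  toFun M := ⟨planeMat i M.1, mem_of_form_mulVec fun x y => by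
    have hdet := CfsgLib.SL2Trace.det_coe M
    simp only [planeMat_mulVec, form_add_left, form_add_right, form_smul_left, form_smul_right,
      form_eA_eA, form_eB_eB, form_eA_eB, form_eB_eA]
    rw [form_swap y (eA i), form_swap y (eB i)]
    simp only [form_eA, form_eB]
    linear_combination (x (.inr i) * y (.inl i) - x (.inl i) * y (.inr i)) * hdet⟩
  map_one' := group_ext fun x => by
    show planeMat i _ *ᵥ x = _
    rw [planeMat_mulVec, one_smul]
    simp
  map_mul' M N := group_ext fun x => by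
    show planeMat i _ *ᵥ x = (planeMat i M.1 * planeMat i N.1) *ᵥ x
    rw [← mulVec_mulVec, planeMat_mulVec, planeMat_mulVec i N.1, planeMat_mulVec i M.1]
    ext (j | j) <;> rcases eq_or_ne j i with rfl | hj <;>
      simp [eA, eB, SL2_mul_apply, *] <;> ring

theorem planeHom_smul (i : Fin m) (M : SL(2, F)) (x : Fin m ⊕ Fin m → F) :
    planeHom i M • x = x + ((M.1 0 0 - 1) * x (.inl i) + M.1 0 1 * x (.inr i)) • eA i
      + (M.1 1 0 * x (.inl i) + (M.1 1 1 - 1) * x (.inr i)) • eB i :=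
  planeMat_mulVec i M.1 x

theorem planeHom_up (i : Fin m) (s : F) : planeHom i (up s) = tv (eA i) s := by
  refine group_ext fun x => ?_
  rw [planeHom_smul, tv_smul, form_eA, up_val]
  simp

theorem planeHom_lo (i : Fin m) (r : F) : planeHom i (lo r) = tv (eB i) (-r) := by
  refine group_ext fun x => ?_
  rw [planeHom_smul, tv_smul, form_eB, lo_val]
  simp

/-! ### The choice of parameters -/

theorem orderOf_dvd_card_sub_one_of_subfield [Finite F] (E : Subfield F) {x : F} (hx : x ∈ E)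
    (h0 : x ≠ 0) : x ^ (Nat.card E - 1) = 1 := by
  letI := Fintype.ofFinite E
  rw [Nat.card_eq_fintype_card]
  have := FiniteField.pow_card_sub_one_eq_one (⟨x, hx⟩ : E) (fun h => h0 (congrArg Subtype.val h))
  exact congrArg Subtype.val this

theorem subfield_eq_top_of_sq_mem [Finite F] (w : Fˣ) (hw : ∀ x, x ∈ Subgroup.zpowers w)
    (E : Subfield F) (h : (w : F) ^ 2 ∈ E) : E = ⊤ := by
  letI := Fintype.ofFinite F
  have hord : orderOf w = Nat.card F - 1 := by
    rw [orderOf_eq_card_of_forall_mem_zpowers hw, Nat.card_units]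
  have hdvd : Nat.card F - 1 ∣ 2 * (Nat.card E - 1) := by
    rw [← hord]
    refine orderOf_dvd_of_pow_eq_one (Units.ext ?_)
    have := orderOf_dvd_card_sub_one_of_subfield E h (pow_ne_zero _ w.ne_zero)
    rw [Units.val_pow_eq_pow_val, pow_mul, this, Units.val_one]
  have hE : 1 < Nat.card E := Finite.one_lt_card
  have hle : Nat.card F - 1 ≤ 2 * (Nat.card E - 1) := Nat.le_of_dvd (by omega) hdvd
  have hcard : Nat.card E = Nat.card F := by
    have hpow := Module.natCard_eq_pow_finrank (K := E) (V := F)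
    have hpos : 0 < Module.finrank E F := Module.finrank_pos
    rcases (show Module.finrank E F = 1 ∨ 2 ≤ Module.finrank E F by omega) with h1 | h1
    · rw [hpow, h1, pow_one]
    · exfalso
      have := (Nat.pow_le_pow_right (show 0 < Nat.card E by omega) h1).trans hpow.ge
      have h2 : 2 * Nat.card E ≤ Nat.card E ^ 2 := by
        rw [pow_two]; exact Nat.mul_le_mul_right _ hE
      omega
  refine SetLike.coe_injective
    ((Set.eq_of_subset_of_ncard_le (Set.subset_univ _) ?_).trans Subfield.coe_top.symm)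
  rw [← Nat.card_coe_set_eq, ← Nat.card_coe_set_eq]
  exact le_of_eq (by rw [Nat.card_univ]; exact hcard.symm)

/-- The generation hypothesis on the parameters: `s` and `r`. -/
def PlaneGen (s r : F) : Prop :=
  ∀ H : Subgroup SL(2, F), up s ∈ H → lo r ∈ H → up (-1) * lo r * up 1 ∈ H → H = ⊤

theorem exists_params [Finite F] (hq : 4 ≤ Nat.card F) :
    ∃ l κ : F, l ≠ 0 ∧ κ ≠ 0 ∧ l ^ 2 - 1 ≠ 0 ∧ PlaneGen (l ^ 2 - 1) (-((l ^ 2 - 1) * κ ^ 2)) := by
  letI := Fintype.ofFinite F
  obtain ⟨w, hw⟩ := IsCyclic.exists_generator (α := Fˣ)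
  have hord : orderOf w = Nat.card F - 1 := by
    rw [orderOf_eq_card_of_forall_mem_zpowers hw, Nat.card_units]
  have hpow : ∀ j, 0 < j → j < Nat.card F - 1 → (w : F) ^ j ≠ 1 := fun j hj hj' h =>
    pow_ne_one_of_lt_orderOf (x := w) hj.ne' (by omega) (Units.ext (by simpa using h))
  have hw0 : (w : F) ≠ 0 := w.ne_zero
  -- transport to `up (s r)`, `lo 1`
  have red : ∀ {s r : F} (hr : r ≠ 0), (∀ H : Subgroup SL(2, F), up (s * r) ∈ H → lo 1 ∈ H →
      up (-r) * lo 1 * (up (-r))⁻¹ ∈ H → H = ⊤) → PlaneGen s r := by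
    intro s r hr h H h1 h2 h3
    set c : Fˣ := Units.mk0 r⁻¹ (inv_ne_zero hr)
    have hc : (↑c⁻¹ : F) = r := by simp [c]
    have hc' : (↑c : F) = r⁻¹ := rfl
    have hd : H.map (dilate c).toMonoidHom = ⊤ := by
      refine h _ ⟨_, h1, ?_⟩ ⟨_, h2, ?_⟩ ⟨_, h3, ?_⟩
      · show dilate c (up s) = _; rw [dilate_up, hc]
      · show dilate c (lo r) = _; rw [dilate_lo, hc', mul_inv_cancel₀ hr]
      · show dilate c (up (-1) * lo r * up 1) = _
        rw [map_mul, map_mul, dilate_up, dilate_up, dilate_lo, hc, hc', mul_inv_cancel₀ hr,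
          neg_one_mul, one_mul, up_inv, neg_neg]
    rw [← Subgroup.map_top_of_surjective (dilate c).toMonoidHom (dilate c).surjective] at hd
    exact Subgroup.map_injective (dilate c).injective hd
  by_cases h2 : (2 : F) = 0
  · haveI : CharP F 2 := CharTwo.of_one_ne_zero_of_two_eq_zero one_ne_zero h2
    haveI : Fact (Nat.Prime 2) := ⟨Nat.prime_two⟩
    obtain ⟨l, hl⟩ := FiniteField.isSquare_of_char_two (F := F) (ringChar.eq F 2) ((w : F)⁻¹ + 1)
    have hs : l ^ 2 - 1 = (w : F)⁻¹ := by rw [pow_two, ← hl]; ring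
    have hw1 : (w : F) ≠ 1 := fun h => hpow 1 one_pos (by omega) (by rw [pow_one]; exact h)
    refine ⟨l, w, ?_, hw0, by rw [hs]; exact inv_ne_zero hw0, ?_⟩
    · rintro rfl
      rw [mul_zero, add_eq_zero_iff_eq_neg, CharTwo.neg_eq, inv_eq_one] at hl
      exact hw1 hl
    · have hr : -((w : F)⁻¹ * (w : F) ^ 2) = (w : F) := by
        rw [CharTwo.neg_eq, pow_two, inv_mul_cancel_left₀ hw0]
      rw [hs, hr]
      refine red hw0 fun H a b c => ?_
      rw [inv_mul_cancel₀ hw0] at a
      rw [CharTwo.neg_eq] at c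
      refine CfsgLib.Linear.Three.closure_three 2 H one_ne_zero a b c ?_
        (fun _ => ⟨rfl, hw0, hw1⟩) (fun h => absurd h (by omega))
      exact subfield_eq_top_of_sq_mem w hw _
        (pow_mem (Subfield.subset_closure (by simp)) 2)
  · have hodd2 : (w : F) ^ 2 ≠ 1 := hpow 2 two_pos (by omega)
    have hs : (w : F) ^ 2 - 1 ≠ 0 := sub_ne_zero.2 hodd2
    set s := (w : F) ^ 2 - 1 with hsdef
    by_cases h9 : Nat.card F = 9
    · haveI : Fact (Nat.Prime 3) := ⟨Nat.prime_three⟩
      haveI : CharP F 3 := by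
        obtain ⟨p, hp⟩ := CharP.exists F
        haveI : Fact p.Prime := ⟨CharP.char_is_prime F p⟩
        obtain ⟨n, -, hn⟩ := FiniteField.card F p
        rw [← Nat.card_eq_fintype_card, h9] at hn
        have : p ∣ 3 ^ 2 := ⟨p ^ ((n : ℕ) - 1), by
          rw [← pow_succ', Nat.sub_add_cancel n.pos, ← hn]; norm_num⟩
        have h3 := (Nat.prime_dvd_prime_iff_eq (Fact.out : p.Prime) Nat.prime_three).1
          ((Fact.out : p.Prime).dvd_of_dvd_pow this)
        rwa [h3] at hp
      refine ⟨w, 1, hw0, one_ne_zero, hs, ?_⟩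
      rw [one_pow, mul_one, ← hsdef]
      refine red (neg_ne_zero.2 hs) fun H a b c => ?_
      rw [neg_neg] at c
      have hi : ((w : F) ^ 2) ^ 2 = -1 := by
        rcases sq_eq_one_iff.1 (show (((w : F) ^ 2) ^ 2) ^ 2 = 1 by
          rw [← pow_mul, ← pow_mul]
          have := congrArg Units.val (pow_orderOf_eq_one w)
          rw [hord, h9] at this
          simpa using this) with h | h
        · rw [← pow_mul] at h
          exact absurd h (hpow 4 (by omega) (by omega))
        · exact h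
      refine CfsgLib.Linear.Three.closure_three 3 H
        (mul_ne_zero hs (neg_ne_zero.2 hs)) a b c ?_ (fun h => absurd h (by omega))
        (fun _ => ⟨_, H.mul_mem (H.mul_mem a b) c, ?_⟩)
      · refine subfield_eq_top_of_sq_mem w hw _ ?_
        have : s + 1 ∈ Subfield.closure ({s * -s, s} : Set F) :=
          add_mem (Subfield.subset_closure (by simp)) (one_mem _)
        rwa [hsdef, sub_add_cancel] at this
      · have c3 : (3 : F) = 0 := by exact_mod_cast CharP.cast_eq_zero F 3
        have htr : tr (up (s * -s) * lo 1 * (up s * lo 1 * (up s)⁻¹)) = (w : F) ^ 2 := by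
          simp [tr, up_inv, up_val, lo_val, SL2_mul_apply, hsdef]
          linear_combination (-((w : F) ^ 2)) * hi + (w : F) ^ 2 * c3
        rw [htr, hi]
    · set κ := (w : F) / s
      have hκ : κ ≠ 0 := div_ne_zero hw0 hs
      refine ⟨w, κ, hw0, hκ, hs, red (neg_ne_zero.2 (mul_ne_zero hs (pow_ne_zero _ hκ)))
        fun H a b _ => ?_⟩
      have hlam : s * -(s * κ ^ 2) = -((w : F) ^ 2) := by
        simp only [κ]; field_simp
      rw [hlam] at a
      rw [eq_top_iff, ← CfsgLib.PSL2Sub.closure_eq_top h2 (-((w : F) ^ 2))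
        (neg_ne_zero.2 (pow_ne_zero _ hw0))
        (subfield_eq_top_of_sq_mem w hw _ (neg_mem_iff.1 (Subfield.subset_closure rfl)))
        (fun h => h9 h.1), Subgroup.closure_le]
      rintro g (rfl | rfl)
      · rw [genLower_eq]; exact b
      · rw [genUpper_eq]; exact a

/-! ### The generators -/

variable {k : ℕ}

/-- The three conjugates. -/
def threeGen (g h : symplecticGroup (Fin (k + 2)) F) : Subgroup (symplecticGroup (Fin (k + 2)) F) :=
  Subgroup.closure {uReg k F, g * uReg k F * g⁻¹, h * uReg k F * h⁻¹}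

theorem uReg_mem (g h : symplecticGroup (Fin (k + 2)) F) : uReg k F ∈ threeGen g h :=
  Subgroup.subset_closure (by simp)

theorem comm_mem (g h : symplecticGroup (Fin (k + 2)) F) :
    (uReg k F)⁻¹ * (g * uReg k F * g⁻¹) ∈ threeGen g h :=
  mul_mem (inv_mem (uReg_mem g h)) (Subgroup.subset_closure (by simp))

theorem conj_mem (g h : symplecticGroup (Fin (k + 2)) F) :
    h * uReg k F * h⁻¹ ∈ threeGen g h :=
  Subgroup.subset_closure (by simp)

theorem conj_smul (h : symplecticGroup (Fin (k + 2)) F) (x : Fin (k + 2) ⊕ Fin (k + 2) → F) :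
    (h * uReg k F * h⁻¹) • (h • x) = h • (uReg k F • x) := by
  rw [mul_smul, mul_smul, inv_smul_smul]

/-- `diag(J,J⁻ᵀ)` commutes with scalars. -/
theorem exists_scalar {l : F} (hl : l ≠ 0) : ∃ g : symplecticGroup (Fin (k + 2)) F,
    g * dJ k F = dJ k F * g ∧ ∀ i, g • (eA i : Fin (k + 2) ⊕ Fin (k + 2) → F) = l • eA i := by
  have hinv : (l • (1 : Matrix (Fin (k + 2)) (Fin (k + 2)) F))⁻¹ = l⁻¹ • 1 :=
    Matrix.inv_eq_right_inv (by rw [smul_mul_smul_comm, one_mul, mul_inv_cancel₀ hl, one_smul])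
  have hdet : IsUnit (l • (1 : Matrix (Fin (k + 2)) (Fin (k + 2)) F)).det := by
    simp [hl]
  refine ⟨blockDiag _ hdet, Subtype.ext ?_, fun i => ?_⟩
  · show fromBlocks _ _ _ _ * fromBlocks _ _ _ _ = fromBlocks _ _ _ _ * fromBlocks _ _ _ _
    simp [fromBlocks_multiply, hinv]
  · rw [smul_def]
    show fromBlocks _ _ _ _ *ᵥ _ = _
    ext (j | j) <;> simp [eA, fromBlocks, Matrix.one_apply, Pi.single_apply]

theorem lp_succ : ((⟨k, by omega⟩ : Fin (k + 2)) : ℕ) + 1 = Fin.last (k + 1) := rfl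

theorem uReg_smul_eB_last :
    uReg k F • (eB (Fin.last (k + 1)) : Fin (k + 2) ⊕ Fin (k + 2) → F)
      = eB (Fin.last (k + 1)) + uReg k F • eA (Fin.last (k + 1)) := by
  conv_lhs => rw [← sub_add_cancel (eB (Fin.last (k + 1))) (eA (Fin.last (k + 1))),
    ← uReg_inv_smul_eB_last, smul_add, smul_inv_smul]

theorem uReg_smul_eA_last :
    uReg k F • (eA (Fin.last (k + 1)) : Fin (k + 2) ⊕ Fin (k + 2) → F)
      = eA (Fin.last (k + 1)) + eA ⟨k, by omega⟩ := by
  rw [uReg_smul_eA, dJ_smul_eA lp_succ]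

theorem uReg_smul_eB_lp :
    uReg k F • (eB ⟨k, by omega⟩ : Fin (k + 2) ⊕ Fin (k + 2) → F)
      = eB ⟨k, by omega⟩ - eB (Fin.last (k + 1)) := by
  rw [← eq_inv_smul_iff, sub_eq_add_neg, smul_add, smul_neg, uReg_inv_smul_eB lp_succ,
    uReg_inv_smul_eB_last, if_pos rfl, one_smul]
  abel

theorem dJ_smul_eA_lp_apply :
    (dJ k F • (eA ⟨k, by omega⟩ : Fin (k + 2) ⊕ Fin (k + 2) → F)) (.inl (Fin.last (k + 1))) = 0 ∧
      (dJ k F • (eA ⟨k, by omega⟩ : Fin (k + 2) ⊕ Fin (k + 2) → F)) (.inl ⟨k, by omega⟩) = 1 := by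
  rcases k with _ | k
  · rw [show (⟨0, by omega⟩ : Fin 2) = 0 from rfl, dJ_smul_eA_zero]
    simp [eA, Pi.single_apply, Fin.ext_iff]
  · rw [dJ_smul_eA (i := ⟨k, by omega⟩) (j := ⟨k + 1, by omega⟩) rfl]
    simp [eA, Pi.single_apply, Fin.ext_iff]
    omega

theorem route_scalar (hq : ∀ a b : F, ∃ t, t ≠ a ∧ t ≠ b) {l κ : F} (hl : l ≠ 0) (hκ : κ ≠ 0)
    (hs : l ^ 2 - 1 ≠ 0) (hgen : PlaneGen (l ^ 2 - 1) (-((l ^ 2 - 1) * κ ^ 2))) :
    ∃ g h : symplecticGroup (Fin (k + 2)) F, threeGen g h = ⊤ := by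
  have hlp : (⟨k, by omega⟩ : Fin (k + 2)) ≠ (Fin.last (k + 1)) := by simp [Fin.ext_iff]
  have h0la : (0 : Fin (k + 2)) ≠ (Fin.last (k + 1)) := by simp [Fin.ext_iff]
  set y : F := -1 - κ
  set x : Fin (k + 2) ⊕ Fin (k + 2) → F := eB (Fin.last (k + 1)) + y • eB (⟨k, by omega⟩ : Fin (k + 2)) with hx
  have hux : uReg k F • x = eB (Fin.last (k + 1)) + eA (Fin.last (k + 1)) + eA (⟨k, by omega⟩ : Fin (k + 2)) + y • (eB (⟨k, by omega⟩ : Fin (k + 2)) - eB (Fin.last (k + 1))) := by
    rw [hx, smul_add, smul_comm, uReg_smul_eB_last, uReg_smul_eA_last, uReg_smul_eB_lp]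
    abel
  have hfux : sympForm (k + 2) F (uReg k F • x) x = κ := by
    rw [hux, hx]
    simp only [form_add_right, form_smul_right, form_eB]
    simp [eA, eB, hlp, hlp.symm, y]
  have hind : ∀ p r : F, uReg k F • (uReg k F • x) ≠ p • x + r • (uReg k F • x) := by
    intro p r h
    rw [hux, smul_add, smul_add, smul_add, smul_comm _ y, smul_sub, uReg_smul_eB_lp, uReg_smul_eB_last,
      uReg_smul_eA_last, uReg_smul_eA (⟨k, by omega⟩ : Fin (k + 2))] at h
    obtain ⟨e1, e2⟩ := dJ_smul_eA_lp_apply (F := F) (k := k)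
    have h1 := congrFun h (.inl (Fin.last (k + 1)))
    have h2 := congrFun h (.inl (⟨k, by omega⟩ : Fin (k + 2)))
    simp only [Pi.add_apply, Pi.sub_apply, Pi.smul_apply, e1, e2] at h1 h2
    simp [hx, eA, eB, hlp, hlp.symm] at h1 h2
    exact one_ne_zero (α := F) (by linear_combination h2 - h1)
  obtain ⟨h, hhx, hhy, hhz⟩ := exists_witt (Fin.last (k + 1)) hκ hfux hind (t := eB 0)
    (fun j hj => by rw [Finset.mem_singleton.1 hj]; simp [eB, h0la]) (eB_ne_zero 0)
  set β := sympForm (k + 2) F (uReg k F • (uReg k F • x)) x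
  have hα : -(sympForm (k + 2) F (uReg k F • (uReg k F • x)) (uReg k F • x) / κ) = -1 := by
    rw [form_smul_smul, hfux, div_self hκ]
  rw [hα] at hhz
  obtain ⟨g, hgcomm, hgA⟩ := exists_scalar (k := k) hl
  refine ⟨g, h, ?_⟩
  set G := threeGen g h
  set s := l ^ 2 - 1 with hsdef
  have hu : uReg k F ∈ G := uReg_mem g h
  have hTa : tv (eA (Fin.last (k + 1))) s ∈ G := by
    have h1 : (uReg k F)⁻¹ * (g * uReg k F * g⁻¹) = tv (eA (Fin.last (k + 1))) s := by
      have : g * uReg k F * g⁻¹ = dJ k F * (g * tv (eA (Fin.last (k + 1))) 1 * g⁻¹) := by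
        rw [uReg, ← mul_assoc, hgcomm]; group
      rw [this, tv_conj, hgA, tv_smul_vec, uReg, _root_.mul_inv_rev, mul_assoc, inv_mul_cancel_left,
        tv_inv, tv_add, hsdef]
      ring_nf
    exact h1 ▸ comm_mem g h
  set w := h * uReg k F * h⁻¹
  have hw : w ∈ G := conj_mem g h
  have hwa : w • (eA (Fin.last (k + 1)) : Fin (k + 2) ⊕ Fin (k + 2) → F) = κ • eB (Fin.last (k + 1)) := by rw [← hhx, conj_smul, hhy]
  have hTb : tv (eB (Fin.last (k + 1))) (s * κ ^ 2) ∈ G := by
    have h1 := mul_mem (mul_mem hw hTa) (inv_mem hw)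
    rw [tv_conj, hwa, tv_smul_vec] at h1
    rwa [show κ * κ * s = s * κ ^ 2 by ring] at h1
  have hH : G.comap (planeHom (Fin.last (k + 1))) = ⊤ := by
    refine hgen _ ?_ ?_ ?_
    · rw [Subgroup.mem_comap, planeHom_up]; exact hTa
    · rw [Subgroup.mem_comap, planeHom_lo, neg_neg]; exact hTb
    · have hup1 : up (1 : F) = (up (-1))⁻¹ := by rw [up_inv, neg_neg]
      rw [Subgroup.mem_comap, map_mul, map_mul, planeHom_lo, neg_neg, hup1, map_inv, tv_conj]
      have : planeHom (Fin.last (k + 1)) (up (-1 : F)) • (eB (Fin.last (k + 1)) : Fin (k + 2) ⊕ Fin (k + 2) → F) =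
          (uReg k F)⁻¹ • eB (Fin.last (k + 1)) := by
        rw [planeHom_up, tv_smul, form_eB_eA, uReg_inv_smul_eB_last, mul_one, neg_one_smul,
          sub_eq_add_neg]
      rw [this, ← tv_conj]
      exact mul_mem (mul_mem (inv_mem hu) hTb) (by rwa [inv_inv])
  have hfa : FullVec G (eA (Fin.last (k + 1))) := fun c => by
    rw [← planeHom_up, ← Subgroup.mem_comap, hH]; exact Subgroup.mem_top _
  have hfb : FullVec G (eB (Fin.last (k + 1))) := fun c => by
    rw [← neg_neg c, ← planeHom_lo, ← Subgroup.mem_comap, hH]; exact Subgroup.mem_top _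
  have hdJ : dJ k F ∈ G := by
    have h1 := mul_mem hu (inv_mem (hfa 1))
    rwa [uReg, mul_inv_cancel_right] at h1
  have hfz : FullVec G ((-1 : F) • eA (Fin.last (k + 1)) + β • eB (Fin.last (k + 1)) + eB 0) := by
    rw [← hhz, ← conj_smul, ← conj_smul h x, hhx]
    exact (hfa.image hw).image hw
  -- a full vector `-a + β' b + b₀` with `β' ≠ 0`
  obtain ⟨β', hβ', hfz'⟩ : ∃ β' : F, β' ≠ 0 ∧ FullVec G ((-1 : F) • eA (Fin.last (k + 1)) + β' • eB (Fin.last (k + 1)) + eB 0) := by
    rcases eq_or_ne β 0 with hb | hb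
    · refine ⟨1, one_ne_zero, ?_⟩
      have h1 := hfz.image (hfb 1)
      rw [hb, zero_smul, add_zero] at h1
      rw [tv_smul, form_add_left, form_smul_left, form_eA_eB, form_eB_eB, add_zero] at h1
      convert h1 using 1
      module
    · exact ⟨β, hb, hfz⟩
  set K := shiftSpace G (eA (Fin.last (k + 1)))
  have hb0 : eB 0 ∈ K := by
    have h1 : FullVec G (β' • eB (Fin.last (k + 1)) + eB 0) := by
      have h2 := hfz'.add hfa (by
        simp only [form_add_left, form_smul_left, form_eA_eA, form_eB_eA, mul_zero, zero_add]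
        rw [form_eA]; simpa [eB, h0la] using hβ')
      convert h2 using 1
      module
    have h3 := sub_mem_shiftSpace hq hfa (hfb.smul β') h1
      (by rw [form_smul_left, form_eB_eA, mul_one]; exact hβ')
      (by rw [form_add_left, form_eA (eB 0)]; simp [eB, h0la])
    rwa [add_sub_cancel_left] at h3
  have hdb : (dJ k F)⁻¹ • (eB (Fin.last (k + 1)) : Fin (k + 2) ⊕ Fin (k + 2) → F) = eB (Fin.last (k + 1)) := dJ_inv_smul_eB_last
  have hB : ∀ (i : ℕ) (hi : i < k + 1), eB (⟨i, by omega⟩ : Fin (k + 2)) ∈ K := by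
    intro i
    induction i with
    | zero => intro _; exact hb0
    | succ i ih =>
      intro hi
      have hK := ih (by omega)
      have h1 : FullVec G (eB (Fin.last (k + 1)) + eB ⟨i, by omega⟩) :=
        hK.2 _ hfb (by rw [form_eB_eA]; exact one_ne_zero)
      have h2 := h1.image (inv_mem hdJ)
      rw [smul_add, hdb, dJ_inv_smul_eB (j := ⟨i + 1, by omega⟩) rfl] at h2
      have n1 : (⟨i, by omega⟩ : Fin (k + 2)) ≠ (Fin.last (k + 1)) := by simp [Fin.ext_iff]; omega
      have n2 : (⟨i + 1, by omega⟩ : Fin (k + 2)) ≠ (Fin.last (k + 1)) := by simp [Fin.ext_iff]; omega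
      have h3 := sub_mem_shiftSpace hq hfa h1 h2
        (by simp [form_eA, eB, n1.symm])
        (by simp [form_eA, eB, n1.symm, n2.symm])
      rwa [← add_assoc, add_sub_cancel_left] at h3
  have hA : ∀ (d : ℕ) (i : Fin (k + 2)), (i : ℕ) + d = k + 1 → eA i ∈ K := by
    intro d
    induction d with
    | zero =>
      intro i hi
      rw [show i = (Fin.last (k + 1)) from Fin.ext (by simpa using hi)]
      exact self_mem_shiftSpace hfa
    | succ d ih =>
      intro i hi
      have hK := ih ⟨i + 1, by omega⟩ (by show i + 1 + d = k + 1; omega)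
      have h1 : FullVec G (eB (Fin.last (k + 1)) + eA ⟨i + 1, by omega⟩) :=
        hK.2 _ hfb (by rw [form_eB_eA]; exact one_ne_zero)
      have h2 := h1.image hdJ
      rw [smul_add, dJ_smul_eB_last, dJ_smul_eA (i := i) rfl] at h2
      have h3 := sub_mem_shiftSpace hq hfa h1 h2
        (by simp [form_add_left, form_eB_eA, form_eA_eA])
        (by simp [form_add_left, form_eB_eA, form_eA_eA])
      rwa [← add_assoc, add_sub_cancel_left] at h3
  refine eq_top_of_shiftSpace hfb (by rw [form_eB_eA]; exact one_ne_zero) fun v hv => ?_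
  rw [form_eA] at hv
  rw [← Finset.univ_sum_single v]
  refine Submodule.sum_mem _ fun j _ => ?_
  rw [← mul_one (v j), ← smul_eq_mul, Pi.single_smul]
  rcases j with j | j
  · exact K.smul_mem _ (hA (k + 1 - j) j (by have := j.isLt; omega))
  · rcases eq_or_ne j (Fin.last (k + 1)) with rfl | hj
    · rw [hv, zero_smul]; exact K.zero_mem
    · exact K.smul_mem _ (hB j (by
        have := j.isLt
        have : (j : ℕ) ≠ k + 1 := fun e => hj (Fin.ext (by simpa using e))
        omega))

/-! ### Two and three element fields -/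

theorem jMat_mul_single {i j : Fin (k + 2)} {i' : Fin (k + 2)} (h : (i' : ℕ) + 1 = i) (c : F) :
    jMat k F * Matrix.single i j c = Matrix.single i j c + Matrix.single i' j c := by
  ext a b
  rcases eq_or_ne b j with rfl | hb
  · rw [Matrix.mul_single_apply_same]
    have h2 : i' ≠ i := fun e => by rw [e] at h; omega
    simp only [jMat, of_apply, Matrix.add_apply, Matrix.single_apply, and_true]
    rcases eq_or_ne i a with rfl | hia
    · simp [h2]
    · rcases eq_or_ne i' a with rfl | hia'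
      · simp [hia, h.symm]
      · have : (i : ℕ) ≠ a + 1 := fun e => hia' (Fin.ext (by omega))
        simp [hia, hia', this]
  · simp [hb, hb.symm, Matrix.single_apply]

theorem jMat_mul_single_zero (j : Fin (k + 2)) (c : F) :
    jMat k F * Matrix.single 0 j c = Matrix.single 0 j c := by
  ext a b
  rcases eq_or_ne b j with rfl | hb
  · rw [Matrix.mul_single_apply_same]
    simp [jMat, Matrix.single_apply, eq_comm]
  · simp [hb, hb.symm, Matrix.single_apply]

theorem single_mul_jMat_transpose {i j : Fin (k + 2)} {j' : Fin (k + 2)} (h : (j' : ℕ) + 1 = j)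
    (c : F) :
    Matrix.single i j c * (jMat k F)ᵀ = Matrix.single i j c + Matrix.single i j' c := by
  refine Matrix.transpose_injective ?_
  rw [transpose_mul, transpose_transpose, transpose_add, Matrix.transpose_single,
    Matrix.transpose_single, jMat_mul_single h]

theorem single_mul_jMat_transpose_zero (i : Fin (k + 2)) (c : F) :
    Matrix.single i 0 c * (jMat k F)ᵀ = Matrix.single i 0 c := by
  refine Matrix.transpose_injective ?_
  rw [transpose_mul, transpose_transpose, Matrix.transpose_single, jMat_mul_single_zero]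

/-- An element conjugating `u` to `u T(a₀,1)`. -/
theorem exists_shift (h : k = 0 → (3 : F) = 0) :
    ∃ g : symplecticGroup (Fin (k + 2)) F,
      (uReg k F)⁻¹ * (g * uReg k F * g⁻¹) = tv (eA 0) 1 := by
  obtain ⟨S, hSt, hS⟩ : ∃ S : Matrix (Fin (k + 2)) (Fin (k + 2)) F, Sᵀ = S ∧
      S = jMat k F * S * (jMat k F)ᵀ + Matrix.single 0 0 1 := by
    rcases k with _ | k
    · have h01 : ((0 : Fin 2) : ℕ) + 1 = (1 : Fin 2) := rfl
      refine ⟨Matrix.single 0 1 1 + Matrix.single 1 0 1, ?_, ?_⟩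
      · rw [transpose_add, Matrix.transpose_single, Matrix.transpose_single]
        exact add_comm _ _
      · simp only [mul_add, add_mul, jMat_mul_single_zero, jMat_mul_single h01,
          single_mul_jMat_transpose h01, single_mul_jMat_transpose_zero]
        have h3 : Matrix.single (0 : Fin 2) (0 : Fin 2) ((1 : F) + 1 + 1) = 0 := by
          rw [show (1 : F) + 1 + 1 = 0 by linear_combination h rfl, Matrix.single_zero]
        rw [Matrix.single_add, Matrix.single_add] at h3
        linear_combination (norm := abel) -h3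
    · have h01 : ((0 : Fin (k + 3)) : ℕ) + 1 = (⟨1, by omega⟩ : Fin (k + 3)) := rfl
      have h12 : ((⟨1, by omega⟩ : Fin (k + 3)) : ℕ) + 1 = (⟨2, by omega⟩ : Fin (k + 3)) := rfl
      refine ⟨Matrix.single 0 ⟨2, by omega⟩ 1 + Matrix.single ⟨2, by omega⟩ 0 1 -
        Matrix.single ⟨1, by omega⟩ ⟨1, by omega⟩ 1, ?_, ?_⟩
      · rw [transpose_sub, transpose_add, Matrix.transpose_single, Matrix.transpose_single,
          Matrix.transpose_single]
        abel
      · simp only [mul_add, add_mul, mul_sub, sub_mul, jMat_mul_single_zero, jMat_mul_single h01,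
          jMat_mul_single h12, single_mul_jMat_transpose h01, single_mul_jMat_transpose h12,
          single_mul_jMat_transpose_zero]
        abel
  refine ⟨⟨fromBlocks 1 S 0 1, ?_⟩, ?_⟩
  · rw [SymplecticGroup.mem_iff]
    simp [J, fromBlocks_transpose, fromBlocks_multiply, hSt]
  set g : symplecticGroup (Fin (k + 2)) F := ⟨fromBlocks 1 S 0 1, _⟩
  have hga : g • (eA (Fin.last (k + 1)) : Fin (k + 2) ⊕ Fin (k + 2) → F) = eA (Fin.last (k + 1)) := by
    rw [smul_def]
    show fromBlocks _ _ _ _ *ᵥ _ = _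
    ext (j | j) <;> simp [eA, fromBlocks, Matrix.one_apply, Pi.single_apply]
  have hT : (tv (eA (0 : Fin (k + 2))) (1 : F)).1 = fromBlocks 1 (Matrix.single 0 0 1) 0 1 := by
    refine Matrix.ext_of_mulVec_single fun i => ?_
    show tv (eA (0 : Fin (k + 2))) (1 : F) • (Pi.single i 1 : Fin (k + 2) ⊕ Fin (k + 2) → F) = _
    generalize (Pi.single i (1 : F) : Fin (k + 2) ⊕ Fin (k + 2) → F) = v
    rw [tv_smul, form_eA, fromBlocks_mulVec]
    ext (j | j) <;> simp [eA, Matrix.single_mulVec, Function.update_apply, Pi.single_apply]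
  have hu : IsUnit (jMat k F).det := by rw [det_jMat]; exact isUnit_one
  have hcomm : g * dJ k F = dJ k F * g * tv (eA 0) 1 := by
    refine Subtype.ext ?_
    show fromBlocks _ _ _ _ * fromBlocks _ _ _ _ = fromBlocks _ _ _ _ * fromBlocks _ _ _ _ * (tv _ _).1
    rw [hT]
    simp [fromBlocks_multiply]
    have hk : S * (jMat k F)⁻¹ᵀ = jMat k F * (S + Matrix.single 0 0 1) := by
      conv_lhs => rw [hS]
      have h1 : jMat k F * Matrix.single 0 0 1 * (jMat k F)ᵀ = Matrix.single 0 0 (1 : F) := by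
        rw [jMat_mul_single_zero, single_mul_jMat_transpose_zero]
      nth_rewrite 1 [← h1]
      rw [← add_mul, ← mul_add, mul_assoc, ← transpose_mul, Matrix.nonsing_inv_mul _ hu,
        transpose_one, mul_one]
    rw [hk, mul_add]
    exact add_comm _ _
  have hgT : g * tv (eA (Fin.last (k + 1))) 1 * g⁻¹ = tv (eA (Fin.last (k + 1))) 1 := by
    rw [tv_conj, hga]
  have hc : tv (eA (Fin.last (k + 1))) (1 : F) * tv (eA 0) 1 = tv (eA 0) 1 * tv (eA (Fin.last (k + 1))) 1 :=
    tv_commute (form_eA_eA _ _) _ _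
  have h0 : g * tv (eA 0) 1 * g⁻¹ = tv (eA (0 : Fin (k + 2))) 1 := by
    rw [tv_conj]
    congr 1
    rw [smul_def]
    show fromBlocks _ _ _ _ *ᵥ _ = _
    ext (j | j) <;> simp [eA, fromBlocks, Matrix.one_apply, Pi.single_apply]
  calc (uReg k F)⁻¹ * (g * uReg k F * g⁻¹)
      = (uReg k F)⁻¹ * (g * dJ k F * g⁻¹ * (g * tv (eA (Fin.last (k + 1))) 1 * g⁻¹)) := by
        rw [uReg]; group
    _ = (tv (eA (Fin.last (k + 1))) 1)⁻¹ * ((g * tv (eA 0) 1 * g⁻¹) * tv (eA (Fin.last (k + 1))) 1) := by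
        rw [hgT, hcomm, uReg]; group
    _ = _ := by rw [h0, ← hc, inv_mul_cancel_left]

theorem exists_natCast_of_card_prime [Finite F] {p : ℕ} (hp : p.Prime) (h : Nat.card F = p)
    (c : F) : ∃ j : ℕ, (j : F) = c := by
  haveI : Fact p.Prime := ⟨hp⟩
  letI := Fintype.ofFinite F
  haveI : CharP F p := by
    obtain ⟨r, hr⟩ := CharP.exists F
    haveI : Fact r.Prime := ⟨CharP.char_is_prime F r⟩
    obtain ⟨n, -, hn⟩ := FiniteField.card F r
    rw [← Nat.card_eq_fintype_card, h] at hn
    have := (Nat.prime_dvd_prime_iff_eq (Fact.out : r.Prime) hp).1 (hn ▸ dvd_pow_self r n.pos.ne')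
    rwa [this] at hr
  have hb := (ZMod.castHom (dvd_refl p) F).injective.bijective_of_nat_card_le (by
    rw [h, Nat.card_eq_fintype_card, ZMod.card])
  obtain ⟨z, rfl⟩ := hb.2 c
  exact ⟨z.val, by rw [ZMod.castHom_apply, ZMod.cast_eq_val]⟩

theorem route_prime [Finite F] (h22 : ¬ (k = 0 ∧ Nat.card F = 2)) (h3 : Nat.card F ≤ 3) :
    ∃ g h : symplecticGroup (Fin (k + 2)) F, threeGen g h = ⊤ := by
  letI := Fintype.ofFinite F
  have hcard : Nat.card F = 2 ∨ Nat.card F = 3 := by
    have := Finite.one_lt_card (α := F); omega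
  obtain ⟨p, hp, hpF⟩ : ∃ p, p.Prime ∧ Nat.card F = p := by
    rcases hcard with h | h
    exacts [⟨2, Nat.prime_two, h⟩, ⟨3, Nat.prime_three, h⟩]
  have hzero : ((Nat.card F : ℕ) : F) = 0 := by
    rw [Nat.card_eq_fintype_card, FiniteField.cast_card_eq_zero]
  obtain ⟨g, hg⟩ := exists_shift (k := k) (F := F) (fun hk => by
    rcases hcard with h | h
    · exact absurd ⟨hk, h⟩ h22
    · rw [h] at hzero; exact_mod_cast hzero)
  have hlp : (⟨k, by omega⟩ : Fin (k + 2)) ≠ (Fin.last (k + 1)) := by simp [Fin.ext_iff]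
  have hux : uReg k F • (eB (Fin.last (k + 1)) : Fin (k + 2) ⊕ Fin (k + 2) → F) = eB (Fin.last (k + 1)) + eA (Fin.last (k + 1)) + eA (⟨k, by omega⟩ : Fin (k + 2)) := by
    rw [uReg_smul_eB_last, uReg_smul_eA_last]
    exact (add_assoc _ _ _).symm
  have hfux : sympForm (k + 2) F (uReg k F • (eB (Fin.last (k + 1)) : Fin (k + 2) ⊕ Fin (k + 2) → F)) (eB (Fin.last (k + 1))) = -1 := by
    rw [hux, form_eB]; simp [eA, eB, hlp.symm]
  have huux : uReg k F • (uReg k F • (eB (Fin.last (k + 1)) : Fin (k + 2) ⊕ Fin (k + 2) → F)) =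
      eB (Fin.last (k + 1)) + eA (Fin.last (k + 1)) + eA (⟨k, by omega⟩ : Fin (k + 2)) + (eA (Fin.last (k + 1)) + eA (⟨k, by omega⟩ : Fin (k + 2))) + dJ k F • eA (⟨k, by omega⟩ : Fin (k + 2)) := by
    rw [hux, smul_add, smul_add, hux, uReg_smul_eA_last, uReg_smul_eA (⟨k, by omega⟩ : Fin (k + 2))]
  obtain ⟨e1, e2⟩ := dJ_smul_eA_lp_apply (F := F) (k := k)
  have hind : ∀ a b : F, uReg k F • (uReg k F • (eB (Fin.last (k + 1)) : Fin (k + 2) ⊕ Fin (k + 2) → F)) ≠ a • eB (Fin.last (k + 1)) + b • (uReg k F • (eB (Fin.last (k + 1)) : Fin (k + 2) ⊕ Fin (k + 2) → F)) := by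
    intro a b h
    rw [huux, hux] at h
    have h1 := congrFun h (.inl (Fin.last (k + 1)))
    have h2 := congrFun h (.inl (⟨k, by omega⟩ : Fin (k + 2)))
    simp only [Pi.add_apply, Pi.smul_apply, e1, e2] at h1 h2
    simp [eA, eB, hlp, hlp.symm] at h1 h2
    exact one_ne_zero (α := F) (by linear_combination h2 - h1)
  obtain ⟨h, hhx, hhy, hhz⟩ := exists_witt (0 : Fin (k + 2)) (neg_ne_zero.2 one_ne_zero) hfux hind
    (t := eA 1) (fun j hj => by rw [Finset.mem_singleton.1 hj]; simp [eA]) (eA_ne_zero 1)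
  have hβ : sympForm (k + 2) F (uReg k F • (uReg k F • (eB (Fin.last (k + 1)) : Fin (k + 2) ⊕ Fin (k + 2) → F))) (eB (Fin.last (k + 1))) = -2 := by
    rw [huux, form_eB]
    simp only [Pi.add_apply, e1]
    simp [eA, eB, hlp.symm]
    norm_num
  rw [hβ, form_smul_smul, hfux, div_self (neg_ne_zero.2 one_ne_zero)] at hhz
  refine ⟨g, h, ?_⟩
  set G := threeGen g h
  have hu : uReg k F ∈ G := uReg_mem g h
  have full_of : ∀ v, tv v 1 ∈ G → FullVec G v := fun v hv c => by
    obtain ⟨j, rfl⟩ := exists_natCast_of_card_prime hp hpF c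
    rw [show (j : F) = (j : F) * 1 by rw [mul_one], ← tv_pow]
    exact pow_mem hv j
  have hfa : FullVec G (eA 0) := full_of _ (hg ▸ comm_mem g h)
  set w := h * uReg k F * h⁻¹
  have hw : w ∈ G := conj_mem g h
  have hwa : w • (eA 0 : Fin (k + 2) ⊕ Fin (k + 2) → F) = (-1 : F) • eB 0 := by rw [← hhx, conj_smul, hhy]
  have hfb : FullVec G (eB 0) := by
    have h1 := (hfa.image hw).smul (-1)
    rwa [hwa, smul_smul, neg_one_mul, neg_neg, one_smul] at h1
  set K := shiftSpace G (eA 0)
  have hfb' := hfb.image (inv_mem hu)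
  have hfix : ((uReg k F)⁻¹) • (eA 0 : Fin (k + 2) ⊕ Fin (k + 2) → F) = eA 0 :=
    inv_smul_eq_iff.2 uReg_fix.symm
  have hval : sympForm (k + 2) F ((uReg k F)⁻¹ • eB 0) (eA 0) = 1 := by
    conv_lhs => rw [← hfix, form_smul_smul, form_eB_eA]
  have hQ : qMat k F *ᵥ eB 0 ∈ K := by
    rw [qMat_mulVec]
    rcases hcard with h2 | h3'
    · -- two elements
      have hk : k ≠ 0 := fun hk => h22 ⟨hk, h2⟩
      have c2 : (2 : F) = 0 := by rw [h2] at hzero; exact_mod_cast hzero
      have hf01 : FullVec G (eA 0 + eA 1) := by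
        have h1 := (hfa.image hw).image hw
        rw [hwa, smul_comm, show w • (eB 0 : Fin (k + 2) ⊕ Fin (k + 2) → F) =
            -(h • (uReg k F • (uReg k F • (eB (Fin.last (k + 1)) : Fin (k + 2) ⊕ Fin (k + 2) → F)))) from ?_, hhz] at h1
        · convert h1 using 1
          first
            | linear_combination (norm := module) (-c2) • eB (0 : Fin (k + 2)) + (-c2) • eA (0 : Fin (k + 2))
            | linear_combination (norm := module) c2 • eB (0 : Fin (k + 2)) + c2 • eA (0 : Fin (k + 2))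
        · rw [← conj_smul h (uReg k F • (eB (Fin.last (k + 1)) : Fin (k + 2) ⊕ Fin (k + 2) → F)), hhy, smul_comm, neg_one_smul, neg_neg]
      have hf1 : FullVec G (eA 1) := by
        have h1 := hf01.image hu
        rw [smul_add, uReg_fix, uReg_smul_eA, dJ_smul_eA (i := 0) (j := 1) (by simp)] at h1
        convert h1 using 1
        linear_combination (norm := module) (-c2) • eA (0 : Fin (k + 2))
      have hk1 : eA 1 ∈ K := by
        refine ⟨form_eA_eA _ _, fun v hv hve => ?_⟩
        by_cases h0 : sympForm (k + 2) F v (eA 1) = 0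
        · have h1 : FullVec G (v + (eA 0 + eA 1)) :=
            hv.add hf01 (by rw [form_add_right, h0, add_zero]; exact hve)
          have h2' := h1.sub hfa (by
            simp only [form_add_left, form_eA_eA, add_zero]; exact hve)
          convert h2' using 1
          module
        · exact hv.add hf1 h0
      refine mem_shiftSpace_of_pair (v := eB 0) ?_ hk1 ?_ hfb
        (by rw [form_eB_eA]; exact one_ne_zero) (by rwa [add_sub_cancel])
      · rw [form_sub_left, hval, form_eB_eA, sub_self]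
      · rw [uReg_inv_smul_eB (j := (1 : Fin (k + 2))) (by simp), if_neg]
        · simp [zero_smul, form_eA_eB]
        · intro e
          have := congrArg Fin.val e
          simp at this
          exact hk (by omega)
    · refine sub_mem_shiftSpace ?_ hfa hfb hfb' (by rw [form_eB_eA]; exact one_ne_zero)
        (by rw [hval, form_eB_eA])
      intro a b
      classical
      obtain ⟨t, ht⟩ := Finset.exists_mem_notMem_of_card_lt_card (s := {a, b}) (t := (Finset.univ : Finset F)) (by
        refine lt_of_le_of_lt Finset.card_le_two ?_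
        rw [Finset.card_univ, ← Nat.card_eq_fintype_card, h3']; omega)
      exact ⟨t, fun e => ht.2 (by simp [e]), fun e => ht.2 (by simp [e])⟩
  have hQpow : ∀ j : ℕ, qMat k F ^ (j + 1) *ᵥ eB 0 ∈ K := by
    intro j
    induction j with
    | zero => rwa [zero_add, pow_one]
    | succ j ih =>
      rw [pow_succ' _ (j + 1), ← mulVec_mulVec, qMat_mulVec]
      exact K.sub_mem (smul_mem_shiftSpace (inv_mem hu) hfix ih) ih
  refine eq_top_of_shiftSpace hfb (by rw [form_eB_eA]; exact one_ne_zero) fun v hv => ?_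
  have hspan : (⊤ : Submodule F (Fin (k + 2) ⊕ Fin (k + 2) → F)) ≤ (F ∙ eB 0) ⊔ K := by
    rw [← span_qMat_orbit, Submodule.span_le]
    rintro _ ⟨⟨j, hj⟩, rfl⟩
    rcases j with _ | j
    · show qMat k F ^ 0 *ᵥ eB 0 ∈ _
      rw [pow_zero, one_mulVec]
      exact Submodule.mem_sup_left (Submodule.mem_span_singleton_self _)
    · exact Submodule.mem_sup_right (hQpow j)
  obtain ⟨a, ha, b, hb, rfl⟩ := Submodule.mem_sup.1 (hspan (Submodule.mem_top (x := v)))
  obtain ⟨c, rfl⟩ := Submodule.mem_span_singleton.1 ha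
  rw [form_add_left, form_smul_left, form_eB_eA, hb.1, mul_one, add_zero] at hv
  rwa [hv, zero_smul, zero_add]

/-- `Sp_{2n}(q)` is generated by three conjugates of a regular unipotent element. -/
theorem exists_three_regular [Finite F] (n : ℕ) (hn : 2 ≤ n) (h22 : ¬ (n = 2 ∧ Nat.card F = 2)) :
    ∃ u g h : symplecticGroup (Fin n) F,
      IsNilpotent ((u : Matrix (Fin n ⊕ Fin n) (Fin n ⊕ Fin n) F) - 1) ∧
      ((u : Matrix (Fin n ⊕ Fin n) (Fin n ⊕ Fin n) F) - 1) ^ (2 * n - 1) ≠ 0 ∧
      Subgroup.closure ({u, g * u * g⁻¹, h * u * h⁻¹} : Set (symplecticGroup (Fin n) F)) = ⊤ := by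
  obtain ⟨k, rfl⟩ : ∃ k, n = k + 2 := ⟨n - 2, by omega⟩
  obtain ⟨g, h, hgh⟩ : ∃ g h : symplecticGroup (Fin (k + 2)) F, threeGen g h = ⊤ := by
    by_cases hq : Nat.card F ≤ 3
    · exact route_prime (fun e => h22 ⟨by omega, e.2⟩) hq
    · obtain ⟨l, κ, hl, hκ, hs, hgen⟩ := exists_params (F := F) (by omega)
      letI := Fintype.ofFinite F
      refine route_scalar (fun a b => ?_) hl hκ hs hgen
      classical
      obtain ⟨t, ht⟩ := Finset.exists_mem_notMem_of_card_lt_card (s := {a, b}) (t := (Finset.univ : Finset F)) (by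
        refine lt_of_le_of_lt Finset.card_le_two ?_
        rw [Finset.card_univ, ← Nat.card_eq_fintype_card]; omega)
      exact ⟨t, fun e => ht.2 (by simp [e]), fun e => ht.2 (by simp [e])⟩
  exact ⟨uReg k F, g, h, ⟨2 * (k + 2), pMat_pow_two_mul⟩, pMat_top_ne_zero, hgh⟩

end CfsgLib.Linear.SympReg
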