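/-
PSL_2(9) is isomorphic to A_6.
-/
import Mathlib
import Cfsg.Agent.Lib.Linear.LineModel
import Cfsg.Agent.Lib.Linear.ProjLine

set_option autoImplicit false

namespace CfsgLib.Linear.PSL2Nine

open Matrix

local instance fact_prime_three : Fact (Nat.Prime 3) := ⟨Nat.prime_three⟩

local instance fact_no_root : Fact (∀ r : ZMod 3, r ^ 2 ≠ -1 + 0 * r) := ⟨by decide⟩

/-- The field with nine elements. -/
abbrev F9 : Type := QuadraticAlgebra (ZMod 3) (-1) 0

noncomputable local instance fintype_F9 : Fintype F9 :=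
  Fintype.ofEquiv _ (QuadraticAlgebra.equivProd (-1 : ZMod 3) 0).symm

theorem card_F9 : Fintype.card F9 = 9 := by
  rw [← Nat.card_eq_fintype_card, Nat.card_congr (QuadraticAlgebra.equivProd (-1 : ZMod 3) 0),
    Nat.card_prod, Nat.card_zmod]

/-- The ten points. -/
def vec : Fin 10 → F9 × F9 :=
  ![(⟨0, 0⟩, 1), (⟨1, 0⟩, 1), (⟨2, 0⟩, 1), (⟨0, 1⟩, 1), (⟨1, 1⟩, 1), (⟨2, 1⟩, 1), (⟨0, 2⟩, 1),
    (⟨1, 2⟩, 1), (⟨2, 2⟩, 1), (1, 0)]

/-- The coordinates of an element of `F9`. -/
def co (x : F9) : ZMod 3 × ZMod 3 := (x.re, x.im)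

theorem co_injective : Function.Injective co := fun x y h ↦ by
  simp [co, Prod.ext_iff] at h
  exact QuadraticAlgebra.ext h.1 h.2

theorem vec_distinct : ∀ i j, i ≠ j → co ((vec i).1 * (vec j).2 - (vec i).2 * (vec j).1) ≠ co 0 := by
  decide +kernel

theorem vec_ne_zero : ∀ i, (co (vec i).1, co (vec i).2) ≠ (co 0, co 0) := by decide +kernel

/-- The labelling of the projective line over `F9`. -/
noncomputable def model : LineModel F9 10 where
  vec := vec
  card_eq := by rw [card_F9]
  ne_zero i h := vec_ne_zero i (by rw [h]; rfl)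
  distinct i j hij h := vec_distinct i j hij (congrArg co h)

/-- The six Petersen graphs. -/
def obj : Fin 6 → Finset (Finset (Fin 10)) :=
  ![{{0, 1}, {0, 5}, {0, 8}, {1, 2}, {1, 9}, {2, 3}, {2, 6}, {3, 4}, {3, 8}, {4, 5}, {4, 9}, {5, 6}, {6, 7}, {7, 8}, {7, 9}},
    {{0, 2}, {0, 4}, {0, 7}, {1, 2}, {1, 3}, {1, 6}, {2, 9}, {3, 5}, {3, 7}, {4, 5}, {4, 6}, {5, 9}, {6, 8}, {7, 8}, {8, 9}},
    {{0, 1}, {0, 2}, {0, 9}, {1, 5}, {1, 8}, {2, 4}, {2, 7}, {3, 4}, {3, 5}, {3, 9}, {4, 8}, {5, 7}, {6, 7}, {6, 8}, {6, 9}},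
    {{0, 3}, {0, 6}, {0, 9}, {1, 4}, {1, 7}, {1, 9}, {2, 5}, {2, 8}, {2, 9}, {3, 7}, {3, 8}, {4, 6}, {4, 8}, {5, 6}, {5, 7}},
    {{0, 4}, {0, 5}, {0, 6}, {1, 3}, {1, 5}, {1, 7}, {2, 3}, {2, 4}, {2, 8}, {3, 6}, {4, 7}, {5, 8}, {6, 9}, {7, 9}, {8, 9}},
    {{0, 3}, {0, 7}, {0, 8}, {1, 4}, {1, 6}, {1, 8}, {2, 5}, {2, 6}, {2, 7}, {3, 6}, {3, 9}, {4, 7}, {4, 9}, {5, 8}, {5, 9}}]

/-- The additive generators. -/
def gen : Fin 2 → F9 := ![1, ⟨0, 1⟩]

/-- Point permutations of the upper transvections. -/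
def sU : Fin 2 → Fin 10 → Fin 10 :=
  ![![1, 2, 0, 4, 5, 3, 7, 8, 6, 9], ![3, 4, 5, 6, 7, 8, 0, 1, 2, 9]]

/-- Point permutations of the lower transvections. -/
def sL : Fin 2 → Fin 10 → Fin 10 :=
  ![![0, 2, 9, 8, 6, 4, 5, 3, 7, 1], ![0, 5, 4, 9, 7, 8, 3, 2, 1, 6]]

/-- Object permutations of the upper transvections. -/
def pU : Fin 2 → Fin 6 → Fin 6 := ![![1, 2, 0, 3, 4, 5], ![0, 1, 2, 5, 3, 4]]

/-- Object permutations of the lower transvections. -/
def pL : Fin 2 → Fin 6 → Fin 6 := ![![1, 3, 2, 0, 4, 5], ![0, 1, 4, 3, 5, 2]]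

theorem obj_injective : Function.Injective obj := by decide +kernel

theorem obj_sU : ∀ b i, (obj i).image (Finset.image (sU b)) = obj (pU b i) := by decide +kernel

theorem obj_sL : ∀ b i, (obj i).image (Finset.image (sL b)) = obj (pL b i) := by decide +kernel

theorem sU_check : ∀ b i, co (((vec i).1 + gen b * (vec i).2) * (vec (sU b i)).2 -
    (vec i).2 * (vec (sU b i)).1) = co 0 := by decide +kernel

theorem sL_check : ∀ b i, co ((vec i).1 * (vec (sL b i)).2 -
    (gen b * (vec i).1 + (vec i).2) * (vec (sL b i)).1) = co 0 := by decide +kernel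

theorem closure_gen : AddSubgroup.closure (Set.range gen) = ⊤ := by
  refine (AddSubgroup.eq_top_iff' _).2 fun c ↦ ?_
  have key : ∀ a b : ZMod 3, co (a.val • gen 0 + b.val • gen 1) = (a, b) := by decide +kernel
  have h : c = c.re.val • gen 0 + c.im.val • gen 1 := co_injective (key c.re c.im).symm
  rw [h]
  exact add_mem (nsmul_mem (AddSubgroup.subset_closure (Set.mem_range_self _)) _)
    (nsmul_mem (AddSubgroup.subset_closure (Set.mem_range_self _)) _)

theorem image_image_id (s : Finset (Finset (Fin 10))) : s.image (Finset.image id) = s := by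
  rw [show Finset.image (id : Fin 10 → Fin 10) = id from funext fun _ ↦ Finset.image_id, Finset.image_id]

theorem image_image_mul (σ τ : Equiv.Perm (Fin 10)) (s : Finset (Finset (Fin 10))) :
    s.image (Finset.image ⇑(σ * τ)) = (s.image (Finset.image τ)).image (Finset.image σ) := by
  rw [Finset.image_image]
  congr 1
  funext t
  rw [Function.comp_apply, Finset.image_image, Equiv.Perm.coe_mul]

/-- The action on the six graphs. -/
noncomputable def objAction : ObjAction (SpecialLinearGroup (Fin 2) F9) (Fin 6) where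
  R g i j := (obj i).image (Finset.image (model.rho g)) = obj j
  one i := by simp [image_image_id]
  mul g h i j k h1 h2 := by rw [map_mul, image_image_mul, h1, h2]
  unique g i j k h1 h2 := obj_injective (h1.symm.trans h2)
  exists_img g := by
    let H : Subgroup (SpecialLinearGroup (Fin 2) F9) :=
      { carrier := {g | ∀ i, ∃ j, (obj i).image (Finset.image (model.rho g)) = obj j}
        one_mem' := fun i ↦ ⟨i, by simp [image_image_id]⟩
        mul_mem' := fun {a b} ha hb i ↦ by
          obtain ⟨j, hj⟩ := hb i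
          obtain ⟨k, hk⟩ := ha j
          exact ⟨k, by rw [map_mul, image_image_mul, hj, hk]⟩
        inv_mem' := fun {a} ha i ↦ by
          choose f hf using ha
          have hinj : Function.Injective f := fun x y e ↦ obj_injective <|
            Finset.image_injective (Finset.image_injective (model.rho a).injective)
              (by rw [hf, hf, e])
          obtain ⟨j, rfl⟩ := (Finite.injective_iff_surjective.1 hinj) i
          refine ⟨j, ?_⟩
          rw [← hf, ← image_image_mul, ← map_mul, inv_mul_cancel, map_one, Equiv.Perm.coe_one,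
            image_image_id] }
    have hH : H = ⊤ := by
      refine SL2_eq_top_of_gens H (Set.range gen) closure_gen fun x hx ↦ ?_
      obtain ⟨b, rfl⟩ := hx
      exact ⟨fun i ↦ ⟨pU b i, by
          rw [funext (model.rho_upper_eq (gen b) (sU b) fun i ↦ co_injective (sU_check b i))]
          exact obj_sU b i⟩,
        fun i ↦ ⟨pL b i, by
          rw [funext (model.rho_lower_eq (gen b) (sL b) fun i ↦ co_injective (sL_check b i))]
          exact obj_sL b i⟩⟩
    exact hH.ge (Subgroup.mem_top g)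

theorem card_PSL2F9 : Nat.card (ProjectiveSpecialLinearGroup (Fin 2) F9) = 360 := by
  have h := card_PSL_mul (n := Fin 2) (F := F9)
  rw [card_SL_two, card_F9, Fintype.card_fin, show Nat.gcd 2 (9 - 1) = 2 from rfl,
    show 9 * (9 ^ 2 - 1) = 720 from rfl] at h
  omega

theorem equiv_A6 : Nonempty (ProjectiveSpecialLinearGroup (Fin 2) F9 ≃* alternatingGroup (Fin 6)) := by
  have : IsSimpleGroup (ProjectiveSpecialLinearGroup (Fin 2) F9) :=
    isSimpleGroup_PSL_fin 2 le_rfl fun _ ↦ by rw [Nat.card_eq_fintype_card, card_F9]; norm_num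
  have hc : Subgroup.center (SpecialLinearGroup (Fin 2) F9) ≤ objAction.toPerm.ker := by
    intro z hz
    refine Equiv.ext fun i ↦ objAction.unique _ i _ _ (objAction.toPerm_spec _ i) ?_
    change (obj i).image _ = _
    simp [model.rho_eq_one_of_center hz, image_image_id]
  have hne : objAction.toPerm (SpecialLinearGroup.transvection (show (0 : Fin 2) ≠ 1 by decide) (gen 0)) ≠ 1 := by
    refine objAction.toPerm_ne_one _ 0 (pU 0 0) ?_ (by decide)
    change (obj 0).image _ = _
    rw [funext (model.rho_upper_eq (gen 0) (sU 0) fun i ↦ co_injective (sU_check 0 i))]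
    exact obj_sU 0 0
  let g : ProjectiveSpecialLinearGroup (Fin 2) F9 →* Equiv.Perm (Fin 6) :=
    QuotientGroup.lift _ objAction.toPerm hc
  refine equiv_alternatingGroup_of_injective g
    (injective_of_isSimpleGroup g (g := QuotientGroup.mk _) hne) ?_
  rw [card_PSL2F9, Fintype.card_fin]
  rfl

theorem exists_PSL2_equiv_A6 {F : Type*} [Field F] [Fintype F] (hF : Fintype.card F = 9) :
    Nonempty (ProjectiveSpecialLinearGroup (Fin 2) F ≃* alternatingGroup (Fin 6)) := by
  obtain ⟨e⟩ := equiv_A6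
  exact ⟨(pslRingEquiv (FiniteField.ringEquivOfCardEq (K := F) (K' := F9) (by rw [hF, card_F9]))).trans e⟩

end CfsgLib.Linear.PSL2Nine
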