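import Cfsg.Agent.Lib.AutPSL.Count
import Cfsg.Agent.Lib.AutPSL.FieldAut

/-!
Element orders in `Aut(PSL_d(q))`: none exceeds `(q^d-1)/(q-1)`.

For a semilinear automorphism the linear power has characteristic polynomial over the fixed field; for
automorphisms involving inverse-transpose the square is handled the same way, and when the square is
diagonal a counting in the commutative algebra of the linear part gives the factor `2`.
-/

set_option autoImplicit false
set_option linter.unusedSectionVars false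
set_option linter.style.haveILetI false

namespace CfsgLib.AutOrder

open Matrix Polynomial
open CfsgLib.AutPSL (diagAut fieldAut itAut itGL fixedField mem_fixedField PSLg)

/-! ### Arithmetic -/

theorem le_geom {a d r : ℕ} (ha : 2 ≤ a) (h : (a - 1) * r ≤ a ^ d - 1) :
    r ≤ ∑ i ∈ Finset.range d, a ^ i := by
  have h1 : (a - 1) * r ≤ (a - 1) * ∑ i ∈ Finset.range d, a ^ i := by
    rwa [Nat.geomSum_eq ha, Nat.mul_div_cancel' (by simpa using Nat.sub_dvd_pow_sub_pow a 1 d)]
  exact Nat.le_of_mul_le_mul_left h1 (by omega)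

/-- Transferring a bound on the linear power to the big field. -/
theorem transfer {a e m d r o : ℕ} (ha : 2 ≤ a) (he : 1 ≤ e) (ho : o ≤ m * r) (hr : (a - 1) * r ≤ a ^ d - 1)
    (hs : m * ∑ i ∈ Finset.range d, a ^ i ≤ ∑ i ∈ Finset.range d, (a ^ e) ^ i) :
    (a ^ e - 1) * o ≤ (a ^ e) ^ d - 1 := by
  have hA : 2 ≤ a ^ e := ha.trans (Nat.le_self_pow (by omega) a)
  calc (a ^ e - 1) * o ≤ (a ^ e - 1) * (m * ∑ i ∈ Finset.range d, a ^ i) :=
        Nat.mul_le_mul_left _ (ho.trans (Nat.mul_le_mul_left _ (le_geom ha hr)))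
    _ ≤ (a ^ e - 1) * ∑ i ∈ Finset.range d, (a ^ e) ^ i := Nat.mul_le_mul_left _ hs
    _ = _ := by rw [Nat.geomSum_eq hA, Nat.mul_div_cancel' (by simpa using Nat.sub_dvd_pow_sub_pow (a ^ e) 1 d)]

theorem four_mul_le_four_pow (k : ℕ) : 4 * (k + 3) ≤ 4 ^ (k + 2) := by
  induction k with
  | zero => norm_num
  | succ k ih => rw [show k + 1 + 2 = k + 2 + 1 by omega, pow_succ]; omega

theorem tail_term {a e i : ℕ} (ha : 2 ≤ a) (he : 2 ≤ e) (hi : 3 ≤ i) :
    2 * e * a ^ i ≤ (a ^ e) ^ i := by
  obtain ⟨f, rfl⟩ : ∃ f, e = f + 1 := ⟨e - 1, by omega⟩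
  have h1 : 2 * (f + 1) ≤ a ^ (f * i) := by
    have h2 : 2 * (f + 1) ≤ 2 ^ (f * 3) := by
      rw [mul_comm f 3, pow_mul]
      have h3 : ∀ k, 2 * (k + 2) ≤ (2 ^ 3) ^ (k + 1) := fun k => by
        induction k with
        | zero => norm_num
        | succ k ih => rw [pow_succ]; omega
      obtain ⟨k, rfl⟩ : ∃ k, f = k + 1 := ⟨f - 1, by omega⟩
      exact h3 k
    exact h2.trans ((Nat.pow_le_pow_left ha _).trans (Nat.pow_le_pow_right (by omega) (Nat.mul_le_mul_left _ hi)))
  calc 2 * (f + 1) * a ^ i ≤ a ^ (f * i) * a ^ i := Nat.mul_le_mul_right _ h1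
    _ = _ := by rw [← pow_add, ← pow_mul]; congr 1; ring

theorem sum_ineq_two {a e d : ℕ} (ha : 2 ≤ a) (he : 2 ≤ e) (hae : 3 ≤ a ∨ 3 ≤ e) (hd : 3 ≤ d) :
    2 * e * ∑ i ∈ Finset.range d, a ^ i ≤ ∑ i ∈ Finset.range d, (a ^ e) ^ i := by
  induction d, hd using Nat.le_induction with
  | base =>
    simp only [Finset.sum_range_succ, Finset.sum_range_zero, zero_add, pow_zero, pow_one]
    have h1 : 1 + a + a ^ 2 ≤ 2 * a ^ 2 := by nlinarith
    have h2 : 4 * e * a ^ 2 ≤ (a ^ e) ^ 2 := by
      obtain ⟨f, rfl⟩ : ∃ f, e = f + 1 := ⟨e - 1, by omega⟩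
      rw [show (a ^ (f + 1)) ^ 2 = (a ^ 2) ^ f * a ^ 2 by ring]
      refine Nat.mul_le_mul_right _ ?_
      rcases Nat.lt_or_ge f 2 with hf | hf
      · obtain rfl : f = 1 := by omega
        have : 3 ≤ a := by omega
        rw [pow_one]
        nlinarith
      · obtain ⟨k, rfl⟩ : ∃ k, f = k + 2 := ⟨f - 2, by omega⟩
        exact (four_mul_le_four_pow k).trans (Nat.pow_le_pow_left (by nlinarith) _)
    calc 2 * e * (1 + a + a ^ 2) ≤ 2 * e * (2 * a ^ 2) := Nat.mul_le_mul_left _ h1
      _ = 4 * e * a ^ 2 := by ring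
      _ ≤ (a ^ e) ^ 2 := h2
      _ ≤ _ := Nat.le_add_left _ _
  | succ d hd ih =>
    rw [Finset.sum_range_succ, Finset.sum_range_succ, mul_add]
    exact Nat.add_le_add ih (tail_term ha he hd)

theorem sum_ineq_one {a e d : ℕ} (ha : 2 ≤ a) (he : 2 ≤ e) (hd : 2 ≤ d) (h4 : ¬ (d = 2 ∧ a ^ e = 4)) :
    e * ∑ i ∈ Finset.range d, a ^ i ≤ ∑ i ∈ Finset.range d, (a ^ e) ^ i := by
  by_cases hae : 3 ≤ a ∨ 3 ≤ e
  · rcases hd.eq_or_lt with rfl | hd
    · simp only [Finset.sum_range_succ, Finset.sum_range_zero, zero_add, pow_zero, pow_one]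
      rcases he.eq_or_lt with rfl | he
      · have : 3 ≤ a := by omega
        nlinarith
      · obtain ⟨k, rfl⟩ : ∃ k, e = k + 3 := ⟨e - 3, by omega⟩
        clear he h4 hae
        induction k with
        | zero =>
          have h1 : 4 ≤ a ^ 2 := by nlinarith
          have h2 := Nat.mul_le_mul_right a h1
          rw [show (0 + 3 : ℕ) = 2 + 1 from rfl, pow_succ]
          linarith
        | succ k ih =>
          have h8 : 4 * a ≤ a ^ (k + 3) := by
            calc 4 * a ≤ a ^ 2 * a := Nat.mul_le_mul_right _ (by nlinarith)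
              _ = a ^ 3 := by ring
              _ ≤ _ := Nat.pow_le_pow_right (by omega) (by omega)
          rw [show k + 1 + 3 = k + 3 + 1 by omega, pow_succ]
          have h2 := Nat.mul_le_mul_left (a ^ (k + 3)) ha
          have h3 := ih (by omega)
          linarith
    · exact (Nat.mul_le_mul_right _ (by omega)).trans (sum_ineq_two ha he hae hd)
  · obtain ⟨rfl, rfl⟩ : a = 2 ∧ e = 2 := by omega
    have hd3 : 3 ≤ d := by
      by_contra h
      exact h4 ⟨by omega, by norm_num⟩
    clear h4 hd he ha hae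
    induction d, hd3 using Nat.le_induction with
    | base => norm_num [Finset.sum_range_succ]
    | succ d hd ih =>
      rw [Finset.sum_range_succ, Finset.sum_range_succ, mul_add]
      refine Nat.add_le_add ih ?_
      calc 2 * 2 ^ d ≤ 2 * 2 * 2 ^ d := by omega
        _ ≤ _ := tail_term le_rfl le_rfl hd

theorem two_pow_bound {n : ℕ} (hn : 2 ≤ n) : 2 * n ^ n + 1 ≤ (n + 1) ^ n := by
  have key : ∀ k, 2 ≤ k → n ^ k * (n + k) + n ≤ n * (n + 1) ^ k := fun k hk => by
    induction k, hk using Nat.le_induction with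
    | base => exact le_of_eq (by ring)
    | succ k _ ih =>
      have h1 := Nat.mul_le_mul_left (n + 1) ih
      have h2 : n ^ k * n ≤ n ^ k * (n + k) := Nat.mul_le_mul_left _ (Nat.le_add_right n k)
      have h3 : n ≤ (n + 1) * n := Nat.le_mul_of_pos_left _ (Nat.succ_pos n)
      simp only [pow_succ]
      linarith
  refine Nat.le_of_mul_le_mul_left ?_ (show 0 < n by omega)
  calc n * (2 * n ^ n + 1) = n ^ n * (n + n) + n := by ring
    _ ≤ _ := key n hn

/-! ### Counting powers modulo scalars -/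

section Count

variable {d : ℕ} {F : Type*} [Field F] [Fintype F]

/-- Order of a matrix modulo scalars. -/
noncomputable abbrev projOrder (M : GL (Fin d) F) : ℕ :=
  orderOf (QuotientGroup.mk' (Subgroup.center (GL (Fin d) F)) M)

theorem eq_of_smul_pow_eq [NeZero d] (M : GL (Fin d) F) {i j : ℕ} (hi : i < projOrder M) (hj : j < projOrder M)
    {c c' : F} (_hc : c ≠ 0) (hc' : c' ≠ 0) (h : c • M.1 ^ i = c' • M.1 ^ j) : i = j ∧ c = c' := by
  have hij : i = j := by
    apply pow_injOn_Iio_orderOf (x := QuotientGroup.mk' (Subgroup.center (GL (Fin d) F)) M) hi hj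
    show (QuotientGroup.mk' _ M) ^ i = (QuotientGroup.mk' _ M) ^ j
    rw [← map_pow, ← map_pow]
    refine QuotientGroup.eq.mpr ?_
    rw [Matrix.GeneralLinearGroup.mem_center_iff_val_mem_range_scalar]
    refine ⟨c'⁻¹ * c, ?_⟩
    have hy : M.1 ^ j = (c'⁻¹ * c) • M.1 ^ i := by
      rw [mul_smul, h, smul_smul, inv_mul_cancel₀ hc', one_smul]
    rw [Units.val_mul, Units.val_pow_eq_pow_val, hy, Matrix.mul_smul, ← Units.val_pow_eq_pow_val,
      Units.inv_mul, Matrix.smul_one_eq_diagonal]
    rfl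
  subst hij
  exact ⟨rfl, smul_left_injective F (M.isUnit.pow i).ne_zero h⟩

theorem mod_spec {R : Type*} [Field R] {A : Type*} [Ring A] (φ : R[X] →+* A) {P : R[X]}
    (h : φ P = 0) (p : R[X]) : φ (p %ₘ P) = φ p := by
  conv_rhs => rw [← Polynomial.modByMonic_add_div p P, map_add, map_mul, h, zero_mul, add_zero]

/-- A matrix annihilated by a monic polynomial of degree `k` over a subfield with `q₀` elements has
projective order at most `(q₀^k-1)/(q₀-1)`. -/
theorem order_le_of_annihilated [NeZero d] {K : Type*} [Field K] [Fintype K] (f : K →+* F) (M : GL (Fin d) F)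
    {P : K[X]} (hP : P.Monic) (h0 : aeval M.1 (P.map f) = 0) :
    (Fintype.card K - 1) * projOrder M ≤ Fintype.card K ^ P.natDegree - 1 := by
  classical
  let φ : K[X] →+* Matrix (Fin d) (Fin d) F := (aeval M.1).toRingHom.comp (Polynomial.mapRingHom f)
  have hφX : ∀ (c : K) (i : ℕ), φ (C c * X ^ i) = f c • M.1 ^ i := fun c i => by
    show aeval M.1 ((C c * X ^ i).map f) = _
    rw [Polynomial.map_mul, map_C, Polynomial.map_pow, map_X, map_mul, aeval_C, map_pow, aeval_X, Algebra.smul_def]
  have hk : P ≠ 1 := fun h => by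
    rw [h, Polynomial.map_one, map_one] at h0
    exact one_ne_zero h0
  let v : Kˣ × Fin (projOrder M) → Fin P.natDegree → K := fun x k =>
    ((C (x.1 : K) * X ^ (x.2 : ℕ)) %ₘ P).coeff k
  have hlt : ∀ p : K[X], (p %ₘ P).natDegree < P.natDegree := fun p => natDegree_modByMonic_lt _ hP hk
  have hinj : Function.Injective v := by
    intro x y h
    have heq : (C (x.1 : K) * X ^ (x.2 : ℕ)) %ₘ P = (C (y.1 : K) * X ^ (y.2 : ℕ)) %ₘ P := by
      ext k
      by_cases hk : k < P.natDegree
      · exact congrFun h ⟨k, hk⟩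
      · rw [coeff_eq_zero_of_natDegree_lt (lt_of_lt_of_le (hlt _) (by omega)),
          coeff_eq_zero_of_natDegree_lt (lt_of_lt_of_le (hlt _) (by omega))]
    have h1 := congrArg φ heq
    rw [mod_spec φ h0, mod_spec φ h0, hφX, hφX] at h1
    obtain ⟨h2, h3⟩ := eq_of_smul_pow_eq M x.2.2 y.2.2 (by simp) (by simp) h1
    exact Prod.ext (Units.ext (f.injective h3)) (Fin.ext h2)
  have hne : ∀ x, v x ≠ 0 := fun x h => by
    have h1 : (C (x.1 : K) * X ^ (x.2 : ℕ)) %ₘ P = 0 := by
      ext k
      by_cases hk : k < P.natDegree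
      · exact congrFun h ⟨k, hk⟩
      · rw [coeff_eq_zero_of_natDegree_lt (lt_of_lt_of_le (hlt _) (by omega)), coeff_zero]
    have h2 := congrArg φ h1
    rw [mod_spec φ h0, hφX, map_zero] at h2
    rcases smul_eq_zero.mp h2 with h3 | h3
    · simp at h3
    · exact (M.isUnit.pow _).ne_zero h3
  have hc := Nat.card_le_card_of_injective (fun x => (⟨v x, hne x⟩ : {w : Fin P.natDegree → K // w ≠ 0}))
    fun x y h => hinj (congrArg Subtype.val h)
  rw [Nat.card_prod, Nat.card_fin, Nat.card_units, Nat.card_eq_fintype_card,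
    Nat.card_eq_fintype_card, Fintype.card_subtype_compl, Fintype.card_subtype_eq,
    Fintype.card_fun, Fintype.card_fin] at hc
  exact hc

/-- A matrix similar to the transpose-inverse of a field conjugate of itself: twice its projective order is
at most `(q^d-1)/(q-1)`. -/
theorem twisted_order_le (hd : 3 ≤ d) (h32 : ¬ (d = 3 ∧ Fintype.card F = 2)) (σ : F ≃+* F)
    (g N : GL (Fin d) F) (hN : g.1 * (N.1.map σ)ᵀ * (g⁻¹).1 = (N⁻¹).1) :
    (Fintype.card F - 1) * (2 * projOrder N) ≤ Fintype.card F ^ d - 1 := by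
  classical
  haveI : NeZero d := ⟨by omega⟩
  set q := Fintype.card F with hq
  have hq2 : 2 ≤ q := Fintype.one_lt_card
  set r := projOrder N
  let Ψ : Matrix (Fin d) (Fin d) F → Matrix (Fin d) (Fin d) F := fun A => g.1 * (A.map σ)ᵀ * (g⁻¹).1
  have hΨmul : ∀ A B, Ψ (A * B) = Ψ B * Ψ A := fun A B => by
    show g.1 * ((A * B).map σ.toRingHom)ᵀ * (g⁻¹).1 = g.1 * (B.map σ)ᵀ * (g⁻¹).1 * (g.1 * (A.map σ)ᵀ * (g⁻¹).1)
    rw [Matrix.map_mul, Matrix.transpose_mul]
    simp only [Matrix.mul_assoc]
    rw [← Matrix.mul_assoc (g⁻¹).1 g.1, Units.inv_mul, Matrix.one_mul]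
    rfl
  have hΨ1 : Ψ 1 = 1 := by
    show g.1 * _ * _ = _
    rw [Matrix.map_one σ (map_zero σ) (map_one σ), Matrix.transpose_one, Matrix.mul_one, Units.mul_inv]
  have hΨadd : ∀ A B, Ψ (A + B) = Ψ A + Ψ B := fun A B => by
    show g.1 * _ * _ = _
    rw [Matrix.map_add σ (map_add σ), Matrix.transpose_add, Matrix.mul_add, Matrix.add_mul]
  have hΨsmul : ∀ (c : F) A, Ψ (c • A) = σ c • Ψ A := fun c A => by
    show g.1 * _ * _ = _
    rw [Matrix.map_smul' σ c A (map_mul σ), Matrix.transpose_smul, Matrix.mul_smul, Matrix.smul_mul]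
  have hΨN : ∀ i, Ψ (N.1 ^ i) = (N⁻¹).1 ^ i := fun i => by
    induction i with
    | zero => rw [pow_zero, pow_zero, hΨ1]
    | succ i ih => rw [pow_succ, hΨmul, ih, show Ψ N.1 = (N⁻¹).1 from hN, pow_succ']
  by_cases hA : ∃ c : F, c ≠ 0 ∧ IsUnit (N.1 - c • 1).det
  · obtain ⟨c, hc, hu⟩ := hA
    by_cases hB : ∃ (l : F) (i : ℕ), N.1 - c • 1 = l • N.1 ^ i
    · obtain ⟨l, i, hli⟩ := hB
      have h1 : (N⁻¹).1 - σ c • 1 = σ l • (N⁻¹).1 ^ i := by
        have h := congrArg Ψ hli
        rw [hΨsmul, hΨN, sub_eq_add_neg, hΨadd, ← neg_smul, hΨsmul, hΨ1, show Ψ N.1 = (N⁻¹).1 from hN,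
          map_neg, neg_smul, ← sub_eq_add_neg] at h
        exact h
      have hprod : ((N⁻¹).1 - σ c • 1) * (N.1 - c • 1) = (σ l * l) • 1 := by
        rw [h1, hli, Matrix.smul_mul, Matrix.mul_smul, smul_smul,
          ← Units.val_pow_eq_pow_val, ← Units.val_pow_eq_pow_val, inv_pow, Units.inv_mul]
      have hquad : N.1 ^ 2 - ((1 + σ c * c - σ l * l) / σ c) • N.1 + (c / σ c) • 1 = 0 := by
        have h := congrArg (· * N.1) hprod
        simp only [Matrix.sub_mul, Matrix.mul_sub, Matrix.smul_mul, Matrix.mul_smul, Matrix.one_mul,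
          Matrix.mul_one, Units.inv_mul] at h
        have hσc : σ c ≠ 0 := by simpa using hc
        have h' : σ c • N.1 ^ 2 - (1 + σ c * c - σ l * l) • N.1 + c • 1 = 0 := by
          rw [_root_.sq]
          linear_combination (norm := module) -h
        have h'' := congrArg ((σ c)⁻¹ • ·) h'
        simp only [smul_add, smul_sub, smul_smul, smul_zero, inv_mul_cancel₀ hσc, one_smul] at h''
        rw [div_eq_inv_mul, div_eq_inv_mul]
        exact h''
      set P : F[X] := X ^ 2 - C ((1 + σ c * c - σ l * l) / σ c) * X + C (c / σ c) with hPdef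
      have hPd : P.natDegree ≤ 2 := by rw [hPdef]; compute_degree
      have hPm : P.Monic := by rw [hPdef]; monicity!
      have hb := order_le_of_annihilated (RingHom.id F) N hPm (by
        rw [Polynomial.map_id, hPdef, map_add, map_sub, map_mul, map_pow, aeval_X, aeval_C, aeval_C,
          ← Algebra.smul_def, Algebra.algebraMap_eq_smul_one (c / σ c)]
        exact hquad)
      have h3 : q ^ P.natDegree ≤ q ^ 2 := Nat.pow_le_pow_right (by omega) hPd
      have h4 : q ^ 3 ≤ q ^ d := Nat.pow_le_pow_right (by omega) hd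
      have h5 : 2 * q ^ 2 ≤ q ^ 3 := by rw [pow_succ q 2, mul_comm]; exact Nat.mul_le_mul_left _ hq2
      have h6 : 1 ≤ q ^ 2 := Nat.one_le_pow _ _ (by omega)
      have hb' : (q - 1) * r ≤ q ^ P.natDegree - 1 := hb
      rw [mul_left_comm]
      show 2 * ((q - 1) * r) ≤ q ^ d - 1
      omega
    · -- translates by `N - c` avoid the multiples of powers of `N`
      have hP := N.1.charpoly_monic
      have hP0 : aeval N.1 N.1.charpoly = 0 := Matrix.aeval_self_charpoly _
      have hdeg : N.1.charpoly.natDegree = d := by rw [Matrix.charpoly_natDegree_eq_dim, Fintype.card_fin]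
      have hk : N.1.charpoly ≠ 1 := fun h => by rw [h, natDegree_one] at hdeg; omega
      let e : Bool → F[X] := fun b => if b then X - C c else 1
      let p : Bool × (Fˣ × Fin r) → F[X] := fun x =>
        (e x.1 * (C (x.2.1 : F) * X ^ (x.2.2 : ℕ))) %ₘ N.1.charpoly
      have hval : ∀ x, aeval N.1 (p x) =
          (if x.1 then N.1 - c • 1 else 1) * ((x.2.1 : F) • N.1 ^ (x.2.2 : ℕ)) := fun x => by
        show (aeval N.1).toRingHom _ = _
        rw [mod_spec _ hP0]
        show aeval N.1 _ = _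
        rw [map_mul, map_mul, map_pow, aeval_X, aeval_C, ← Algebra.smul_def]
        congr 1
        rcases x.1 <;> simp [e, Algebra.algebraMap_eq_smul_one]
      let v : Bool × (Fˣ × Fin r) → Fin d → F := fun x k => (p x).coeff k
      have hlt : ∀ x, (p x).natDegree < d := fun x => (natDegree_modByMonic_lt _ hP hk).trans_eq hdeg
      have hv : ∀ x y, v x = v y → p x = p y := fun x y h => by
        ext k
        by_cases hk : k < d
        · exact congrFun h ⟨k, hk⟩
        · rw [coeff_eq_zero_of_natDegree_lt (lt_of_lt_of_le (hlt _) (by omega)),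
            coeff_eq_zero_of_natDegree_lt (lt_of_lt_of_le (hlt _) (by omega))]
      have hreg : IsUnit (N.1 - c • 1) := (Matrix.isUnit_iff_isUnit_det _).mpr hu
      have hne : ∀ x, v x ≠ 0 := fun x h => by
        have h1 : p x = 0 := by
          ext k
          by_cases hk : k < d
          · exact congrFun h ⟨k, hk⟩
          · rw [coeff_eq_zero_of_natDegree_lt (lt_of_lt_of_le (hlt _) (by omega)), coeff_zero]
        have h2 := hval x
        rw [h1, map_zero] at h2
        have h3 : IsUnit ((if x.1 then N.1 - c • 1 else 1) * ((x.2.1 : F) • N.1 ^ (x.2.2 : ℕ))) := by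
          refine IsUnit.mul ?_ ?_
          · rcases x.1
            · exact isUnit_one
            · exact hreg
          · rw [Algebra.smul_def]
            exact (x.2.1.isUnit.map _).mul (N.isUnit.pow _)
        rw [← h2] at h3
        exact not_isUnit_zero h3
      have key : ∀ (a b : Fˣ) (i j : Fin r), (N.1 - c • 1) * ((a : F) • N.1 ^ (i : ℕ)) ≠ (b : F) • N.1 ^ (j : ℕ) := by
        intro a b i j h
        refine hB ⟨(a : F)⁻¹ * b, (j : ℕ) + (orderOf N * ((i : ℕ) + 1) - i), ?_⟩
        have ho : 1 ≤ orderOf N := orderOf_pos N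
        have hle : (i : ℕ) ≤ orderOf N * ((i : ℕ) + 1) := by
          calc (i : ℕ) ≤ (i : ℕ) + 1 := Nat.le_succ _
            _ ≤ _ := Nat.le_mul_of_pos_left _ ho
        have h1 : N.1 ^ (orderOf N * ((i : ℕ) + 1)) = 1 := by
          rw [← Units.val_pow_eq_pow_val, pow_mul, pow_orderOf_eq_one, one_pow, Units.val_one]
        have h2 := congrArg (fun A => (a : F)⁻¹ • (A * N.1 ^ (orderOf N * ((i : ℕ) + 1) - i))) h
        simp only [Matrix.mul_smul, Matrix.smul_mul, smul_smul, Matrix.mul_assoc, ← pow_add,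
          Nat.add_sub_cancel' hle, h1, Matrix.mul_one, inv_mul_cancel₀ a.ne_zero, one_smul] at h2
        exact h2
      have hinj : Function.Injective v := by
        intro x y h
        have h1 := congrArg (aeval N.1) (hv x y h)
        rw [hval, hval] at h1
        obtain ⟨bx, a, i⟩ := x
        obtain ⟨by', b, j⟩ := y
        rcases bx with _ | _ <;> rcases by' with _ | _
        · simp only [Bool.false_eq_true, if_false, Matrix.one_mul] at h1
          obtain ⟨h2, h3⟩ := eq_of_smul_pow_eq N i.2 j.2 a.ne_zero b.ne_zero h1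
          rw [Fin.ext h2, Units.ext h3]
        · simp only [Bool.false_eq_true, if_false, if_true, Matrix.one_mul] at h1
          exact absurd h1.symm (key b a j i)
        · simp only [Bool.false_eq_true, if_false, if_true, Matrix.one_mul] at h1
          exact absurd h1 (key a b i j)
        · simp only [if_true] at h1
          obtain ⟨h2, h3⟩ := eq_of_smul_pow_eq N i.2 j.2 a.ne_zero b.ne_zero (hreg.mul_left_cancel h1)
          rw [Fin.ext h2, Units.ext h3]
      have hc' := Nat.card_le_card_of_injective (fun x => (⟨v x, hne x⟩ : {w : Fin d → F // w ≠ 0}))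
        fun x y h => hinj (congrArg Subtype.val h)
      rw [Nat.card_prod, Nat.card_prod, Nat.card_fin, Nat.card_units, Nat.card_eq_fintype_card,
        Fintype.card_bool, Nat.card_eq_fintype_card,
        Nat.card_eq_fintype_card, Fintype.card_subtype_compl, Fintype.card_subtype_eq,
        Fintype.card_fun, Fintype.card_fin] at hc'
      rw [mul_left_comm]
      exact hc'
  · -- every nonzero scalar is an eigenvalue
    push Not at hA
    have hP := N.1.charpoly_monic
    have hP0 : aeval N.1 N.1.charpoly = 0 := Matrix.aeval_self_charpoly _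
    have hdeg : N.1.charpoly.natDegree = d := by rw [Matrix.charpoly_natDegree_eq_dim, Fintype.card_fin]
    have hk : N.1.charpoly ≠ 1 := fun h => by rw [h, natDegree_one] at hdeg; omega
    have hroot : ∀ c : Fˣ, N.1.charpoly.eval (c : F) = 0 := fun c => by
      have h := hA c c.ne_zero
      rw [isUnit_iff_ne_zero, not_not] at h
      rw [Matrix.eval_charpoly, show Matrix.scalar (Fin d) (c : F) - N.1 = -(N.1 - (c : F) • 1) by
        rw [neg_sub, Matrix.smul_one_eq_diagonal]; rfl, Matrix.det_neg, h, mul_zero]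
    set n := Fintype.card Fˣ with hn
    have hnq : n = q - 1 := by rw [hn, hq, Fintype.card_units]
    have hnd : n ≤ d := by
      rw [hn, ← hdeg, ← Finset.card_univ, ← Finset.card_map ⟨fun c : Fˣ => (c : F), Units.val_injective⟩]
      exact Polynomial.card_le_degree_of_subset_roots fun x hx => by
        rw [Finset.mem_val, Finset.mem_map] at hx
        obtain ⟨c, -, rfl⟩ := hx
        exact (Polynomial.mem_roots hP.ne_zero).mpr (hroot c)
    let p : Fˣ × Fin r → F[X] := fun x => (C (x.1 : F) * X ^ (x.2 : ℕ)) %ₘ N.1.charpoly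
    have hlt : ∀ x, (p x).natDegree < d := fun x => (natDegree_modByMonic_lt _ hP hk).trans_eq hdeg
    have hev : ∀ x (c : Fˣ), (p x).eval (c : F) = (x.1 : F) * (c : F) ^ (x.2 : ℕ) := fun x c => by
      show (evalRingHom (c : F)) _ = _
      rw [mod_spec _ (by exact hroot c)]
      simp
    let hi : F[X] → Fin (d - n) → F := fun P k => P.coeff (n + k)
    have hdet : ∀ P Q : F[X], P.natDegree < d → Q.natDegree < d →
        (∀ c : Fˣ, P.eval (c : F) = Q.eval (c : F)) → hi P = hi Q → P = Q := by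
      intro P Q hPd hQd he hh
      rw [← sub_eq_zero]
      refine Polynomial.eq_zero_of_degree_lt_of_eval_index_eq_zero (s := (Finset.univ : Finset Fˣ))
        (v := fun c : Fˣ => (c : F)) (fun a _ b _ h => Units.ext h) ?_ fun c _ => by rw [eval_sub, he, sub_self]
      rw [Finset.card_univ, ← hn]
      refine (degree_lt_iff_coeff_zero _ _).mpr fun k hk => ?_
      rw [coeff_sub]
      by_cases hkd : k < d
      · have := congrFun hh ⟨k - n, by omega⟩
        simp only [hi, Nat.add_sub_cancel' hk] at this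
        rw [this, sub_self]
      · rw [coeff_eq_zero_of_natDegree_lt (lt_of_lt_of_le hPd (by omega)),
          coeff_eq_zero_of_natDegree_lt (lt_of_lt_of_le hQd (by omega)), sub_self]
    have hpinj : Function.Injective p := fun x y h => by
      have h1 := congrArg (aeval N.1).toRingHom h
      rw [mod_spec _ hP0, mod_spec _ hP0] at h1
      have h2 : (x.1 : F) • N.1 ^ (x.2 : ℕ) = (y.1 : F) • N.1 ^ (y.2 : ℕ) := by
        simpa [Algebra.smul_def] using h1
      obtain ⟨h3, h4⟩ := eq_of_smul_pow_eq N x.2.2 y.2.2 x.1.ne_zero y.1.ne_zero h2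
      exact Prod.ext (Units.ext h4) (Fin.ext h3)
    by_cases hq3 : 3 ≤ q
    · let Φ : Fˣ × Fin r → (Fˣ → Fˣ) × (Fin (d - n) → F) := fun x =>
        (fun c => x.1 * c ^ (x.2 : ℕ), hi (p x))
      have hΦ : Function.Injective Φ := fun x y h => by
        refine hpinj (hdet _ _ (hlt x) (hlt y) (fun c => ?_) (congrArg Prod.snd h))
        rw [hev, hev]
        have := congrArg Units.val (congrFun (congrArg Prod.fst h) c)
        simp only [Φ, Units.val_mul, Units.val_pow_eq_pow_val] at this
        exact this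
      have hc := Nat.card_le_card_of_injective Φ hΦ
      rw [Nat.card_prod, Nat.card_prod, Nat.card_fin, Nat.card_eq_fintype_card, ← hn, Nat.card_eq_fintype_card,
        Nat.card_eq_fintype_card, Fintype.card_fun, Fintype.card_fun, Fintype.card_fin, ← hn, ← hq] at hc
      have hb := two_pow_bound (n := n) (by omega)
      have hqn : q = n + 1 := by omega
      rw [hqn] at hc ⊢
      rw [Nat.add_sub_cancel]
      have hp1 : 1 ≤ (n + 1) ^ (d - n) := Nat.one_le_pow _ _ (by omega)
      have hgoal : 2 * (n * r) + 1 ≤ (n + 1) ^ d := by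
        calc 2 * (n * r) + 1 ≤ 2 * (n ^ n * (n + 1) ^ (d - n)) + (n + 1) ^ (d - n) := by omega
          _ = (2 * n ^ n + 1) * (n + 1) ^ (d - n) := by ring
          _ ≤ (n + 1) ^ n * (n + 1) ^ (d - n) := Nat.mul_le_mul_right _ hb
          _ = _ := by rw [← pow_add, Nat.add_sub_cancel' hnd]
      rw [mul_left_comm]
      omega
    · have hq22 : q = 2 := by omega
      have hn1 : n = 1 := by omega
      have hd4 : 4 ≤ d := by
        by_contra h
        exact h32 ⟨by omega, hq22⟩
      have hu1 : ∀ c : Fˣ, c = 1 := fun c =>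
        Fintype.card_le_one_iff.mp (by rw [← hn, hn1]) c 1
      have h20 : (2 : F) = 0 := by
        have := FiniteField.cast_card_eq_zero F
        rw [← hq, hq22] at this
        exact_mod_cast this
      set Q : F[X] := X ^ 2 + X + 1 with hQ
      have hQd : Q.natDegree < d := by
        have : Q.natDegree ≤ 2 := by rw [hQ]; compute_degree
        omega
      by_cases hcol : ∃ i : Fin r, p (1, i) = Q
      · obtain ⟨i, hi'⟩ := hcol
        have h1 : N.1 ^ 2 + N.1 + 1 = N.1 ^ (i : ℕ) := by
          have h := congrArg (aeval N.1).toRingHom hi'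
          rw [mod_spec _ hP0] at h
          simpa [hQ] using h.symm
        have h2 : (N⁻¹).1 ^ 2 + (N⁻¹).1 + 1 = (N⁻¹).1 ^ (i : ℕ) := by
          have h := congrArg Ψ h1
          rwa [hΨadd, hΨadd, hΨN, hΨN, hΨ1, show Ψ N.1 = (N⁻¹).1 from hN] at h
        have h3 : ((N⁻¹).1 ^ 2 + (N⁻¹).1 + 1) * (N.1 ^ 2 + N.1 + 1) = 1 := by
          rw [h1, h2, ← Units.val_pow_eq_pow_val, ← Units.val_pow_eq_pow_val, inv_pow, Units.inv_mul]
        have h4 : N.1 ^ 2 * ((N⁻¹).1 ^ 2 + (N⁻¹).1 + 1) = 1 + N.1 + N.1 ^ 2 := by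
          rw [Matrix.mul_add, Matrix.mul_add, Matrix.mul_one, pow_two, pow_two, Matrix.mul_assoc N.1,
            ← Matrix.mul_assoc N.1 (N⁻¹).1, Units.mul_inv, Matrix.one_mul, Units.mul_inv, Matrix.mul_assoc N.1,
            Units.mul_inv, Matrix.mul_one]
        have h5 : (1 + N.1 + N.1 ^ 2) * (N.1 ^ 2 + N.1 + 1) = N.1 ^ 2 := by
          rw [← h4, Matrix.mul_assoc, h3, Matrix.mul_one]
        have h6 : N.1 ^ 4 = 1 := by
          have hXX : ∀ A : Matrix (Fin d) (Fin d) F, A + A = 0 := fun A => by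
            rw [← two_smul F A, h20, zero_smul]
          have h7 : (1 + N.1 + N.1 ^ 2) * (N.1 ^ 2 + N.1 + 1) = N.1 ^ 4 + 1 + N.1 ^ 2 +
              ((N.1 ^ 3 + N.1 ^ 3) + (N.1 ^ 2 + N.1 ^ 2) + (N.1 + N.1)) := by noncomm_ring
          simp only [h5, hXX, add_zero, right_eq_add] at h7
          rw [eq_neg_of_add_eq_zero_left h7, neg_eq_iff_add_eq_zero, hXX]
        have hr4 : r ≤ 4 := by
          refine Nat.le_of_dvd (by norm_num) (orderOf_dvd_of_pow_eq_one ?_)
          rw [← map_pow, show N ^ 4 = 1 from Units.ext (by rw [Units.val_pow_eq_pow_val]; exact h6), map_one]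
        have : 2 ^ 4 ≤ 2 ^ d := Nat.pow_le_pow_right (by norm_num) hd4
        rw [hq22]
        omega
      · let Φ : Fin r ⊕ Unit → (Fin (d - n) → F) :=
          Sum.elim (fun i => hi (p (1, i))) fun _ => hi Q
        have hQ1 : ∀ c : Fˣ, Q.eval (c : F) = 1 := fun c => by
          rw [hu1 c, hQ]; simp; linear_combination h20
        have hp1 : ∀ (i : Fin r) (c : Fˣ), (p (1, i)).eval (c : F) = 1 := fun i c => by
          rw [hev, hu1 c]; simp
        have hΦ : Function.Injective Φ := by
          rintro (i | u) (j | u') h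
          · exact congrArg Sum.inl (congrArg Prod.snd (hpinj (hdet _ _ (hlt _) (hlt _)
              (fun c => by rw [hp1, hp1]) h)))
          · exact absurd ⟨i, hdet _ _ (hlt _) hQd (fun c => by rw [hp1, hQ1]) h⟩ hcol
          · exact absurd ⟨j, (hdet _ _ hQd (hlt _) (fun c => by rw [hp1, hQ1]) h).symm⟩ hcol
          · rfl
        have hc := Nat.card_le_card_of_injective Φ hΦ
        rw [Nat.card_sum, Nat.card_fin, Nat.card_unique, Nat.card_eq_fintype_card, Fintype.card_fun,
          Fintype.card_fin, ← hq, hq22, hn1] at hc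
        have : 2 * 2 ^ (d - 1) = 2 ^ d := by rw [← pow_succ']; congr 1; omega
        rw [hq22]
        omega

end Count

/-! ### Automorphisms -/

section Aut

variable {d : ℕ} {F : Type*} [Field F] [Fintype F]

/-- Entrywise action. -/
abbrev mapGL (σ : F ≃+* F) : GL (Fin d) F →* GL (Fin d) F := Matrix.GeneralLinearGroup.map σ.toRingHom

theorem mapGL_mapGL (σ τ : F ≃+* F) (g : GL (Fin d) F) : mapGL σ (mapGL τ g) = mapGL (σ * τ) g :=
  Units.ext (Matrix.ext fun _ _ => rfl)

theorem mapGL_one (g : GL (Fin d) F) : mapGL (1 : F ≃+* F) g = g := Units.ext (Matrix.ext fun _ _ => rfl)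

theorem mapGL_itGL (σ : F ≃+* F) (g : GL (Fin d) F) : mapGL σ (itGL g) = itGL (mapGL σ g) := by
  refine Units.ext ?_
  rw [CfsgLib.AutPSL.itGL_coe, ← map_inv]
  exact (Matrix.transpose_map (M := (g⁻¹).1) (f := σ)).symm

theorem orderOf_diagAut (hd : 2 ≤ d) (N : GL (Fin d) F) :
    orderOf (diagAut N : MulAut (PSLg d F)) = projOrder N := by
  refine orderOf_eq_orderOf_iff.mpr fun k => ?_
  rw [← map_pow, ← map_pow, ← MonoidHom.mem_ker, CfsgLib.AutPSL.ker_diagAut hd, QuotientGroup.mk'_apply,
    QuotientGroup.eq_one_iff]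

theorem semilinear_pow (g : GL (Fin d) F) (σ : F ≃+* F) (k : ℕ) :
    ∃ N : GL (Fin d) F, (diagAut g * fieldAut σ : MulAut (PSLg d F)) ^ k = diagAut N * fieldAut (σ ^ k) ∧
      g * mapGL σ N = N * mapGL (σ ^ k) g := by
  induction k with
  | zero => exact ⟨1, by simp, by rw [map_one, mul_one, one_mul, pow_zero, mapGL_one]⟩
  | succ k ih =>
    obtain ⟨N, h1, h2⟩ := ih
    refine ⟨g * mapGL σ N, ?_, ?_⟩
    · rw [pow_succ', h1, map_mul diagAut, pow_succ', map_mul fieldAut,
        show (diagAut g * fieldAut σ * (diagAut N * fieldAut (σ ^ k)) : MulAut (PSLg d F)) =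
          diagAut g * (fieldAut σ * diagAut N) * fieldAut (σ ^ k) by group, CfsgLib.AutPSL.fieldAut_diagAut]
      group
    · conv_lhs => rw [h2, map_mul, mapGL_mapGL, ← pow_succ', ← mul_assoc]

/-- A semilinear automorphism with field part of order `e`: its `e`-th power comes from a matrix annihilated
by a monic polynomial of degree `d` over the fixed field. -/
theorem semilinear_bound (hd : 2 ≤ d) (g : GL (Fin d) F) (σ : F ≃+* F) :
    ∃ r, orderOf (diagAut g * fieldAut σ : MulAut (PSLg d F)) ≤ orderOf σ * r ∧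
      (Nat.card ↥(fixedField σ) - 1) * r ≤ Nat.card ↥(fixedField σ) ^ d - 1 := by
  classical
  haveI : NeZero d := ⟨by omega⟩
  haveI : Finite (F ≃+* F) := Finite.of_injective _ DFunLike.coe_injective
  haveI : Finite (MulAut (PSLg d F)) := Finite.of_injective _ DFunLike.coe_injective
  obtain ⟨N, h1, h2⟩ := semilinear_pow g σ (orderOf σ)
  rw [pow_orderOf_eq_one, map_one, mul_one] at h1
  rw [pow_orderOf_eq_one, mapGL_one] at h2
  refine ⟨projOrder N, ?_, ?_⟩
  · refine Nat.le_of_dvd (Nat.mul_pos (orderOf_pos σ) (orderOf_pos _)) (orderOf_dvd_of_pow_eq_one ?_)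
    rw [pow_mul, h1, ← orderOf_diagAut hd, pow_orderOf_eq_one]
  · have hchar : N.1.charpoly.map σ.toRingHom = N.1.charpoly := by
      rw [← Matrix.charpoly_map, ← Matrix.charpoly_units_conj g (N.1.map σ.toRingHom)]
      congr 1
      have h3 : g * mapGL σ N * g⁻¹ = N := by rw [h2, mul_inv_cancel_right]
      rw [← Matrix.coe_units_inv]
      exact congrArg Units.val h3
    have hmem : N.1.charpoly ∈ Polynomial.lifts (fixedField σ).subtype := by
      rw [Polynomial.lifts_iff_coeff_lifts]
      intro k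
      refine ⟨⟨N.1.charpoly.coeff k, (mem_fixedField σ).mpr ?_⟩, rfl⟩
      have h4 := congrArg (fun P : F[X] => P.coeff k) hchar
      rwa [Polynomial.coeff_map] at h4
    obtain ⟨P₀, hP₀, hdeg, hmon⟩ :=
      Polynomial.lifts_and_natDegree_eq_and_monic hmem N.1.charpoly_monic
    haveI : Fintype ↥(fixedField σ) := Fintype.ofFinite _
    have h5 := order_le_of_annihilated (fixedField σ).subtype N hmon (by
      rw [hP₀]; exact Matrix.aeval_self_charpoly _)
    rw [hdeg, Matrix.charpoly_natDegree_eq_dim, Fintype.card_fin, ← Nat.card_eq_fintype_card] at h5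
    exact h5

theorem two_le_card_fixedField (σ : F ≃+* F) : 2 ≤ Nat.card ↥(fixedField σ) := by
  haveI : Fintype ↥(fixedField σ) := Fintype.ofFinite _
  rw [Nat.card_eq_fintype_card]
  exact Fintype.one_lt_card

theorem semilinear_order_le (hd : 2 ≤ d) (h24 : ¬ (d = 2 ∧ Fintype.card F = 4)) (g : GL (Fin d) F)
    (σ : F ≃+* F) :
    (Fintype.card F - 1) * orderOf (diagAut g * fieldAut σ : MulAut (PSLg d F)) ≤ Fintype.card F ^ d - 1 := by
  obtain ⟨r, ho, hr⟩ := semilinear_bound hd g σ
  haveI : Finite (F ≃+* F) := Finite.of_injective _ DFunLike.coe_injective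
  have hq := CfsgLib.AutPSL.card_fixedField_pow σ
  set a := Nat.card ↥(fixedField σ)
  set e := orderOf σ
  have he : 1 ≤ e := orderOf_pos σ
  rw [← hq]
  refine transfer (two_le_card_fixedField σ) he ho hr ?_
  rcases he.eq_or_lt with h1 | h1
  · rw [← h1, one_mul, pow_one]
  · exact sum_ineq_one (two_le_card_fixedField σ) h1 hd (by rwa [hq])

theorem graph_order_le (hd : 3 ≤ d) (h32 : ¬ (d = 3 ∧ Fintype.card F = 2)) (g : GL (Fin d) F) (σ : F ≃+* F) :
    (Fintype.card F - 1) * orderOf (diagAut g * fieldAut σ * itAut : MulAut (PSLg d F)) ≤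
      Fintype.card F ^ d - 1 := by
  classical
  haveI : Finite (F ≃+* F) := Finite.of_injective _ DFunLike.coe_injective
  haveI : Finite (MulAut (PSLg d F)) := Finite.of_injective _ DFunLike.coe_injective
  set x : MulAut (PSLg d F) := diagAut g * fieldAut σ * itAut
  set g₂ := g * mapGL σ (itGL g) with hg₂
  have hsq : x ^ 2 = diagAut g₂ * fieldAut (σ * σ) := by
    rw [pow_two, hg₂, map_mul diagAut, map_mul fieldAut]
    show diagAut g * fieldAut σ * itAut * (diagAut g * fieldAut σ * itAut) = _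
    rw [show (diagAut g * fieldAut σ * itAut * (diagAut g * fieldAut σ * itAut) : MulAut (PSLg d F)) =
      diagAut g * fieldAut σ * (itAut * diagAut g) * fieldAut σ * itAut by group, CfsgLib.AutPSL.itAut_diagAut,
      show (diagAut g * fieldAut σ * (diagAut (itGL g) * itAut) * fieldAut σ * itAut : MulAut (PSLg d F)) =
      diagAut g * (fieldAut σ * diagAut (itGL g)) * (itAut * fieldAut σ) * itAut by group,
      CfsgLib.AutPSL.itAut_fieldAut, CfsgLib.AutPSL.fieldAut_diagAut]
    calc (diagAut g * (diagAut (mapGL σ (itGL g)) * fieldAut σ) * (fieldAut σ * itAut) * itAut :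
          MulAut (PSLg d F))
        = diagAut g * diagAut (mapGL σ (itGL g)) * (fieldAut σ * fieldAut σ) * (itAut * itAut) := by group
      _ = _ := by rw [CfsgLib.AutPSL.itAut_mul_self, mul_one]
  by_cases hσ : σ * σ = 1
  · have hN : g.1 * (g₂.1.map σ)ᵀ * (g⁻¹).1 = (g₂⁻¹).1 := by
      have h1 : g * mapGL σ (itGL g₂) * g⁻¹ = g₂ := by
        rw [hg₂, map_mul itGL, map_mul, ← mapGL_itGL σ (itGL g), CfsgLib.AutPSL.itGL_itGL, mapGL_mapGL, hσ,
          mapGL_one, mul_assoc, mul_assoc, mul_inv_cancel, mul_one]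
      have h2 : (g₂⁻¹) = g * mapGL σ (itGL g₂)⁻¹ * g⁻¹ := by
        conv_lhs => rw [← h1]
        rw [map_inv]
        group
      rw [h2, Units.val_mul, Units.val_mul]
      rfl
    refine le_trans (Nat.mul_le_mul_left _ ?_) (twisted_order_le hd h32 σ g g₂ hN)
    refine Nat.le_of_dvd (Nat.mul_pos two_pos (orderOf_pos _)) (orderOf_dvd_of_pow_eq_one ?_)
    rw [pow_mul, hsq, hσ, map_one, mul_one, ← orderOf_diagAut (by omega), pow_orderOf_eq_one]
  · obtain ⟨r, ho, hr⟩ := semilinear_bound (by omega) g₂ (σ * σ)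
    have hq := CfsgLib.AutPSL.card_fixedField_pow (σ * σ)
    set a := Nat.card ↥(fixedField (σ * σ))
    set e := orderOf (σ * σ) with he
    have he2 : 2 ≤ e := by
      have h1 : 0 < e := orderOf_pos _
      have h2 : e ≠ 1 := fun h => hσ (orderOf_eq_one_iff.mp h)
      omega
    rw [← hq]
    refine transfer (o := orderOf x) (m := 2 * e) (two_le_card_fixedField _) (by omega) ?_ hr
      (sum_ineq_two (two_le_card_fixedField _) he2 ?_ hd)
    · calc orderOf x ≤ 2 * orderOf (x ^ 2) := Nat.le_of_dvd (Nat.mul_pos two_pos (orderOf_pos _))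
            (orderOf_dvd_of_pow_eq_one (by rw [pow_mul, pow_orderOf_eq_one]))
        _ ≤ 2 * (e * r) := Nat.mul_le_mul_left _ (by rw [hsq]; exact ho)
        _ = _ := (mul_assoc _ _ _).symm
    · -- if `σ²` has order `2` then `σ` has order `4`, so the fixed field of `σ²` has at least `4` elements
      by_contra hcon
      have hcon' : a = 2 ∧ e = 2 := by have := two_le_card_fixedField (σ * σ); omega
      have h4 : σ ^ 4 = 1 := by
        rw [show 4 = 2 * 2 from rfl, pow_mul, pow_two σ]
        conv_lhs => rw [← hcon'.2, he, pow_orderOf_eq_one]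
      have hord : orderOf σ = 4 := by
        have h1 : orderOf σ ∣ 4 := orderOf_dvd_of_pow_eq_one h4
        have h2 : ¬ orderOf σ ∣ 2 := fun h => hσ (by
          rw [← pow_two]; exact orderOf_dvd_iff_pow_eq_one.mp h)
        have h3 := Nat.le_of_dvd (by norm_num) h1
        interval_cases h : orderOf σ <;> omega
      have hs := CfsgLib.AutPSL.card_fixedField_pow σ
      rw [hord, ← hq, hcon'.1, hcon'.2] at hs
      have h5 : 2 ^ 4 ≤ Nat.card ↥(fixedField σ) ^ 4 := Nat.pow_le_pow_left (two_le_card_fixedField σ) 4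
      omega

/-- **No automorphism of `PSL_d(q)` has order above `(q^d-1)/(q-1)`.** -/
theorem orderOf_aut_le (hd : 2 ≤ d) (h24 : ¬ (d = 2 ∧ Fintype.card F = 4))
    (h32 : ¬ (d = 3 ∧ Fintype.card F = 2)) (φ : MulAut (PSLg d F)) :
    (Fintype.card F - 1) * orderOf φ ≤ Fintype.card F ^ d - 1 := by
  obtain ⟨g, σ, h | ⟨hd3, h⟩⟩ := CfsgLib.AutPSL.aut_decomposition hd φ
  · rw [h]; exact semilinear_order_le hd h24 g σ
  · rw [h]; exact graph_order_le hd3 h32 g σ

end Aut

end CfsgLib.AutOrder
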