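/-
In PSL_d(q), d ≥ 3, the product of two non-trivial classes is never a single class.
-/
import Mathlib
import Cfsg.Agent.Lib.UnitTransv.Basic

set_option autoImplicit false

namespace CfsgLib.Linear.ClassProd

open Matrix MulAction
open scoped LinearAlgebra.Projectivization

section Action

variable {G X : Type*} [Group G] [MulAction G X]

theorem card_transporter_mul {Y : Type*} [MulAction G Y] [IsPretransitive G Y] [Finite G] [Finite Y]
    (x : Y) (S : Set Y) :
    Nat.card {k : G // k • x ∈ S} * Nat.card Y = Nat.card S * Nat.card G := by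
  classical
  haveI : Fintype Y := Fintype.ofFinite Y
  haveI : Fintype G := Fintype.ofFinite G
  have hst : ∀ y : Y, Nat.card {k : G // k • x = y} = Nat.card (stabilizer G x) := by
    intro y
    obtain ⟨g, rfl⟩ := exists_smul_eq G x y
    refine Nat.card_congr ((Equiv.mulLeft g⁻¹).subtypeEquiv fun k ↦ ?_)
    simp [mem_stabilizer_iff, mul_smul, inv_smul_eq_iff]
  have hcard : Nat.card {k : G // k • x ∈ S} = Nat.card S * Nat.card (stabilizer G x) := by
    let e : {k : G // k • x ∈ S} ≃ Σ y : S, {k : G // k • x = y.1} :=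
      { toFun := fun k ↦ ⟨⟨k.1 • x, k.2⟩, ⟨k.1, rfl⟩⟩
        invFun := fun s ↦ ⟨s.2.1, s.2.2.symm ▸ s.1.2⟩
        left_inv := fun k ↦ rfl
        right_inv := by rintro ⟨⟨y, hy⟩, ⟨k, hk⟩⟩; exact Sigma.subtype_ext (Subtype.ext hk) rfl }
    rw [Nat.card_congr e, Nat.card_sigma, Finset.sum_congr rfl fun y _ ↦ hst y.1, Finset.sum_const,
      Finset.card_univ, smul_eq_mul, ← Nat.card_eq_fintype_card]
  have horb : Nat.card Y = (stabilizer G x).index := (index_stabilizer_of_transitive G x).symm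
  rw [hcard, horb, mul_assoc, Subgroup.card_mul_index]

variable [Finite G] [Finite X]

theorem average_fixedBy [IsMultiplyPretransitive G X 2] [Nonempty X] (hX : 1 < Nat.card X)
    (a b : G) (N : ℕ) (hN : ∀ h : G, Nat.card (fixedBy X (a * (h * b * h⁻¹))) = N) :
    ((N : ℤ) - 1) * ((Nat.card X : ℤ) - 1) =
      ((Nat.card (fixedBy X a) : ℤ) - 1) * ((Nat.card (fixedBy X b) : ℤ) - 1) := by
  classical
  haveI : Fintype X := Fintype.ofFinite X
  haveI : Fintype G := Fintype.ofFinite G
  haveI : IsPretransitive G X := isPretransitive_of_is_two_pretransitive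
  set P := Nat.card X
  set fa := Nat.card (fixedBy X a)
  set fb := Nat.card (fixedBy X b)
  let T : X → ℕ := fun x ↦ Nat.card {k : G // b • k • x = k • a⁻¹ • x}
  have e1 : Nat.card G * N = ∑ x : X, T x := by
    calc Nat.card G * N = Nat.card (Σ h : G, fixedBy X (a * (h * b * h⁻¹))) := by
          rw [Nat.card_sigma, Finset.sum_congr rfl fun h _ ↦ hN h, Finset.sum_const,
            Finset.card_univ, smul_eq_mul, Nat.card_eq_fintype_card]
      _ = Nat.card (Σ x : X, {k : G // b • k • x = k • a⁻¹ • x}) := by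
          refine Nat.card_congr
            { toFun := fun s ↦ ⟨s.2.1, ⟨s.1⁻¹, ?_⟩⟩
              invFun := fun s ↦ ⟨s.2.1⁻¹, ⟨s.1, ?_⟩⟩
              left_inv := fun s ↦ by
                obtain ⟨h, x⟩ := s
                refine Sigma.subtype_ext ?_ rfl
                simp
              right_inv := fun s ↦ by
                obtain ⟨x, k⟩ := s
                refine Sigma.subtype_ext rfl ?_
                simp }
          · have h2 : (a * (s.1 * b * s.1⁻¹)) • (s.2 : X) = (s.2 : X) := s.2.2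
            rw [mul_smul, mul_smul, mul_smul, smul_eq_iff_eq_inv_smul, smul_eq_iff_eq_inv_smul] at h2
            exact h2
          · show (a * (s.2.1⁻¹ * b * s.2.1⁻¹⁻¹)) • s.1 = s.1
            rw [inv_inv, mul_smul, mul_smul, mul_smul, s.2.2, inv_smul_smul, smul_inv_smul]
      _ = ∑ x : X, T x := Nat.card_sigma
  have hfix : ∀ x : X, a • x = x → T x * P = fb * Nat.card G := by
    intro x hx
    have hx' : a⁻¹ • x = x := inv_smul_eq_iff.2 hx.symm
    simp only [T, hx']
    exact card_transporter_mul x (fixedBy X b)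
  have hmov : ∀ x : X, a • x ≠ x → T x * (P * (P - 1)) = (P - fb) * Nat.card G := by
    intro x hx
    have hx' : x ≠ a⁻¹ • x := fun e ↦ hx (eq_inv_smul_iff.1 e)
    let ex : Fin 2 ↪ X := ⟨![x, a⁻¹ • x], by
      intro i j h
      fin_cases i <;> fin_cases j <;> first | rfl | exact absurd h hx' | exact absurd h hx'.symm⟩
    let S : Set (Fin 2 ↪ X) := {e | b • e 0 = e 1}
    have h := card_transporter_mul (G := G) ex S
    have hT : T x = Nat.card {k : G // k • ex ∈ S} :=
      Nat.card_congr (Equiv.subtypeEquivRight fun k ↦ Iff.rfl)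
    have hP : Nat.card (Fin 2 ↪ X) = P * (P - 1) := by
      rw [Nat.card_eq_fintype_card, Fintype.card_embedding_eq, Fintype.card_fin,
        ← Nat.card_eq_fintype_card]
      simp [Nat.descFactorial, mul_comm, P]
    have hS : Nat.card S = P - fb := by
      let e : S ≃ {y : X // b • y ≠ y} :=
        { toFun := fun s ↦ ⟨s.1 0, fun e ↦ by
            have h1 : b • s.1 0 = s.1 1 := s.2
            rw [e] at h1
            exact absurd (s.1.injective h1) (by decide)⟩
          invFun := fun y ↦ ⟨⟨![y.1, b • y.1], by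
            intro i j h
            fin_cases i <;> fin_cases j <;>
              first | rfl | exact absurd h y.2.symm | exact absurd h y.2⟩, rfl⟩
          left_inv := fun s ↦ by
            refine Subtype.ext (Function.Embedding.ext fun i ↦ ?_)
            fin_cases i
            · rfl
            · exact s.2
          right_inv := fun y ↦ rfl }
      rw [Nat.card_congr e, Nat.card_eq_fintype_card, Fintype.card_subtype_compl]
      simp only [P, fb, Nat.card_eq_fintype_card]
      rfl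
    rw [hT, ← hP, h, hS]
  have hfb : fb ≤ P := Nat.card_le_card_of_injective _ Subtype.val_injective
  have hG : (Nat.card G : ℤ) ≠ 0 := by exact_mod_cast Nat.card_pos.ne'
  have key : (Nat.card G : ℤ) * N * (P * (P - 1)) =
      (fa : ℤ) * fb * (P - 1) * Nat.card G + ((P : ℤ) - fa) * ((P : ℤ) - fb) * Nat.card G := by
    have h1 : ((Nat.card G * N : ℕ) : ℤ) = ∑ x : X, (T x : ℤ) := by rw [e1]; push_cast; rfl
    push_cast at h1
    rw [h1, Finset.sum_mul, ← Finset.sum_filter_add_sum_filter_not Finset.univ (fun x ↦ a • x = x)]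
    have hc : ((Finset.univ.filter fun x : X ↦ a • x = x).card : ℤ) = fa := by
      simp only [fa, Nat.card_eq_fintype_card]
      rw [Fintype.card_subtype]
      rfl
    have hc' : ((Finset.univ.filter fun x : X ↦ ¬ a • x = x).card : ℤ) = (P : ℤ) - fa := by
      have := Finset.card_filter_add_card_filter_not (s := (Finset.univ : Finset X)) (fun x ↦ a • x = x)
      rw [Finset.card_univ, ← Nat.card_eq_fintype_card] at this
      rw [← hc]
      simp only [P, ← this]
      push_cast
      ring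
    congr 1
    · rw [Finset.sum_congr rfl (g := fun _ ↦ (fb : ℤ) * Nat.card G * ((P : ℤ) - 1)), Finset.sum_const,
        nsmul_eq_mul, hc]
      · ring
      intro x hx
      have := hfix x (Finset.mem_filter.1 hx).2
      have : (T x : ℤ) * P = fb * Nat.card G := by exact_mod_cast this
      linear_combination ((P : ℤ) - 1) * this
    · rw [Finset.sum_congr rfl (g := fun _ ↦ ((P : ℤ) - fb) * Nat.card G), Finset.sum_const,
        nsmul_eq_mul, hc']
      · ring
      intro x hx
      have := hmov x (Finset.mem_filter.1 hx).2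
      have h2 : ((T x * (P * (P - 1)) : ℕ) : ℤ) = (((P - fb) * Nat.card G : ℕ) : ℤ) := by rw [this]
      push_cast [Nat.cast_sub hfb, Nat.cast_sub (show 1 ≤ P by omega)] at h2
      exact h2
  have hP0 : (P : ℤ) ≠ 0 := by exact_mod_cast (show P ≠ 0 by omega)
  refine mul_left_cancel₀ (mul_ne_zero hG hP0) ?_
  linear_combination key

end Action

section Linear

variable {d : ℕ} {F : Type*} [Field F]

local notation "V" => (Fin d → F)

theorem mulVec_ne_zero' (g : SpecialLinearGroup (Fin d) F) {v : V} (hv : v ≠ 0) : g.1 *ᵥ v ≠ 0 := by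
  intro h
  apply hv
  have := congrArg (fun z ↦ (g⁻¹).1 *ᵥ z) h
  have e : (g⁻¹).1 * g.1 = 1 := congrArg Subtype.val (inv_mul_cancel g)
  rwa [mulVec_mulVec, e, one_mulVec, mulVec_zero] at this

theorem inv_mulVec_cancel (g : SpecialLinearGroup (Fin d) F) (v : V) :
    (g⁻¹).1 *ᵥ (g.1 *ᵥ v) = v := by
  have e : (g⁻¹).1 * g.1 = 1 := congrArg Subtype.val (inv_mul_cancel g)
  rw [mulVec_mulVec, e, one_mulVec]

theorem mulVec_inv_cancel (g : SpecialLinearGroup (Fin d) F) (v : V) :
    g.1 *ᵥ ((g⁻¹).1 *ᵥ v) = v := by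
  have e : g.1 * (g⁻¹).1 = 1 := congrArg Subtype.val (mul_inv_cancel g)
  rw [mulVec_mulVec, e, one_mulVec]

theorem smul_mk_eq (g : SpecialLinearGroup (Fin d) F) {v : V} (hv : v ≠ 0) :
    g • Projectivization.mk F v hv = Projectivization.mk F (g.1 *ᵥ v) (mulVec_ne_zero' g hv) := rfl

theorem mk_mem_fixedBy_iff (g : SpecialLinearGroup (Fin d) F) {v : V} (hv : v ≠ 0) :
    Projectivization.mk F v hv ∈
      fixedBy (ℙ F V) (g : ProjectiveSpecialLinearGroup (Fin d) F) ↔ ∃ μ : F, g.1 *ᵥ v = μ • v := by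
  rw [mem_fixedBy, Matrix.ProjectiveSpecialLinearGroup.smul_proj_mk, smul_mk_eq,
    Projectivization.mk_eq_mk_iff']
  exact ⟨fun ⟨μ, h⟩ ↦ ⟨μ, h.symm⟩, fun ⟨μ, h⟩ ↦ ⟨μ, h.symm⟩⟩

/-- An element fixing a spanning vector configuration: scale the first vector to get det one. -/
theorem exists_SL_map {k : ℕ} (w v : Fin (k + 1) → V) (hw : LinearIndependent F w)
    (hv : LinearIndependent F v) :
    ∃ (g : SpecialLinearGroup (Fin d) F) (c : F), c ≠ 0 ∧ g.1 *ᵥ w 0 = c • v 0 ∧
      ∀ i, i ≠ 0 → g.1 *ᵥ w i = v i := by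
  obtain ⟨e, he⟩ := CfsgLib.UnitTransv.exists_extend_equiv (Submodule.span F (Set.range w))
    (Submodule.span F (Set.range v))
    ((Module.Basis.span hw).equiv (Module.Basis.span hv) (Equiv.refl _))
  have hev : ∀ i, e (w i) = v i := by
    intro i
    have h1 := he ((Module.Basis.span hw) i)
    rw [Module.Basis.equiv_apply, Equiv.refl_apply, Module.Basis.span_apply,
      Module.Basis.span_apply] at h1
    exact h1
  let M : Matrix (Fin d) (Fin d) F := LinearMap.toMatrix' e.toLinearMap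
  have hM : ∀ x : V, M *ᵥ x = e x := fun x ↦ LinearMap.toMatrix'_mulVec _ x
  have hdet : M.det ≠ 0 := by
    rw [show M.det = LinearMap.det e.toLinearMap from LinearMap.det_toMatrix' _]
    exact (LinearEquiv.isUnit_det' e).ne_zero
  -- a functional dual to the first vector
  obtain ⟨φ, hφ0, hφi⟩ : ∃ φ : V, φ ⬝ᵥ v 0 = 1 ∧ ∀ i, i ≠ 0 → φ ⬝ᵥ v i = 0 := by
    let B := Module.Basis.span hv
    obtain ⟨f, hf⟩ := LinearMap.exists_extend (B.coord 0)
    refine ⟨fun i ↦ f (Pi.single i 1), ?_⟩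
    have key : ∀ x : V, (fun i ↦ f (Pi.single i 1)) ⬝ᵥ x = f x := by
      intro x
      conv_rhs => rw [pi_eq_sum_univ' x]
      rw [map_sum, dotProduct]
      refine Finset.sum_congr rfl fun i _ ↦ ?_
      rw [map_smul, smul_eq_mul, mul_comm]
    have hfi : ∀ i, f (v i) = B.coord 0 (B i) := by
      intro i
      have := LinearMap.congr_fun hf (B i)
      rw [LinearMap.comp_apply] at this
      rw [← this]
      congr 1
      exact (congrArg Subtype.val (Module.Basis.span_apply hv i)).symm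
    refine ⟨by rw [key, hfi]; simp, fun i hi ↦ ?_⟩
    rw [key, hfi]
    simp [Ne.symm hi, hi]
  set c := (M.det)⁻¹ with hc
  let D : Matrix (Fin d) (Fin d) F := 1 + vecMulVec ((c - 1) • v 0) φ
  have hD : D.det = c := by
    rw [show D = 1 + vecMulVec ((c - 1) • v 0) φ from rfl, vecMulVec_eq Unit,
      det_one_add_replicateCol_mul_replicateRow, dotProduct_smul, hφ0]
    simp
  refine ⟨⟨D * M, by rw [det_mul, hD, hc, inv_mul_cancel₀ hdet]⟩, c, inv_ne_zero hdet, ?_, ?_⟩
  · show (D * M) *ᵥ w 0 = _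
    rw [← mulVec_mulVec, hM, hev, add_mulVec, one_mulVec, vecMulVec_mulVec, hφ0, op_smul_eq_smul,
      one_smul]
    module
  · intro i hi
    show (D * M) *ᵥ w i = _
    rw [← mulVec_mulVec, hM, hev, add_mulVec, one_mulVec, vecMulVec_mulVec, hφi i hi,
      op_smul_eq_smul, zero_smul, add_zero]

/-- Points of a subspace. -/
def pts (W : Submodule F V) : Set (ℙ F V) := {x | x.rep ∈ W}

theorem mk_mem_pts {W : Submodule F V} {v : V} (hv : v ≠ 0) :
    Projectivization.mk F v hv ∈ pts W ↔ v ∈ W := by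
  obtain ⟨a, ha⟩ := Projectivization.exists_smul_eq_mk_rep F v hv
  show (Projectivization.mk F v hv).rep ∈ W ↔ _
  rw [← ha, Units.smul_def]
  exact ⟨fun h ↦ by simpa [smul_smul] using W.smul_mem ((a⁻¹ : Fˣ) : F) h, W.smul_mem _⟩

/-- Number of points of a projective space. -/
def pc (q n : ℕ) : ℕ := ∑ i ∈ Finset.range n, q ^ i

theorem card_pts [Finite F] (W : Submodule F V) :
    Nat.card (pts W) = pc (Nat.card F) (Module.finrank F W) := by
  rw [pc, ← Projectivization.card_of_finrank F W rfl]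
  symm
  refine Nat.card_congr (Equiv.ofBijective
    (fun x ↦ ⟨Projectivization.map W.subtype W.injective_subtype x, ?_⟩) ⟨?_, ?_⟩)
  · induction x using Projectivization.ind with
    | _ v hv =>
      rw [Projectivization.map_mk]
      exact (mk_mem_pts _).2 v.2
  · intro x y h
    exact Projectivization.map_injective W.subtype W.injective_subtype (congrArg Subtype.val h)
  · rintro ⟨x, hx⟩
    refine ⟨Projectivization.mk F ⟨x.rep, hx⟩ fun e ↦ x.rep_nonzero (congrArg Subtype.val e), ?_⟩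
    refine Subtype.ext ?_
    simp [Projectivization.map_mk, Projectivization.mk_rep]

theorem pc_succ (q n : ℕ) : pc q (n + 1) = q * pc q n + 1 := by
  rw [pc, pc, Finset.sum_range_succ', Finset.mul_sum]
  simp [pow_succ, mul_comm]

theorem pc_mono (q : ℕ) {m n : ℕ} (h : m ≤ n) : pc q m ≤ pc q n :=
  Finset.sum_le_sum_of_subset (Finset.range_subset_range.2 h)

theorem pc_add_le (q a b : ℕ) :
    pc q (a + 1) + pc q (b + 1) ≤ pc q (a + b + 1) + 1 := by
  induction a with
  | zero => simp [pc]; omega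
  | succ a ih =>
    rw [pc, Finset.sum_range_succ, ← pc]
    rw [show a + 1 + b + 1 = a + b + 1 + 1 by omega]
    conv_rhs => rw [pc, Finset.sum_range_succ, ← pc]
    rcases Nat.eq_zero_or_pos q with hq | hq
    · subst hq; simp [zero_pow]; omega
    · have := Nat.pow_le_pow_right hq (show a + 1 ≤ a + b + 1 by omega)
      omega

/-- Eigenspace. -/
def eig (g : SpecialLinearGroup (Fin d) F) (μ : F) : Submodule F V :=
  Module.End.eigenspace (Matrix.toLin' g.1) μ

theorem mem_eig {g : SpecialLinearGroup (Fin d) F} {μ : F} {v : V} :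
    v ∈ eig g μ ↔ g.1 *ᵥ v = μ • v := by
  rw [eig, Module.End.mem_eigenspace_iff, Matrix.toLin'_apply]

/-- Non-scalar element. -/
def NonScalar (g : SpecialLinearGroup (Fin d) F) : Prop := ∀ μ : F, eig g μ ≠ ⊤

theorem nonScalar_of_ne_one {g : SpecialLinearGroup (Fin d) F}
    (h : (g : ProjectiveSpecialLinearGroup (Fin d) F) ≠ 1) : NonScalar g := by
  intro μ hμ
  apply h
  refine eq_of_smul_eq_smul (α := ℙ F V) fun x ↦ ?_
  rw [one_smul]
  induction x using Projectivization.ind with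
  | _ v hv => exact (mk_mem_fixedBy_iff g hv).2 ⟨μ, mem_eig.1 (hμ ▸ Submodule.mem_top)⟩

theorem fixedBy_subset (g : SpecialLinearGroup (Fin d) F) :
    fixedBy (ℙ F V) (g : ProjectiveSpecialLinearGroup (Fin d) F) ⊆
      ⋃ μ : {μ : F // μ ≠ 0}, pts (eig g μ.1) := by
  intro x hx
  induction x using Projectivization.ind with
  | _ v hv =>
    obtain ⟨μ, hμ⟩ := (mk_mem_fixedBy_iff g hv).1 hx
    have hμ0 : μ ≠ 0 := fun e ↦ mulVec_ne_zero' g hv (by rw [hμ, e, zero_smul])
    exact Set.mem_iUnion.2 ⟨⟨μ, hμ0⟩, (mk_mem_pts hv).2 (mem_eig.2 hμ)⟩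

theorem pts_subset_fixedBy (g : SpecialLinearGroup (Fin d) F) (μ : F) :
    pts (eig g μ) ⊆ fixedBy (ℙ F V) (g : ProjectiveSpecialLinearGroup (Fin d) F) := by
  intro x hx
  induction x using Projectivization.ind with
  | _ v hv => exact (mk_mem_fixedBy_iff g hv).2 ⟨μ, mem_eig.1 ((mk_mem_pts hv).1 hx)⟩

theorem fix_le_mul [Finite F] (g : SpecialLinearGroup (Fin d) F) {k : ℕ}
    (hk : ∀ μ, Module.finrank F (eig g μ) ≤ k) :
    Nat.card (fixedBy (ℙ F V) (g : ProjectiveSpecialLinearGroup (Fin d) F)) ≤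
      (Nat.card F - 1) * pc (Nat.card F) k := by
  classical
  haveI : Fintype F := Fintype.ofFinite F
  refine (Nat.card_mono (Set.toFinite _) (fixedBy_subset g)).trans ?_
  rw [Nat.card_coe_set_eq]
  refine (Set.ncard_iUnion_le_of_fintype _).trans ?_
  refine (Finset.sum_le_card_nsmul _ _ (pc (Nat.card F) k) fun μ _ ↦ ?_).trans ?_
  · rw [← Nat.card_coe_set_eq, card_pts]
    exact pc_mono _ (hk μ.1)
  · rw [smul_eq_mul, Finset.card_univ, Fintype.card_subtype_compl, Fintype.card_subtype_eq,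
      Nat.card_eq_fintype_card]

theorem fix_le_hyperplane [Finite F] (hd : 1 ≤ d) (g : SpecialLinearGroup (Fin d) F)
    (hg : NonScalar g) :
    Nat.card (fixedBy (ℙ F V) (g : ProjectiveSpecialLinearGroup (Fin d) F)) ≤
      pc (Nat.card F) (d - 1) + 1 := by
  classical
  rcases Set.eq_empty_or_nonempty
    (fixedBy (ℙ F V) (g : ProjectiveSpecialLinearGroup (Fin d) F)) with h | ⟨x, hx⟩
  · rw [h]; simp
  obtain ⟨⟨μ₀, _⟩, hx0⟩ := Set.mem_iUnion.1 (fixedBy_subset g hx)
  set U := eig g μ₀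
  set W := ⨆ (μ : F) (_ : μ ≠ μ₀), eig g μ
  have hdis : Disjoint U W := (Module.End.eigenspaces_iSupIndep (Matrix.toLin' g.1)) μ₀
  have hsub : fixedBy (ℙ F V) (g : ProjectiveSpecialLinearGroup (Fin d) F) ⊆ pts U ∪ pts W := by
    intro y hy
    obtain ⟨⟨μ, _⟩, hy0⟩ := Set.mem_iUnion.1 (fixedBy_subset g hy)
    by_cases h : μ = μ₀
    · subst h
      exact Or.inl hy0
    · exact Or.inr ((le_iSup₂ (f := fun μ (_ : μ ≠ μ₀) ↦ eig g μ) μ h) hy0)
  have hle : Nat.card (fixedBy (ℙ F V) (g : ProjectiveSpecialLinearGroup (Fin d) F)) ≤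
      pc (Nat.card F) (Module.finrank F U) + pc (Nat.card F) (Module.finrank F W) := by
    refine (Nat.card_mono (Set.toFinite _) hsub).trans ?_
    rw [Nat.card_coe_set_eq, ← card_pts, ← card_pts, Nat.card_coe_set_eq, Nat.card_coe_set_eq]
    exact Set.ncard_union_le _ _
  have hU : 1 ≤ Module.finrank F U := by
    rw [Nat.one_le_iff_ne_zero]
    intro e
    rw [Submodule.finrank_eq_zero] at e
    have : x.rep ∈ U := hx0
    rw [e, Submodule.mem_bot] at this
    exact x.rep_nonzero this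
  have hUd : Module.finrank F U < d := by
    have := Submodule.finrank_lt (hg μ₀)
    rwa [Module.finrank_fin_fun] at this
  have hsum : Module.finrank F U + Module.finrank F W ≤ d := by
    have h1 := Submodule.finrank_sup_add_finrank_inf_eq U W
    rw [disjoint_iff.1 hdis, finrank_bot, add_zero] at h1
    have h2 := Submodule.finrank_le (U ⊔ W)
    rw [Module.finrank_fin_fun] at h2
    omega
  refine hle.trans ?_
  rcases Nat.eq_zero_or_pos (Module.finrank F W) with hW | hW
  · rw [hW, show pc (Nat.card F) 0 = 0 by simp [pc], add_zero]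
    exact (pc_mono _ (by omega)).trans (Nat.le_succ _)
  · have h3 := pc_add_le (Nat.card F) (Module.finrank F U - 1) (Module.finrank F W - 1)
    rw [show Module.finrank F U - 1 + 1 = Module.finrank F U by omega,
      show Module.finrank F W - 1 + 1 = Module.finrank F W by omega] at h3
    exact h3.trans (Nat.add_le_add_right (pc_mono _ (by omega)) 1)

/-- If every vector is mapped into the span of itself and `L`, then modulo `L` the map is a scalar. -/
theorem exists_scalar_mod (M : V →ₗ[F] V) (L : Submodule F V)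
    (hinv : ∀ x ∈ L, M x ∈ L) (h : ∀ y, y ∉ L → M y ∈ L ⊔ F ∙ y) :
    ∃ μ : F, ∀ y, M y - μ • y ∈ L := by
  let f : V ⧸ L →ₗ[F] V ⧸ L := L.mapQ L M hinv
  obtain ⟨μ, hμ⟩ := f.exists_eq_smul_id_of_forall_notLinearIndependent fun z ↦ by
    obtain ⟨y, rfl⟩ := L.mkQ_surjective z
    intro hli
    by_cases hy : y ∈ L
    · exact hli.ne_zero 0 ((Submodule.Quotient.mk_eq_zero L).2 hy)
    · obtain ⟨l, hl, s, hs, hsum⟩ := Submodule.mem_sup.1 (h y hy)
      obtain ⟨c, rfl⟩ := Submodule.mem_span_singleton.1 hs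
      have e : f (L.mkQ y) = c • L.mkQ y := by
        show L.mkQ (M y) = _
        rw [← hsum, map_add, map_smul]
        simp [(Submodule.Quotient.mk_eq_zero L).2 hl]
      rw [LinearIndependent.pair_iff] at hli
      have := hli c (-1) (by rw [e, neg_one_smul, add_neg_cancel])
      exact one_ne_zero (neg_eq_zero.1 this.2)
  refine ⟨μ, fun y ↦ ?_⟩
  have := LinearMap.congr_fun hμ (L.mkQ y)
  rw [← Submodule.Quotient.eq]
  simpa [f] using this

theorem eig_big_of_range {g : SpecialLinearGroup (Fin d) F} {μ : F} {L : Submodule F V} {k : ℕ}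
    (hk : Module.finrank F L ≤ k) (h : ∀ y, g.1 *ᵥ y - μ • y ∈ L) :
    d ≤ Module.finrank F (eig g μ) + k := by
  let f : V →ₗ[F] V := Matrix.toLin' g.1 - μ • LinearMap.id
  have hker : LinearMap.ker f = eig g μ := by
    ext v; simp [f, mem_eig, sub_eq_zero]
  have hrange : LinearMap.range f ≤ L := by
    rintro _ ⟨y, rfl⟩
    simpa [f] using h y
  have := f.finrank_range_add_finrank_ker
  rw [Module.finrank_fin_fun, hker] at this
  have := Submodule.finrank_mono hrange
  omega

theorem two_le_fix [Finite F] {g : SpecialLinearGroup (Fin d) F} {μ : F}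
    (h : 2 ≤ Module.finrank F (eig g μ)) :
    2 ≤ Nat.card (fixedBy (ℙ F V) (g : ProjectiveSpecialLinearGroup (Fin d) F)) := by
  refine le_trans ?_ (Nat.card_mono (Set.toFinite _) (pts_subset_fixedBy g μ))
  rw [card_pts]
  refine le_trans ?_ (pc_mono _ h)
  have := Finite.one_lt_card (α := F)
  simp [pc, Finset.sum_range_succ]
  omega

theorem two_le_fix_of_vecs [Finite F] (g : SpecialLinearGroup (Fin d) F) {v w : V}
    (h : LinearIndependent F ![v, w]) (hv : ∃ μ : F, g.1 *ᵥ v = μ • v)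
    (hw : ∃ μ : F, g.1 *ᵥ w = μ • w) :
    2 ≤ Nat.card (fixedBy (ℙ F V) (g : ProjectiveSpecialLinearGroup (Fin d) F)) := by
  have hv0 : v ≠ 0 := h.ne_zero 0
  have hw0 : w ≠ 0 := h.ne_zero 1
  refine Finite.one_lt_card_iff_nontrivial.2 ⟨⟨_, (mk_mem_fixedBy_iff g hv0).2 hv⟩,
    ⟨_, (mk_mem_fixedBy_iff g hw0).2 hw⟩, fun e ↦ ?_⟩
  obtain ⟨a, ha⟩ := (Projectivization.mk_eq_mk_iff' F v w hv0 hw0).1 (congrArg Subtype.val e)
  rw [LinearIndependent.pair_iff] at h
  exact one_ne_zero (neg_eq_zero.1 (h (-1) a (by rw [ha, neg_one_smul, neg_add_cancel])).1)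

theorem notMem_span_singleton_of_li {v w : V} (h : LinearIndependent F ![v, w]) : w ∉ F ∙ v := by
  intro hm
  obtain ⟨a, ha⟩ := Submodule.mem_span_singleton.1 hm
  rw [LinearIndependent.pair_iff] at h
  exact one_ne_zero (neg_eq_zero.1 (h a (-1) (by rw [ha, neg_one_smul, add_neg_cancel])).2)

theorem li_two {v w : V} (hv : v ≠ 0) (h : w ∉ F ∙ v) : LinearIndependent F ![v, w] := by
  rw [LinearIndependent.pair_iff' hv]
  exact fun a e ↦ h (Submodule.mem_span_singleton.2 ⟨a, e⟩)

theorem li_three {u v w : V} (h : LinearIndependent F ![u, v])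
    (hw : w ∉ Submodule.span F {u, v}) : LinearIndependent F ![u, v, w] := by
  have e : (![u, v, w] : Fin 3 → V) = Fin.snoc ![u, v] w := by
    ext i; fin_cases i <;> rfl
  rw [e, linearIndependent_finSnoc]
  exact ⟨h, by rwa [show Set.range ![u, v] = {u, v} by ext; simp; tauto]⟩

theorem li_four {u v w x : V} (h : LinearIndependent F ![u, v, w])
    (hx : x ∉ Submodule.span F {u, v, w}) : LinearIndependent F ![u, v, w, x] := by
  have e : (![u, v, w, x] : Fin 4 → V) = Fin.snoc ![u, v, w] x := by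
    ext i; fin_cases i <;> rfl
  rw [e, linearIndependent_finSnoc]
  exact ⟨h, by rwa [show Set.range ![u, v, w] = {u, v, w} by ext; simp; tauto]⟩

/-- `v, y, g y` independent for a suitable `y`, unless `g - μ` has range in `⟨v⟩`. -/
theorem exists_triple (g : SpecialLinearGroup (Fin d) F) {v : V} {ν : F} (hv : g.1 *ᵥ v = ν • v)
    (hv0 : v ≠ 0) (h : ∀ μ : F, ∃ y, g.1 *ᵥ y - μ • y ∉ F ∙ v) :
    ∃ y, LinearIndependent F ![v, y, g.1 *ᵥ y] := by
  by_contra! hno
  have hinv : ∀ x ∈ F ∙ v, Matrix.toLin' g.1 x ∈ F ∙ v := by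
    intro x hx
    obtain ⟨a, rfl⟩ := Submodule.mem_span_singleton.1 hx
    rw [Matrix.toLin'_apply, mulVec_smul, hv]
    exact Submodule.smul_mem _ _ (Submodule.smul_mem _ _ (Submodule.mem_span_singleton_self v))
  obtain ⟨μ, hμ⟩ := exists_scalar_mod (Matrix.toLin' g.1) (F ∙ v) hinv fun y hy ↦ by
    by_contra hc
    apply hno y
    refine li_three (li_two hv0 hy) ?_
    rwa [Matrix.toLin'_apply, ← Submodule.span_union, Set.singleton_union] at hc
  obtain ⟨y, hy⟩ := h μ
  exact hy (by simpa using hμ y)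

/-- An eigenvector with non-scalar quotient action. -/
theorem exists_eigvec_triple [Finite F] (hd : 3 ≤ d) (g : SpecialLinearGroup (Fin d) F)
    (hg : NonScalar g)
    (hfix : (fixedBy (ℙ F V) (g : ProjectiveSpecialLinearGroup (Fin d) F)).Nonempty) :
    ∃ (v y : V) (ν : F), g.1 *ᵥ v = ν • v ∧ LinearIndependent F ![v, y, g.1 *ᵥ y] := by
  obtain ⟨x, hx⟩ := hfix
  induction x using Projectivization.ind with
  | _ v hv =>
  obtain ⟨ν, hν⟩ := (mk_mem_fixedBy_iff g hv).1 hx
  by_cases h : ∀ μ : F, ∃ y, g.1 *ᵥ y - μ • y ∉ F ∙ v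
  · obtain ⟨y, hy⟩ := exists_triple g hν hv h
    exact ⟨v, y, ν, hν, hy⟩
  · push Not at h
    obtain ⟨μ, hμ⟩ := h
    have hbig := eig_big_of_range (finrank_span_singleton hv).le hμ
    have hnle : ¬ eig g μ ≤ F ∙ v := fun hle ↦ by
      have := Submodule.finrank_mono hle
      rw [finrank_span_singleton hv] at this
      omega
    obtain ⟨w, hw, hwv⟩ := Set.not_subset.1 hnle
    have hw0 : w ≠ 0 := by rintro rfl; exact hwv (zero_mem _)
    obtain ⟨y, hy⟩ := exists_triple g (mem_eig.1 hw) hw0 fun μ' ↦ by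
      by_contra! hμ'
      obtain ⟨z, hz⟩ : ∃ z, g.1 *ᵥ z - μ • z ≠ 0 := by
        by_contra! h0
        exact hg μ (Submodule.eq_top_iff'.2 fun z ↦ mem_eig.2 (sub_eq_zero.1 (h0 z)))
      by_cases hμμ : μ' = μ
      · subst hμμ
        obtain ⟨a, ha⟩ := Submodule.mem_span_singleton.1 (hμ z)
        obtain ⟨b, hb⟩ := Submodule.mem_span_singleton.1 (hμ' z)
        have hb0 : b ≠ 0 := fun e ↦ hz (by rw [← hb, e, zero_smul])
        apply hwv
        have : w = (b⁻¹ * a) • v := by
          rw [mul_smul, ha, ← hb, smul_smul, inv_mul_cancel₀ hb0, one_smul]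
        rw [this]
        exact Submodule.smul_mem _ _ (Submodule.mem_span_singleton_self v)
      · have hall : (⊤ : Submodule F V) ≤ Submodule.span F {v, w} := by
          intro z _
          obtain ⟨a, ha⟩ := Submodule.mem_span_singleton.1 (hμ z)
          obtain ⟨b, hb⟩ := Submodule.mem_span_singleton.1 (hμ' z)
          rw [Submodule.mem_span_pair]
          refine ⟨(μ' - μ)⁻¹ * a, (μ' - μ)⁻¹ * -b, ?_⟩
          have e : a • v + (-b) • w = (μ' - μ) • z := by rw [neg_smul, ha, hb]; module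
          rw [mul_smul, mul_smul, ← smul_add, e, smul_smul, inv_mul_cancel₀ (sub_ne_zero.2 hμμ),
            one_smul]
        have h1 := Submodule.finrank_mono hall
        rw [finrank_top, Module.finrank_fin_fun] at h1
        have h2 : Module.finrank F (Submodule.span F ({v, w} : Set V)) ≤ 2 := by
          classical
          refine (finrank_span_le_card _).trans ?_
          simp only [Set.toFinset_insert, Set.toFinset_singleton]
          exact Finset.card_le_two
        omega
    exact ⟨w, y, μ, mem_eig.1 hw, hy⟩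

theorem conj_mulVec (g B : SpecialLinearGroup (Fin d) F) (w : V) :
    (g * B * g⁻¹).1 *ᵥ (g.1 *ᵥ w) = g.1 *ᵥ (B.1 *ᵥ w) := by
  show (g.1 * B.1 * (g⁻¹).1) *ᵥ (g.1 *ᵥ w) = _
  rw [← mulVec_mulVec, ← mulVec_mulVec, inv_mulVec_cancel]

theorem prod_mulVec (A g B : SpecialLinearGroup (Fin d) F) (w : V) :
    (A * (g * B * g⁻¹)).1 *ᵥ (g.1 *ᵥ w) = A.1 *ᵥ (g.1 *ᵥ (B.1 *ᵥ w)) := by
  show (A.1 * (g * B * g⁻¹).1) *ᵥ _ = _
  rw [← mulVec_mulVec, conj_mulVec]

/-- Common eigenvector plus a second fixed point. -/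
theorem exists_two_fix_eig [Finite F] (hd : 3 ≤ d) (A B : SpecialLinearGroup (Fin d) F)
    (hA : NonScalar A⁻¹) (hB : NonScalar B)
    (hfA : (fixedBy (ℙ F V) ((A⁻¹ : SpecialLinearGroup (Fin d) F) :
      ProjectiveSpecialLinearGroup (Fin d) F)).Nonempty)
    (hfB : (fixedBy (ℙ F V) (B : ProjectiveSpecialLinearGroup (Fin d) F)).Nonempty) :
    ∃ g : SpecialLinearGroup (Fin d) F, 2 ≤ Nat.card (fixedBy (ℙ F V)
      ((A * (g * B * g⁻¹) : SpecialLinearGroup (Fin d) F) : ProjectiveSpecialLinearGroup (Fin d) F)) := by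
  obtain ⟨v, y, ν, hv, hvy⟩ := exists_eigvec_triple hd A⁻¹ hA hfA
  obtain ⟨w, x, σ, hw, hwx⟩ := exists_eigvec_triple hd B hB hfB
  obtain ⟨g, c, hc, hg0, hgi⟩ := exists_SL_map ![w, x, B.1 *ᵥ x] ![v, y, (A⁻¹).1 *ᵥ y] hwx hvy
  have hν0 : ν ≠ 0 := fun e ↦ mulVec_ne_zero' A⁻¹ (hvy.ne_zero 0) (by
    show (A⁻¹).1 *ᵥ v = 0
    rw [hv, e, zero_smul])
  have hgw : g.1 *ᵥ w = c • v := hg0
  have hgx : g.1 *ᵥ x = y := hgi 1 (by decide)
  have hgBx : g.1 *ᵥ (B.1 *ᵥ x) = (A⁻¹).1 *ᵥ y := hgi 2 (by decide)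
  refine ⟨g, two_le_fix_of_vecs _ (v := v) (w := y) ?_ ⟨σ * ν⁻¹, ?_⟩ ⟨1, ?_⟩⟩
  · have h0 := (Fintype.linearIndependent_iff.1 hvy)
    rw [LinearIndependent.pair_iff]
    intro s t hst
    have := h0 ![s, t, 0] (by simp [Fin.sum_univ_three, hst])
    exact ⟨this 0, this 1⟩
  · have h1 := prod_mulVec A g B w
    have hAv : A.1 *ᵥ v = ν⁻¹ • v := by
      conv_lhs => rw [← inv_smul_smul₀ hν0 v, ← hv, mulVec_smul, mulVec_inv_cancel]
    rw [hgw, mulVec_smul, hw, mulVec_smul, hgw, mulVec_smul, mulVec_smul, hAv, smul_smul, smul_smul,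
      ] at h1
    have h2 := congrArg (fun z ↦ c⁻¹ • z) h1
    simp only [smul_smul] at h2
    rw [inv_mul_cancel₀ hc, one_smul] at h2
    rw [h2]
    congr 1
    field_simp
  · have h1 := prod_mulVec A g B x
    rw [hgx, hgBx, mulVec_inv_cancel] at h1
    rw [h1, one_smul]

/-- Four vectors in general position. -/
theorem exists_quad [Finite F] (hd : 4 ≤ d) (g : SpecialLinearGroup (Fin d) F)
    (hfix : Nat.card (fixedBy (ℙ F V) (g : ProjectiveSpecialLinearGroup (Fin d) F)) ≤ 1) :
    ∃ x y, LinearIndependent F ![x, g.1 *ᵥ x, y, g.1 *ᵥ y] := by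
  have hsmall : ∀ μ, Module.finrank F (eig g μ) ≤ 1 := fun μ ↦ by
    by_contra h
    have := two_le_fix (g := g) (μ := μ) (by omega)
    omega
  obtain ⟨x, hx⟩ : ∃ x, LinearIndependent F ![x, g.1 *ᵥ x] := by
    by_contra! h
    obtain ⟨μ, hμ⟩ := (Matrix.toLin' g.1).exists_eq_smul_id_of_forall_notLinearIndependent
      fun x ↦ by simpa using h x
    have h1 := hsmall μ
    rw [show eig g μ = ⊤ from Submodule.eq_top_iff'.2 fun v ↦ mem_eig.2 (by
      simpa using LinearMap.congr_fun hμ v), finrank_top, Module.finrank_fin_fun] at h1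
    omega
  set L := Submodule.span F ({x, g.1 *ᵥ x} : Set V) with hL
  have hL2 : Module.finrank F L = 2 := by
    rw [hL, show ({x, g.1 *ᵥ x} : Set V) = Set.range ![x, g.1 *ᵥ x] by ext; simp; tauto,
      finrank_span_eq_card hx]
    rfl
  by_contra! hno
  have h : ∀ y, y ∉ L → g.1 *ᵥ y ∈ L ⊔ F ∙ y := by
    intro y hy
    by_contra hc
    apply hno x y
    refine li_four (li_three hx hy) ?_
    rw [show ({x, g.1 *ᵥ x, y} : Set V) = {x, g.1 *ᵥ x} ∪ {y} by ext; simp; tauto,
      Submodule.span_union]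
    exact hc
  have hinv : ∀ l ∈ L, g.1 *ᵥ l ∈ L := by
    intro l hl
    obtain ⟨y, hy⟩ : ∃ y, y ∉ L := by
      by_contra! hall
      have := Submodule.finrank_mono (show (⊤ : Submodule F V) ≤ L from fun z _ ↦ hall z)
      rw [finrank_top, Module.finrank_fin_fun] at this
      omega
    obtain ⟨z, hz⟩ : ∃ z, z ∉ L ⊔ F ∙ y := by
      by_contra! hall
      have h1 := Submodule.finrank_mono (show (⊤ : Submodule F V) ≤ L ⊔ F ∙ y from fun z _ ↦ hall z)
      have h2 := Submodule.finrank_add_le_finrank_add_finrank L (F ∙ y)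
      have h3 := finrank_span_singleton (K := F) (show y ≠ 0 by rintro rfl; exact hy (zero_mem _))
      rw [finrank_top, Module.finrank_fin_fun] at h1
      omega
    have key : ∀ y, y ∉ L → g.1 *ᵥ l ∈ L ⊔ F ∙ y := by
      intro y hy
      have hyl : y + l ∉ L := fun e ↦ hy (by simpa using L.sub_mem e hl)
      have h1 := h (y + l) hyl
      have h2 := h y hy
      have hle : L ⊔ F ∙ (y + l) ≤ L ⊔ F ∙ y := by
        refine sup_le le_sup_left ((Submodule.span_singleton_le_iff_mem _ _).2 ?_)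
        exact add_mem (Submodule.mem_sup_right (Submodule.mem_span_singleton_self y))
          (Submodule.mem_sup_left hl)
      have h4 := sub_mem (hle h1) h2
      rwa [mulVec_add, add_sub_cancel_left] at h4
    have hzL : z ∉ L := fun e ↦ hz (Submodule.mem_sup_left e)
    obtain ⟨a, ha, b, hb, hab⟩ := Submodule.mem_sup.1 (key z hzL)
    obtain ⟨c, rfl⟩ := Submodule.mem_span_singleton.1 hb
    rcases eq_or_ne c 0 with rfl | hc
    · rw [zero_smul, add_zero] at hab; rwa [← hab]
    · exfalso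
      apply hz
      have h5 : c • z ∈ L ⊔ F ∙ y := by
        rw [eq_sub_of_add_eq' hab]
        exact sub_mem (key y hy) (Submodule.mem_sup_left ha)
      simpa [smul_smul, hc] using Submodule.smul_mem _ c⁻¹ h5
  obtain ⟨μ, hμ⟩ := exists_scalar_mod (Matrix.toLin' g.1) L
    (fun l hl ↦ by simpa using hinv l hl) (fun y hy ↦ by simpa using h y hy)
  have := eig_big_of_range hL2.le (g := g) (μ := μ) fun y ↦ by simpa using hμ y
  have := hsmall μ
  omega

theorem exists_two_fix_quad [Finite F] (hd : 4 ≤ d) (A B : SpecialLinearGroup (Fin d) F)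
    (hA : Nat.card (fixedBy (ℙ F V) ((A⁻¹ : SpecialLinearGroup (Fin d) F) :
      ProjectiveSpecialLinearGroup (Fin d) F)) ≤ 1)
    (hB : Nat.card (fixedBy (ℙ F V) (B : ProjectiveSpecialLinearGroup (Fin d) F)) ≤ 1) :
    ∃ g : SpecialLinearGroup (Fin d) F, 2 ≤ Nat.card (fixedBy (ℙ F V)
      ((A * (g * B * g⁻¹) : SpecialLinearGroup (Fin d) F) : ProjectiveSpecialLinearGroup (Fin d) F)) := by
  obtain ⟨v, y, hvy⟩ := exists_quad hd A⁻¹ hA
  obtain ⟨w, x, hwx⟩ := exists_quad hd B hB
  obtain ⟨g, c, hc, hg0, hgi⟩ := exists_SL_map ![w, B.1 *ᵥ w, x, B.1 *ᵥ x]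
    ![v, (A⁻¹).1 *ᵥ v, y, (A⁻¹).1 *ᵥ y] hwx hvy
  have hgw : g.1 *ᵥ w = c • v := hg0
  have hgBw : g.1 *ᵥ (B.1 *ᵥ w) = (A⁻¹).1 *ᵥ v := hgi 1 (by decide)
  have hgx : g.1 *ᵥ x = y := hgi 2 (by decide)
  have hgBx : g.1 *ᵥ (B.1 *ᵥ x) = (A⁻¹).1 *ᵥ y := hgi 3 (by decide)
  refine ⟨g, two_le_fix_of_vecs _ (v := v) (w := y) ?_ ⟨c⁻¹, ?_⟩ ⟨1, ?_⟩⟩
  · rw [LinearIndependent.pair_iff]
    intro s t hst
    have := (Fintype.linearIndependent_iff.1 hvy) ![s, 0, t, 0] (by simp [Fin.sum_univ_four, hst])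
    exact ⟨this 0, this 2⟩
  · have h1 := prod_mulVec A g B w
    rw [hgw, hgBw, mulVec_inv_cancel, mulVec_smul] at h1
    conv_rhs => rw [← h1, smul_smul, inv_mul_cancel₀ hc, one_smul]
  · have h1 := prod_mulVec A g B x
    rw [hgx, hgBx, mulVec_inv_cancel] at h1
    rw [h1, one_smul]

end Linear

end CfsgLib.Linear.ClassProd
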