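/-
In PSL_d(q), d ≥ 3, the product of two non-trivial classes is never a single class: assembly.
-/
import Mathlib
import Cfsg.Agent.Lib.Linear.ClassProduct

set_option autoImplicit false

namespace CfsgLib.Linear.ClassProd

open Matrix MulAction
open scoped LinearAlgebra.Projectivization

variable {F : Type*} [Field F]

/-- A cyclic vector in dimension three. -/
theorem exists_cyclic3 [Finite F] (g : SpecialLinearGroup (Fin 3) F) (hg : NonScalar g)
    (hfix : Nat.card (fixedBy (ℙ F (Fin 3 → F)) (g : ProjectiveSpecialLinearGroup (Fin 3) F)) ≤ 1) :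
    ∃ x, LinearIndependent F ![x, g.1 *ᵥ x, g.1 *ᵥ (g.1 *ᵥ x)] := by
  by_contra! hno
  have hrec : ∀ x, LinearIndependent F ![x, g.1 *ᵥ x] →
      g.1 *ᵥ (g.1 *ᵥ x) ∈ Submodule.span F ({x, g.1 *ᵥ x} : Set (Fin 3 → F)) := fun x hx ↦ by
    by_contra h
    exact hno x (li_three hx h)
  rcases Set.eq_empty_or_nonempty
    (fixedBy (ℙ F (Fin 3 → F)) (g : ProjectiveSpecialLinearGroup (Fin 3) F)) with he | hne
  · -- no eigenvector
    have hnoeig : ∀ (x : Fin 3 → F) (hx : x ≠ 0) (μ : F), g.1 *ᵥ x ≠ μ • x := fun x hx μ e ↦ by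
      have := (mk_mem_fixedBy_iff g hx).2 ⟨μ, e⟩
      rw [he] at this
      exact this.elim
    set x : Fin 3 → F := Pi.single 0 1
    have hx0 : x ≠ 0 := fun e ↦ by simpa [x] using congrFun e 0
    have hx : LinearIndependent F ![x, g.1 *ᵥ x] := li_two hx0 fun h ↦ by
      obtain ⟨a, ha⟩ := Submodule.mem_span_singleton.1 h
      exact hnoeig x hx0 a ha.symm
    set L := Submodule.span F ({x, g.1 *ᵥ x} : Set (Fin 3 → F)) with hL
    have hL2 : Module.finrank F L = 2 := by
      rw [hL, show ({x, g.1 *ᵥ x} : Set (Fin 3 → F)) = Set.range ![x, g.1 *ᵥ x] by ext; simp; tauto,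
        finrank_span_eq_card hx]
      rfl
    obtain ⟨μ, hμ⟩ := exists_scalar_mod (Matrix.toLin' g.1) L (fun l hl ↦ by
      obtain ⟨a, b, rfl⟩ := Submodule.mem_span_pair.1 hl
      rw [Matrix.toLin'_apply, mulVec_add, mulVec_smul, mulVec_smul]
      exact add_mem (L.smul_mem _ (Submodule.subset_span (by simp))) (L.smul_mem _ (hrec x hx)))
      fun y hy ↦ by
        have htop : L ⊔ F ∙ y = ⊤ := by
          refine Submodule.eq_top_of_finrank_eq ?_
          rw [Module.finrank_fin_fun]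
          have h1 : L < L ⊔ F ∙ y := lt_of_le_of_ne le_sup_left fun e ↦ hy (by
            rw [e]; exact Submodule.mem_sup_right (Submodule.mem_span_singleton_self y))
          have h2 := Submodule.finrank_lt_finrank_of_lt h1
          have h3 := Submodule.finrank_le (L ⊔ F ∙ y)
          rw [Module.finrank_fin_fun] at h3
          omega
        rw [htop]; trivial
    have hbig := eig_big_of_range hL2.le (g := g) (μ := μ) fun y ↦ by simpa using hμ y
    obtain ⟨z, hz, hz0⟩ := (eig g μ).exists_mem_ne_zero_of_ne_bot fun e ↦ by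
      rw [e, finrank_bot] at hbig; omega
    exact hnoeig z hz0 μ (mem_eig.1 hz)
  · obtain ⟨v, y, ν, hv, hli⟩ := exists_eigvec_triple le_rfl g hg hne
    have h3 := Fintype.linearIndependent_iff.1 hli
    have hy2 : LinearIndependent F ![y, g.1 *ᵥ y] := by
      rw [LinearIndependent.pair_iff]
      intro s t hst
      have := h3 ![0, s, t] (by simpa [Fin.sum_univ_three] using hst)
      exact ⟨this 1, this 2⟩
    obtain ⟨a, b, hab⟩ := Submodule.mem_span_pair.1 (hrec y hy2)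
    set x := y + v
    have hgx : g.1 *ᵥ x = g.1 *ᵥ y + ν • v := by rw [mulVec_add, hv]
    have hx2 : LinearIndependent F ![x, g.1 *ᵥ x] := by
      rw [LinearIndependent.pair_iff]
      intro s t hst
      have := h3 ![s + t * ν, s, t] (by
        rw [hgx] at hst
        simp [Fin.sum_univ_three]
        rw [← hst]; module)
      exact ⟨this 1, this 2⟩
    obtain ⟨a', b', hab'⟩ := Submodule.mem_span_pair.1 (hrec x hx2)
    have hggx : g.1 *ᵥ (g.1 *ᵥ x) = g.1 *ᵥ (g.1 *ᵥ y) + (ν * ν) • v := by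
      rw [hgx, mulVec_add, mulVec_smul, hv, smul_smul]
    rw [hggx, hgx, ← hab] at hab'
    have := h3 ![a' + b' * ν - ν * ν, a' - a, b' - b] (by
      simp [Fin.sum_univ_three]
      linear_combination (norm := module) hab')
    have e0 : a' + b' * ν - ν * ν = 0 := this 0
    have e1 : a' - a = 0 := this 1
    have e2 : b' - b = 0 := this 2
    have hrel : ν * ν = a + b * ν := by linear_combination -e0 + e1 + ν * e2
    set u := g.1 *ᵥ y - (b - ν) • y with hu
    have hgu : g.1 *ᵥ u = ν • u := by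
      rw [hu, mulVec_sub, mulVec_smul, ← hab, smul_sub, smul_smul]
      linear_combination (norm := module) (-1 : F) • congrArg (fun c : F ↦ c • y) hrel
    have h2 := two_le_fix_of_vecs g (v := v) (w := u) (by
      rw [LinearIndependent.pair_iff]
      intro s t hst
      have := h3 ![s, -(t * (b - ν)), t] (by
        rw [hu] at hst
        simp [Fin.sum_univ_three]
        rw [← hst]; module)
      exact ⟨this 0, this 2⟩) ⟨ν, hv⟩ ⟨ν, hgu⟩
    omega

/-- Matrix of a vector triple. -/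
def colMat (v : Fin 3 → Fin 3 → F) : Matrix (Fin 3) (Fin 3) F := Matrix.of fun i j ↦ v j i

theorem colMat_mulVec (v : Fin 3 → Fin 3 → F) (j : Fin 3) :
    colMat v *ᵥ (Pi.single j 1) = v j := by
  ext i; simp [colMat]

theorem det_colMat_ne {v : Fin 3 → Fin 3 → F} (h : LinearIndependent F v) : (colMat v).det ≠ 0 := by
  intro e
  have hu : IsUnit (colMat v) := Matrix.linearIndependent_cols_iff_isUnit.1 (by exact h)
  exact (Matrix.isUnit_iff_isUnit_det _).1 hu |>.ne_zero e

/-- Companion matrix with determinant one. -/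
def comp3 (p r : F) : Matrix (Fin 3) (Fin 3) F := !![0, 0, 1; 1, 0, p; 0, 1, r]

theorem exists_comp3 {g : SpecialLinearGroup (Fin 3) F} {x : Fin 3 → F}
    (hx : LinearIndependent F ![x, g.1 *ᵥ x, g.1 *ᵥ (g.1 *ᵥ x)]) :
    ∃ (P : GL (Fin 3) F) (p r : F), g.1 = P.1 * comp3 p r * (P⁻¹ : GL (Fin 3) F).1 := by
  set v : Fin 3 → Fin 3 → F := ![x, g.1 *ᵥ x, g.1 *ᵥ (g.1 *ᵥ x)] with hv
  have hspan : Submodule.span F (Set.range v) = ⊤ :=
    hx.span_eq_top_of_card_eq_finrank (by simp [Module.finrank_fin_fun])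
  obtain ⟨c, hc⟩ := (Submodule.mem_span_range_iff_exists_fun F).1
    (hspan ▸ Submodule.mem_top (x := g.1 *ᵥ (g.1 *ᵥ (g.1 *ᵥ x))))
  rw [Fin.sum_univ_three] at hc
  simp only [hv, Matrix.cons_val_zero, Matrix.cons_val_one, Matrix.cons_val] at hc
  let C : Matrix (Fin 3) (Fin 3) F := !![0, 0, c 0; 1, 0, c 1; 0, 1, c 2]
  have hgC : g.1 * colMat v = colMat v * C := by
    refine Matrix.ext_of_mulVec_single fun j ↦ ?_
    rw [← mulVec_mulVec, ← mulVec_mulVec, colMat_mulVec]
    fin_cases j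
    · ext i
      simp [C, colMat, mulVec, dotProduct, Fin.sum_univ_three, hv, Pi.single_apply]
    · ext i
      simp [C, colMat, mulVec, dotProduct, Fin.sum_univ_three, hv, Pi.single_apply, Matrix.mul_apply]
      ring
    · show g.1 *ᵥ (g.1 *ᵥ (g.1 *ᵥ x)) = _
      rw [← hc]
      ext i
      simp [C, colMat, mulVec, dotProduct, Fin.sum_univ_three, hv, Pi.single_apply, mul_comm]
  have hdet := det_colMat_ne hx
  have hc0 : c 0 = 1 := by
    have := congrArg Matrix.det hgC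
    rw [det_mul, det_mul, g.2, one_mul] at this
    have h1 : C.det = c 0 := by simp [C, det_fin_three]
    rw [h1] at this
    exact mul_left_cancel₀ hdet (by rw [mul_one]; exact this.symm)
  refine ⟨GeneralLinearGroup.mkOfDetNeZero (colMat v) hdet, c 1, c 2, ?_⟩
  have hC : C = comp3 (c 1) (c 2) := by simp [C, comp3, hc0]
  rw [← hC]
  show g.1 = colMat v * C * _
  rw [← hgC]
  have h1 := Units.mul_inv (GeneralLinearGroup.mkOfDetNeZero (colMat v) hdet)
  rw [mul_assoc]
  exact (congrArg (fun z ↦ g.1 * z) h1 |>.trans (mul_one _)).symm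

/-- Two products with one fixed point and different traces. -/
theorem exists_trace_pair (A B : SpecialLinearGroup (Fin 3) F) {x w : Fin 3 → F}
    (hx : LinearIndependent F ![x, A.1 *ᵥ x, A.1 *ᵥ (A.1 *ᵥ x)])
    (hw : LinearIndependent F ![w, B.1 *ᵥ w, B.1 *ᵥ (B.1 *ᵥ w)]) :
    ∃ (g₁ g₂ : SpecialLinearGroup (Fin 3) F) (v : Fin 3 → F), v ≠ 0 ∧
      (A * (g₁ * B * g₁⁻¹)).1 *ᵥ v = v ∧ (A * (g₂ * B * g₂⁻¹)).1 *ᵥ v = v ∧
      (A * (g₁ * B * g₁⁻¹)).1.trace ≠ (A * (g₂ * B * g₂⁻¹)).1.trace := by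
  obtain ⟨P, p, r, hA⟩ := exists_comp3 hx
  obtain ⟨Q, β, γ, hB⟩ := exists_comp3 hw
  set δ := Q.1.det / P.1.det with hδ
  have hP0 : P.1.det ≠ 0 := ((Matrix.isUnit_iff_isUnit_det _).1 P.isUnit).ne_zero
  have hQ0 : Q.1.det ≠ 0 := ((Matrix.isUnit_iff_isUnit_det _).1 Q.isUnit).ne_zero
  have hδ0 : δ ≠ 0 := div_ne_zero hQ0 hP0
  -- the products as functions of the free coordinates
  have key : ∀ y0 y1 : F, ∃ g : SpecialLinearGroup (Fin 3) F,
      (A * (g * B * g⁻¹)).1 *ᵥ (P.1 *ᵥ Pi.single 1 1) = P.1 *ᵥ Pi.single 1 1 ∧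
      (A * (g * B * g⁻¹)).1.trace = -δ + 1 + (1 + (γ - y0) * y1) / (-δ) + r * (γ - y0) := by
    intro y0 y1
    let G0 : Matrix (Fin 3) (Fin 3) F := !![0, 1, y0; 1, 0, y1; 0, 0, -δ]
    have hG0 : G0.det = δ := by simp [G0, det_fin_three]
    let g : SpecialLinearGroup (Fin 3) F := ⟨P.1 * G0 * (Q⁻¹ : GL (Fin 3) F).1, by
      rw [det_mul, det_mul, hG0, hδ]
      have h1 : Q.1.det * (Q⁻¹ : GL (Fin 3) F).1.det = 1 := by
        rw [← det_mul, Units.mul_inv, det_one]
      field_simp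
      linear_combination h1⟩
    let W0 : F := ((β - y1) + (γ - y0) * y0) / (-δ)
    let W1 : F := (1 + (γ - y0) * y1) / (-δ)
    let W2 : F := γ - y0
    let N : Matrix (Fin 3) (Fin 3) F :=
      !![-δ, 0, W2; y0 + p * -δ, 1, W0 + p * W2; y1 + r * -δ, 0, W1 + r * W2]
    have hN : N * G0 = comp3 p r * (G0 * comp3 β γ) := by
      ext i j
      fin_cases i <;> fin_cases j <;>
        simp [N, G0, comp3, W0, W1, W2, Matrix.mul_apply, Fin.sum_univ_three] <;>
        field_simp <;> ring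
    have hM : (A * (g * B * g⁻¹)).1 = P.1 * N * (P⁻¹ : GL (Fin 3) F).1 := by
      have hgi : g.1 * (g⁻¹).1 = 1 := congrArg Subtype.val (mul_inv_cancel g)
      have hPP : (P⁻¹ : GL (Fin 3) F).1 * P.1 = 1 := Units.inv_mul P
      have hQQ : (Q⁻¹ : GL (Fin 3) F).1 * Q.1 = 1 := Units.inv_mul Q
      have h1 : A.1 * (g.1 * B.1) = P.1 * N * (P⁻¹ : GL (Fin 3) F).1 * g.1 := by
        show A.1 * (P.1 * G0 * (Q⁻¹ : GL (Fin 3) F).1 * B.1) =
          P.1 * N * (P⁻¹ : GL (Fin 3) F).1 * (P.1 * G0 * (Q⁻¹ : GL (Fin 3) F).1)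
        rw [hA, hB]
        simp only [mul_assoc]
        simp only [← mul_assoc (P⁻¹ : GL (Fin 3) F).1 P.1, ← mul_assoc (Q⁻¹ : GL (Fin 3) F).1 Q.1,
          hPP, hQQ, one_mul]
        simp only [← mul_assoc N G0, hN, mul_assoc]
      show A.1 * (g.1 * B.1 * (g⁻¹).1) = _
      rw [← mul_assoc A.1, h1, mul_assoc, hgi, mul_one]
    refine ⟨g, ?_, ?_⟩
    · rw [hM, ← mulVec_mulVec, mulVec_mulVec _ (P⁻¹ : GL (Fin 3) F).1, Units.inv_mul, one_mulVec,
        ← mulVec_mulVec]
      congr 1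
      ext i
      fin_cases i <;> simp [N]
    · rw [hM, trace_mul_cycle, Units.inv_mul, one_mul, trace_fin_three]
      simp [N, W1, W2]
      ring
  obtain ⟨g₁, h1, t1⟩ := key (γ - 1) (r * δ)
  obtain ⟨g₂, h2, t2⟩ := key (γ - 1) (r * δ - δ)
  refine ⟨g₁, g₂, _, ?_, h1, h2, ?_⟩
  · intro e
    have := congrArg (fun z ↦ (P⁻¹ : GL (Fin 3) F).1 *ᵥ z) e
    rw [mulVec_mulVec, Units.inv_mul, one_mulVec, mulVec_zero] at this
    simpa using congrFun this 1
  · rw [t1, t2]
    intro e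
    field_simp at e
    have h3 : δ * δ = 0 ∨ δ = 0 := by
      first
        | exact Or.inr (by linear_combination e)
        | exact Or.inr (by linear_combination -e)
        | exact Or.inl (by linear_combination e)
        | exact Or.inl (by linear_combination -e)
    rcases h3 with h3 | h3
    · exact hδ0 (mul_self_eq_zero.1 h3)
    · exact hδ0 h3

/-- With one fixed point, conjugate products with a common fixed vector have equal trace. -/
theorem trace_eq_of_isConj [Finite F] {d : ℕ} (M₁ M₂ : SpecialLinearGroup (Fin d) F)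
    (hconj : IsConj (M₁ : ProjectiveSpecialLinearGroup (Fin d) F) M₂) {v : Fin d → F} (hv : v ≠ 0)
    (h1 : M₁.1 *ᵥ v = v) (h2 : M₂.1 *ᵥ v = v)
    (hfix : Nat.card (fixedBy (ℙ F (Fin d → F)) (M₂ : ProjectiveSpecialLinearGroup (Fin d) F)) ≤ 1) :
    M₁.1.trace = M₂.1.trace := by
  obtain ⟨c, hc⟩ := isConj_iff.1 hconj
  obtain ⟨h, rfl⟩ := QuotientGroup.mk_surjective c
  have hc' : ((h * M₁ * h⁻¹ : SpecialLinearGroup (Fin d) F) :
      ProjectiveSpecialLinearGroup (Fin d) F) = M₂ := hc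
  obtain ⟨r, -, hr⟩ := Matrix.SpecialLinearGroup.mem_center_iff.1 ((QuotientGroup.eq (s := Subgroup.center (SpecialLinearGroup (Fin d) F))).1 hc'.symm)
  have hM : (h * M₁ * h⁻¹).1 = r • M₂.1 := by
    have e : (h * M₁ * h⁻¹) = M₂ * (M₂⁻¹ * (h * M₁ * h⁻¹)) := by group
    rw [e]
    show M₂.1 * (M₂⁻¹ * (h * M₁ * h⁻¹)).1 = _
    rw [← hr, Matrix.scalar_apply, ← Matrix.smul_one_eq_diagonal, Matrix.mul_smul, mul_one]
  set w := h.1 *ᵥ v
  have hw0 : w ≠ 0 := mulVec_ne_zero' h hv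
  have hwM : (h * M₁ * h⁻¹).1 *ᵥ w = w := by rw [conj_mulVec, h1]
  rw [hM, smul_mulVec] at hwM
  have hr0 : r ≠ 0 := by
    rintro rfl
    rw [zero_smul] at hwM
    exact hw0 hwM.symm
  have hwM2 : M₂.1 *ᵥ w = r⁻¹ • w := by
    conv_rhs => rw [← hwM, smul_smul, inv_mul_cancel₀ hr0, one_smul]
  have e : Projectivization.mk F w hw0 = Projectivization.mk F v hv := by
    have := Finite.card_le_one_iff_subsingleton.1 hfix
    exact congrArg Subtype.val (this.elim ⟨_, (mk_mem_fixedBy_iff M₂ hw0).2 ⟨_, hwM2⟩⟩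
      ⟨_, (mk_mem_fixedBy_iff M₂ hv).2 ⟨1, by rw [h2, one_smul]⟩⟩)
  obtain ⟨a, ha⟩ := (Projectivization.mk_eq_mk_iff' F w v hw0 hv).1 e
  have hw2 : M₂.1 *ᵥ w = w := by rw [← ha, mulVec_smul, h2]
  have hr1 : r = 1 := by
    have h3 : (r⁻¹ : F) • w = (1 : F) • w := by rw [← hwM2, hw2, one_smul]
    simpa using smul_left_injective F hw0 h3
  rw [hr1, one_smul] at hM
  rw [← hM]
  show M₁.1.trace = (h.1 * M₁.1 * (h⁻¹).1).trace
  have hh : (h⁻¹).1 * h.1 = 1 := congrArg Subtype.val (inv_mul_cancel h)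
  rw [trace_mul_cycle, hh, one_mul]

section Main

variable {d : ℕ}

local notation "PSLd" => ProjectiveSpecialLinearGroup (Fin d) F
local notation "Pt" => ℙ F (Fin d → F)

theorem card_fix_conj (g x : PSLd) :
    Nat.card (fixedBy Pt (g * x * g⁻¹)) = Nat.card (fixedBy Pt x) := by
  rw [← smul_fixedBy, Nat.card_coe_set_eq, Nat.card_coe_set_eq, Set.ncard_smul_set]

theorem card_fix_lt [Finite F] (hd : 3 ≤ d) (A : SpecialLinearGroup (Fin d) F) (hA : NonScalar A) :
    Nat.card (fixedBy Pt (A : PSLd)) < pc (Nat.card F) d := by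
  have h := fix_le_hyperplane (by omega) A hA
  obtain ⟨m, rfl⟩ : ∃ m, d = m + 2 := ⟨d - 2, by omega⟩
  have hq := Finite.one_lt_card (α := F)
  rw [show m + 2 - 1 = m + 1 by omega] at h
  rw [pc_succ (Nat.card F) (m + 1)]
  have h1 : 0 < pc (Nat.card F) (m + 1) := by rw [pc_succ]; omega
  have h2 : 2 * pc (Nat.card F) (m + 1) ≤ Nat.card F * pc (Nat.card F) (m + 1) :=
    Nat.mul_le_mul_right _ hq
  omega

/-- No product of classes is a class: one fixed point. -/
theorem false_of_one [Finite F] (hd : 3 ≤ d) (A B : SpecialLinearGroup (Fin d) F)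
    (hA : NonScalar A⁻¹) (hA' : NonScalar A) (hB : NonScalar B)
    (hconj : ∀ g₁ g₂ : PSLd, IsConj ((A : PSLd) * (g₁ * (B : PSLd) * g₁⁻¹))
      ((A : PSLd) * (g₂ * (B : PSLd) * g₂⁻¹)))
    (hN : ∀ g : PSLd, Nat.card (fixedBy Pt ((A : PSLd) * (g * (B : PSLd) * g⁻¹))) = 1)
    (hfa : Nat.card (fixedBy Pt (A : PSLd)) = 1) : False := by
  have hcoe : ∀ g : SpecialLinearGroup (Fin d) F,
      ((A * (g * B * g⁻¹) : SpecialLinearGroup (Fin d) F) : PSLd) =
        (A : PSLd) * ((g : PSLd) * (B : PSLd) * (g : PSLd)⁻¹) := fun g ↦ rfl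
  have hAinv : fixedBy Pt ((A⁻¹ : SpecialLinearGroup (Fin d) F) : PSLd) =
      fixedBy Pt (A : PSLd) := fixedBy_inv _ (A : PSLd)
  have hno : ∀ g : SpecialLinearGroup (Fin d) F,
      ¬ 2 ≤ Nat.card (fixedBy Pt ((A * (g * B * g⁻¹) : SpecialLinearGroup (Fin d) F) : PSLd)) := by
    intro g h
    rw [hcoe, hN] at h
    omega
  by_cases hfb : Nat.card (fixedBy Pt (B : PSLd)) ≤ 1
  · by_cases h4 : 4 ≤ d
    · obtain ⟨g, hg⟩ := exists_two_fix_quad h4 A B (by rw [hAinv]; omega) hfb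
      exact hno g hg
    · obtain rfl : d = 3 := by omega
      obtain ⟨x, hx⟩ := exists_cyclic3 A hA' hfa.le
      obtain ⟨w, hw⟩ := exists_cyclic3 B hB hfb
      obtain ⟨g₁, g₂, v, hv, h1, h2, hne⟩ := exists_trace_pair A B hx hw
      refine hne (trace_eq_of_isConj _ _ ?_ hv h1 h2 ?_)
      · rw [hcoe, hcoe]; exact hconj _ _
      · rw [hcoe, hN]
  · obtain ⟨g, hg⟩ := exists_two_fix_eig hd A B hA hB
      (Set.nonempty_coe_sort.1 (Nat.card_pos_iff.1 (by rw [hAinv, hfa]; omega)).1)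
      (Set.nonempty_coe_sort.1 (Nat.card_pos_iff.1 (by omega)).1)
    exact hno g hg

theorem pts_span_le_fix (M : SpecialLinearGroup (Fin d) F) {k : ℕ}
    (v : Fin k → Fin d → F) (τ : F) (h : ∀ i, M.1 *ᵥ v i = τ • v i) :
    pts (Submodule.span F (Set.range v)) ⊆ fixedBy Pt (M : PSLd) := by
  refine Set.Subset.trans (fun x hx ↦ ?_) (pts_subset_fixedBy M τ)
  have hle : Submodule.span F (Set.range v) ≤ eig M τ := by
    rw [Submodule.span_le]
    rintro _ ⟨i, rfl⟩
    exact mem_eig.2 (h i)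
  exact hle hx

/-- A product fixing a projective subspace of dimension `k`. -/
theorem exists_fix_subspace [Finite F] (A B : SpecialLinearGroup (Fin d) F) {τ σ : F} {k : ℕ}
    (hA : k + 1 ≤ Module.finrank F (eig A τ)) (hB : k + 1 ≤ Module.finrank F (eig B σ)) :
    ∃ g : SpecialLinearGroup (Fin d) F, pc (Nat.card F) (k + 1) ≤
      Nat.card (fixedBy Pt ((A * (g * B * g⁻¹) : SpecialLinearGroup (Fin d) F) : PSLd)) := by
  let v : Fin (k + 1) → Fin d → F := fun i ↦
    ((Module.finBasis F (eig A τ)) (Fin.castLE hA i) : Fin d → F)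
  let w : Fin (k + 1) → Fin d → F := fun i ↦
    ((Module.finBasis F (eig B σ)) (Fin.castLE hB i) : Fin d → F)
  have hv : LinearIndependent F v :=
    ((Module.finBasis F (eig A τ)).linearIndependent.comp _ (Fin.castLE_injective hA)).map'
      (eig A τ).subtype (eig A τ).ker_subtype
  have hw : LinearIndependent F w :=
    ((Module.finBasis F (eig B σ)).linearIndependent.comp _ (Fin.castLE_injective hB)).map'
      (eig B σ).subtype (eig B σ).ker_subtype
  obtain ⟨g, c, hc, hg0, hgi⟩ := exists_SL_map w v hw hv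
  refine ⟨g, ?_⟩
  refine le_trans ?_ (Nat.card_mono (Set.toFinite _) (pts_span_le_fix _ v (τ * σ) fun i ↦ ?_))
  · rw [card_pts, finrank_span_eq_card hv, Fintype.card_fin]
  · obtain ⟨e, he, hge⟩ : ∃ e : F, e ≠ 0 ∧ g.1 *ᵥ w i = e • v i := by
      by_cases h : i = 0
      · subst h; exact ⟨c, hc, hg0⟩
      · exact ⟨1, one_ne_zero, by rw [hgi i h, one_smul]⟩
    have hvA : A.1 *ᵥ v i = τ • v i :=
      mem_eig.1 (((Module.finBasis F (eig A τ)) (Fin.castLE hA i)).2)
    have hwB : B.1 *ᵥ w i = σ • w i :=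
      mem_eig.1 (((Module.finBasis F (eig B σ)) (Fin.castLE hB i)).2)
    have h1 := prod_mulVec A g B (w i)
    rw [hge, hwB, mulVec_smul, mulVec_smul, hge, mulVec_smul, mulVec_smul, hvA, smul_smul,
      smul_smul] at h1
    have h2 := congrArg (fun z ↦ e⁻¹ • z) h1
    simp only [smul_smul] at h2
    rw [inv_mul_cancel₀ he, one_smul] at h2
    rw [h2]
    congr 1
    field_simp

theorem arith_false {q t N x y kb : ℕ} (hq : 2 ≤ q) (ht : 0 < t) (hN : 2 ≤ N) (hx : x ≤ t)
    (hy1 : y + 1 ≤ (q - 1) * pc q kb) (hkb : kb ≠ 0) (hNk : pc q kb ≤ N)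
    (e : (N - 1) * (q * t) = x * y) : False := by
  have hlt : y < q * (N - 1) := by
    obtain ⟨n, rfl⟩ : ∃ n, N = n + 2 := ⟨N - 2, by omega⟩
    obtain ⟨s, rfl⟩ : ∃ s, q = s + 2 := ⟨q - 2, by omega⟩
    simp only [show s + 2 - 1 = s + 1 by omega, show n + 2 - 1 = n + 1 by omega] at hy1 ⊢
    rcases (show kb = 1 ∨ 2 ≤ kb by omega) with rfl | h2
    · simp [pc] at hy1
      nlinarith
    · have hp : s + 3 ≤ pc (s + 2) kb := by
        refine le_trans ?_ (pc_mono _ h2)
        simp [pc, Finset.sum_range_succ]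
        omega
      nlinarith [Nat.mul_le_mul_left (s + 1) hNk]
  have h1 : x * y ≤ t * y := Nat.mul_le_mul_right _ hx
  have h2 : t * y < t * (q * (N - 1)) := Nat.mul_lt_mul_of_pos_left hlt ht
  have h3 : t * (q * (N - 1)) = (N - 1) * (q * t) := by ring
  omega

theorem exists_conj_product_not_isConj [Finite F] (hd : 3 ≤ d) (a b : PSLd) (ha : a ≠ 1)
    (hb : b ≠ 1) : ∃ g h : PSLd, ¬ IsConj (a * b) (g * a * g⁻¹ * (h * b * h⁻¹)) := by
  classical
  by_contra hall
  push Not at hall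
  obtain ⟨A, rfl⟩ := QuotientGroup.mk_surjective a
  obtain ⟨B, rfl⟩ := QuotientGroup.mk_surjective b
  set a : PSLd := (A : PSLd)
  set b : PSLd := (B : PSLd)
  have hA : NonScalar A := nonScalar_of_ne_one ha
  have hA' : NonScalar A⁻¹ := nonScalar_of_ne_one (by
    show (a⁻¹ : PSLd) ≠ 1
    simpa using ha)
  have hB : NonScalar B := nonScalar_of_ne_one hb
  have hB' : NonScalar B⁻¹ := nonScalar_of_ne_one (by
    show (b⁻¹ : PSLd) ≠ 1
    simpa using hb)
  have hab : ∀ g, IsConj (a * b) (a * (g * b * g⁻¹)) := fun g ↦ by simpa using hall 1 g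
  set N := Nat.card (fixedBy Pt (a * b)) with hNdef
  have hN : ∀ g, Nat.card (fixedBy Pt (a * (g * b * g⁻¹))) = N := fun g ↦ by
    obtain ⟨c, hc⟩ := isConj_iff.1 (hab g)
    rw [← hc, card_fix_conj]
  haveI : Fintype F := Fintype.ofFinite F
  set q := Nat.card F
  have hq : 2 ≤ q := Finite.one_lt_card
  have hcard : Nat.card Pt = q * pc q (d - 1) + 1 := by
    rw [Projectivization.card_of_finrank F _ (Module.finrank_fin_fun F), ← pc, ← pc_succ]
    congr 1
    omega
  set t := pc q (d - 1) with ht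
  have ht0 : 0 < t := by
    rw [ht, show d - 1 = d - 2 + 1 by omega, pc_succ]
    omega
  haveI : Nonempty Pt := (Nat.card_pos_iff.1 (by rw [hcard]; omega)).1
  haveI : IsMultiplyPretransitive PSLd Pt 2 := by
    rw [is_two_pretransitive_iff]
    intro x y z w hxy hzw
    obtain ⟨g, h1, h2⟩ := (is_two_pretransitive_iff (G := SpecialLinearGroup (Fin d) F)
      (α := Pt)).1 inferInstance hxy hzw
    exact ⟨(g : PSLd), h1, h2⟩
  have key := average_fixedBy (by rw [hcard]; nlinarith) a b N hN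
  set fa := Nat.card (fixedBy Pt a)
  set fb := Nat.card (fixedBy Pt b)
  rw [hcard] at key
  push_cast at key
  rw [add_sub_cancel_right] at key
  have hfa : fa ≤ t + 1 := fix_le_hyperplane (by omega) A hA
  have hfb : fb ≤ t + 1 := fix_le_hyperplane (by omega) B hB
  have hqt : 2 * t ≤ q * t := Nat.mul_le_mul_right t hq
  have hsym : ∀ g₁ g₂ : PSLd, IsConj (b * (g₁ * a * g₁⁻¹)) (b * (g₂ * a * g₂⁻¹)) := by
    have e : ∀ g : PSLd, IsConj (b * (g * a * g⁻¹)) (a * b) := fun g ↦ by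
      have h1 : IsConj (b * (g * a * g⁻¹)) (a * (g⁻¹ * b * g⁻¹⁻¹)) :=
        isConj_iff.2 ⟨g⁻¹ * b⁻¹ , by group⟩
      exact h1.trans (hab g⁻¹).symm
    exact fun g₁ g₂ ↦ (e g₁).trans (e g₂).symm
  have hsymN : ∀ g : PSLd, Nat.card (fixedBy Pt (b * (g * a * g⁻¹))) = N := fun g ↦ by
    rw [show b * (g * a * g⁻¹) = (b * g) * (a * (g⁻¹ * b * g⁻¹⁻¹)) * (b * g)⁻¹ by group,
      card_fix_conj, hN]
  have hN0 : N ≠ 0 := by
    intro h0
    rw [h0, Nat.cast_zero, zero_sub, neg_one_mul] at key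
    rcases Nat.eq_zero_or_pos fa with e | e
    · rw [e, Nat.cast_zero, zero_sub, neg_one_mul, neg_inj] at key
      have : q * t + 1 = fb := by exact_mod_cast (by linear_combination key :
        ((q : ℤ) * t + 1) = fb)
      omega
    rcases Nat.eq_zero_or_pos fb with e' | e'
    · rw [e', Nat.cast_zero, zero_sub, mul_neg_one, neg_inj] at key
      have : q * t + 1 = fa := by exact_mod_cast (by linear_combination key :
        ((q : ℤ) * t + 1) = fa)
      omega
    have : (0 : ℤ) ≤ ((fa : ℤ) - 1) * ((fb : ℤ) - 1) :=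
      mul_nonneg (by omega) (by omega)
    have : (0 : ℤ) < (q : ℤ) * t := by positivity
    linarith
  rcases (show N = 1 ∨ 2 ≤ N by omega) with h1 | h2
  · rw [h1, Nat.cast_one, sub_self, zero_mul] at key
    rcases mul_eq_zero.1 key.symm with e | e
    · exact false_of_one hd A B hA' hA hB (fun g₁ g₂ ↦ (hab g₁).symm.trans (hab g₂))
        (fun g ↦ (hN g).trans h1) (show fa = 1 by omega)
    · exact false_of_one hd B A hB' hB hA hsym (fun g ↦ (hsymN g).trans h1) (show fb = 1 by omega)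
  · have hboth : 2 ≤ fa ∧ 2 ≤ fb := by
      have hpos : (0 : ℤ) < ((fa : ℤ) - 1) * ((fb : ℤ) - 1) := by
        rw [← key]
        exact mul_pos (by omega) (by positivity)
      rcases mul_pos_iff.1 hpos with ⟨h3, h4⟩ | ⟨h3, h4⟩
      · omega
      · have hfa0 : fa = 0 := by omega
        have hfb0 : fb = 0 := by omega
        rw [hfa0, hfb0] at key
        have : (1 : ℤ) * (2 : ℤ) ≤ ((N : ℤ) - 1) * ((q : ℤ) * t) :=
          mul_le_mul (by omega) (by exact_mod_cast (show 2 ≤ q * t by omega)) (by norm_num) (by omega)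
        simp at key
        omega
    set kA := Finset.univ.sup fun μ : F ↦ Module.finrank F (eig A μ) with hkA
    set kB := Finset.univ.sup fun μ : F ↦ Module.finrank F (eig B μ) with hkB
    have hfA : fa ≤ (q - 1) * pc q kA :=
      fix_le_mul A fun μ ↦ Finset.le_sup (f := fun μ : F ↦ Module.finrank F (eig A μ)) (Finset.mem_univ μ)
    have hfB : fb ≤ (q - 1) * pc q kB :=
      fix_le_mul B fun μ ↦ Finset.le_sup (f := fun μ : F ↦ Module.finrank F (eig B μ)) (Finset.mem_univ μ)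
    obtain ⟨τ, -, hτ⟩ := Finset.exists_mem_eq_sup (Finset.univ : Finset F) Finset.univ_nonempty
      fun μ : F ↦ Module.finrank F (eig A μ)
    obtain ⟨σ, -, hσ⟩ := Finset.exists_mem_eq_sup (Finset.univ : Finset F) Finset.univ_nonempty
      fun μ : F ↦ Module.finrank F (eig B μ)
    have hkA0 : kA ≠ 0 := fun e ↦ by rw [e] at hfA; simp [pc] at hfA; omega
    have hkB0 : kB ≠ 0 := fun e ↦ by rw [e] at hfB; simp [pc] at hfB; omega
    have hlow : pc q (min kA kB) ≤ N := by
      obtain ⟨g, hg⟩ := exists_fix_subspace A B (τ := τ) (σ := σ) (k := min kA kB - 1)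
        (by rw [← hτ, ← hkA]; omega) (by rw [← hσ, ← hkB]; omega)
      rw [show min kA kB - 1 + 1 = min kA kB by omega] at hg
      exact hg.trans_eq (hN g)
    have e : (N - 1) * (q * t) = (fa - 1) * (fb - 1) := by
      zify [show 1 ≤ N by omega, show 1 ≤ fa by omega, show 1 ≤ fb by omega]
      exact key
    rcases le_total kB kA with hle | hle
    · rw [min_eq_right hle] at hlow
      exact arith_false hq ht0 h2 (x := fa - 1) (y := fb - 1) (by omega) (by omega) hkB0 hlow e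
    · rw [min_eq_left hle] at hlow
      exact arith_false hq ht0 h2 (x := fb - 1) (y := fa - 1) (by omega) (by omega) hkA0 hlow
        (by rw [e, mul_comm])

end Main

end CfsgLib.Linear.ClassProd
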