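/-
Upper bound `q^(m+1)/(q-1)` for the orders, modulo `±1`, of matrices of size at most `2m+1` with
reciprocal characteristic polynomial over a finite field with `q` elements.
-/
import Cfsg.Agent.Lib.Spectrum.Twisted

set_option autoImplicit false

open Polynomial UniqueFactorizationMonoid

namespace CfsgLib.Linear.OrderBound

/-! ### Arithmetic -/

theorem prod_range_geom (r M : ℕ) :
    r * ∏ v ∈ Finset.range M, ((r + 1) ^ 2 ^ v + 1) + 1 = (r + 1) ^ 2 ^ M := by
  induction M with
  | zero => simp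
  | succ M ih =>
    rw [Finset.prod_range_succ, pow_succ, pow_mul, ← ih]
    ring

theorem prod_range_pow (q M : ℕ) :
    (∏ v ∈ Finset.range M, q ^ 2 ^ v) * q = q ^ 2 ^ M := by
  induction M with
  | zero => simp
  | succ M ih =>
    rw [Finset.prod_range_succ, pow_succ 2 M, pow_mul, ← ih]
    ring

theorem prod_two_pow_le {q : ℕ} (hq : 1 ≤ q) (V : Finset ℕ) :
    (q - 1) * ∏ v ∈ V, (q ^ 2 ^ v + 1) ≤ q * ∏ v ∈ V, q ^ 2 ^ v := by
  obtain ⟨r, rfl⟩ : ∃ r, q = r + 1 := ⟨q - 1, by omega⟩
  rw [Nat.add_sub_cancel]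
  set M := V.sup id + 1
  have hV : V ⊆ Finset.range M := fun v hv =>
    Finset.mem_range.2 (Nat.lt_succ_of_le (Finset.le_sup (f := id) hv))
  have h1 := prod_range_geom r M
  have h2 := prod_range_pow (r + 1) M
  rw [← Finset.prod_sdiff hV] at h1 h2
  set A := ∏ v ∈ Finset.range M \ V, ((r + 1) ^ 2 ^ v + 1)
  set B := ∏ v ∈ V, ((r + 1) ^ 2 ^ v + 1)
  set C' := ∏ v ∈ Finset.range M \ V, (r + 1) ^ 2 ^ v
  set D := ∏ v ∈ V, (r + 1) ^ 2 ^ v
  have hCA : C' ≤ A := Finset.prod_le_prod' fun v _ => Nat.le_succ _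
  have hC : 0 < C' := Finset.prod_pos fun v _ => pow_pos (Nat.succ_pos r) _
  refine Nat.le_of_mul_le_mul_left ?_ hC
  calc C' * (r * B) ≤ A * (r * B) := Nat.mul_le_mul_right _ hCA
    _ = r * (A * B) := by ring
    _ ≤ r * (A * B) + 1 := Nat.le_succ _
    _ = C' * ((r + 1) * D) := by rw [h1, ← h2]; ring

theorem two_pow_factorization_dvd_add_one (q : ℕ) {k : ℕ} (hk : 1 ≤ k) :
    q ^ 2 ^ k.factorization 2 + 1 ∣ q ^ k + 1 := by
  have hodd : Odd (k / 2 ^ k.factorization 2) := by
    rw [Nat.odd_iff]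
    have := Nat.not_dvd_ordCompl Nat.prime_two (show k ≠ 0 by omega)
    omega
  have := hodd.nat_add_dvd_pow_add_pow (q ^ 2 ^ k.factorization 2) 1
  rwa [one_pow, ← pow_mul, Nat.ordProj_mul_ordCompl_eq_self] at this

theorem lcm_plus_le {q : ℕ} (hq : 2 ≤ q) (A : Finset ℕ) (hA : ∀ k ∈ A, 1 ≤ k) :
    A.lcm (fun k => q ^ k + 1) * ∏ v ∈ A.image (fun k => k.factorization 2), q ^ 2 ^ v ≤
      q ^ (∑ k ∈ A, k) * ∏ v ∈ A.image (fun k => k.factorization 2), (q ^ 2 ^ v + 1) := by
  induction A using Finset.induction_on with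
  | empty => simp
  | @insert k A hk ih =>
    have hk1 : 1 ≤ k := hA k (Finset.mem_insert_self k A)
    specialize ih fun j hj => hA j (Finset.mem_insert_of_mem hj)
    rw [Finset.lcm_insert, Finset.sum_insert hk, Finset.image_insert, pow_add]
    change Nat.lcm (q ^ k + 1) _ * _ ≤ _
    set L := A.lcm (fun k => q ^ k + 1) with hL
    set V := A.image (fun k => k.factorization 2) with hV
    set t := 2 ^ k.factorization 2 with ht
    have htk : t ≤ k := Nat.le_of_dvd hk1 (Nat.ordProj_dvd k 2)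
    have hd : q ^ t + 1 ∣ q ^ k + 1 := two_pow_factorization_dvd_add_one q hk1
    have hqt : 2 ≤ q ^ t + 1 := by
      have := Nat.one_le_pow t q (by omega)
      omega
    by_cases hv : k.factorization 2 ∈ V
    · rw [Finset.insert_eq_of_mem hv]
      obtain ⟨j, hj, hjk⟩ := Finset.mem_image.1 hv
      have hdL : q ^ t + 1 ∣ L := by
        refine dvd_trans ?_ (Finset.dvd_lcm hj)
        rw [ht, ← hjk]
        exact two_pow_factorization_dvd_add_one q (by
          have hjA : j ∈ insert k A := Finset.mem_insert_of_mem hj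
          exact hA j hjA)
      have hle : Nat.lcm (q ^ k + 1) L ≤ q ^ k * L := by
        refine Nat.le_of_mul_le_mul_left ?_ (show 0 < q ^ t + 1 by omega)
        have hg : q ^ t + 1 ≤ Nat.gcd (q ^ k + 1) L :=
          Nat.le_of_dvd (Nat.gcd_pos_of_pos_left _ (Nat.succ_pos _)) (Nat.dvd_gcd hd hdL)
        calc (q ^ t + 1) * Nat.lcm (q ^ k + 1) L
            ≤ Nat.gcd (q ^ k + 1) L * Nat.lcm (q ^ k + 1) L := Nat.mul_le_mul_right _ hg
          _ = (q ^ k + 1) * L := Nat.gcd_mul_lcm _ _
          _ ≤ (q ^ t + 1) * q ^ k * L := by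
            refine Nat.mul_le_mul_right _ ?_
            have := Nat.mul_le_mul_left (q ^ k) (Nat.one_le_pow t q (by omega))
            rw [add_mul, one_mul]
            have hk0 := Nat.one_le_pow k q (by omega)
            nlinarith
          _ = _ := by ring
      calc Nat.lcm (q ^ k + 1) L * _ ≤ q ^ k * L * _ := Nat.mul_le_mul_right _ hle
        _ ≤ _ := by rw [mul_assoc, mul_assoc]; exact Nat.mul_le_mul_left _ ih
    · rw [Finset.prod_insert hv, Finset.prod_insert hv, ← ht]
      have hle : Nat.lcm (q ^ k + 1) L ≤ (q ^ k + 1) * L := by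
        rcases Nat.eq_zero_or_pos L with h0 | h0
        · simp [h0]
        · exact Nat.le_of_dvd (Nat.mul_pos (Nat.succ_pos _) h0) (Nat.lcm_dvd_mul _ _)
      have hkey : (q ^ k + 1) * q ^ t ≤ q ^ k * (q ^ t + 1) := by
        have := Nat.pow_le_pow_right (show 0 < q by omega) htk
        rw [add_mul, mul_add]
        omega
      calc Nat.lcm (q ^ k + 1) L * (q ^ t * ∏ v ∈ V, q ^ 2 ^ v)
          ≤ (q ^ k + 1) * L * (q ^ t * ∏ v ∈ V, q ^ 2 ^ v) := Nat.mul_le_mul_right _ hle
        _ = ((q ^ k + 1) * q ^ t) * (L * ∏ v ∈ V, q ^ 2 ^ v) := by ring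
        _ ≤ (q ^ k * (q ^ t + 1)) * (q ^ (∑ k ∈ A, k) * ∏ v ∈ V, (q ^ 2 ^ v + 1)) :=
          Nat.mul_le_mul hkey ih
        _ = _ := by ring

/-- The least common multiple of numbers `q^k+1` and `q^d-1` is at most `q^(Σk+Σd+1)/(q-1)`. -/
theorem lcm_le {q : ℕ} (hq : 2 ≤ q) (A B : Finset ℕ) (hA : ∀ k ∈ A, 1 ≤ k)
    (hB : ∀ d ∈ B, 1 ≤ d) :
    (q - 1) * Nat.lcm (A.lcm fun k => q ^ k + 1) (B.lcm fun d => q ^ d - 1) ≤
      q ^ (∑ k ∈ A, k + ∑ d ∈ B, d + 1) := by
  have h1 := lcm_plus_le hq A hA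
  set V := A.image (fun k => k.factorization 2)
  have h2 := prod_two_pow_le (show 1 ≤ q by omega) V
  have hV : 0 < ∏ v ∈ V, q ^ 2 ^ v := Finset.prod_pos fun v _ => pow_pos (by omega) _
  have hLA : (q - 1) * A.lcm (fun k => q ^ k + 1) ≤ q ^ (∑ k ∈ A, k) * q := by
    refine Nat.le_of_mul_le_mul_right ?_ hV
    calc (q - 1) * A.lcm (fun k => q ^ k + 1) * ∏ v ∈ V, q ^ 2 ^ v
        ≤ (q - 1) * (q ^ (∑ k ∈ A, k) * ∏ v ∈ V, (q ^ 2 ^ v + 1)) := by
          rw [mul_assoc]; exact Nat.mul_le_mul_left _ h1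
      _ = q ^ (∑ k ∈ A, k) * ((q - 1) * ∏ v ∈ V, (q ^ 2 ^ v + 1)) := by ring
      _ ≤ q ^ (∑ k ∈ A, k) * (q * ∏ v ∈ V, q ^ 2 ^ v) := Nat.mul_le_mul_left _ h2
      _ = _ := by ring
  have hBp : 0 < ∏ d ∈ B, (q ^ d - 1) := Finset.prod_pos fun d hd => by
    have := Nat.pow_le_pow_right (show 0 < q by omega) (hB d hd)
    rw [pow_one] at this
    omega
  have hLB : B.lcm (fun d => q ^ d - 1) ≤ q ^ (∑ d ∈ B, d) := by
    refine le_trans (Nat.le_of_dvd hBp (Finset.lcm_dvd fun d hd => Finset.dvd_prod_of_mem _ hd)) ?_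
    rw [← Finset.prod_pow_eq_pow_sum]
    exact Finset.prod_le_prod' fun d _ => Nat.sub_le _ _
  rcases Nat.eq_zero_or_pos (A.lcm fun k => q ^ k + 1) with h0 | h0
  · simp [h0]
  rcases Nat.eq_zero_or_pos (B.lcm fun d => q ^ d - 1) with h0' | h0'
  · simp [h0']
  calc (q - 1) * Nat.lcm _ _ ≤ (q - 1) * (A.lcm (fun k => q ^ k + 1) * B.lcm (fun d => q ^ d - 1)) :=
        Nat.mul_le_mul_left _ (Nat.le_of_dvd (Nat.mul_pos h0 h0') (Nat.lcm_dvd_mul _ _))
    _ ≤ q ^ (∑ k ∈ A, k) * q * q ^ (∑ d ∈ B, d) := by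
        rw [← mul_assoc]; exact Nat.mul_le_mul hLA hLB
    _ = _ := by rw [pow_add, pow_add, pow_one]; ring

theorem clog_le_half {p e : ℕ} (hp : 3 ≤ p) : 2 * Nat.clog p e ≤ e := by
  have key : ∀ j, 2 * j + 1 ≤ 3 ^ j := by
    intro j
    induction j with
    | zero => simp
    | succ j ih => rw [pow_succ]; omega
  have : Nat.clog p e ≤ e / 2 := Nat.clog_le_of_le_pow (by
    refine le_trans (le_trans ?_ (key (e / 2))) (Nat.pow_le_pow_left hp _)
    omega)
  omega

theorem clog_two_le_half (e : ℕ) : 2 * Nat.clog 2 e ≤ e + 1 := by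
  have key : ∀ j, 2 * j ≤ 2 ^ j := by
    intro j
    induction j with
    | zero => simp
    | succ j ih =>
      rw [pow_succ]
      have := Nat.one_le_two_pow (n := j)
      omega
  have : Nat.clog 2 e ≤ (e + 1) / 2 := Nat.clog_le_of_le_pow (by
    have := key ((e + 1) / 2)
    omega)
  omega

theorem clog_le_pred {p : ℕ} (hp : 2 ≤ p) (e : ℕ) : Nat.clog p e ≤ e - 1 :=
  Nat.clog_le_of_le_pow (by
    have := Nat.lt_pow_self (n := e - 1) (show 1 < p by omega)
    omega)

/-! ### Reciprocal polynomials -/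

variable {F : Type*} [Field F]

theorem reverse_pow' (f : F[X]) (k : ℕ) : (f ^ k).reverse = f.reverse ^ k := by
  induction k with
  | zero => simpa using Polynomial.reverse_C (1 : F)
  | succ k ih => rw [pow_succ, reverse_mul_of_domain, ih, pow_succ]

theorem eq_X_sub_one_or_of_sq {f : F[X]} (hf : Irreducible f) (hm : f.Monic)
    (h : f ∣ X ^ 2 - 1) : f = X - 1 ∨ f = X + 1 := by
  rw [show (X : F[X]) ^ 2 - 1 = (X - 1) * (X + 1) by ring] at h
  rcases hf.prime.dvd_or_dvd h with h | h
  · left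
    have hi : Irreducible (X - 1 : F[X]) := by simpa using irreducible_X_sub_C (1 : F)
    exact eq_of_monic_of_associated hm (by simpa using monic_X_sub_C (1 : F))
      (hf.associated_of_dvd hi h)
  · right
    have hi : Irreducible (X + 1 : F[X]) := by simpa using irreducible_X_sub_C (-1 : F)
    exact eq_of_monic_of_associated hm (by simpa using monic_X_add_C (1 : F))
      (hf.associated_of_dvd hi h)

theorem dvd_of_root {f : F[X]} {T : ℕ} (h : AdjoinRoot.root f ^ T = 1) : f ∣ X ^ T - 1 := by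
  rw [← AdjoinRoot.mk_eq_zero, map_sub, map_pow, map_one, AdjoinRoot.mk_X, h, sub_self]

theorem pow_one_sub_dvd {a b : ℕ} (h : a ∣ b) : (X : F[X]) ^ a - 1 ∣ X ^ b - 1 := by
  obtain ⟨c, rfl⟩ := h
  rw [pow_mul]
  exact sub_one_dvd_pow_sub_one _ c

variable [Fintype F] (p : ℕ) [Fact p.Prime] [CharP F p]

include p in
theorem factor_spec {f : F[X]} (hf : Irreducible f) (hm : f.Monic) (h0 : f.coeff 0 ≠ 0)
    (h1 : f ≠ X - 1) (h2 : f ≠ X + 1) :
    (Associated f.reverse f ∧ ∃ k, 1 ≤ k ∧ f.natDegree = 2 * k ∧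
        f ∣ X ^ (Fintype.card F ^ k + 1) - 1) ∨
      (¬ Associated f.reverse f ∧ f ∣ X ^ (Fintype.card F ^ f.natDegree - 1) - 1 ∧
        ∃ g : F[X], g.Monic ∧ Irreducible g ∧ g ≠ f ∧ g ≠ X - 1 ∧ g ≠ X + 1 ∧
          g.natDegree = f.natDegree ∧ Associated f.reverse g ∧ Associated g.reverse f) := by
  haveI := Fact.mk hf
  haveI : Module.Finite F (AdjoinRoot f) := (AdjoinRoot.powerBasis hf.ne_zero).finite
  haveI : Finite (AdjoinRoot f) := Module.finite_of_finite F
  haveI := Fintype.ofFinite (AdjoinRoot f)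
  set q := Fintype.card F
  set α := AdjoinRoot.root f with hα
  have hq : 2 ≤ q := Fintype.one_lt_card
  have hd : 1 ≤ f.natDegree := hf.natDegree_pos
  have hcard : Fintype.card (AdjoinRoot f) = q ^ f.natDegree := by
    rw [Module.card_eq_pow_finrank (K := F), (AdjoinRoot.powerBasis hf.ne_zero).finrank,
      AdjoinRoot.powerBasis_dim]
  have hroot : aeval α f = 0 := AdjoinRoot.aeval_eq f ▸ AdjoinRoot.mk_self
  have hα0 : α ≠ 0 := by
    intro h
    rw [h, ← coeff_zero_eq_aeval_zero'] at hroot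
    exact h0 ((map_eq_zero _).1 hroot)
  have hw : α ^ (q ^ f.natDegree - 1) = 1 := by
    rw [← hcard]; exact FiniteField.pow_card_sub_one_eq_one α hα0
  have hfw := dvd_of_root hw
  have hw1 : 1 ≤ q ^ f.natDegree - 1 := by
    have := Nat.pow_le_pow_right (show 0 < q by omega) hd
    rw [pow_one] at this
    omega
  obtain ⟨hgm, hgi, hgd, hgroot, -, -, hass, hass', -⟩ :=
    CfsgLib.Spectrum.conjFactor_spec p 0 (fun x => by simp) f hm hw1 hw
  set g := CfsgLib.Spectrum.conjFactor p 0 f
  have hid : ∀ P : F[X], P.map (iterateFrobenius F p 0) = P := fun P => by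
    simp [iterateFrobenius_zero]
  rw [hid] at hass hass'
  rw [pow_zero, pow_one] at hgroot
  by_cases hs : Associated f.reverse f
  · left
    refine ⟨hs, ?_⟩
    have hgf : g = f := eq_of_monic_of_associated hgm hm (hass.symm.trans hs)
    rw [hgf] at hgroot
    obtain ⟨j, hjd, hj⟩ := CfsgLib.Spectrum.root_eq_pow_card hgroot
    have hj1 : α ^ (q ^ j + 1) = 1 := by
      rw [pow_succ, ← hj, inv_mul_cancel₀ hα0]
    have hj2 : α ^ (q ^ (2 * j)) = α := by
      rw [two_mul, pow_add, pow_mul, ← hj, inv_pow, ← hj, inv_inv]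
    obtain ⟨c, hc⟩ := CfsgLib.Spectrum.dvd_of_root_pow_card_eq hj2
    rcases Nat.eq_zero_or_pos j with rfl | hjp
    · exfalso
      rw [pow_zero] at hj1
      rcases eq_X_sub_one_or_of_sq hf hm (dvd_of_root hj1) with h | h
      exacts [h1 h, h2 h]
    refine ⟨j, hjp, ?_, dvd_of_root hj1⟩
    rcases c with _ | _ | c
    · omega
    · omega
    · exfalso; nlinarith
  · refine Or.inr ⟨hs, hfw, g, hgm, hgi, fun h => hs (h ▸ hass), ?_, ?_, hgd, hass, hass'⟩
    all_goals intro h
    · apply h1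
      have hr : (1 : AdjoinRoot f) = α⁻¹ := by
        rw [h] at hgroot
        have h' : α⁻¹ - 1 = 0 := by simpa using hgroot
        exact (sub_eq_zero.1 h').symm
      have : f ∣ X - 1 := by
        rw [← AdjoinRoot.mk_eq_zero, map_sub, AdjoinRoot.mk_X, map_one, sub_eq_zero]
        exact inv_injective (by rw [inv_one]; exact hr.symm)
      exact eq_of_monic_of_associated hm (by simpa using monic_X_sub_C (1 : F))
        (hf.associated_of_dvd (by simpa using irreducible_X_sub_C (1 : F)) this)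
    · apply h2
      have hr : α⁻¹ = -1 := by
        rw [h] at hgroot; simpa [add_eq_zero_iff_eq_neg] using hgroot
      have : f ∣ X + 1 := by
        rw [← AdjoinRoot.mk_eq_zero, map_add, AdjoinRoot.mk_X, map_one, add_eq_zero_iff_eq_neg]
        exact inv_injective (by rw [inv_neg, inv_one]; exact hr)
      exact eq_of_monic_of_associated hm (by simpa using monic_X_add_C (1 : F))
        (hf.associated_of_dvd (by simpa using irreducible_X_sub_C (-1 : F)) this)

include p in
/-- A monic reciprocal polynomial of degree at most `2m+1` divides some `X^n ± 1` with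
`(q-1) n ≤ q^(m+1)`. -/
theorem exists_exponent {P : F[X]} {m : ℕ} (hP : P.Monic) (h0 : P.coeff 0 ≠ 0)
    (hrev : Associated P.reverse P) (hm : 1 ≤ m) (hN : P.natDegree ≤ 2 * m + 1)
    (hN2 : p = 2 → P.natDegree ≤ 2 * m) (hN3 : p ≠ 2 → P.natDegree ≤ p ^ (m - 1) + 1) :
    ∃ n, 0 < n ∧ (Fintype.card F - 1) * n ≤ Fintype.card F ^ (m + 1) ∧
      (P ∣ X ^ n - 1 ∨ P ∣ X ^ n + 1) := by
  classical
  set q := Fintype.card F with hqdef
  have hq : 2 ≤ q := Fintype.one_lt_card
  have hp : p.Prime := Fact.out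
  have hpq : p ≤ q := by
    obtain ⟨n, -, hn⟩ := FiniteField.card F p
    rw [hqdef, hn]
    exact Nat.le_self_pow n.pos.ne' p
  have hP0 : P ≠ 0 := hP.ne_zero
  set s := normalizedFactors P with hs
  set S := s.toFinset with hSdef
  set e : F[X] → ℕ := fun f => s.count f with he
  have hmem : ∀ f, f ∈ S → f.Monic ∧ Irreducible f ∧ f ∣ P ∧ f.coeff 0 ≠ 0 := by
    intro f hf
    rw [hSdef, Multiset.mem_toFinset] at hf
    have hi := irreducible_of_normalized_factor f hf
    have hn := normalize_normalized_factor f hf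
    have hd := dvd_of_mem_normalizedFactors hf
    refine ⟨hn ▸ monic_normalize hi.ne_zero, hi, hd, fun h => ?_⟩
    obtain ⟨c, hc⟩ := hd
    apply h0
    rw [hc, mul_coeff_zero, h, zero_mul]
  have hpow : ∀ (f : F[X]) (k : ℕ), f.Monic → Irreducible f → (f ^ k ∣ P ↔ k ≤ e f) := by
    intro f k hfm hfi
    rw [dvd_iff_normalizedFactors_le_normalizedFactors (pow_ne_zero _ hfi.ne_zero) hP0,
      normalizedFactors_pow, normalizedFactors_irreducible hfi, hfm.normalize_eq_self,
      Multiset.nsmul_singleton, ← Multiset.le_count_iff_replicate_le]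
  have he1 : ∀ f ∈ S, 1 ≤ e f := fun f hf => Multiset.one_le_count_iff_mem.2 (Multiset.mem_toFinset.1 hf)
  have hPprod : ∏ f ∈ S, f ^ e f = P := by
    rw [← Finset.prod_multiset_count]
    have hmon : (s.map id).prod.Monic := monic_multiset_prod_of_monic s id fun f hf =>
      (hmem f (Multiset.mem_toFinset.2 hf)).1
    rw [Multiset.map_id] at hmon
    exact eq_of_monic_of_associated hmon hP (prod_normalizedFactors hP0)
  have hdeg : ∑ f ∈ S, e f * f.natDegree = P.natDegree := by
    conv_rhs => rw [← hPprod]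
    rw [natDegree_prod_of_monic _ _ fun f hf => (hmem f hf).1.pow _]
    exact Finset.sum_congr rfl fun f _ => by rw [natDegree_pow]
  have hdvd : ∀ (G : F[X]) (M : ℕ), (∀ f ∈ S, f ∣ G ∧ e f ≤ M) → P ∣ G ^ M := by
    intro G M h
    rw [← hPprod]
    refine Finset.prod_dvd_of_coprime (fun f hf g hg hfg => ?_) fun f hf =>
      (pow_dvd_pow_of_dvd (h f hf).1 _).trans (pow_dvd_pow G (h f hf).2)
    refine IsCoprime.pow ((hmem f hf).2.1.coprime_iff_not_dvd.2 fun hd => hfg ?_)
    exact eq_of_monic_of_associated (hmem f hf).1 (hmem g hg).1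
      ((hmem f hf).2.1.associated_of_dvd (hmem g hg).2.1 hd)
  -- reciprocal factors have equal multiplicity
  have hconj : ∀ f ∈ S, ∀ g : F[X], g.Monic → Irreducible g → Associated f.reverse g →
      e f ≤ e g ∧ g ∈ S := by
    intro f hf g hgm hgi hass
    obtain ⟨c, hc⟩ := (hpow f (e f) (hmem f hf).1 (hmem f hf).2.1).2 le_rfl
    have h : g ^ e f ∣ P := by
      refine (hass.pow_pow.symm.dvd).trans (hrev.dvd_iff_dvd_right.1 ?_)
      rw [hc, reverse_mul_of_domain, reverse_pow']
      exact dvd_mul_right _ _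
    have h' := (hpow g _ hgm hgi).1 h
    refine ⟨h', Multiset.mem_toFinset.2 (Multiset.one_le_count_iff_mem.1 (le_trans (he1 f hf) h'))⟩
  set S' := S.filter (fun f => f ≠ X - 1 ∧ f ≠ X + 1) with hS'
  set S1 := S'.filter (fun f => Associated f.reverse f) with hS1
  set S2 := S'.filter (fun f => ¬ Associated f.reverse f) with hS2
  have hspec := fun f (hf : f ∈ S') =>
    factor_spec p (hmem f (Finset.mem_filter.1 hf).1).2.1 (hmem f (Finset.mem_filter.1 hf).1).1
      (hmem f (Finset.mem_filter.1 hf).1).2.2.2 (Finset.mem_filter.1 hf).2.1 (Finset.mem_filter.1 hf).2.2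
  rcases S'.eq_empty_or_nonempty with hemp | hne
  · -- only `X ± 1`
    have hS : ∀ f ∈ S, f = X - 1 ∨ f = X + 1 := by
      intro f hf
      by_contra hcon
      push Not at hcon
      have hmem' : f ∈ S' := Finset.mem_filter.2 ⟨hf, hcon⟩
      rw [hemp] at hmem'
      exact Finset.notMem_empty f hmem'
    set E := S.sup e
    have heE : ∀ f ∈ S, e f ≤ E := fun f hf => Finset.le_sup hf
    have hEN : E ≤ P.natDegree := Finset.sup_le fun f hf => by
      rw [← hdeg]
      calc e f ≤ e f * f.natDegree := Nat.le_mul_of_pos_right _ (hmem f hf).2.1.natDegree_pos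
        _ ≤ _ := Finset.single_le_sum (f := fun f => e f * f.natDegree) (fun _ _ => Nat.zero_le _) hf
    have hle : ∀ a, a ≤ m → (q - 1) * p ^ a ≤ q ^ (m + 1) := fun a ha => by
      calc (q - 1) * p ^ a ≤ q * q ^ m := Nat.mul_le_mul (Nat.sub_le _ _)
            ((Nat.pow_le_pow_left hpq a).trans (Nat.pow_le_pow_right (by omega) ha))
        _ = _ := by rw [pow_succ, mul_comm]
    have hme : E ≤ p ^ m := by
      by_cases h : p = 2
      · have h1 := hN2 h
        have h2 : ∀ j : ℕ, 2 * j ≤ 2 ^ j := fun j => by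
          induction j with
          | zero => simp
          | succ j ih => rw [pow_succ]; have := Nat.one_le_two_pow (n := j); omega
        have := h2 m
        rw [h]; omega
      · have h2 : ∀ j : ℕ, 2 * j + 1 ≤ 3 ^ j := fun j => by
          induction j with
          | zero => simp
          | succ j ih => rw [pow_succ]; omega
        have hp3 : 3 ≤ p := by have := hp.two_le; omega
        have := (h2 m).trans (Nat.pow_le_pow_left hp3 m)
        omega
    by_cases hminus : (X + 1 : F[X]) ∈ S ∧ (X - 1 : F[X]) ∈ S ∧ p ≠ 2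
    · obtain ⟨hp1, hm1, hp2⟩ := hminus
      have hne : (X - 1 : F[X]) ≠ X + 1 := by
        intro h
        have h' := congrArg (Polynomial.eval 0) h
        simp at h'
        have h2 : ((2 : ℕ) : F) = 0 := by
          push_cast; linear_combination -h'
        rw [CharP.cast_eq_zero_iff F p] at h2
        exact hp2 ((Nat.prime_dvd_prime_iff_eq hp Nat.prime_two).1 h2)
      have hE : E + 1 ≤ P.natDegree := by
        have hX : (X - 1 : F[X]).natDegree = 1 ∧ (X + 1 : F[X]).natDegree = 1 :=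
          ⟨by simpa using natDegree_X_sub_C (1 : F), by simpa using natDegree_X_add_C (1 : F)⟩
        have hsum : e (X - 1) + e (X + 1) ≤ P.natDegree := by
          rw [← hdeg]
          have hsub : ({X - 1, X + 1} : Finset F[X]) ⊆ S := by
            intro f hf
            rcases Finset.mem_insert.1 hf with rfl | hf
            · exact hm1
            · rw [Finset.mem_singleton.1 hf]; exact hp1
          refine le_trans ?_ (Finset.sum_le_sum_of_subset hsub)
          rw [Finset.sum_pair hne, hX.1, hX.2, mul_one, mul_one]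
        have hpos : 1 ≤ P.natDegree := by have := he1 _ hp1; omega
        have : E ≤ P.natDegree - 1 := Finset.sup_le fun f hf => by
          have := he1 _ hp1; have := he1 _ hm1
          rcases hS f hf with rfl | rfl <;> omega
        omega
      have ha : Nat.clog p E ≤ m - 1 := Nat.clog_le_of_le_pow (by have := hN3 hp2; omega)
      refine ⟨2 * p ^ Nat.clog p E, Nat.mul_pos two_pos (pow_pos hp.pos _), ?_, Or.inl ?_⟩
      · calc (q - 1) * (2 * p ^ Nat.clog p E) ≤ q * (q * q ^ (m - 1)) :=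
              Nat.mul_le_mul (Nat.sub_le _ _) (Nat.mul_le_mul hq
                ((Nat.pow_le_pow_left hpq _).trans (Nat.pow_le_pow_right (by omega) ha)))
          _ = _ := by rw [← mul_assoc, ← sq, ← pow_add]; congr 1; omega
      · have h := hdvd (X ^ 2 - 1) (p ^ Nat.clog p E) fun f hf => ⟨?_, (heE f hf).trans (Nat.le_pow_clog hp.one_lt E)⟩
        · rwa [sub_pow_char_pow, one_pow, ← pow_mul] at h
        · rcases hS f hf with rfl | rfl
          · exact ⟨X + 1, by ring⟩
          · exact ⟨X - 1, by ring⟩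
    · refine ⟨p ^ Nat.clog p E, pow_pos hp.pos _, hle _ (Nat.clog_le_of_le_pow hme), ?_⟩
      have hM : ∀ f ∈ S, e f ≤ p ^ Nat.clog p E := fun f hf => (heE f hf).trans (Nat.le_pow_clog hp.one_lt E)
      by_cases hplus : (X + 1 : F[X]) ∈ S ∧ p ≠ 2
      · right
        have h := hdvd (X + 1) (p ^ Nat.clog p E) fun f hf => ⟨?_, hM f hf⟩
        · rwa [add_pow_char_pow, one_pow] at h
        · rcases hS f hf with rfl | rfl
          · exact absurd ⟨hplus.1, hf, hplus.2⟩ hminus
          · exact dvd_rfl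
      · left
        have h := hdvd (X - 1) (p ^ Nat.clog p E) fun f hf => ⟨?_, hM f hf⟩
        · rwa [sub_pow_char_pow, one_pow] at h
        · rcases hS f hf with rfl | rfl
          · exact dvd_rfl
          · have hp2 : p = 2 := by
              by_contra h; exact hplus ⟨hf, h⟩
            subst hp2
            rw [CharTwo.sub_eq_add]
  · -- some factor has no root `±1`
    set A := S1.image (fun f => f.natDegree / 2) with hA
    set B := S2.image (fun f => f.natDegree) with hB
    have hS1spec : ∀ f ∈ S1, ∃ k, 1 ≤ k ∧ f.natDegree = 2 * k ∧ f ∣ X ^ (q ^ k + 1) - 1 := by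
      intro f hf
      obtain ⟨hf', hass⟩ := Finset.mem_filter.1 hf
      rcases hspec f hf' with ⟨-, h⟩ | ⟨h, -⟩
      · exact h
      · exact absurd hass h
    have hS2spec : ∀ f ∈ S2, f ∣ X ^ (q ^ f.natDegree - 1) - 1 ∧
        ∃ g ∈ S2, g ≠ f ∧ g.natDegree = f.natDegree ∧ e f ≤ e g := by
      intro f hf
      obtain ⟨hf', hass⟩ := Finset.mem_filter.1 hf
      rcases hspec f hf' with ⟨h, -⟩ | ⟨-, hd, g, hgm, hgi, hgf, hg1, hg2, hgd, ha, ha'⟩
      · exact absurd h hass
      · obtain ⟨hle, hgS⟩ := hconj f (Finset.mem_filter.1 hf').1 g hgm hgi ha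
        refine ⟨hd, g, Finset.mem_filter.2 ⟨Finset.mem_filter.2 ⟨hgS, hg1, hg2⟩, fun h => hgf ?_⟩,
          hgf, hgd, hle⟩
        exact eq_of_monic_of_associated hgm (hmem f (Finset.mem_filter.1 hf').1).1 (h.symm.trans ha')
    have hAK : 2 * ∑ k ∈ A, k ≤ ∑ f ∈ S1, f.natDegree := by
      rw [Finset.mul_sum]
      refine le_trans (Finset.sum_image_le_of_nonneg fun _ _ => Nat.zero_le _) (Finset.sum_le_sum ?_)
      intro f hf
      omega
    have hBK : 2 * ∑ d ∈ B, d ≤ ∑ f ∈ S2, f.natDegree := by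
      rw [Finset.mul_sum, ← Finset.sum_fiberwise_of_maps_to (s := S2) (t := B)
        (g := fun f => f.natDegree) (fun f hf => Finset.mem_image_of_mem _ hf) (fun f => f.natDegree)]
      refine Finset.sum_le_sum fun d hd => ?_
      obtain ⟨f, hf, rfl⟩ := Finset.mem_image.1 hd
      obtain ⟨-, g, hg, hgf, hgd, -⟩ := hS2spec f hf
      refine le_trans ?_ (Finset.sum_le_sum_of_subset (s := {f, g}) ?_)
      · rw [Finset.sum_pair hgf.symm, hgd, two_mul]
      · intro h hh
        rcases Finset.mem_insert.1 hh with rfl | hh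
        · exact Finset.mem_filter.2 ⟨hf, rfl⟩
        · rw [Finset.mem_singleton.1 hh]; exact Finset.mem_filter.2 ⟨hg, hgd⟩
    set K := ∑ k ∈ A, k + ∑ d ∈ B, d with hK
    have hS12 : ∑ f ∈ S1, f.natDegree + ∑ f ∈ S2, f.natDegree = ∑ f ∈ S', f.natDegree :=
      Finset.sum_filter_add_sum_filter_not _ _ _
    obtain ⟨f₀, hf₀, hmax⟩ := Finset.exists_max_image S e (hne.mono (Finset.filter_subset _ _))
    have hsplit : P.natDegree = ∑ f ∈ S, f.natDegree + ∑ f ∈ S, (e f - 1) * f.natDegree := by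
      rw [← hdeg, ← Finset.sum_add_distrib]
      refine Finset.sum_congr rfl fun f hf => ?_
      obtain ⟨j, hj⟩ : ∃ j, e f = j + 1 := ⟨e f - 1, by have := he1 f hf; omega⟩
      rw [hj, Nat.add_sub_cancel]; ring
    have hcount : 2 * K + 2 * (e f₀ - 1) ≤ P.natDegree ∨ 2 * K + e f₀ ≤ P.natDegree := by
      have hsub : ∑ f ∈ S', f.natDegree ≤ ∑ f ∈ S, f.natDegree :=
        Finset.sum_le_sum_of_subset (Finset.filter_subset _ _)
      by_cases hf0' : f₀ ∈ S'
      · left
        have hex : 2 * (e f₀ - 1) ≤ ∑ f ∈ S, (e f - 1) * f.natDegree := by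
          by_cases hs0 : Associated f₀.reverse f₀
          · obtain ⟨k, hk, hd, -⟩ := hS1spec f₀ (Finset.mem_filter.2 ⟨hf0', hs0⟩)
            refine le_trans ?_ (Finset.single_le_sum (f := fun f => (e f - 1) * f.natDegree)
              (fun _ _ => Nat.zero_le _) hf₀)
            calc 2 * (e f₀ - 1) = (e f₀ - 1) * 2 := mul_comm _ _
              _ ≤ _ := Nat.mul_le_mul_left _ (by omega)
          · obtain ⟨-, g, hg, hgf, hgd, hle⟩ := hS2spec f₀ (Finset.mem_filter.2 ⟨hf0', hs0⟩)
            have hgS : g ∈ S := (Finset.mem_filter.1 (Finset.mem_filter.1 hg).1).1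
            refine le_trans ?_ (Finset.sum_le_sum_of_subset (s := {f₀, g}) ?_)
            · rw [Finset.sum_pair hgf.symm, hgd, ← add_mul]
              calc 2 * (e f₀ - 1) ≤ (e f₀ - 1 + (e g - 1)) * 1 := by omega
                _ ≤ _ := Nat.mul_le_mul_left _ (hmem f₀ hf₀).2.1.natDegree_pos
            · intro h hh
              rcases Finset.mem_insert.1 hh with rfl | hh
              · exact hf₀
              · rw [Finset.mem_singleton.1 hh]; exact hgS
        omega
      · right
        have hd0 := (hmem f₀ hf₀).2.1.natDegree_pos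
        have h1 : ∑ f ∈ S', f.natDegree + f₀.natDegree ≤ ∑ f ∈ S, f.natDegree := by
          rw [add_comm, ← Finset.sum_insert (f := fun f => f.natDegree) hf0']
          exact Finset.sum_le_sum_of_subset (Finset.insert_subset hf₀ (Finset.filter_subset _ _))
        have h2 : (e f₀ - 1) * 1 ≤ ∑ f ∈ S, (e f - 1) * f.natDegree :=
          (Nat.mul_le_mul_left _ hd0).trans (Finset.single_le_sum
            (f := fun f => (e f - 1) * f.natDegree) (fun _ _ => Nat.zero_le _) hf₀)
        have := he1 f₀ hf₀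
        omega
    set a := Nat.clog p (e f₀)
    have hKa : K + a ≤ m := by
      have h1 : a ≤ e f₀ - 1 := clog_le_pred hp.two_le _
      by_cases h : p = 2
      · have h2 : 2 * a ≤ e f₀ + 1 := by subst h; exact clog_two_le_half _
        have := hN2 h
        omega
      · have h2 : 2 * a ≤ e f₀ := clog_le_half (by have := hp.two_le; omega)
        omega
    set L := Nat.lcm (A.lcm fun k => q ^ k + 1) (B.lcm fun d => q ^ d - 1) with hL
    have hL0 : L ≠ 0 := by
      refine Nat.lcm_ne_zero ?_ ?_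
      · simp [Finset.lcm_eq_zero_iff]
      · simp only [Ne, Finset.lcm_eq_zero_iff, not_exists, not_and]
        intro d hd
        obtain ⟨f, hf, rfl⟩ := Finset.mem_image.1 hd
        have := Nat.pow_le_pow_right (show 0 < q by omega)
          (hmem f (Finset.mem_filter.1 (Finset.mem_filter.1 hf).1).1).2.1.natDegree_pos
        rw [pow_one] at this
        omega
    have hLS' : ∀ f ∈ S', f ∣ X ^ L - 1 ∧ (Odd q → 2 ∣ L) := by
      intro f hf
      by_cases hs : Associated f.reverse f
      · have hf1 : f ∈ S1 := Finset.mem_filter.2 ⟨hf, hs⟩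
        obtain ⟨k, hk, hd, hdv⟩ := hS1spec f hf1
        have hkA : k ∈ A := Finset.mem_image.2 ⟨f, hf1, by omega⟩
        have hkL : q ^ k + 1 ∣ L := (Finset.dvd_lcm hkA).trans (Nat.dvd_lcm_left _ _)
        refine ⟨hdv.trans (pow_one_sub_dvd hkL), fun ho => ?_⟩
        exact (even_iff_two_dvd.1 (ho.pow.add_odd odd_one)).trans hkL
      · have hf2 : f ∈ S2 := Finset.mem_filter.2 ⟨hf, hs⟩
        have hdv := (hS2spec f hf2).1
        have hdL : q ^ f.natDegree - 1 ∣ L :=
          (Finset.dvd_lcm (s := B) (f := fun d => q ^ d - 1)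
            (Finset.mem_image_of_mem _ hf2)).trans (Nat.dvd_lcm_right _ _)
        exact ⟨hdv.trans (pow_one_sub_dvd hdL), fun ho => (even_iff_two_dvd.1 (Nat.Odd.sub_odd ho.pow odd_one)).trans hdL⟩
    refine ⟨L * p ^ a, Nat.mul_pos (Nat.pos_of_ne_zero hL0) (pow_pos hp.pos _), ?_, Or.inl ?_⟩
    · have hLK : (q - 1) * L ≤ q ^ (K + 1) := lcm_le hq A B
        (fun k hk => by
          obtain ⟨f, hf, rfl⟩ := Finset.mem_image.1 hk
          obtain ⟨k, hk, hd, -⟩ := hS1spec f hf
          omega)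
        (fun d hd => by
          obtain ⟨f, hf, rfl⟩ := Finset.mem_image.1 hd
          exact (hmem f (Finset.mem_filter.1 (Finset.mem_filter.1 hf).1).1).2.1.natDegree_pos)
      calc (q - 1) * (L * p ^ a) = (q - 1) * L * p ^ a := by ring
        _ ≤ q ^ (K + 1) * q ^ a := Nat.mul_le_mul hLK (Nat.pow_le_pow_left hpq a)
        _ ≤ _ := by rw [← pow_add]; exact Nat.pow_le_pow_right (by omega) (by omega)
    · have h := hdvd (X ^ L - 1) (p ^ a) fun f hf =>
        ⟨?_, (hmax f hf).trans (Nat.le_pow_clog hp.one_lt _)⟩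
      · rwa [sub_pow_char_pow, one_pow, ← pow_mul] at h
      · by_cases hf' : f ∈ S'
        · exact (hLS' f hf').1
        · have hf1 : f = X - 1 ∨ f = X + 1 := by
            by_contra hcon
            push Not at hcon
            exact hf' (Finset.mem_filter.2 ⟨hf, hcon⟩)
          have hbase : (X - 1 : F[X]) ∣ X ^ L - 1 := by
            simpa using sub_dvd_pow_sub_pow (X : F[X]) 1 L
          rcases hf1 with rfl | rfl
          · exact hbase
          · obtain ⟨g, hg⟩ := hne
            by_cases hp2 : p = 2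
            · subst hp2
              rwa [CharTwo.sub_eq_add X (1 : F[X])] at hbase
            · have hoq : Odd q := by
                obtain ⟨n, -, hn⟩ := FiniteField.card F p
                rw [hqdef, hn]
                exact (hp.odd_of_ne_two hp2).pow
              obtain ⟨r, hr⟩ := (hLS' g hg).2 hoq
              rw [hr, pow_mul]
              refine dvd_trans ⟨X - 1, ?_⟩ (sub_one_dvd_pow_sub_one (X ^ 2 : F[X]) r)
              ring

end CfsgLib.Linear.OrderBound
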