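/-
Element orders modulo `±1` for matrices preserving a non-degenerate bilinear form.
-/
import Cfsg.Agent.Lib.Linear.OrderBound
import Cfsg.Agent.Lib.OrthCrit.Forms

set_option autoImplicit false

open Polynomial Matrix QuadraticMap

namespace CfsgLib.Linear.OrderBound

variable {F : Type*} [Field F] [Fintype F]

theorem exists_pow_eq_one_or_neg {ι : Type*} [Fintype ι] [DecidableEq ι] {M B : Matrix ι ι F}
    (hB : IsUnit B.det) (hMB : Mᵀ * B * M = B) {m : ℕ} (hm : 1 ≤ m)
    (hN : Fintype.card ι ≤ 2 * m + 1) (hN2 : ringChar F = 2 → Fintype.card ι ≤ 2 * m)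
    (hN3 : ringChar F ≠ 2 → Fintype.card ι ≤ 3 ^ (m - 1) + 1) :
    ∃ n, 0 < n ∧ (Fintype.card F - 1) * n ≤ Fintype.card F ^ (m + 1) ∧ (M ^ n = 1 ∨ M ^ n = -1) := by
  set p := ringChar F with hpdef
  haveI : CharP F p := ringChar.charP F
  haveI : Fact p.Prime := ⟨CharP.char_is_prime F p⟩
  have hinvl : (B⁻¹ * Mᵀ * B) * M = 1 := by
    rw [Matrix.mul_assoc, Matrix.mul_assoc, ← Matrix.mul_assoc Mᵀ, hMB, Matrix.nonsing_inv_mul _ hB]
  have hM : IsUnit M.det := Matrix.isUnit_det_of_left_inverse hinvl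
  have hMinv : M⁻¹ = B⁻¹ * Mᵀ * B := Matrix.inv_eq_left_inv hinvl
  obtain ⟨u, hu⟩ := (Matrix.isUnit_iff_isUnit_det B).2 hB
  have hcp : M⁻¹.charpoly = M.charpoly := by
    rw [hMinv, ← hu]
    exact (Matrix.charpoly_units_conj' u Mᵀ).trans (Matrix.charpoly_transpose M)
  have hrev : Associated M.charpoly.reverse M.charpoly := by
    have h := Matrix.charpoly_inv M ((Matrix.isUnit_iff_isUnit_det M).2 hM)
    rw [hcp] at h
    rw [Matrix.reverse_charpoly]
    conv_rhs => rw [h]
    refine associated_unit_mul_right _ _ (IsUnit.mul ((isUnit_one.neg).pow _) ?_)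
    exact Polynomial.isUnit_C.2 hM.ringInverse
  have h0 : M.charpoly.coeff 0 ≠ 0 := by
    intro h
    apply hM.ne_zero
    rw [Matrix.det_eq_sign_charpoly_coeff, h, mul_zero]
  obtain ⟨n, hn, hb, hd⟩ := exists_exponent p (Matrix.charpoly_monic M) h0 hrev hm
    (by rw [Matrix.charpoly_natDegree_eq_dim]; exact hN)
    (fun h => by rw [Matrix.charpoly_natDegree_eq_dim]; exact hN2 h)
    (fun h => by
      rw [Matrix.charpoly_natDegree_eq_dim]
      refine le_trans (hN3 h) (Nat.add_le_add_right (Nat.pow_le_pow_left ?_ _) 1)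
      have := (Fact.out : p.Prime).two_le
      omega)
  refine ⟨n, hn, hb, ?_⟩
  rcases hd with ⟨c, hc⟩ | ⟨c, hc⟩
  · left
    have h := congrArg (aeval M) hc
    simp only [map_sub, map_pow, aeval_X, map_one, map_mul, Matrix.aeval_self_charpoly, zero_mul,
      sub_eq_zero] at h
    exact h
  · right
    have h := congrArg (aeval M) hc
    simp only [map_add, map_pow, aeval_X, map_one, map_mul, Matrix.aeval_self_charpoly, zero_mul,
      add_eq_zero_iff_eq_neg] at h
    exact h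

/-- The order bound in `PΩ` of a quadratic form with non-degenerate polar form. -/
theorem orderOf_POmega_le {ι : Type} [Fintype ι] [DecidableEq ι] (Q : QuadraticForm F (ι → F))
    (hnd : CfsgLib.Classical.Quad.NDPolar Q) {m : ℕ} (hm : 1 ≤ m)
    (hN : Fintype.card ι ≤ 2 * m + 1) (hN2 : ringChar F = 2 → Fintype.card ι ≤ 2 * m)
    (hN3 : ringChar F ≠ 2 → Fintype.card ι ≤ 3 ^ (m - 1) + 1) (g : Cfsg.POmega F ⇑Q) :
    (Fintype.card F - 1) * orderOf g ≤ Fintype.card F ^ (m + 1) := by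
  obtain ⟨x, rfl⟩ := QuotientGroup.mk_surjective g
  set M : Matrix ι ι F := ((x.1.1 : GL ι F) : Matrix ι ι F)
  have hiso : ∀ v, Q (M *ᵥ v) = Q v := fun v => x.1.2 v v
  set B : Matrix ι ι F := LinearMap.toMatrix₂' F (polarBilin Q) with hBdef
  have hBv : ∀ u v, u ⬝ᵥ B *ᵥ v = polar Q u v := by
    intro u v
    rw [← Matrix.toLinearMap₂'_apply', hBdef, Matrix.toLinearMap₂'_toMatrix', polarBilin_apply_apply]
  have hB : IsUnit B.det := by
    rw [isUnit_iff_ne_zero]
    intro h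
    obtain ⟨v, hv, hBz⟩ := Matrix.exists_mulVec_eq_zero_iff.2 h
    refine hv (hnd v fun y => ?_)
    rw [polar_comm, ← hBv, hBz, dotProduct_zero]
  have hpol : ∀ u v, polar Q (M *ᵥ u) (M *ᵥ v) = polar Q u v := by
    intro u v
    simp only [polar, ← Matrix.mulVec_add, hiso]
  have hMB : Mᵀ * B * M = B := by
    ext i j
    have h := hpol (Pi.single i 1) (Pi.single j 1)
    rw [← hBv, ← hBv, Matrix.dotProduct_mulVec, ← Matrix.vecMul_transpose, Matrix.vecMul_vecMul,
      ← Matrix.dotProduct_mulVec, Matrix.mulVec_mulVec] at h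
    simpa [Matrix.mulVec_single, single_dotProduct, Matrix.mul_assoc] using h
  obtain ⟨n, hn, hb, hpow⟩ := exists_pow_eq_one_or_neg hB hMB hm hN hN2 hN3
  refine le_trans (Nat.mul_le_mul_left _ (Nat.le_of_dvd hn (orderOf_dvd_of_pow_eq_one ?_))) hb
  rw [← QuotientGroup.mk_pow, QuotientGroup.eq_one_iff, Subgroup.mem_center_iff]
  intro y
  refine Subtype.ext (Subtype.ext (Units.ext ?_))
  show ((y.1.1 : GL ι F) : Matrix ι ι F) * (M ^ n) = M ^ n * _
  rcases hpow with h | h <;> rw [h] <;> simp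

end CfsgLib.Linear.OrderBound
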