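/-
SL_n over a finite field is generated by three conjugate regular unipotent elements.
-/
import Mathlib
import Cfsg.Agent.Lib.Linear.Transvection

set_option autoImplicit false

namespace CfsgLib.Linear.RegGen

open Matrix
open scoped commutatorElement

variable {ι : Type*} [Fintype ι] [DecidableEq ι] {F : Type*} [Field F]

/-- The transvection `x ↦ x + (φ ⬝ x) p`. -/
def tv (p φ : ι → F) (h : φ ⬝ᵥ p = 0) : SpecialLinearGroup ι F :=
  ⟨1 + vecMulVec p φ, by
    rw [vecMulVec_eq Unit, det_one_add_replicateCol_mul_replicateRow, h, add_zero]⟩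

theorem tv_val (p φ : ι → F) (h : φ ⬝ᵥ p = 0) : (tv p φ h).1 = 1 + vecMulVec p φ := rfl

theorem tv_mulVec (p φ : ι → F) (h : φ ⬝ᵥ p = 0) (x : ι → F) :
    (tv p φ h).1 *ᵥ x = x + (φ ⬝ᵥ x) • p := by
  rw [tv_val, add_mulVec, one_mulVec, vecMulVec_mulVec, op_smul_eq_smul]

theorem tv_add_right (p φ ψ : ι → F) (h1 : φ ⬝ᵥ p = 0) (h2 : ψ ⬝ᵥ p = 0) :
    tv p (φ + ψ) (by rw [add_dotProduct, h1, h2, add_zero]) = tv p φ h1 * tv p ψ h2 := by
  refine Subtype.ext ?_
  change (tv p (φ + ψ) _).1 = (tv p φ h1).1 * (tv p ψ h2).1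
  rw [tv_val, tv_val, tv_val, add_mul, one_mul, mul_add, mul_one, vecMulVec_mul_vecMulVec, h1,
    zero_smul, vecMulVec_zero, add_zero, vecMulVec_add]
  abel

theorem tv_add_left (p q φ : ι → F) (h1 : φ ⬝ᵥ p = 0) (h2 : φ ⬝ᵥ q = 0) :
    tv (p + q) φ (by rw [dotProduct_add, h1, h2, add_zero]) = tv p φ h1 * tv q φ h2 := by
  refine Subtype.ext ?_
  change (tv (p + q) φ _).1 = (tv p φ h1).1 * (tv q φ h2).1
  rw [tv_val, tv_val, tv_val, add_mul, one_mul, mul_add, mul_one, vecMulVec_mul_vecMulVec, h2,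
    zero_smul, vecMulVec_zero, add_zero, add_vecMulVec]
  abel

theorem tv_zero_right (p : ι → F) : tv p (0 : ι → F) (zero_dotProduct p) = 1 := by
  refine Subtype.ext ?_
  rw [tv_val, vecMulVec_zero, add_zero]
  rfl

theorem tv_zero_left (φ : ι → F) : tv (0 : ι → F) φ (dotProduct_zero φ) = 1 := by
  refine Subtype.ext ?_
  rw [tv_val, zero_vecMulVec, add_zero]
  rfl

theorem tv_congr {p q φ ψ : ι → F} (hp : p = q) (hφ : φ = ψ) (h : φ ⬝ᵥ p = 0) :
    tv p φ h = tv q ψ (by rw [← hp, ← hφ]; exact h) := by subst hp hφ; rfl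

theorem tv_inv (p φ : ι → F) (h : φ ⬝ᵥ p = 0) :
    (tv p φ h)⁻¹ = tv p (-φ) (by rw [neg_dotProduct, h, neg_zero]) := by
  refine inv_eq_of_mul_eq_one_right ?_
  rw [← tv_add_right, tv_congr rfl (add_neg_cancel φ), tv_zero_right]

theorem val_mul_inv (g : SpecialLinearGroup ι F) : g.1 * (g⁻¹).1 = 1 :=
  congrArg Subtype.val (mul_inv_cancel g)

theorem inv_mul_val (g : SpecialLinearGroup ι F) : (g⁻¹).1 * g.1 = 1 :=
  congrArg Subtype.val (inv_mul_cancel g)

theorem conj_dot (g : SpecialLinearGroup ι F) {p φ : ι → F} (h : φ ⬝ᵥ p = 0) :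
    (φ ᵥ* (g⁻¹).1) ⬝ᵥ (g.1 *ᵥ p) = 0 := by
  rw [← dotProduct_mulVec, mulVec_mulVec, inv_mul_val, one_mulVec, h]

theorem tv_conj (g : SpecialLinearGroup ι F) (p φ : ι → F) (h : φ ⬝ᵥ p = 0) :
    g * tv p φ h * g⁻¹ = tv (g.1 *ᵥ p) (φ ᵥ* (g⁻¹).1) (conj_dot g h) := by
  refine Subtype.ext ?_
  change g.1 * (tv p φ h).1 * (g⁻¹).1 = _
  rw [tv_val, tv_val, mul_add, add_mul, mul_one, val_mul_inv, mul_vecMulVec, vecMulVec_mul]

theorem tv_commutator (p φ p' φ' : ι → F) (h : φ ⬝ᵥ p = 0) (h' : φ' ⬝ᵥ p' = 0)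
    (h0 : φ' ⬝ᵥ p = 0) :
    ⁅tv p φ h, tv p' φ' h'⁆ = tv p ((φ ⬝ᵥ p') • φ') (by rw [smul_dotProduct, h0, smul_zero]) := by
  rw [commutatorElement_def, tv_inv, tv_inv]
  refine Subtype.ext ?_
  change (tv p φ h).1 * (tv p' φ' h').1 * (tv p (-φ) _).1 * (tv p' (-φ') _).1 = _
  simp only [tv_val, vecMulVec_neg, vecMulVec_smul]
  set A := vecMulVec p φ with hA
  set B := vecMulVec p' φ' with hB
  have hAA : A * A = 0 := by rw [hA, vecMulVec_mul_vecMulVec, h, zero_smul, vecMulVec_zero]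
  have hBB : B * B = 0 := by rw [hB, vecMulVec_mul_vecMulVec, h', zero_smul, vecMulVec_zero]
  have hBA : B * A = 0 := by rw [hA, hB, vecMulVec_mul_vecMulVec, h0, zero_smul, vecMulVec_zero]
  have hAB : A * B = (φ ⬝ᵥ p') • vecMulVec p φ' := by
    rw [hA, hB, vecMulVec_mul_vecMulVec, vecMulVec_smul]
  rw [← hAB]
  have hB3 : B * (A * B) = 0 := by rw [← mul_assoc, hBA, zero_mul]
  have hA3 : A * (A * B) = 0 := by rw [← mul_assoc, hAA, zero_mul]
  simp only [mul_add, add_mul, mul_one, one_mul, mul_neg, neg_mul, neg_neg, mul_assoc, hAA, hBB,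
    hBA, hB3, hA3, mul_zero, neg_zero, add_zero]
  abel

/-- `T(p, φ)` lies in `G`. -/
def TM (G : Subgroup (SpecialLinearGroup ι F)) (p φ : ι → F) : Prop :=
  ∃ h : φ ⬝ᵥ p = 0, tv p φ h ∈ G

variable {G : Subgroup (SpecialLinearGroup ι F)}

theorem TM.zero_right (p : ι → F) : TM G p 0 :=
  ⟨zero_dotProduct p, by rw [tv_zero_right]; exact one_mem _⟩

theorem TM.add_right {p φ ψ : ι → F} (h1 : TM G p φ) (h2 : TM G p ψ) : TM G p (φ + ψ) :=
  ⟨_, by rw [tv_add_right p φ ψ h1.1 h2.1]; exact mul_mem h1.2 h2.2⟩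

theorem TM.neg_right {p φ : ι → F} (h : TM G p φ) : TM G p (-φ) :=
  ⟨_, by rw [← tv_inv p φ h.1]; exact inv_mem h.2⟩

theorem TM.sub_right {p φ ψ : ι → F} (h1 : TM G p φ) (h2 : TM G p ψ) : TM G p (φ - ψ) := by
  rw [sub_eq_add_neg]; exact h1.add_right h2.neg_right

theorem TM.add_left {p q φ : ι → F} (h1 : TM G p φ) (h2 : TM G q φ) : TM G (p + q) φ :=
  ⟨_, by rw [tv_add_left p q φ h1.1 h2.1]; exact mul_mem h1.2 h2.2⟩

theorem TM.smul_iff {p φ : ι → F} (c : F) : TM G (c • p) φ ↔ TM G p (c • φ) := by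
  have key : ∀ h h', (tv (c • p) φ h : SpecialLinearGroup ι F) = tv p (c • φ) h' := fun h h' ↦
    Subtype.ext (by rw [tv_val, tv_val, smul_vecMulVec, vecMulVec_smul])
  constructor
  · rintro ⟨h, hm⟩
    exact ⟨by rwa [smul_dotProduct, ← dotProduct_smul], key h _ ▸ hm⟩
  · rintro ⟨h, hm⟩
    exact ⟨by rwa [dotProduct_smul, ← smul_dotProduct], (key _ h).symm ▸ hm⟩

theorem TM.sub_left {p q φ : ι → F} (h1 : TM G p φ) (h2 : TM G q φ) : TM G (p - q) φ := by
  have h3 : TM G ((-1 : F) • q) φ := (TM.smul_iff _).2 (by rw [neg_one_smul]; exact h2.neg_right)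
  rw [sub_eq_add_neg, ← neg_one_smul F q]
  exact h1.add_left h3

theorem TM.conj {p φ : ι → F} (h : TM G p φ) {g : SpecialLinearGroup ι F} (hg : g ∈ G) :
    TM G (g.1 *ᵥ p) (φ ᵥ* (g⁻¹).1) :=
  ⟨_, by rw [← tv_conj g p φ h.1]; exact mul_mem (mul_mem hg h.2) (inv_mem hg)⟩

theorem TM.comm {p φ p' φ' : ι → F} (h1 : TM G p φ) (h2 : TM G p' φ') (h0 : φ' ⬝ᵥ p = 0) :
    TM G p ((φ ⬝ᵥ p') • φ') :=
  ⟨_, by rw [← tv_commutator p φ p' φ' h1.1 h2.1 h0, commutatorElement_def]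
         exact mul_mem (mul_mem (mul_mem h1.2 h2.2) (inv_mem h1.2)) (inv_mem h2.2)⟩

theorem TM.comm_one {p φ p' φ' : ι → F} (h1 : TM G p φ) (h2 : TM G p' φ') (h0 : φ' ⬝ᵥ p = 0)
    (hone : φ ⬝ᵥ p' = 1) : TM G p φ' := by
  simpa [hone] using h1.comm h2 h0

/-- All transvections with centre `v` are in `G`. -/
def Full (G : Subgroup (SpecialLinearGroup ι F)) (v : ι → F) : Prop :=
  ∀ φ : ι → F, φ ⬝ᵥ v = 0 → TM G v φ

theorem Full.smul {v : ι → F} (h : Full G v) (c : F) : Full G (c • v) := fun φ hφ ↦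
  (TM.smul_iff c).2 (h _ (by rwa [smul_dotProduct, ← dotProduct_smul]))

theorem Full.map {v : ι → F} (h : Full G v) {g : SpecialLinearGroup ι F} (hg : g ∈ G) :
    Full G (g.1 *ᵥ v) := fun φ hφ ↦ by
  have h1 := (h (φ ᵥ* g.1) (by rwa [← dotProduct_mulVec])).conj hg
  rwa [vecMul_vecMul, val_mul_inv, vecMul_one] at h1

theorem Full.add {v w : ι → F} (hv : Full G v) (hw : Full G w) (φ : ι → F) (h1 : φ ⬝ᵥ v = 1)
    (h0 : φ ⬝ᵥ w = 0) : Full G (v + w) := by
  have := hv.map (hw φ h0).2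
  rwa [tv_mulVec, h1, one_smul] at this

section Fin

variable {n : ℕ}

/-- Coordinate vectors indexed by naturals. -/
def E (i : ℕ) : Fin n → F := fun j ↦ if (j : ℕ) = i then 1 else 0

theorem dot_E (φ : Fin n → F) {i : ℕ} (hi : i < n) : φ ⬝ᵥ E i = φ ⟨i, hi⟩ := by
  rw [dotProduct, Finset.sum_eq_single (⟨i, hi⟩ : Fin n)]
  · simp [E]
  · intro b _ hb
    simp [E, show (b : ℕ) ≠ i from fun h ↦ hb (Fin.ext h)]
  · simp

theorem E_dot (φ : Fin n → F) {i : ℕ} (hi : i < n) : E i ⬝ᵥ φ = φ ⟨i, hi⟩ := by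
  rw [dotProduct_comm, dot_E φ hi]

theorem E_dot_E {i : ℕ} (j : ℕ) (hi : i < n) :
    (E i : Fin n → F) ⬝ᵥ E j = if i = j then 1 else 0 := by
  rw [E_dot _ hi]; rfl

theorem E_dot_E_ne {i j : ℕ} (hi : i < n) (h : i ≠ j) : (E i : Fin n → F) ⬝ᵥ E j = 0 := by
  rw [E_dot_E j hi, if_neg h]

/-- The unipotent matrix with ones on the superdiagonal. -/
def jMat (n : ℕ) (F : Type*) [Field F] : Matrix (Fin n) (Fin n) F :=
  Matrix.of fun i j ↦ if (j : ℕ) = i ∨ (j : ℕ) = i + 1 then 1 else 0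

/-- The regular unipotent element. -/
def jU (n : ℕ) (F : Type*) [Field F] : SpecialLinearGroup (Fin n) F :=
  ⟨jMat n F, by
    rw [det_of_upperTriangular]
    · simp [jMat]
    · intro i j hij
      simp only [id_eq, Fin.lt_def] at hij
      simp [jMat]
      omega⟩

theorem jU_mulVec_E {i : ℕ} (hi : i + 1 < n) :
    (jU n F).1 *ᵥ E (i + 1) = E (i + 1) + E i := by
  ext r
  rw [mulVec, dot_E _ hi]
  simp only [jU, jMat, of_apply, E, Pi.add_apply]
  split_ifs <;> first | (exfalso; omega) | simp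

theorem jU_mulVec_E_zero (hn : 0 < n) : (jU n F).1 *ᵥ E 0 = E 0 := by
  ext r
  rw [mulVec, dot_E _ hn]
  simp only [jU, jMat, of_apply, E]
  split_ifs <;> first | (exfalso; omega) | (simp; done) | grind

theorem E_vecMul_jU {k : ℕ} (hk : k < n) : E k ᵥ* (jU n F).1 = E k + E (k + 1) := by
  ext c
  rw [vecMul, E_dot _ hk]
  simp only [jU, jMat, of_apply, E, Pi.add_apply]
  split_ifs <;> first | (exfalso; omega) | simp

theorem E_eq_zero {k : ℕ} (hk : n ≤ k) : (E k : Fin n → F) = 0 := by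
  ext c; simp [E, show (c : ℕ) ≠ k by omega]

theorem jU_pow_sub_one_mulVec : ∀ k i : ℕ, k ≤ i → i < n →
    ((jU n F).1 - 1) ^ k *ᵥ E i = E (i - k) := by
  intro k
  induction k with
  | zero => intro i _ _; simp
  | succ k ih =>
    intro i hki hin
    obtain ⟨j, rfl⟩ : ∃ j, i = j + 1 := ⟨i - 1, by omega⟩
    rw [pow_succ, ← mulVec_mulVec, sub_mulVec, jU_mulVec_E hin, one_mulVec, add_sub_cancel_left,
      ih j (by omega) (by omega)]
    congr 1
    omega

theorem jU_regular (hn : 1 ≤ n) :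
    IsNilpotent ((jU n F).1 - 1) ∧ ((jU n F).1 - 1) ^ (n - 1) ≠ 0 := by
  refine ⟨⟨n, Matrix.ext_of_mulVec_single fun i ↦ ?_⟩, fun h ↦ ?_⟩
  · rw [show (Pi.single i 1 : Fin n → F) = E i.1 by ext j; simp [E, Pi.single_apply, Fin.ext_iff],
      zero_mulVec]
    have hp : ((jU n F).1 - 1) ^ n =
        ((jU n F).1 - 1) ^ (n - (i.1 + 1)) * ((jU n F).1 - 1) * ((jU n F).1 - 1) ^ i.1 := by
      rw [← pow_succ, ← pow_add]
      congr 1
      omega
    rw [hp, ← mulVec_mulVec, jU_pow_sub_one_mulVec i.1 i.1 le_rfl i.2, Nat.sub_self,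
      ← mulVec_mulVec, sub_mulVec, jU_mulVec_E_zero (by have := i.2; omega), one_mulVec, sub_self,
      mulVec_zero]
  · have h' := jU_pow_sub_one_mulVec (F := F) (n - 1) (n - 1) le_rfl (show n - 1 < n by omega)
    rw [h, zero_mulVec, Nat.sub_self] at h'
    have := congrFun h' ⟨0, by omega⟩
    simp [E] at this

theorem jU_inv_mulVec_last (hn : 1 ≤ n) :
    ((jU n F)⁻¹).1 *ᵥ E (n - 1) = fun j : Fin n ↦ (-1 : F) ^ (n - 1 - (j : ℕ)) := by
  set w : Fin n → F := fun j ↦ (-1 : F) ^ (n - 1 - (j : ℕ))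
  suffices h : (jU n F).1 *ᵥ w = E (n - 1) by
    rw [← h, mulVec_mulVec, inv_mul_val, one_mulVec]
  ext i
  have hrow : (jU n F).1 i = E i.1 + E (i.1 + 1) := by
    ext c
    simp only [jU, jMat, of_apply, E, Pi.add_apply]
    split_ifs <;> first | (exfalso; omega) | simp
  rw [mulVec, hrow, add_dotProduct, E_dot _ i.2]
  by_cases hi : i.1 + 1 < n
  · rw [E_dot _ hi]
    simp only [E, if_neg (show i.1 ≠ n - 1 by omega), w]
    rw [show n - 1 - i.1 = n - 1 - (i.1 + 1) + 1 by omega, pow_succ]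
    ring
  · rw [E_eq_zero (by omega), zero_dotProduct, add_zero]
    simp [w, E, show i.1 = n - 1 by omega]

theorem exists_closed_generator (F : Type*) [Field F] [Finite F] :
    ∃ γ : F, γ ≠ 0 ∧ ∀ S : AddSubgroup F, γ ∈ S → (∀ s ∈ S, s * γ ∈ S) → S = ⊤ := by
  obtain ⟨γ, hγ⟩ := IsCyclic.exists_generator (α := Fˣ)
  refine ⟨γ, γ.ne_zero, fun S h1 h2 ↦ ?_⟩
  refine (AddSubgroup.eq_top_iff' S).2 fun x ↦ ?_
  rcases eq_or_ne x 0 with rfl | hx
  · exact zero_mem _
  have hpow : ∀ k : ℕ, (γ : F) ^ (k + 1) ∈ S := by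
    intro k
    induction k with
    | zero => simpa using h1
    | succ k ih => rw [pow_succ]; exact h2 _ ih
  obtain ⟨k, hk : γ ^ k = Units.mk0 x hx⟩ :=
    mem_powers_iff_mem_zpowers.2 (hγ (Units.mk0 x hx))
  have ho := orderOf_pos γ
  have := hpow (k + (orderOf γ - 1))
  rw [show k + (orderOf γ - 1) + 1 = k + orderOf γ by omega, pow_add, ← Units.val_pow_eq_pow_val,
    ← Units.val_pow_eq_pow_val, hk, pow_orderOf_eq_one] at this
  simpa using this

/-- If all transvections centred at the last vector are present then so is everything. -/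
theorem eq_top_of_full_last (hn : 1 ≤ n) {G : Subgroup (SpecialLinearGroup (Fin n) F)}
    (hu : jU n F ∈ G) (hl : Full G (E (n - 1))) : G = ⊤ := by
  have hall : ∀ d, d < n → Full G (E (n - 1 - d)) := by
    intro d
    induction d with
    | zero => exact fun _ ↦ hl
    | succ d ih =>
      intro hd
      obtain ⟨i, hi⟩ : ∃ i, n - 1 - d = i + 1 := ⟨n - 1 - (d + 1), by omega⟩
      have h1 := ih (by omega)
      rw [hi] at h1
      have h2 := h1.map hu
      rw [jU_mulVec_E (show i + 1 < n by omega)] at h2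
      have h3 := h2.add (h1.smul (-1)) (E i)
        (by rw [dotProduct_add, E_dot_E_ne (by omega) (by omega), E_dot_E _ (show i < n by omega),
          if_pos rfl, zero_add])
        (by rw [dotProduct_smul, E_dot_E_ne (by omega) (by omega), smul_zero])
      rw [show n - 1 - (d + 1) = i by omega]
      simpa using h3
  refine SL_eq_top_of_transvection_mem G fun i j hij c ↦ ?_
  have hi := hall (n - 1 - i.1) (by omega)
  rw [show n - 1 - (n - 1 - i.1) = i.1 by omega] at hi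
  obtain ⟨h, hm⟩ := hi (c • E j.1) (by
    rw [smul_dotProduct, E_dot_E_ne j.2 (fun e ↦ hij (Fin.ext e.symm)), smul_zero])
  convert hm using 1
  refine Subtype.ext (Matrix.ext fun a b ↦ ?_)
  simp [tv_val, SpecialLinearGroup.transvection_coe, vecMulVec, E, Fin.val_inj, Matrix.single_apply,
    eq_comm]
  grind

/-- The main generation lemma. -/
theorem eq_top_core (hn : 3 ≤ n) {γ : F}
    (hγ : ∀ S : AddSubgroup F, γ ∈ S → (∀ s ∈ S, s * γ ∈ S) → S = ⊤)
    {G : Subgroup (SpecialLinearGroup (Fin n) F)} (hu : jU n F ∈ G)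
    (hx : TM G (E 0) (γ • E (n - 1))) (hy : TM G (E (n - 1)) (E 0)) : G = ⊤ := by
  have hA : ∀ k, k < n - 1 → TM G (E (n - 1)) (E k) := by
    intro k
    induction k with
    | zero => exact fun _ ↦ hy
    | succ k ih =>
      intro hk
      have h1 := ih (by omega)
      have h2 := h1.conj (inv_mem hu)
      rw [inv_inv, E_vecMul_jU (show k < n by omega), jU_inv_mulVec_last (by omega)] at h2
      have h0 : (E k + E (k + 1) : Fin n → F) ⬝ᵥ E (n - 1) = 0 := by
        rw [add_dotProduct, E_dot_E_ne (by omega) (by omega), E_dot_E_ne (by omega) (by omega),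
          add_zero]
      have h3 := h1.comm h2 h0
      rw [E_dot _ (show k < n by omega)] at h3
      rcases neg_one_pow_eq_or F (n - 1 - k) with e | e
      · rw [e, one_smul] at h3
        simpa using h3.sub_right h1
      · rw [e, neg_one_smul] at h3
        simpa using h3.neg_right.sub_right h1
  let S : AddSubgroup F :=
    { carrier := {s | TM G (E 0) (s • E (n - 1))}
      zero_mem' := by simpa using TM.zero_right (G := G) (E 0)
      add_mem' := fun {a b} ha hb ↦ by simpa [add_smul] using TM.add_right ha hb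
      neg_mem' := fun {a} ha ↦ by simpa [neg_smul] using TM.neg_right ha }
  have hB : ∀ s ∈ S, ∀ k, 1 ≤ k → k < n → TM G (E 0) (s • E k) := by
    intro s hs k hk1 hk
    rcases eq_or_ne k (n - 1) with rfl | hne
    · exact hs
    have := TM.comm hs (hA k (by omega)) (E_dot_E_ne hk (by omega))
    simpa [smul_dotProduct, E_dot_E _ (show n - 1 < n by omega)] using this
  have hC : TM G (E (n - 2)) (E 0) := by
    have h1 := ((hA 0 (by omega)).add_right (hA 1 (by omega))).conj hu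
    have e : (E 0 + E 1 : Fin n → F) ᵥ* ((jU n F)⁻¹).1 = E 0 := by
      rw [← E_vecMul_jU (show 0 < n by omega), vecMul_vecMul, val_mul_inv, vecMul_one]
    obtain ⟨m, rfl⟩ : ∃ m, n = m + 2 := ⟨n - 2, by omega⟩
    simp only [Nat.add_sub_cancel, show m + 2 - 1 = m + 1 from rfl] at h1 hy ⊢
    rw [e, jU_mulVec_E (show m + 1 < m + 2 by omega)] at h1
    simpa using h1.sub_left hy
  have hCx : TM G (E (n - 2)) (γ • E (n - 1)) := by
    refine hC.comm_one hx ?_ (by rw [E_dot_E _ (show 0 < n by omega), if_pos rfl])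
    rw [smul_dotProduct, E_dot_E_ne (by omega) (by omega), smul_zero]
  have htop : S = ⊤ := hγ S hx fun s hs ↦ by
    have := TM.comm (hB s hs (n - 2) (by omega) (by omega)) hCx
      (by rw [smul_dotProduct, E_dot_E_ne (by omega) (by omega), smul_zero])
    show TM G (E 0) ((s * γ) • E (n - 1))
    simpa [smul_dotProduct, E_dot_E _ (show n - 2 < n by omega), smul_smul] using this
  have hD : ∀ (s : F) (k : ℕ), k < n - 1 → TM G (E (n - 1)) (s • E k) := by
    intro s k hk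
    have hk' : ∀ j, 1 ≤ j → j < n - 1 → TM G (E (n - 1)) (s • E j) := fun j h1 h2 ↦
      (hA 0 (by omega)).comm_one (hB s (by rw [htop]; trivial) j h1 (by omega))
        (by rw [smul_dotProduct, E_dot_E_ne (by omega) (by omega), smul_zero])
        (by rw [E_dot_E _ (show 0 < n by omega), if_pos rfl])
    rcases Nat.eq_zero_or_pos k with rfl | hk0
    · have := (hk' (n - 2) (by omega) (by omega)).comm hC (E_dot_E_ne (by omega) (by omega))
      simpa [smul_dotProduct, E_dot_E _ (show n - 2 < n by omega)] using this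
    · exact hk' k hk0 hk
  have hl : Full G (E (n - 1)) := by
    intro φ hφ
    have hsum : φ = ∑ k : Fin n, φ k • E (k : ℕ) := by
      ext j; simp [E, Fin.val_inj, Finset.sum_apply]
    rw [hsum]
    refine Finset.sum_induction _ (fun ψ ↦ TM G (E (n - 1)) ψ) (fun a b ↦ TM.add_right)
      (TM.zero_right _) fun k _ ↦ ?_
    rcases eq_or_ne (k : ℕ) (n - 1) with h | h
    · rw [dot_E φ (show n - 1 < n by omega)] at hφ
      rw [show k = ⟨n - 1, by omega⟩ from Fin.ext h, hφ, zero_smul]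
      exact TM.zero_right _
    · exact hD _ _ (by omega)
  exact eq_top_of_full_last (by omega) hu hl

/-- Three conjugate regular unipotent elements generate `SL_n`. -/
theorem three_regular_unipotent [Finite F] (hn : 3 ≤ n) :
    ∃ g h : SpecialLinearGroup (Fin n) F,
      Subgroup.closure ({jU n F, g * jU n F * g⁻¹, h * jU n F * h⁻¹} : Set _) = ⊤ := by
  classical
  obtain ⟨γ, hγ0, hγ⟩ := exists_closed_generator F
  obtain ⟨m, rfl⟩ : ∃ m, n = m + 3 := ⟨n - 3, by omega⟩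
  have hψ : (γ • E (m + 1) : Fin (m + 3) → F) ⬝ᵥ E 0 = 0 := by
    rw [smul_dotProduct, E_dot_E_ne (by omega) (by omega), smul_zero]
  let g := tv (E 0) (γ • E (m + 1) : Fin (m + 3) → F) hψ
  set u := jU (m + 3) F with hu
  let φ : Fin (m + 3) → F := E (m + 2) - E (m + 1) + (γ + 1) • E m
  have hφu : φ ᵥ* u.1 = γ • E (m + 1) + (γ + 1) • E m := by
    simp only [φ, hu, add_vecMul, sub_vecMul, smul_vecMul,
      E_vecMul_jU (show m + 2 < m + 3 by omega), E_vecMul_jU (show m + 1 < m + 3 by omega),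
      E_vecMul_jU (show m < m + 3 by omega), E_eq_zero (show m + 3 ≤ m + 2 + 1 by omega)]
    module
  let M : Matrix (Fin (m + 3)) (Fin (m + 3)) F := Matrix.of fun i ↦
    if (i : ℕ) = 0 then φ else if (i : ℕ) = m + 2 then γ⁻¹ • (φ ᵥ* u.1) else E ((i : ℕ) - 1)
  have hMrow : ∀ i, M i =
      if (i : ℕ) = 0 then φ else if (i : ℕ) = m + 2 then γ⁻¹ • (φ ᵥ* u.1) else E ((i : ℕ) - 1) :=
    fun i ↦ rfl
  have hM : M.det ≠ 0 := by
    intro h
    obtain ⟨x, hx0, hx⟩ := Matrix.exists_mulVec_eq_zero_iff.2 h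
    apply hx0
    have hlow : ∀ j : ℕ, (hj : j ≤ m) → x ⟨j, by omega⟩ = 0 := by
      intro j hj
      have : M ⟨j + 1, by omega⟩ ⬝ᵥ x = 0 := congrFun hx _
      rw [hMrow, if_neg (Nat.succ_ne_zero j), if_neg (show j + 1 ≠ m + 2 by omega)] at this
      simpa [E_dot x (show j < m + 3 by omega)] using this
    have h1 : x ⟨m + 1, by omega⟩ = 0 := by
      have : M ⟨m + 2, by omega⟩ ⬝ᵥ x = 0 := congrFun hx _
      rw [hMrow, if_neg (Nat.succ_ne_zero _), if_pos rfl, hφu] at this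
      simpa [hγ0, E_dot x (show m + 1 < m + 3 by omega),
        E_dot x (show m < m + 3 by omega), hlow m le_rfl] using this
    have h2 : x ⟨m + 2, by omega⟩ = 0 := by
      have : M ⟨0, by omega⟩ ⬝ᵥ x = 0 := congrFun hx _
      rw [hMrow, if_pos rfl] at this
      simpa [φ, add_dotProduct, sub_dotProduct, E_dot x (show m + 2 < m + 3 by omega),
        E_dot x (show m + 1 < m + 3 by omega), E_dot x (show m < m + 3 by omega),
        hlow m le_rfl, h1] using this
    ext ⟨j, hj⟩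
    rcases (show j ≤ m ∨ j = m + 1 ∨ j = m + 2 by omega) with h | rfl | rfl
    · exact hlow j h
    · exact h1
    · exact h2
  let D : Fin (m + 3) → F := fun i ↦ if (i : ℕ) = 1 then M.det⁻¹ else 1
  have hD : (diagonal D * M).det = 1 := by
    rw [det_mul, det_diagonal, Finset.prod_eq_single (⟨1, by omega⟩ : Fin (m + 3))]
    · simp [D, hM]
    · intro b _ hb
      simp [D, show (b : ℕ) ≠ 1 from fun e ↦ hb (Fin.ext e)]
    · simp
  let h : SpecialLinearGroup (Fin (m + 3)) F := ⟨diagonal D * M, hD⟩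
  have hrow : ∀ i : Fin (m + 3), h.1 i = D i • M i := by
    intro i; ext j; simp [h, diagonal_mul]
  have hrow0 : E 0 ᵥ* h.1 = φ := by
    ext j
    rw [vecMul, E_dot _ (show 0 < m + 3 by omega), congrFun (hrow _) j]
    simp [D, M]
  have hrowl : E (m + 2) ᵥ* h.1 = γ⁻¹ • (φ ᵥ* u.1) := by
    ext j
    rw [vecMul, E_dot _ (show m + 2 < m + 3 by omega), congrFun (hrow _) j]
    simp [D, M]
  have hue : u.1 *ᵥ E (m + 2) = E (m + 2) + E (m + 1) := jU_mulVec_E (by omega)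
  have hv0 : h.1 *ᵥ E (m + 2) = E 0 := by
    ext i
    rw [mulVec, dot_E _ (show m + 2 < m + 3 by omega), congrFun (hrow i) _]
    rcases (show (i : ℕ) = 0 ∨ (i : ℕ) = m + 2 ∨ ((i : ℕ) ≠ 0 ∧ (i : ℕ) ≠ m + 2) by omega)
      with e | e | ⟨e, e'⟩
    · rw [hMrow, if_pos e]
      simp [D, e, E, φ]
    · rw [hMrow, if_neg (by omega), if_pos e]
      simp [D, e, E, hφu]
    · rw [hMrow, if_neg e, if_neg e']
      simp [D, e, E, show m + 2 ≠ (i : ℕ) - 1 by omega]
  have hvl : h.1 *ᵥ (u.1 *ᵥ E (m + 2)) = E (m + 2) := by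
    rw [hue]
    ext i
    rw [mulVec, dotProduct_add, dot_E _ (show m + 2 < m + 3 by omega),
      dot_E _ (show m + 1 < m + 3 by omega), congrFun (hrow i) _, congrFun (hrow i) _]
    rcases (show (i : ℕ) = 0 ∨ (i : ℕ) = m + 2 ∨ ((i : ℕ) ≠ 0 ∧ (i : ℕ) ≠ m + 2) by omega)
      with e | e | ⟨e, e'⟩
    · rw [hMrow, if_pos e]
      simp [D, e, E, φ]
    · rw [hMrow, if_neg (by omega), if_pos e]
      simp [D, e, E, hφu, hγ0]
    · rw [hMrow, if_neg e, if_neg e']
      simp [D, E, e', show m + 2 ≠ (i : ℕ) - 1 by omega, show m + 1 ≠ (i : ℕ) - 1 by omega]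
  refine ⟨g, h, ?_⟩
  set G := Subgroup.closure ({u, g * u * g⁻¹, h * u * h⁻¹} :
    Set (SpecialLinearGroup (Fin (m + 3)) F)) with hG
  have huG : u ∈ G := Subgroup.subset_closure (by simp)
  have hwG : h * u * h⁻¹ ∈ G := Subgroup.subset_closure (by simp)
  have hxG : TM G (E 0) (γ • E (m + 2)) := by
    refine ⟨by rw [smul_dotProduct, E_dot_E_ne (by omega) (by omega), smul_zero], ?_⟩
    have hm : u⁻¹ * (g * u * g⁻¹) ∈ G :=
      mul_mem (inv_mem huG) (Subgroup.subset_closure (by simp))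
    rw [show u⁻¹ * (g * u * g⁻¹) = u⁻¹ * g * u⁻¹⁻¹ * g⁻¹ by group, tv_conj, tv_inv] at hm
    convert hm using 1
    have e1 : (u⁻¹).1 *ᵥ E 0 = E 0 := by
      conv_lhs => rw [← jU_mulVec_E_zero (F := F) (show 0 < m + 3 by omega), mulVec_mulVec,
        inv_mul_val, one_mulVec]
    rw [tv_congr e1 rfl, ← tv_add_right]
    refine tv_congr rfl ?_ _
    rw [inv_inv, smul_vecMul, E_vecMul_jU (show m + 1 < m + 3 by omega)]
    module
  have hwx := hxG.conj hwG
  have hw1 : (h * u * h⁻¹).1 *ᵥ E 0 = E (m + 2) := by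
    change (h.1 * u.1 * (h⁻¹).1) *ᵥ E 0 = _
    rw [← mulVec_mulVec, ← hv0, mulVec_mulVec _ (h⁻¹).1, inv_mul_val, one_mulVec, ← mulVec_mulVec,
      hvl]
  have hw2 : E 0 ᵥ* (h * u * h⁻¹).1 = γ • E (m + 2) := by
    change E 0 ᵥ* (h.1 * u.1 * (h⁻¹).1) = _
    rw [← vecMul_vecMul, ← vecMul_vecMul, hrow0]
    have : φ ᵥ* u.1 = (γ • E (m + 2)) ᵥ* h.1 := by
      rw [smul_vecMul, hrowl, smul_smul, mul_inv_cancel₀ hγ0, one_smul]
    rw [this, vecMul_vecMul, val_mul_inv, vecMul_one]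
  refine eq_top_core hn hγ huG hxG ?_
  rw [hw1, ← hw2, vecMul_vecMul, val_mul_inv, vecMul_one] at hwx
  exact hwx

end Fin

end CfsgLib.Linear.RegGen
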