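/-
SL_n over a finite field, n ≥ 4, is generated by two regular unipotent elements.
-/
import Mathlib
import Cfsg.Agent.Lib.Linear.RegUnipGen

set_option autoImplicit false

namespace CfsgLib.Linear.RegGen

open Matrix
open scoped commutatorElement

variable {n : ℕ} {F : Type*} [Field F]

theorem TM.natCast_mul {ι : Type*} [Fintype ι] [DecidableEq ι]
    {G : Subgroup (SpecialLinearGroup ι F)} {p φ : ι → F} (h : TM G p φ) (m : ℕ) :
    TM G p ((m : F) • φ) := by
  induction m with
  | zero => simpa using TM.zero_right (G := G) p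
  | succ m ih => simpa [add_smul] using ih.add_right h

theorem TM.of_natCast {ι : Type*} [Fintype ι] [DecidableEq ι]
    {G : Subgroup (SpecialLinearGroup ι F)} {p φ : ι → F} {a : F} (h : TM G p (a • φ)) {m : ℕ}
    (hm : (m : F) * a = 1) : TM G p φ := by
  simpa [smul_smul, hm] using h.natCast_mul m

theorem E_vecMul_jU_inv_last (hn : 1 ≤ n) :
    E (n - 1) ᵥ* ((jU n F)⁻¹).1 = E (n - 1) := by
  have h : E (n - 1) ᵥ* (jU n F).1 = E (n - 1) := by
    rw [E_vecMul_jU (by omega), E_eq_zero (show n ≤ n - 1 + 1 by omega), add_zero]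
  conv_lhs => rw [← h, vecMul_vecMul, val_mul_inv, vecMul_one]

theorem E01_vecMul_jU_inv (hn : 1 ≤ n) :
    (E 0 + E 1 : Fin n → F) ᵥ* ((jU n F)⁻¹).1 = E 0 := by
  rw [← E_vecMul_jU (show 0 < n by omega), vecMul_vecMul, val_mul_inv, vecMul_one]

theorem jU_inv_mulVec_E (k : ℕ) (hk : k < n) (r : Fin n) :
    (((jU n F)⁻¹).1 *ᵥ E k) r = if (r : ℕ) ≤ k then (-1 : F) ^ (k - (r : ℕ)) else 0 := by
  suffices h : (jU n F).1 *ᵥ
      (fun r : Fin n ↦ if (r : ℕ) ≤ k then (-1 : F) ^ (k - (r : ℕ)) else 0) = E k by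
    rw [← h, mulVec_mulVec, inv_mul_val, one_mulVec]
  ext i
  have hrow : (jU n F).1 i = E i.1 + E (i.1 + 1) := by
    ext c
    simp only [jU, jMat, of_apply, E, Pi.add_apply]
    split_ifs <;> first | (exfalso; omega) | simp
  rw [mulVec, hrow, add_dotProduct, E_dot _ i.2]
  by_cases hi : i.1 + 1 < n
  · rw [E_dot _ hi]
    simp only [E]
    rcases lt_trichotomy i.1 k with h | h | h
    · rw [if_pos h.le, if_pos (by omega), if_neg h.ne, show k - i.1 = k - (i.1 + 1) + 1 by omega,
        pow_succ]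
      ring
    · simp [h]
    · rw [if_neg (by omega), if_neg (by omega), if_neg (by omega), add_zero]
  · rw [E_eq_zero (by omega), zero_dotProduct, add_zero]
    have := i.2
    rcases (show i.1 = k ∨ k < i.1 by omega) with h | h
    · simp [E, h]
    · simp [E, show ¬ i.1 ≤ k by omega, show i.1 ≠ k by omega]

/-- The vector `e₁ - e₀`. -/
def f0 (n : ℕ) (F : Type*) [Field F] : Fin n → F := E 1 - E 0

theorem E_dot_f0 (hn : 2 ≤ n) {i : ℕ} (hi : i < n) :
    (E i : Fin n → F) ⬝ᵥ f0 n F = (if i = 1 then 1 else 0) - (if i = 0 then 1 else 0) := by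
  rw [f0, dotProduct_sub, E_dot_E 1 hi, E_dot_E 0 hi]

/-- Generation from `jU`, `v` and one transvection. -/
theorem eq_top_pair (hn : 4 ≤ n) {g c : F}
    (hc : c ≠ 0) (hgen : ∀ S : AddSubgroup F, (1 : F) ∈ S → (∀ s ∈ S, s * c ∈ S) → S = ⊤)
    {K : Fin n → F} (hK : K = E (n - 1) ∨ K = ((jU n F)⁻¹).1 *ᵥ E (n - 1))
    {G : Subgroup (SpecialLinearGroup (Fin n) F)} (hu : jU n F ∈ G)
    {v : SpecialLinearGroup (Fin n) F} (hv : v ∈ G)
    (hv0 : v.1 *ᵥ E 0 = E 0 + (g • f0 n F + c • K))
    (hvl : (E (n - 1) - c • (E 0 + E 1) : Fin n → F) ᵥ* v.1 = E (n - 1))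
    (hT : TM G (E (n - 1)) (E (n - 2))) : G = ⊤ := by
  obtain ⟨m, rfl⟩ : ∃ m, n = m + 4 := ⟨n - 4, by omega⟩
  simp only [show m + 4 - 1 = m + 3 from rfl, show m + 4 - 2 = m + 2 from rfl] at hK hvl hT
  set el : Fin (m + 4) → F := E (m + 3) with hel
  set eb : Fin (m + 4) → F := E (m + 2) with heb
  set ff := f0 (m + 4) F with hff
  set φ' : Fin (m + 4) → F := el - c • (E 0 + E 1) with hφ'
  have dE : ∀ {i : ℕ} (j : ℕ), i < m + 4 →
      (E i : Fin (m + 4) → F) ⬝ᵥ E j = if i = j then 1 else 0 := fun j h ↦ E_dot_E j h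
  have hneb : eb ⬝ᵥ el = 0 := E_dot_E_ne (by omega) (by omega)
  have helb : el ⬝ᵥ eb = 0 := E_dot_E_ne (by omega) (by omega)
  have hUel : (jU (m + 4) F).1 *ᵥ el = el + eb := jU_mulVec_E (by omega)
  have hinvl : el ᵥ* ((jU (m + 4) F)⁻¹).1 = el := E_vecMul_jU_inv_last (by omega)
  have hxbl : TM G eb el := by
    have h1 := hT.conj hu
    have hbU : eb ᵥ* ((jU (m + 4) F)⁻¹).1 = eb - el := by
      have : eb ᵥ* (jU (m + 4) F).1 = eb + el := E_vecMul_jU (by omega)
      have h2 := congrArg (fun x ↦ x ᵥ* ((jU (m + 4) F)⁻¹).1) this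
      simp only [vecMul_vecMul, val_mul_inv, vecMul_one, add_vecMul, hinvl] at h2
      exact eq_sub_of_add_eq h2.symm
    rw [hUel, hbU] at h1
    obtain ⟨hh, hmem⟩ := hT.neg_right
    have h3 := h1.conj hmem
    have hbb : eb ⬝ᵥ eb = 1 := by rw [dE _ (by omega), if_pos rfl]
    have hll : el ⬝ᵥ el = 1 := by rw [dE _ (by omega), if_pos rfl]
    have e1 : (tv el (-eb) hh).1 *ᵥ (el + eb) = eb := by
      rw [tv_mulVec, dotProduct_add, neg_dotProduct, neg_dotProduct, hneb, hbb]
      module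
    have e2 : (eb - el) ᵥ* ((tv el (-eb) hh)⁻¹).1 = -el := by
      rw [tv_inv, tv_val, vecMul_add, vecMul_one, vecMul_vecMulVec, sub_dotProduct, hneb, hll]
      module
    rw [e1, e2] at h3
    simpa using h3.neg_right
  have hcol : ∀ d, d ≤ m + 2 → TM G (E (m + 2 - d)) el := by
    intro d
    induction d with
    | zero => exact fun _ ↦ hxbl
    | succ d ih =>
      intro hd
      have h1 := ih (by omega)
      have h2 := h1.conj hu
      rw [hinvl, show m + 2 - d = m + 2 - (d + 1) + 1 by omega, jU_mulVec_E (by omega)] at h2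
      rw [show m + 2 - d = m + 2 - (d + 1) + 1 by omega] at h1
      simpa using h2.sub_left h1
  have hxk : ∀ k, k ≤ m + 2 → TM G (E k) el := fun k hk ↦ by
    have := hcol (m + 2 - k) (by omega)
    rwa [show m + 2 - (m + 2 - k) = k by omega] at this
  have hf0el : el ⬝ᵥ ff = 0 := by rw [hel, hff, E_dot_f0 (by omega) (by omega)]; simp
  have hKl : el ⬝ᵥ K = 1 := by
    rcases hK with rfl | rfl
    · rw [dE _ (by omega), if_pos rfl]
    · rw [dotProduct_mulVec, hinvl, dE _ (by omega), if_pos rfl]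
  have hP : el ⬝ᵥ (E 0 + (g • ff + c • K)) = c := by
    rw [dotProduct_add, dotProduct_add, dotProduct_smul, dotProduct_smul, hf0el, hKl,
      dE _ (by omega), if_neg (by omega)]
    simp
  have hφf : φ' ⬝ᵥ ff = 0 := by
    rw [hφ', sub_dotProduct, hf0el, smul_dotProduct, add_dotProduct, hff,
      E_dot_f0 (by omega) (by omega), E_dot_f0 (by omega) (by omega)]
    simp
  have hvinv : el ᵥ* (v⁻¹).1 = φ' := by
    rw [← hvl, vecMul_vecMul, val_mul_inv, vecMul_one]
  have hwrap : ∀ s : F, TM G (E 0) (s • el) → TM G (E 0 + (g • ff + c • K)) (s • φ') := fun s hs ↦ by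
    have := hs.conj hv
    rwa [hv0, smul_vecMul, hvinv] at this
  have hffl : TM G ff el := (hxk 1 (by omega)).sub_left (hxk 0 (by omega))
  let S : AddSubgroup F :=
    { carrier := {s | TM G ff (s • el)}
      zero_mem' := by simpa using TM.zero_right (G := G) ff
      add_mem' := fun {a b} ha hb ↦ by simpa [add_smul] using TM.add_right ha hb
      neg_mem' := fun {a} ha ↦ by simpa [neg_smul] using TM.neg_right ha }
  have hφl : φ' ⬝ᵥ el = 1 := by
    rw [hφ', sub_dotProduct, smul_dotProduct, add_dotProduct, dE _ (by omega), dE _ (by omega),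
      dE _ (by omega), if_pos rfl, if_neg (by omega), if_neg (by omega)]
    simp
  have hφb : eb ⬝ᵥ ff = 0 := by rw [heb, hff, E_dot_f0 (by omega) (by omega)]; simp
  have htop : S = ⊤ := hgen S (show TM G ff ((1 : F) • el) by rwa [one_smul]) fun s hs ↦ by
    have h0 : TM G (E 0) ((1 : F) • el) := by rw [one_smul]; exact hxk 0 (by omega)
    have h1 : TM G ff ((s * c) • φ') := by
      have := TM.comm hs (hwrap 1 h0) (by rw [one_smul]; exact hφf)
      rw [smul_dotProduct, hP, smul_eq_mul, one_smul] at this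
      exact this
    have h2 : TM G ff ((s * c) • eb) := by
      simpa [smul_dotProduct, hφl, smul_smul] using h1.comm hT hφb
    show TM G ff ((s * c) • el)
    simpa [smul_dotProduct, heb, dE _ (show m + 2 < m + 4 by omega), smul_smul] using
      h2.comm hxbl hf0el
  have hffall : ∀ s : F, TM G ff (s • el) := fun s ↦ by
    have : s ∈ S := by rw [htop]; trivial
    exact this
  have hx0 : ∀ s : F, TM G (E 0) (s • el) := fun s ↦ by
    have h1 := (hffall s).conj hu
    have e : (jU (m + 4) F).1 *ᵥ ff = E 1 := by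
      rw [hff, f0, mulVec_sub, jU_mulVec_E (show 0 + 1 < m + 4 by omega),
        jU_mulVec_E_zero (by omega)]
      simp
    rw [e, smul_vecMul, hinvl] at h1
    have := h1.sub_left (hffall s)
    simpa [hff, f0] using this
  set ρ : Fin (m + 4) → F := E 0 + E 1 with hρ
  have hp : ∀ s : F, TM G (g • ff + c • K) (s • ρ) := by
    intro s
    obtain ⟨hh, hmem⟩ := hx0 (-c⁻¹)
    have h1 := (hwrap (-(s * c⁻¹)) (hx0 _)).conj hmem
    have e1 : (tv (E 0) ((-c⁻¹) • el) hh).1 *ᵥ (E 0 + (g • ff + c • K)) = g • ff + c • K := by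
      rw [tv_mulVec, smul_dotProduct, hP, smul_eq_mul, neg_mul, inv_mul_cancel₀ hc]
      module
    have hφ0 : φ' ⬝ᵥ E 0 = -c := by
      rw [hφ', sub_dotProduct, smul_dotProduct, add_dotProduct, dE _ (by omega), dE _ (by omega),
        dE _ (by omega), if_neg (by omega), if_pos rfl, if_neg (by omega)]
      simp
    have e2 : φ' ᵥ* ((tv (E 0) ((-c⁻¹) • el) hh)⁻¹).1 = (-c) • ρ := by
      rw [tv_inv, tv_val, vecMul_add, vecMul_one, vecMul_vecMulVec, hφ0, hφ']
      simp [smul_smul, hc]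
      module
    rw [e1, smul_vecMul, e2, smul_smul] at h1
    simpa [hc] using h1
  have hρE : ∀ {k : ℕ}, 2 ≤ k → ρ ⬝ᵥ E k = 0 := fun h ↦ by
    rw [hρ, add_dotProduct, dE _ (by omega), dE _ (by omega), if_neg (by omega), if_neg (by omega),
      add_zero]
  have hPK : el ⬝ᵥ (g • ff + c • K) = c := by
    rw [dotProduct_add, dotProduct_smul, dotProduct_smul, hf0el, hKl]
    simp
  have hkρ : ∀ (k : ℕ) (s : F), 2 ≤ k → k ≤ m + 2 → TM G (E k) (s • ρ) := fun k s h1 h2 ↦ by
    have := (hxk k h2).comm (hp (s * c⁻¹)) (by rw [smul_dotProduct, hρE h1, smul_zero])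
    simpa [hPK, smul_smul, hc, mul_comm c, mul_assoc] using this
  have hρf : ρ ⬝ᵥ ff = 0 := by
    rw [hρ, add_dotProduct, hff, E_dot_f0 (by omega) (by omega), E_dot_f0 (by omega) (by omega)]
    simp
  have hfρ : ∀ s : F, TM G ff (s • ρ) := fun s ↦ by
    have := hffl.comm (hp (s * c⁻¹)) (by rw [smul_dotProduct, hρf, smul_zero])
    simpa [hPK, smul_smul, hc, mul_comm c, mul_assoc] using this
  have hKρ : ∀ s : F, TM G K (s • ρ) := fun s ↦ by
    have h1 : TM G (g • ff) ((c⁻¹ * s) • ρ) :=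
      (TM.smul_iff g).2 (by rw [smul_smul]; exact hfρ _)
    have h2 := (hp (c⁻¹ * s)).sub_left h1
    rw [add_sub_cancel_left] at h2
    simpa [smul_smul, hc] using (TM.smul_iff c).1 h2
  have hlρ : ∀ s : F, TM G el (s • ρ) := by
    intro s
    rcases hK with rfl | rfl
    · exact hKρ s
    · -- subtract the lower components
      have hdec : ((jU (m + 4) F)⁻¹).1 *ᵥ el = el + (-1 : F) ^ (m + 2) • ff +
          ∑ k ∈ Finset.Icc 2 (m + 2), ((-1 : F) ^ (m + 3 - k)) • E k := by
        ext r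
        rw [hel, jU_inv_mulVec_E _ (by omega), if_pos (by have := r.2; omega)]
        simp only [Pi.add_apply, Pi.smul_apply, Finset.sum_apply, hff, f0, Pi.sub_apply, smul_eq_mul,
          E, mul_ite, mul_one, mul_zero, Finset.sum_ite_eq, Finset.mem_Icc]
        have := r.2
        rcases (show r.1 = 0 ∨ r.1 = 1 ∨ r.1 = m + 3 ∨ (2 ≤ r.1 ∧ r.1 ≤ m + 2) by omega) with
          h | h | h | h
        · rw [h, if_neg (by omega), if_neg (by omega), if_pos rfl, if_neg (by omega),
            show m + 3 - 0 = m + 2 + 1 by omega, pow_succ]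
          ring
        · rw [h, if_neg (by omega), if_pos rfl, if_neg (by omega), if_neg (by omega),
            show m + 3 - 1 = m + 2 by omega]
          ring
        · rw [h, if_pos rfl, if_neg (by omega), if_neg (by omega), if_neg (by omega),
            show m + 3 - (m + 3) = 0 by omega]
          ring
        · rw [if_neg (by omega), if_neg (by omega), if_neg (by omega), if_pos h]
          ring
      have h1 := hKρ s
      rw [hdec] at h1
      have hs : TM G (∑ k ∈ Finset.Icc 2 (m + 2), ((-1 : F) ^ (m + 3 - k)) • E k) (s • ρ) := by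
        refine Finset.sum_induction _ (fun x ↦ TM G x (s • ρ)) (fun a b ↦ TM.add_left) ?_ ?_
        · exact ⟨dotProduct_zero _, by rw [tv_zero_left]; exact one_mem _⟩
        · intro k hk
          rw [Finset.mem_Icc] at hk
          exact (TM.smul_iff _).2 (by rw [smul_smul]; exact hkρ k _ hk.1 hk.2)
      have hf : TM G ((-1 : F) ^ (m + 2) • ff) (s • ρ) :=
        (TM.smul_iff _).2 (by rw [smul_smul]; exact hfρ _)
      simpa using (h1.sub_left hs).sub_left hf
  let Φ : Submodule F (Fin (m + 4) → F) :=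
    { carrier := {φ | ∀ s : F, TM G el (s • φ)}
      zero_mem' := fun s ↦ by simpa using TM.zero_right (G := G) el
      add_mem' := fun {a b} ha hb s ↦ by simpa [smul_add] using TM.add_right (ha s) (hb s)
      smul_mem' := fun a φ h s ↦ by simpa [smul_smul] using h (s * a) }
  have hρΦ : ρ ∈ Φ := hlρ
  have hx1b : TM G (E 1) eb := by
    refine (hxk 1 (by omega)).comm_one hT (E_dot_E_ne (by omega) (by omega)) ?_
    rw [dE _ (by omega), if_pos rfl]
  have hbΦ : eb ∈ Φ := fun s ↦ by
    simpa [smul_dotProduct, hρ, add_dotProduct, dE _ (show 0 < m + 4 by omega),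
      dE _ (show 1 < m + 4 by omega)] using (hlρ s).comm hx1b hneb
  have hstep : ∀ φ ∈ Φ, φ ⬝ᵥ eb = 0 → φ ᵥ* (jU (m + 4) F).1 ∈ Φ := by
    intro φ hφ hb s
    have h1 := (hφ s).conj (inv_mem hu)
    rw [inv_inv, smul_vecMul] at h1
    have hne : φ ⬝ᵥ el = 0 := by
      obtain ⟨h, -⟩ := hφ 1
      simpa using h
    have h0 : (s • (φ ᵥ* (jU (m + 4) F).1)) ⬝ᵥ el = 0 := by
      rw [smul_dotProduct, ← dotProduct_mulVec, hUel, dotProduct_add, hne, hb, add_zero, smul_zero]
    have h2 := hT.comm h1 h0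
    have hco : eb ⬝ᵥ (((jU (m + 4) F)⁻¹).1 *ᵥ el) = -1 := by
      rw [heb, hel, E_dot _ (show m + 2 < m + 4 by omega), jU_inv_mulVec_E _ (by omega),
        if_pos (Nat.le_succ _), show m + 3 - (m + 2) = 1 by omega, pow_one]
    rw [hco, neg_one_smul] at h2
    simpa using h2.neg_right
  have hW : ∀ k, k + 1 ≤ m + 2 → (E k + E (k + 1) : Fin (m + 4) → F) ∈ Φ := by
    intro k
    induction k with
    | zero => exact fun _ ↦ hρΦ
    | succ k ih =>
      intro hk
      have h1 := hstep _ (ih (by omega)) (by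
        rw [add_dotProduct, heb, dE _ (by omega), dE _ (by omega), if_neg (by omega),
          if_neg (by omega), add_zero])
      rw [add_vecMul, E_vecMul_jU (by omega), E_vecMul_jU (by omega)] at h1
      have h2 := Φ.sub_mem h1 (ih (by omega))
      convert h2 using 1
      abel
  have hE : ∀ d, d ≤ m + 2 → (E (m + 2 - d) : Fin (m + 4) → F) ∈ Φ := by
    intro d
    induction d with
    | zero => exact fun _ ↦ hbΦ
    | succ d ih =>
      intro hd
      have h1 := hW (m + 2 - (d + 1)) (by omega)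
      have h2 := ih (by omega)
      rw [show m + 2 - d = m + 2 - (d + 1) + 1 by omega] at h2
      simpa using Φ.sub_mem h1 h2
  refine eq_top_of_full_last (by omega) hu fun φ hφ ↦ ?_
  rw [show m + 4 - 1 = m + 3 from rfl] at hφ ⊢
  have hmem : φ ∈ Φ := by
    have hsum : φ = ∑ k : Fin (m + 4), φ k • E (k : ℕ) := by
      ext j; simp [E, Fin.val_inj, Finset.sum_apply]
    rw [hsum]
    refine Φ.sum_mem fun k _ ↦ ?_
    rcases eq_or_ne (k : ℕ) (m + 3) with h | h
    · rw [dot_E φ (show m + 3 < m + 4 by omega)] at hφ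
      rw [show k = ⟨m + 3, by omega⟩ from Fin.ext h, hφ, zero_smul]
      exact Φ.zero_mem
    · have := hE (m + 2 - k) (by omega)
      rw [show m + 2 - (m + 2 - (k : ℕ)) = k by omega] at this
      exact Φ.smul_mem _ this
  simpa using hmem 1

end CfsgLib.Linear.RegGen
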