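/-
The second regular unipotent generator of SL_n and the powers giving a transvection.
-/
import Mathlib
import Cfsg.Agent.Lib.Linear.RegUnipPair

set_option autoImplicit false

namespace CfsgLib.Linear.RegGen

open Matrix
open scoped commutatorElement

variable {n : ℕ} {F : Type*} [Field F]

/-- The functional `e₀ + e₁`. -/
def rho (n : ℕ) (F : Type*) [Field F] : Fin n → F := E 0 + E 1

/-- The wrap vector. -/
def pVec (g c : F) (K : Fin n → F) : Fin n → F := g • f0 n F + c • K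

/-- The functional `φ₁`. -/
def phi1 (n : ℕ) (F : Type*) [Field F] : Fin n → F := (E 0 + E 1) + (E 1 + E 2)

/-- The second generator. -/
def vMat (g c d : F) (j : ℕ) (K : Fin n → F) : Matrix (Fin n) (Fin n) F :=
  ((jU n F)⁻¹).1 + vecMulVec (pVec g c K) (rho n F) + vecMulVec (E 0) (E 1) +
    d • vecMulVec (f0 n F) (E j)

/-- `v u - 1`. -/
def aMat (g c d : F) (j : ℕ) (K : Fin n → F) : Matrix (Fin n) (Fin n) F :=
  vecMulVec (pVec g c K) (phi1 n F) + vecMulVec (E 0) (E 1 + E 2) +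
    d • vecMulVec (f0 n F) (E j + E (j + 1))

/-- The admissible data for the construction. -/
structure Admissible (n j : ℕ) (K : Fin n → F) : Prop where
  n4 : 4 ≤ n
  j2 : 2 ≤ j
  jn : j + 2 ≤ n
  K1 : phi1 n F ⬝ᵥ K = 0
  K2 : (E 1 + E 2 : Fin n → F) ⬝ᵥ K = 0
  K3 : (E j + E (j + 1) : Fin n → F) ⬝ᵥ K = 0
  K0 : rho n F ⬝ᵥ K = 0
  Kl : E (n - 1) ⬝ᵥ K = 1

theorem admissible_inv (hn : 4 ≤ n) {j : ℕ} (hj : 2 ≤ j) (hjn : j + 2 ≤ n) :
    Admissible n j (((jU n F)⁻¹).1 *ᵥ E (n - 1)) := by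
  have key : ∀ k, k + 1 < n → (E k + E (k + 1) : Fin n → F) ⬝ᵥ (((jU n F)⁻¹).1 *ᵥ E (n - 1)) = 0 := by
    intro k hk
    rw [← E_vecMul_jU (show k < n by omega), ← dotProduct_mulVec, mulVec_mulVec, val_mul_inv,
      one_mulVec, E_dot_E_ne (by omega) (by omega)]
  refine ⟨hn, hj, hjn, ?_, key 1 (by omega), key j (by omega), key 0 (by omega), ?_⟩
  · rw [phi1, add_dotProduct, key 0 (by omega), key 1 (by omega), add_zero]
  · rw [dotProduct_mulVec, E_vecMul_jU_inv_last (by omega), E_dot_E _ (by omega), if_pos rfl]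

theorem admissible_last (hn : 4 ≤ n) {j : ℕ} (hj : 2 ≤ j) (hjn : j + 3 ≤ n) :
    Admissible n j (E (n - 1) : Fin n → F) := by
  have key : ∀ k, k + 2 < n → (E k + E (k + 1) : Fin n → F) ⬝ᵥ E (n - 1) = 0 := by
    intro k hk
    rw [add_dotProduct, E_dot_E_ne (by omega) (by omega), E_dot_E_ne (by omega) (by omega),
      add_zero]
  refine ⟨hn, hj, by omega, ?_, key 1 (by omega), key j (by omega), key 0 (by omega), ?_⟩
  · rw [phi1, add_dotProduct, key 0 (by omega), key 1 (by omega), add_zero]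
  · rw [E_dot_E _ (by omega), if_pos rfl]

section

variable {g c d : F} {j : ℕ} {K : Fin n → F} (h : Admissible n j K)
include h

theorem dot_f0 {i : ℕ} (hi : i < n) :
    (E i : Fin n → F) ⬝ᵥ f0 n F = (if i = 1 then 1 else 0) - (if i = 0 then 1 else 0) :=
  E_dot_f0 (by have := h.n4; omega) hi

theorem rho_f0 : rho n F ⬝ᵥ f0 n F = 0 := by
  have := h.n4
  rw [rho, add_dotProduct, dot_f0 h (by omega), dot_f0 h (by omega)]
  simp

theorem rho_pVec : rho n F ⬝ᵥ pVec g c K = 0 := by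
  rw [pVec, dotProduct_add, dotProduct_smul, dotProduct_smul, rho_f0 h, h.K0, smul_zero,
    smul_zero, add_zero]

theorem rho_E0 : rho n F ⬝ᵥ E 0 = 1 := by
  have := h.n4
  rw [rho, add_dotProduct, E_dot_E _ (by omega), E_dot_E _ (by omega)]
  simp

theorem phi3_f0 : (E j + E (j + 1) : Fin n → F) ⬝ᵥ f0 n F = 0 := by
  have := h.jn; have := h.j2
  rw [add_dotProduct, dot_f0 h (by omega), dot_f0 h (by omega)]
  simp [show j ≠ 0 by omega, show j ≠ 1 by omega]

theorem phi2_f0 : (E 1 + E 2 : Fin n → F) ⬝ᵥ f0 n F = 1 := by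
  have := h.n4
  rw [add_dotProduct, dot_f0 h (by omega), dot_f0 h (by omega)]
  simp

theorem phi1_f0 : phi1 n F ⬝ᵥ f0 n F = 1 := by
  have h0 := rho_f0 h
  rw [rho] at h0
  rw [phi1, add_dotProduct, h0, phi2_f0 h, zero_add]

theorem phi1_E0 : phi1 n F ⬝ᵥ E 0 = 1 := by
  have h0 := rho_E0 h
  have := h.n4
  rw [rho] at h0
  rw [phi1, add_dotProduct, h0, add_dotProduct, E_dot_E _ (by omega), E_dot_E _ (by omega)]
  simp

theorem phi2_E0 : (E 1 + E 2 : Fin n → F) ⬝ᵥ E 0 = 0 := by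
  have := h.n4
  rw [add_dotProduct, E_dot_E _ (by omega), E_dot_E _ (by omega)]
  simp

theorem phi3_E0 : (E j + E (j + 1) : Fin n → F) ⬝ᵥ E 0 = 0 := by
  have := h.jn; have := h.j2
  rw [add_dotProduct, E_dot_E _ (by omega), E_dot_E _ (by omega)]
  simp [show j ≠ 0 by omega]

theorem phi1_pVec : phi1 n F ⬝ᵥ pVec g c K = g := by
  rw [pVec, dotProduct_add, dotProduct_smul, dotProduct_smul, phi1_f0 h, h.K1]; simp

theorem phi2_pVec : (E 1 + E 2 : Fin n → F) ⬝ᵥ pVec g c K = g := by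
  rw [pVec, dotProduct_add, dotProduct_smul, dotProduct_smul, phi2_f0 h, h.K2]; simp

theorem phi3_pVec : (E j + E (j + 1) : Fin n → F) ⬝ᵥ pVec g c K = 0 := by
  rw [pVec, dotProduct_add, dotProduct_smul, dotProduct_smul, phi3_f0 h, h.K3]; simp

theorem vMat_mulVec (x : Fin n → F) :
    vMat g c d j K *ᵥ x = ((jU n F)⁻¹).1 *ᵥ x + (rho n F ⬝ᵥ x) • pVec g c K +
      (E 1 ⬝ᵥ x) • E 0 + (d * (E j ⬝ᵥ x)) • f0 n F := by
  simp only [vMat, add_mulVec, smul_mulVec, vecMulVec_mulVec, op_smul_eq_smul, smul_smul]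

theorem vMat_mul_jU : vMat g c d j K * (jU n F).1 = 1 + aMat g c d j K := by
  have := h.n4; have := h.jn
  have e1 : rho n F ᵥ* (jU n F).1 = phi1 n F := by
    rw [rho, add_vecMul, E_vecMul_jU (by omega), E_vecMul_jU (by omega), phi1]
  rw [vMat, add_mul, add_mul, add_mul, inv_mul_val, Matrix.smul_mul, vecMulVec_mul, vecMulVec_mul,
    vecMulVec_mul, e1, E_vecMul_jU (by omega), E_vecMul_jU (by omega), aMat]
  abel

theorem vMat_mulVec_E0 : vMat g c d j K *ᵥ E 0 = E 0 + pVec g c K := by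
  have := h.n4; have := h.jn; have := h.j2
  have e : ((jU n F)⁻¹).1 *ᵥ E 0 = E 0 := by
    conv_lhs => rw [← jU_mulVec_E_zero (F := F) (show 0 < n by omega), mulVec_mulVec, inv_mul_val,
      one_mulVec]
  rw [vMat_mulVec h, e, rho_E0 h, E_dot_E _ (by omega), E_dot_E _ (by omega),
    if_neg (show ¬ (1 : ℕ) = 0 by omega), if_neg (show ¬ j = 0 by omega)]
  simp

theorem vMat_vecMul : (E (n - 1) - c • (E 0 + E 1) : Fin n → F) ᵥ* vMat g c d j K = E (n - 1) := by
  have := h.n4; have := h.jn; have := h.j2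
  have a1 : (E (n - 1) - c • (E 0 + E 1) : Fin n → F) ⬝ᵥ pVec g c K = c := by
    have h0 := rho_pVec (g := g) (c := c) h
    rw [rho] at h0
    rw [sub_dotProduct, smul_dotProduct, h0, pVec, dotProduct_add, dotProduct_smul,
      dotProduct_smul, dot_f0 h (by omega), h.Kl, if_neg (show ¬ n - 1 = 1 by omega),
      if_neg (show ¬ n - 1 = 0 by omega)]
    simp
  have a2 : (E (n - 1) - c • (E 0 + E 1) : Fin n → F) ⬝ᵥ E 0 = -c := by
    have h0 := rho_E0 h
    rw [rho] at h0
    rw [sub_dotProduct, smul_dotProduct, h0, E_dot_E _ (by omega),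
      if_neg (show ¬ n - 1 = 0 by omega)]
    simp
  have a3 : (E (n - 1) - c • (E 0 + E 1) : Fin n → F) ⬝ᵥ f0 n F = 0 := by
    have h0 := rho_f0 h
    rw [rho] at h0
    rw [sub_dotProduct, smul_dotProduct, h0, dot_f0 h (by omega),
      if_neg (show ¬ n - 1 = 1 by omega), if_neg (show ¬ n - 1 = 0 by omega)]
    simp
  simp only [vMat, vecMul_add, vecMul_smul, vecMul_vecMulVec, a1, a2, a3, sub_vecMul, smul_vecMul]
  rw [E_vecMul_jU_inv_last (show 1 ≤ n by omega), E01_vecMul_jU_inv (show 1 ≤ n by omega), rho]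
  module

omit h in
/-- The chain `(v-1)^k e₀`. -/
def chain (g c d : F) (j : ℕ) (K : Fin n → F) : ℕ → Fin n → F
  | 0 => E 0
  | k + 1 => vMat g c d j K *ᵥ chain g c d j K k - chain g c d j K k

theorem jU_inv_rec {x y : Fin n → F} (hy : y = ((jU n F)⁻¹).1 *ᵥ x) (r : ℕ) (hr : r + 1 < n) :
    y ⟨r, by omega⟩ + y ⟨r + 1, hr⟩ = x ⟨r, by omega⟩ := by
  have hx : (jU n F).1 *ᵥ y = x := by rw [hy, mulVec_mulVec, val_mul_inv, one_mulVec]
  have h2 := congrArg (fun z ↦ E r ⬝ᵥ z) hx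
  simp only [dotProduct_mulVec, E_vecMul_jU (show r < n by omega), add_dotProduct] at h2
  rwa [E_dot _ (show r < n by omega), E_dot _ hr, E_dot _ (show r < n by omega)] at h2

theorem jU_inv_top {x y : Fin n → F} (hy : y = ((jU n F)⁻¹).1 *ᵥ x) {mm : ℕ} (hmm : mm < n)
    (hx : ∀ r : Fin n, mm < (r : ℕ) → x r = 0) :
    (∀ r : Fin n, mm < (r : ℕ) → y r = 0) ∧ y ⟨mm, hmm⟩ = x ⟨mm, hmm⟩ := by
  have hl : y ⟨n - 1, by omega⟩ = x ⟨n - 1, by omega⟩ := by
    rw [← E_dot y (show n - 1 < n by omega), hy, dotProduct_mulVec,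
      E_vecMul_jU_inv_last (show 1 ≤ n by omega), E_dot]
  have hz : ∀ t r : ℕ, (hr : r < n) → r + t = n - 1 → mm < r → y ⟨r, hr⟩ = 0 := by
    intro t
    induction t with
    | zero =>
      intro r hr he hm
      obtain rfl : r = n - 1 := by omega
      rw [hl, hx _ hm]
    | succ t ih =>
      intro r hr he hm
      have := jU_inv_rec h hy r (by omega)
      rw [ih (r + 1) (by omega) (by omega) (by omega), add_zero, hx ⟨r, hr⟩ hm] at this
      exact this
  have h1 : ∀ r : Fin n, mm < (r : ℕ) → y r = 0 := fun r hr ↦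
    hz (n - 1 - r) r r.2 (by have := r.2; omega) hr
  refine ⟨h1, ?_⟩
  rcases (show mm + 1 < n ∨ mm = n - 1 by omega) with he | he
  · have := jU_inv_rec h hy mm he
    rwa [h1 ⟨mm + 1, he⟩ (Nat.lt_succ_self _), add_zero] at this
  · subst he; exact hl

theorem step_support {x : Fin n → F} {mm : ℕ} (hm : 3 ≤ mm) (hmm : mm < n)
    (hρ : rho n F ⬝ᵥ x = 0) (hx : ∀ r : Fin n, mm < (r : ℕ) → x r = 0) :
    rho n F ⬝ᵥ (vMat g c d j K *ᵥ x - x) = 0 ∧
      (∀ r : Fin n, mm - 1 < (r : ℕ) → (vMat g c d j K *ᵥ x - x) r = 0) ∧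
      (vMat g c d j K *ᵥ x - x) ⟨mm - 1, by omega⟩ = -x ⟨mm, hmm⟩ := by
  have := h.n4
  set y := ((jU n F)⁻¹).1 *ᵥ x with hy
  obtain ⟨hz, htop⟩ := jU_inv_top h hy hmm hx
  refine ⟨?_, ?_, ?_⟩
  · rw [dotProduct_sub, hρ, sub_zero, vMat_mulVec h, hρ, zero_smul, add_zero, dotProduct_add,
      dotProduct_add, dotProduct_smul, dotProduct_smul, rho_f0 h, rho_E0 h, dotProduct_mulVec]
    have h0 := hρ
    rw [rho] at h0 ⊢
    rw [add_dotProduct] at h0
    rw [E01_vecMul_jU_inv (show 1 ≤ n by omega)]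
    simpa using h0
  all_goals rw [vMat_mulVec h, hρ, ← hy]
  · intro r hr
    have h0 : (r : ℕ) ≠ 0 := by omega
    have h1 : (r : ℕ) ≠ 1 := by omega
    rcases (show mm < (r : ℕ) ∨ (r : ℕ) = mm by omega) with hlt | heq
    · simp [hz r hlt, hx r hlt, f0, E, h0, h1]
    · rw [show r = ⟨mm, hmm⟩ from Fin.ext heq]
      simp [htop, f0, E, show mm ≠ 0 by omega, show mm ≠ 1 by omega]
  · have := jU_inv_rec h hy (mm - 1) (by omega)
    simp only [show mm - 1 + 1 = mm by omega, htop] at this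
    simp [f0, E, show mm - 1 ≠ 0 by omega, show mm - 1 ≠ 1 by omega]
    linear_combination this

theorem step_last {x : Fin n → F} (hρ : rho n F ⬝ᵥ x = 0)
    (hx : ∀ r : Fin n, 2 < (r : ℕ) → x r = 0) :
    vMat g c d j K *ᵥ x - x =
      (((if j = 2 then d else 0) - 1) * x ⟨2, by have := h.n4; omega⟩) • f0 n F := by
  have := h.n4; have := h.j2; have := h.jn
  set y := ((jU n F)⁻¹).1 *ᵥ x with hy
  obtain ⟨hz, htop⟩ := jU_inv_top h hy (show 2 < n by omega) hx
  have r0 := jU_inv_rec h hy 0 (by omega)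
  have r1 := jU_inv_rec h hy 1 (by omega)
  simp only [show 1 + 1 = 2 from rfl, htop] at r1
  simp only [show 0 + 1 = 1 from rfl] at r0
  have hj' : E j ⬝ᵥ x = if j = 2 then x ⟨2, by omega⟩ else 0 := by
    rw [E_dot _ (show j < n by omega)]
    split_ifs with h2
    · subst h2; rfl
    · exact hx _ (show 2 < j by omega)
  have hρ' : x ⟨0, by omega⟩ + x ⟨1, by omega⟩ = 0 := by
    rwa [rho, add_dotProduct, E_dot _ (show 0 < n by omega), E_dot _ (show 1 < n by omega)] at hρ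
  rw [vMat_mulVec h, hρ, hj', E_dot x (show 1 < n by omega), ← hy]
  ext r
  simp only [Pi.add_apply, Pi.sub_apply, Pi.smul_apply, smul_eq_mul, zero_mul, f0, E]
  rcases (show (r : ℕ) = 0 ∨ (r : ℕ) = 1 ∨ (r : ℕ) = 2 ∨ 2 < (r : ℕ) by omega) with e | e | e | e
  · rw [show r = ⟨0, by omega⟩ from Fin.ext e]
    by_cases h2 : j = 2 <;> simp [h2] <;> linear_combination r0 - r1
  · rw [show r = ⟨1, by omega⟩ from Fin.ext e]
    by_cases h2 : j = 2 <;> simp [h2] <;> linear_combination r1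
  · rw [show r = ⟨2, by omega⟩ from Fin.ext e]
    simp [htop]
  · simp [hz r e, hx r e, show (r : ℕ) ≠ 0 by omega, show (r : ℕ) ≠ 1 by omega]

theorem chain_support : ∀ k, 1 ≤ k → k + 2 ≤ n →
    rho n F ⬝ᵥ chain g c d j K k = 0 ∧
      (∀ r : Fin n, n - k < (r : ℕ) → chain g c d j K k r = 0) ∧
      ∀ r : Fin n, (r : ℕ) = n - k → chain g c d j K k r = c * (-1) ^ (k - 1) := by
  have := h.n4
  intro k hk
  induction k, hk using Nat.le_induction with
  | base =>
    intro _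
    have e : chain g c d j K 1 = pVec g c K := by
      simp only [chain]
      rw [vMat_mulVec_E0 h, add_sub_cancel_left]
    rw [e]
    refine ⟨rho_pVec h, fun r hr ↦ absurd r.2 (by omega), fun r hr ↦ ?_⟩
    rw [show r = ⟨n - 1, by omega⟩ from Fin.ext hr, pVec]
    have hK := h.Kl
    rw [E_dot _ (show n - 1 < n by omega)] at hK
    simp [f0, E, hK, show n - 1 ≠ 0 by omega, show n - 1 ≠ 1 by omega]
  | succ k hk ih =>
    intro hkn
    obtain ⟨h1, h2, h3⟩ := ih (by omega)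
    obtain ⟨s1, s2, s3⟩ := step_support (g := g) (c := c) (d := d) h (show 3 ≤ n - k by omega)
      (show n - k < n by omega) h1 h2
    refine ⟨s1, fun r hr ↦ s2 r (by omega), fun r hr ↦ ?_⟩
    rw [show r = ⟨n - k - 1, by omega⟩ from Fin.ext (by omega)]
    refine s3.trans ?_
    rw [h3 _ rfl, show k + 1 - 1 = k - 1 + 1 by omega, pow_succ]
    ring

theorem chain_penult : chain g c d j K (n - 1) =
    (((if j = 2 then d else 0) - 1) * (c * (-1) ^ (n - 3))) • f0 n F := by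
  have := h.n4
  obtain ⟨h1, h2, h3⟩ := chain_support (g := g) (c := c) (d := d) h (n - 2) (by omega) (by omega)
  rw [show n - 1 = n - 2 + 1 by omega]
  simp only [chain]
  rw [step_last h h1 (fun r hr ↦ h2 r (by omega)),
    h3 ⟨2, by omega⟩ (show 2 = n - (n - 2) by omega), show n - 2 - 1 = n - 3 by omega]

theorem chain_last : chain g c d j K n = 0 := by
  have := h.n4
  have e : vMat g c d j K *ᵥ f0 n F - f0 n F = 0 := by
    rw [step_last h (rho_f0 h)]
    · simp [f0, E]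
    · intro r hr
      simp [f0, E, show (r : ℕ) ≠ 0 by omega, show (r : ℕ) ≠ 1 by omega]
  refine (congrArg (chain g c d j K) (show n = n - 1 + 1 by omega)).trans ?_
  rw [chain, chain_penult h, mulVec_smul, ← smul_sub, e, smul_zero]

omit h in
/-- The change of basis matrix. -/
def pMat (g c d : F) (j : ℕ) (K : Fin n → F) : Matrix (Fin n) (Fin n) F :=
  Matrix.of fun r i ↦ chain g c d j K (n - 1 - (i : ℕ)) r

theorem pMat_mulVec_E (i : ℕ) (hi : i < n) :
    pMat g c d j K *ᵥ E i = chain g c d j K (n - 1 - i) := by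
  ext r
  rw [mulVec, dot_E _ hi]
  rfl

theorem vMat_mul_pMat : vMat g c d j K * pMat g c d j K = pMat g c d j K * (jU n F).1 := by
  have := h.n4
  refine Matrix.ext_of_mulVec_single fun i ↦ ?_
  rw [show (Pi.single i 1 : Fin n → F) = E i.1 by ext j; simp [E, Pi.single_apply, Fin.ext_iff],
    ← mulVec_mulVec, ← mulVec_mulVec, pMat_mulVec_E h i.1 i.2]
  have hstep : ∀ k, vMat g c d j K *ᵥ chain g c d j K k =
      chain g c d j K k + chain g c d j K (k + 1) := fun k ↦ by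
    rw [chain, add_sub_cancel]
  rw [hstep]
  rcases Nat.eq_zero_or_pos i.1 with e | e
  · rw [e, jU_mulVec_E_zero (by omega), pMat_mulVec_E h 0 (by omega),
      show n - 1 - 0 + 1 = n by omega, chain_last h, add_zero]
  · have := i.2
    obtain ⟨k, hk⟩ : ∃ k, i.1 = k + 1 := ⟨i.1 - 1, by omega⟩
    rw [hk, jU_mulVec_E (show k + 1 < n by omega), mulVec_add, pMat_mulVec_E h _ (by omega),
      pMat_mulVec_E h _ (by omega), show n - 1 - (k + 1) + 1 = n - 1 - k by omega]

omit h in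
/-- The auxiliary matrix sorting the flag. -/
def qMat (n : ℕ) (F : Type*) [Field F] : Matrix (Fin n) (Fin n) F :=
  Matrix.of fun r ↦ if (r : ℕ) = 0 then E 1 else if (r : ℕ) = n - 1 then rho n F else E (r + 1)

omit h in
/-- The diagonal of `qMat * pMat` with the factor `c` removed. -/
def diagC (d : F) (j : ℕ) (r : Fin n) : F :=
  if (r : ℕ) = n - 1 then 1
  else (-1) ^ (n - 2 - (r : ℕ)) *
    if (r : ℕ) = 0 then -((if j = 2 then d else 0) - 1) else 1

theorem det_qp : (qMat n F * pMat g c d j K).det * c = c ^ n * ∏ r : Fin n, diagC d j r := by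
  have := h.n4
  set M := qMat n F * pMat g c d j K with hM
  have hMe : ∀ r i : Fin n, M r i = qMat n F r ⬝ᵥ chain g c d j K (n - 1 - (i : ℕ)) := fun r i ↦ rfl
  have hrow : ∀ r : Fin n, qMat n F r =
      if (r : ℕ) = 0 then E 1 else if (r : ℕ) = n - 1 then rho n F else E (r + 1) := fun r ↦ rfl
  have hup : M.BlockTriangular id := by
    intro r i hir
    simp only [id_eq, Fin.lt_def] at hir
    rw [hMe, hrow, if_neg (by omega)]
    have := r.2
    rcases Nat.eq_zero_or_pos i.1 with e | e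
    · rw [e, show n - 1 - 0 = n - 1 by omega, chain_penult h, dotProduct_smul]
      by_cases hr : r.1 = n - 1
      · rw [if_pos hr, rho_f0 h, smul_zero]
      · rw [if_neg hr, dot_f0 h (by omega), if_neg (show ¬ r.1 + 1 = 1 by omega),
          if_neg (show ¬ r.1 + 1 = 0 by omega), sub_zero, smul_zero]
    · obtain ⟨h1, h2, -⟩ := chain_support (g := g) (c := c) (d := d) h (n - 1 - i.1) (by omega)
        (by omega)
      split_ifs
      · exact h1
      · rw [E_dot _ (show r.1 + 1 < n by omega), h2 _ (show n - (n - 1 - i.1) < r.1 + 1 by omega)]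
  rw [Matrix.det_of_upperTriangular hup]
  have hd : ∀ r : Fin n, M r r * (if (r : ℕ) = n - 1 then c else 1) = c * diagC d j r := by
    intro r
    have := r.2
    rw [hMe, hrow, diagC]
    rcases (show (r : ℕ) = 0 ∨ (r : ℕ) = n - 1 ∨ ((r : ℕ) ≠ 0 ∧ (r : ℕ) < n - 1) by omega) with
      e | e | ⟨e, e'⟩
    · rw [if_pos e, if_neg (show ¬ (r : ℕ) = n - 1 by omega),
        if_neg (show ¬ (r : ℕ) = n - 1 by omega), if_pos e, e, show n - 1 - 0 = n - 1 by omega,
        chain_penult h, dotProduct_smul, dot_f0 h (by omega), if_pos rfl,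
        if_neg (show ¬ (1 : ℕ) = 0 by omega), show n - 2 - 0 = n - 3 + 1 by omega, pow_succ,
        smul_eq_mul]
      ring
    · rw [if_neg (show ¬ (r : ℕ) = 0 by omega), if_pos e, if_pos e, if_pos e, e, Nat.sub_self,
        chain, rho_E0 h]
      ring
    · obtain ⟨-, -, h3⟩ := chain_support (g := g) (c := c) (d := d) h (n - 1 - r.1) (by omega)
        (by omega)
      rw [if_neg e, if_neg (show ¬ (r : ℕ) = n - 1 by omega), if_neg (show ¬ (r : ℕ) = n - 1 by omega),
        if_neg (show ¬ (r : ℕ) = n - 1 by omega), if_neg e, E_dot _ (show r.1 + 1 < n by omega),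
        h3 _ (show r.1 + 1 = n - (n - 1 - r.1) by omega),
        show n - 1 - r.1 - 1 = n - 2 - r.1 by omega]
      ring
  have hprod := Finset.prod_congr (s₁ := (Finset.univ : Finset (Fin n))) rfl fun r _ ↦ hd r
  rw [Finset.prod_mul_distrib, Finset.prod_mul_distrib, Finset.prod_const, Finset.card_univ,
    Fintype.card_fin, Finset.prod_eq_single (⟨n - 1, by omega⟩ : Fin n) (f := fun r : Fin n ↦
      if (r : ℕ) = n - 1 then c else 1) (fun b _ hb ↦ if_neg fun e ↦ hb (Fin.ext e))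
      (fun hh ↦ absurd (Finset.mem_univ _) hh), if_pos rfl] at hprod
  exact hprod

theorem diagC_ne (hd : j = 2 → d ≠ 1) : ∏ r : Fin n, diagC d j r ≠ 0 := by
  refine Finset.prod_ne_zero_iff.2 fun r _ ↦ ?_
  rw [diagC]
  split_ifs with h1 h2 h3
  · exact one_ne_zero
  · exact mul_ne_zero (pow_ne_zero _ (neg_ne_zero.2 one_ne_zero))
      (neg_ne_zero.2 (sub_ne_zero.2 (hd h3)))
  · simp
  · simp

theorem det_pMat_ne (hc : c ≠ 0) (hd : j = 2 → d ≠ 1) : (pMat g c d j K).det ≠ 0 := by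
  intro e
  have := det_qp (g := g) (c := c) (d := d) h
  rw [det_mul, e, mul_zero, zero_mul] at this
  exact mul_ne_zero (pow_ne_zero _ hc) (diagC_ne h hd) this.symm

theorem det_vMat (hc : c ≠ 0) (hd : j = 2 → d ≠ 1) : (vMat g c d j K).det = 1 := by
  have e := congrArg Matrix.det (vMat_mul_pMat (g := g) (c := c) (d := d) h)
  rw [det_mul, det_mul, (jU n F).2, mul_one] at e
  exact mul_right_cancel₀ (det_pMat_ne h hc hd) (by rw [e, one_mul])

theorem vMat_regular (hc : c ≠ 0) (hd : j = 2 → d ≠ 1) :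
    IsNilpotent (vMat g c d j K - 1) ∧ (vMat g c d j K - 1) ^ (n - 1) ≠ 0 := by
  have := h.n4
  set P := pMat g c d j K
  have hP : IsUnit P :=
    (Matrix.isUnit_iff_isUnit_det P).2 (det_pMat_ne (g := g) (c := c) h hc hd).isUnit
  have hN : ∀ k : ℕ, (vMat g c d j K - 1) ^ k * P = P * ((jU n F).1 - 1) ^ k := by
    have h1 : (vMat g c d j K - 1) * P = P * ((jU n F).1 - 1) := by
      rw [sub_mul, one_mul, vMat_mul_pMat h, mul_sub, mul_one]
    intro k
    induction k with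
    | zero => simp
    | succ k ih => rw [pow_succ', mul_assoc, ih, ← mul_assoc, h1, mul_assoc, ← pow_succ']
  obtain ⟨⟨m, hm⟩, hne⟩ := jU_regular (F := F) (show 1 ≤ n by omega)
  refine ⟨⟨m, hP.mul_left_eq_zero.1 (by rw [hN, hm, mul_zero])⟩, fun e ↦ hne ?_⟩
  exact hP.mul_right_eq_zero.1 (by rw [← hN, e, zero_mul])

end

theorem one_add_pow_sq_zero {R : Type*} [Ring R] {X : R} (hX : X * X = 0) (r : ℕ) :
    (1 + X) ^ r = 1 + r • X := by
  induction r with
  | zero => simp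
  | succ r ih =>
    rw [pow_succ, ih, mul_add, mul_one, add_mul, one_mul, smul_mul_assoc, hX, smul_zero, add_zero,
      add_smul, one_smul]
    abel

/-- The power of `v u` which is a transvection. -/
theorem pow_aMat {g c d : F} {j : ℕ} {K : Fin n → F} (h : Admissible n j K) {r : ℕ}
    (hg : (g = -2 ∧ r = 4) ∨ (g = 1 ∧ r = 3 ∧ (2 : F) = 0)) (hg0 : g ≠ 0) :
    (1 + aMat g c d j K) ^ r =
      1 + vecMulVec K (((r : F) * (-(d * c) / g)) • (E j + E (j + 1) : Fin n → F)) := by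
  set P := pVec g c K with hP
  set φ2 : Fin n → F := E 1 + E 2
  set φ3 : Fin n → F := E j + E (j + 1)
  set α : Fin n → F := phi1 n F + (d / g) • φ3 with hα
  set B := vecMulVec P α + vecMulVec (E 0) φ2 with hB
  set C := vecMulVec K ((-(d * c) / g) • φ3) with hC
  have hA : aMat g c d j K = B + C := by
    have hf : f0 n F = g⁻¹ • (P - c • K) := by
      rw [hP, pVec, add_sub_cancel_right, smul_smul, inv_mul_cancel₀ hg0, one_smul]
    rw [aMat, hB, hC, hα, hf]
    ext a b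
    simp [vecMulVec, ← hP, φ2, φ3]
    ring
  have aP : α ⬝ᵥ P = g := by
    rw [hα, hP, add_dotProduct, smul_dotProduct, phi1_pVec h, phi3_pVec h]; simp
  have a0 : α ⬝ᵥ E 0 = 1 := by
    rw [hα, add_dotProduct, smul_dotProduct, phi1_E0 h, phi3_E0 h]; simp
  have aK : α ⬝ᵥ K = 0 := by
    rw [hα, add_dotProduct, smul_dotProduct, h.K1, h.K3]; simp
  have bP : φ2 ⬝ᵥ P = g := phi2_pVec h
  have b0 : φ2 ⬝ᵥ E 0 = 0 := phi2_E0 h
  have bK : φ2 ⬝ᵥ K = 0 := h.K2
  have cP : φ3 ⬝ᵥ P = 0 := phi3_pVec h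
  have c0 : φ3 ⬝ᵥ E 0 = 0 := phi3_E0 h
  have cK : φ3 ⬝ᵥ K = 0 := h.K3
  have hBC : B * C = 0 := by
    simp [hB, hC, add_mul, vecMulVec_mul_vecMulVec, aK, bK]
  have hCB : C * B = 0 := by
    simp [hB, hC, mul_add, vecMulVec_mul_vecMulVec, smul_dotProduct, cP, c0]
  have hCC : C * C = 0 := by
    simp [hC, vecMulVec_mul_vecMulVec, smul_dotProduct, cK]
  have hcomm : Commute (1 + B) (1 + C) := by
    unfold Commute SemiconjBy
    simp [mul_add, add_mul, hBC, hCB]
    abel
  have hBr : (1 + B) ^ r = 1 := by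
    rcases hg with ⟨rfl, rfl⟩ | ⟨rfl, rfl, h2⟩
    · set X := vecMulVec P φ2 + vecMulVec (E 0) ((2 : F) • φ2 - (2 : F) • α) with hX
      have e1 : (1 + B) * (1 + B) = 1 + X := by
        simp only [hB, hX, mul_add, add_mul, mul_one, one_mul, vecMulVec_mul_vecMulVec, aP, a0, bP,
          b0]
        ext a b
        simp [vecMulVec]
        ring
      have e2 : (1 + X) * (1 + X) = 1 := by
        simp only [hX, mul_add, add_mul, mul_one, one_mul, vecMulVec_mul_vecMulVec, sub_dotProduct,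
          smul_dotProduct, aP, a0, bP, b0]
        ext a b
        simp [vecMulVec]
        ring
      rw [show (4 : ℕ) = 2 * 2 from rfl, pow_mul, pow_two, pow_two, e1, e2]
    · simp only [hB, pow_succ, pow_zero, mul_add, add_mul, mul_one, one_mul,
        vecMulVec_mul_vecMulVec, add_dotProduct, aP, a0, bP, b0, one_smul, zero_smul,
        vecMulVec_zero]
      ext a b
      simp [vecMulVec]
      linear_combination (P a * (4 * α b + 2 * φ2 b) + E 0 a * (2 * φ2 b + 2 * α b)) * h2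
  rw [hA, show 1 + (B + C) = (1 + B) * (1 + C) by simp [mul_add, add_mul, hBC]; abel,
    hcomm.mul_pow, hBr, one_mul, one_add_pow_sq_zero hCC, hC]
  ext a b
  simp [vecMulVec]
  ring

end CfsgLib.Linear.RegGen
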