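/-
Assembly: SL_n(q), n ≥ 4, generated by two regular unipotent elements, conjugate ones for q prime.
-/
import Mathlib
import Cfsg.Agent.Lib.Linear.RegUnipPairMain

set_option autoImplicit false

namespace CfsgLib.Linear.RegGen

open Matrix

variable {n : ℕ} {F : Type*} [Field F]

theorem addSubgroup_eq_top_of_prime_card [Finite F] (hq : (Nat.card F).Prime) (S : AddSubgroup F)
    {a : F} (ha : a ∈ S) (h0 : a ≠ 0) : S = ⊤ := by
  haveI := Fact.mk hq
  refine (AddSubgroup.eq_bot_or_eq_top_of_prime_card S).resolve_left fun e ↦ h0 ?_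
  rwa [e, AddSubgroup.mem_bot] at ha

theorem TM.of_smul_prime [Finite F] (hq : (Nat.card F).Prime) {ι : Type*} [Fintype ι] [DecidableEq ι]
    {G : Subgroup (SpecialLinearGroup ι F)} {p φ : ι → F} {a : F} (h : TM G p (a • φ)) (ha : a ≠ 0) :
    TM G p φ := by
  let S : AddSubgroup F :=
    { carrier := {s | TM G p (s • φ)}
      zero_mem' := by simpa using TM.zero_right (G := G) p
      add_mem' := fun {a b} ha hb ↦ by simpa [add_smul] using TM.add_right ha hb
      neg_mem' := fun {a} ha ↦ by simpa [neg_smul] using TM.neg_right ha }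
  have h1 : (1 : F) ∈ S := by
    rw [addSubgroup_eq_top_of_prime_card hq S (show a ∈ S from h) ha]; trivial
  have h2 : TM G p ((1 : F) • φ) := h1
  simpa using h2

theorem TM.last_of_three (hn : 4 ≤ n) {G : Subgroup (SpecialLinearGroup (Fin n) F)}
    (hu : jU n F ∈ G) (h : TM G (E (n - 1)) (E (n - 3) + E (n - 2))) :
    TM G (E (n - 1)) (E (n - 2)) := by
  obtain ⟨m, rfl⟩ : ∃ m, n = m + 3 := ⟨n - 3, by omega⟩
  simp only [show m + 3 - 3 = m from rfl, show m + 3 - 2 = m + 1 from rfl,
    show m + 3 - 1 = m + 2 from rfl] at h ⊢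
  have h1 := h.conj hu
  rw [jU_mulVec_E (show m + 1 + 1 < m + 3 by omega), ← E_vecMul_jU (show m < m + 3 by omega),
    vecMul_vecMul, val_mul_inv, vecMul_one] at h1
  have h2 : TM G (E (m + 2)) (E m) := h.comm_one h1 (E_dot_E_ne (by omega) (by omega)) (by
    rw [dotProduct_add, add_dotProduct, add_dotProduct, E_dot_E _ (by omega), E_dot_E _ (by omega),
      E_dot_E _ (by omega), E_dot_E _ (by omega)]
    simp
    omega)
  simpa using h.sub_right h2

/-- The second generator as an element of `SL_n`. -/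
def vElt {g c d : F} {j : ℕ} {K : Fin n → F} (h : Admissible n j K) (hc : c ≠ 0)
    (hd : j = 2 → d ≠ 1) : SpecialLinearGroup (Fin n) F :=
  ⟨vMat g c d j K, det_vMat h hc hd⟩

theorem mul_jU_val {g c d : F} {j : ℕ} {K : Fin n → F} (h : Admissible n j K) (hc : c ≠ 0)
    (hd : j = 2 → d ≠ 1) :
    (vElt (g := g) h hc hd * jU n F).1 = 1 + aMat g c d j K :=
  vMat_mul_jU h

theorem closure_eq_top_of_TM {g c d : F} {j : ℕ} {K : Fin n → F} (h : Admissible n j K) (hc : c ≠ 0)
    (hd : j = 2 → d ≠ 1)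
    (hgen : ∀ S : AddSubgroup F, (1 : F) ∈ S → (∀ s ∈ S, s * c ∈ S) → S = ⊤)
    (hK : K = E (n - 1) ∨ K = ((jU n F)⁻¹).1 *ᵥ E (n - 1))
    (hT : TM (Subgroup.closure ({jU n F, vElt (g := g) h hc hd} : Set _)) (E (n - 1)) (E (n - 2))) :
    Subgroup.closure ({jU n F, vElt (g := g) h hc hd} : Set _) = ⊤ :=
  eq_top_pair h.n4 hc hgen hK (Subgroup.subset_closure (Set.mem_insert _ _))
    (v := vElt (g := g) h hc hd) (Subgroup.subset_closure (Set.mem_insert_of_mem _ rfl)) (vMat_mulVec_E0 h) (vMat_vecMul h) hT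

/-- The data of a choice of parameters: `g`, `r`, and the derived transvection. -/
theorem TM_of_pow {g c d : F} {j : ℕ} {K : Fin n → F} (h : Admissible n j K) (hc : c ≠ 0)
    (hd : j = 2 → d ≠ 1) {r : ℕ}
    (hg : (g = -2 ∧ r = 4) ∨ (g = 1 ∧ r = 3 ∧ (2 : F) = 0)) (hg0 : g ≠ 0) :
    TM (Subgroup.closure ({jU n F, vElt (g := g) h hc hd} : Set _)) K
      (((r : F) * (-(d * c) / g)) • (E j + E (j + 1) : Fin n → F)) := by
  refine ⟨by rw [smul_dotProduct, h.K3, smul_zero], ?_⟩
  have hy : vElt (g := g) h hc hd * jU n F ∈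
      Subgroup.closure ({jU n F, vElt (g := g) h hc hd} : Set _) :=
    mul_mem (Subgroup.subset_closure (by simp)) (Subgroup.subset_closure (by simp))
  convert pow_mem hy r using 1
  refine Subtype.ext ?_
  change _ = (vElt (g := g) h hc hd * jU n F).1 ^ r
  rw [mul_jU_val h hc hd, pow_aMat h hg hg0, tv_val]

/-- The index `j` used. -/
def idx (n : ℕ) : ℕ := if n = 4 then 2 else n - 3

/-- The vector `K` used. -/
def kVec (n : ℕ) (F : Type*) [Field F] : Fin n → F :=
  if n = 4 then ((jU n F)⁻¹).1 *ᵥ E (n - 1) else E (n - 1)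

theorem admissible_std (hn : 4 ≤ n) : Admissible n (idx n) (kVec n F) := by
  unfold idx kVec
  split_ifs with h
  · exact admissible_inv hn le_rfl (by omega)
  · exact admissible_last hn (by omega) (by omega)

theorem kVec_cases : kVec n F = E (n - 1) ∨ kVec n F = ((jU n F)⁻¹).1 *ᵥ E (n - 1) := by
  unfold kVec
  split_ifs
  · exact Or.inr rfl
  · exact Or.inl rfl

theorem TM_last_of_std (hn : 4 ≤ n) {G : Subgroup (SpecialLinearGroup (Fin n) F)} (hu : jU n F ∈ G)
    (h : TM G (kVec n F) (E (idx n) + E (idx n + 1))) : TM G (E (n - 1)) (E (n - 2)) := by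
  unfold idx kVec at h
  split_ifs at h with h4
  · subst h4
    have h1 := h.conj hu
    rw [mulVec_mulVec, val_mul_inv, one_mulVec,
      ← E_vecMul_jU (show 2 < 4 by omega), vecMul_vecMul, val_mul_inv, vecMul_one] at h1
    exact h1
  · refine TM.last_of_three hn hu ?_
    rwa [show n - 3 + 1 = n - 2 by omega] at h

/-- Two regular unipotent elements generate `SL_n(q)`, `q` not prime. -/
theorem two_regular_nonprime [Finite F] (hn : 4 ≤ n) (hq : ¬ (Nat.card F).Prime) :
    ∃ v : SpecialLinearGroup (Fin n) F, (IsNilpotent (v.1 - 1) ∧ (v.1 - 1) ^ (n - 1) ≠ 0) ∧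
      Subgroup.closure ({jU n F, v} : Set _) = ⊤ := by
  obtain ⟨γ, hγ0, hγ⟩ := exists_closed_generator F
  have hgen : ∀ S : AddSubgroup F, (1 : F) ∈ S → (∀ s ∈ S, s * γ ∈ S) → S = ⊤ :=
    fun S h1 h2 ↦ hγ S (by simpa using h2 1 h1) h2
  have hγ1 : γ ≠ 1 := by
    rintro rfl
    apply hq
    obtain ⟨p, _⟩ := CharP.exists F
    have hp : p.Prime := (CharP.char_is_prime F p)
    have ht := hgen (AddSubgroup.zmultiples (1 : F)) (AddSubgroup.mem_zmultiples _)
      fun s hs ↦ by simpa using hs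
    have h2 := Nat.card_zmultiples (1 : F)
    rw [ht, AddSubgroup.card_top, CharP.eq F (CharP.addOrderOf_one F) ‹CharP F p›] at h2
    rwa [h2]
  have hA := admissible_std (F := F) hn
  by_cases h2 : (2 : F) = 0
  · have hc := hγ0
    have hd : idx n = 2 → (γ⁻¹ : F) ≠ 1 := fun _ ↦ inv_ne_one.2 hγ1
    refine ⟨vElt (g := (1 : F)) hA hc hd, vMat_regular hA hc hd, ?_⟩
    refine closure_eq_top_of_TM hA hc hd hgen kVec_cases
      (TM_last_of_std hn (Subgroup.subset_closure (by simp)) ?_)
    have h := TM_of_pow hA hc hd (r := 3) (g := 1) (Or.inr ⟨rfl, rfl, h2⟩) one_ne_zero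
    have e : ((3 : ℕ) : F) * (-(γ⁻¹ * γ) / 1) = 1 := by
      rw [inv_mul_cancel₀ hγ0]
      push_cast
      linear_combination (-2 : F) * h2
    rwa [e, one_smul] at h
  · obtain ⟨d, hd1, hdc⟩ : ∃ d : F, d ≠ 1 ∧ (2 * d * γ = 1 ∨ 2 * d * γ = -1) := by
      by_cases h : (2 * γ)⁻¹ = 1
      · refine ⟨-(2 * γ)⁻¹, ?_, Or.inr (by field_simp)⟩
        rw [h]
        exact fun e ↦ h2 (by linear_combination -e)
      · exact ⟨(2 * γ)⁻¹, h, Or.inl (by field_simp)⟩
    have hc := hγ0
    have hd : idx n = 2 → d ≠ 1 := fun _ ↦ hd1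
    have hg0 : (-2 : F) ≠ 0 := neg_ne_zero.2 h2
    refine ⟨vElt (g := (-2 : F)) hA hc hd, vMat_regular hA hc hd, ?_⟩
    refine closure_eq_top_of_TM hA hc hd hgen kVec_cases
      (TM_last_of_std hn (Subgroup.subset_closure (by simp)) ?_)
    have h := TM_of_pow hA hc hd (r := 4) (g := -2) (Or.inl ⟨rfl, rfl⟩) hg0
    have e : ((4 : ℕ) : F) * (-(d * γ) / -2) = 2 * d * γ := by
      push_cast; field_simp; ring
    rw [e] at h
    rcases hdc with e' | e'
    · rwa [e', one_smul] at h
    · rw [e', neg_one_smul] at h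
      simpa using h.neg_right

/-- `v` is conjugate to `jU` for a suitable `c`. -/
theorem exists_conj_vElt {g d : F} {j : ℕ} {K : Fin n → F} (h : Admissible n j K)
    (hd : j = 2 → d ≠ 1) :
    ∃ (c : F) (hc : c ≠ 0) (x : SpecialLinearGroup (Fin n) F),
      x * jU n F * x⁻¹ = vElt (g := g) (c := c) (d := d) h hc hd := by
  have hR := diagC_ne h hd
  set R := ∏ r : Fin n, diagC d j r
  have hQ : (qMat n F).det ≠ 0 := by
    intro e
    have := det_qp (g := g) (c := (1 : F)) (d := d) h
    rw [det_mul, e, zero_mul, zero_mul, one_pow, one_mul] at this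
    exact hR this.symm
  set c := R / (qMat n F).det with hcdef
  have hc : c ≠ 0 := div_ne_zero hR hQ
  have hP : (pMat g c d j K).det = c ^ n := by
    have := det_qp (g := g) (c := c) (d := d) h
    rw [det_mul, show (∏ r : Fin n, diagC d j r) = c * (qMat n F).det by
      rw [hcdef, div_mul_cancel₀ _ hQ]] at this
    exact mul_left_cancel₀ (mul_ne_zero hQ hc) (by linear_combination this)
  let x : SpecialLinearGroup (Fin n) F := ⟨c⁻¹ • pMat g c d j K, by
    rw [det_smul, Fintype.card_fin, hP, ← mul_pow, inv_mul_cancel₀ hc, one_pow]⟩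
  refine ⟨c, hc, x, ?_⟩
  rw [mul_inv_eq_iff_eq_mul]
  refine Subtype.ext ?_
  show (c⁻¹ • pMat g c d j K) * (jU n F).1 = vMat g c d j K * (c⁻¹ • pMat g c d j K)
  rw [smul_mul_assoc, mul_smul_comm, vMat_mul_pMat h]

theorem aMat_map {K : Type*} [Field K] (f : K →+* F) (g c d : K) (j : ℕ) (k : Fin n → K) :
    (aMat g c d j k).map f = aMat (f g) (f c) (f d) j (fun i ↦ f (k i)) := by
  ext a b
  simp [aMat, vecMulVec, pVec, phi1, f0, E, apply_ite f]

theorem jMat_map {K : Type*} [Field K] (f : K →+* F) : (jMat n K).map f = jMat n F := by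
  ext a b
  simp [jMat, apply_ite f]

/-- A word in two elements. -/
def word {M : Type*} [Monoid M] (a b : M) (l : List Bool) : M :=
  (l.map fun i ↦ if i then b else a).prod

theorem word_mem {M : Type*} [Group M] (a b : M) (l : List Bool) :
    word a b l ∈ Subgroup.closure ({a, b} : Set M) := by
  refine Subgroup.list_prod_mem _ fun x hx ↦ ?_
  obtain ⟨i, -, rfl⟩ := List.mem_map.1 hx
  cases i <;> exact Subgroup.subset_closure (by simp)

theorem map_word {M N : Type*} [Monoid M] [Monoid N] (f : M →* N) (a b : M) (l : List Bool) :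
    f (word a b l) = word (f a) (f b) l := by
  simp only [word, map_list_prod, List.map_map]
  congr 1
  refine List.map_congr_left fun i _ ↦ ?_
  cases i <;> rfl

/-- A word identity over `ZMod 2` transfers to a field with two elements. -/
theorem TM_of_word [Finite F] (h2 : Nat.card F = 2) (hn : 2 ≤ n) {j : ℕ}
    {K₂ : Fin n → ZMod 2} {K : Fin n → F} (h : Admissible n j K) (hd : j = 2 → (0 : F) ≠ 1)
    (hK : ∀ f : ZMod 2 →+* F, (fun i ↦ f (K₂ i)) = K)
    (B : Matrix (Fin n) (Fin n) (ZMod 2)) (hB : B * jMat n (ZMod 2) = 1 + aMat 0 1 0 j K₂)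
    (l : List Bool)
    (hw : word (jMat n (ZMod 2)) B l = 1 + vecMulVec (E (n - 1)) (E (n - 2))) :
    TM (Subgroup.closure ({jU n F, vElt (g := (0 : F)) (c := 1) h one_ne_zero hd} : Set _))
      (E (n - 1)) (E (n - 2)) := by
  haveI : Fintype F := Fintype.ofFinite F
  haveI := Fact.mk Nat.prime_two
  have hcard : Fintype.card F = 2 := by rw [← Nat.card_eq_fintype_card, h2]
  haveI : CharP F 2 := charP_of_card_eq_prime hcard
  let f : ZMod 2 →+* F := ZMod.castHom (dvd_refl 2) F
  refine ⟨E_dot_E_ne (by omega) (by omega), ?_⟩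
  set v := vElt (g := (0 : F)) (c := 1) h one_ne_zero hd with hv
  have hBv : B.map f = v.1 := by
    refine (((Matrix.isUnit_iff_isUnit_det (jU n F).1).2
      (by rw [(jU n F).2]; exact isUnit_one)).mul_left_inj).1 ?_
    change B.map f * jMat n F = vMat (0 : F) 1 0 j K * (jU n F).1
    have he := congrArg (fun M : Matrix (Fin n) (Fin n) (ZMod 2) ↦ M.map f) hB
    simp only [Matrix.map_mul, jMat_map] at he
    rw [he, Matrix.map_add f (map_add f), Matrix.map_one f (map_zero f) (map_one f), aMat_map,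
      map_zero, map_one, hK, vMat_mul_jU h]
  let ι : SpecialLinearGroup (Fin n) F →* Matrix (Fin n) (Fin n) F :=
    { toFun := fun g ↦ g.1, map_one' := rfl, map_mul' := fun _ _ ↦ rfl }
  convert word_mem (jU n F) v l using 1
  refine Subtype.ext ?_
  change _ = ι (word (jU n F) v l)
  rw [map_word, show ι (jU n F) = jMat n F from rfl, show ι v = v.1 from rfl, ← hBv,
    ← jMat_map f, tv_val]
  have hfw := congrArg (fun M ↦ f.mapMatrix M) hw
  rw [map_add, map_one] at hfw
  have hw' : f.mapMatrix (word (jMat n (ZMod 2)) B l) =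
      word (f.mapMatrix (jMat n (ZMod 2))) (f.mapMatrix B) l :=
    map_word (f.mapMatrix : Matrix (Fin n) (Fin n) (ZMod 2) →+* Matrix (Fin n) (Fin n) F).toMonoidHom
      (jMat n (ZMod 2)) B l
  refine Eq.trans ?_ (hfw.symm.trans hw')
  ext a b
  simp [vecMulVec, E, apply_ite f]

theorem prime_four [Finite F] (h2 : Nat.card F = 2) :
    ∃ g : SpecialLinearGroup (Fin 4) F,
      Subgroup.closure ({jU 4 F, g * jU 4 F * g⁻¹} : Set _) = ⊤ := by
  have hq : (Nat.card F).Prime := h2 ▸ Nat.prime_two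
  have hA := admissible_inv (F := F) (n := 4) (j := 2) le_rfl le_rfl (by omega)
  have hd : 2 = 2 → (0 : F) ≠ 1 := fun _ ↦ zero_ne_one
  obtain ⟨c, hc, x, hx⟩ := exists_conj_vElt (g := (0 : F)) hA hd
  haveI : Fintype F := Fintype.ofFinite F
  obtain rfl : c = 1 := by
    have := FiniteField.pow_card_sub_one_eq_one c hc
    rwa [← Nat.card_eq_fintype_card, h2, pow_one] at this
  refine ⟨x, ?_⟩
  rw [hx]
  refine closure_eq_top_of_TM hA one_ne_zero hd
    (fun S h1 _ ↦ addSubgroup_eq_top_of_prime_card hq S h1 one_ne_zero) (Or.inr rfl) ?_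
  refine TM_of_word h2 (by omega) hA hd (K₂ := fun _ ↦ 1) ?_
    !![0, 1, 1, 1; 1, 0, 1, 1; 1, 1, 1, 1; 1, 1, 0, 1] ?_
    [true, false, true, false, false, true, false, true, true, false, true, false] ?_
  · intro f
    ext i
    haveI : Fact (Nat.Prime 2) := ⟨Nat.prime_two⟩
    have hcard : Fintype.card F = 2 := by rw [← Nat.card_eq_fintype_card, h2]
    haveI : CharP F 2 := charP_of_card_eq_prime hcard
    rw [map_one, jU_inv_mulVec_E _ (by omega), if_pos (by omega), CharTwo.neg_eq, one_pow]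
  · decide +kernel
  · decide +kernel

theorem prime_five [Finite F] (h2 : Nat.card F = 2) :
    ∃ g : SpecialLinearGroup (Fin 5) F,
      Subgroup.closure ({jU 5 F, g * jU 5 F * g⁻¹} : Set _) = ⊤ := by
  have hq : (Nat.card F).Prime := h2 ▸ Nat.prime_two
  have hA := admissible_last (F := F) (n := 5) (j := 2) (by omega) le_rfl le_rfl
  have hd : 2 = 2 → (0 : F) ≠ 1 := fun _ ↦ zero_ne_one
  obtain ⟨c, hc, x, hx⟩ := exists_conj_vElt (g := (0 : F)) hA hd
  haveI : Fintype F := Fintype.ofFinite F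
  obtain rfl : c = 1 := by
    have := FiniteField.pow_card_sub_one_eq_one c hc
    rwa [← Nat.card_eq_fintype_card, h2, pow_one] at this
  refine ⟨x, ?_⟩
  rw [hx]
  refine closure_eq_top_of_TM hA one_ne_zero hd
    (fun S h1 _ ↦ addSubgroup_eq_top_of_prime_card hq S h1 one_ne_zero) (Or.inl rfl) ?_
  refine TM_of_word h2 (by omega) hA hd (K₂ := E 4) ?_
    !![1, 0, 1, 1, 1; 0, 1, 1, 1, 1; 0, 0, 1, 1, 1; 0, 0, 0, 1, 1; 1, 1, 0, 0, 1] ?_
    [false, true, false, false, true, true, false, false, false, true, false, false, false, false,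
      true, false, false, false, true, true, false, false, true, false, false] ?_
  · intro f
    ext i
    simp [E, apply_ite f]
  · decide +kernel
  · decide +kernel

/-- Two conjugate regular unipotent elements generate `SL_n(p)`. -/
theorem two_regular_prime [Finite F] (hn : 4 ≤ n) (hq : (Nat.card F).Prime) :
    ∃ g : SpecialLinearGroup (Fin n) F,
      Subgroup.closure ({jU n F, g * jU n F * g⁻¹} : Set _) = ⊤ := by
  by_cases h2 : (2 : F) = 0
  · have hcard : Nat.card F = 2 := by
      haveI : Fintype F := Fintype.ofFinite F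
      haveI := Fact.mk hq
      haveI : CharP F (Nat.card F) := charP_of_card_eq_prime (Nat.card_eq_fintype_card (α := F)).symm
      have hdvd : Nat.card F ∣ 2 := (CharP.cast_eq_zero_iff F _ 2).1 (by exact_mod_cast h2)
      exact (Nat.prime_dvd_prime_iff_eq hq Nat.prime_two).1 hdvd
    rcases (show n = 4 ∨ n = 5 ∨ 6 ≤ n by omega) with rfl | rfl | h6
    · exact prime_four hcard
    · exact prime_five hcard
    · have hA := admissible_std (F := F) hn
      have hd : idx n = 2 → (1 : F) ≠ 1 := fun e ↦ by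
        rw [idx, if_neg (by omega)] at e; omega
      obtain ⟨c, hc, x, hx⟩ := exists_conj_vElt (g := (1 : F)) hA hd
      refine ⟨x, ?_⟩
      rw [hx]
      refine closure_eq_top_of_TM hA hc hd
        (fun S h1 _ ↦ addSubgroup_eq_top_of_prime_card hq S h1 one_ne_zero) kVec_cases
        (TM_last_of_std hn (Subgroup.subset_closure (by simp)) ?_)
      refine TM.of_smul_prime hq
        (TM_of_pow hA hc hd (r := 3) (g := 1) (Or.inr ⟨rfl, rfl, h2⟩) one_ne_zero) ?_
      have h3 : (3 : F) = 1 := by linear_combination h2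
      simpa [h3] using hc
  · have hA := admissible_std (F := F) hn
    have hd : idx n = 2 → (-1 : F) ≠ 1 := fun _ e ↦ h2 (by linear_combination -e)
    obtain ⟨c, hc, x, hx⟩ := exists_conj_vElt (g := (-2 : F)) hA hd
    have hg0 : (-2 : F) ≠ 0 := neg_ne_zero.2 h2
    refine ⟨x, ?_⟩
    rw [hx]
    refine closure_eq_top_of_TM hA hc hd
      (fun S h1 _ ↦ addSubgroup_eq_top_of_prime_card hq S h1 one_ne_zero) kVec_cases
      (TM_last_of_std hn (Subgroup.subset_closure (by simp)) ?_)
    refine TM.of_smul_prime hq (TM_of_pow hA hc hd (r := 4) (g := -2) (Or.inl ⟨rfl, rfl⟩) hg0) ?_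
    have h4 : (4 : F) ≠ 0 := by
      rw [show (4 : F) = 2 * 2 by norm_num]; exact mul_ne_zero h2 h2
    simp [hc, h2, h4]

end CfsgLib.Linear.RegGen
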