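/-
SL_3 over a finite field is generated by two conjugate regular unipotent elements.
-/
import Mathlib
import Cfsg.Agent.Lib.Linear.RegUnipPair

set_option autoImplicit false

namespace CfsgLib.Linear.RegGen

open Matrix

variable {F : Type*} [Field F]

theorem jU3_val : (jU 3 F).1 = !![1, 1, 0; 0, 1, 1; 0, 0, 1] := by
  ext i j
  fin_cases i <;> fin_cases j <;> simp [jU, jMat, Matrix.of_apply]

/-- The parameters `s` with `T(e₂, s e₀)` in `G`. -/
def sigma3 (G : Subgroup (SpecialLinearGroup (Fin 3) F)) : AddSubgroup F where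
  carrier := {s | TM G (E 2) (s • E 0)}
  zero_mem' := by simpa using TM.zero_right (G := G) (E 2)
  add_mem' := fun {a b} ha hb ↦ by simpa [add_smul] using TM.add_right ha hb
  neg_mem' := fun {a} ha ↦ by simpa [neg_smul] using TM.neg_right ha

theorem mem_sigma3 {G : Subgroup (SpecialLinearGroup (Fin 3) F)} {s : F} :
    s ∈ sigma3 G ↔ TM G (E 2) (s • E 0) := Iff.rfl

theorem phi3_of_sigma {G : Subgroup (SpecialLinearGroup (Fin 3) F)} (hu : jU 3 F ∈ G) {s t : F}
    (hs : s ∈ sigma3 G) (ht : t ∈ sigma3 G) : TM G (E 2) ((s * t) • (E 0 + E 1)) := by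
  have h1 := (mem_sigma3.1 ht).conj (inv_mem hu)
  rw [inv_inv, smul_vecMul, E_vecMul_jU (show 0 < 3 by omega)] at h1
  have h0 : (t • (E 0 + E (0 + 1) : Fin 3 → F)) ⬝ᵥ E 2 = 0 := by
    simp [smul_dotProduct, add_dotProduct, E_dot_E]
  have h2 := (mem_sigma3.1 hs).comm h1 h0
  have h3 : (s • E 0 : Fin 3 → F) ⬝ᵥ (((jU 3 F)⁻¹).1 *ᵥ E 2) = s := by
    rw [smul_dotProduct, E_dot _ (show 0 < 3 by omega), jU_inv_mulVec_E _ (by omega)]
    simp
  rw [h3, smul_smul] at h2
  exact h2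

theorem sigma_of_phi3 {G : Subgroup (SpecialLinearGroup (Fin 3) F)} (hu : jU 3 F ∈ G) {s t : F}
    (hs : TM G (E 2) (s • (E 0 + E 1))) (ht : TM G (E 2) (t • (E 0 + E 1))) :
    s * t ∈ sigma3 G := by
  have h1 := ht.conj hu
  rw [smul_vecMul, E01_vecMul_jU_inv (show 1 ≤ 3 by omega), jU_mulVec_E (show 1 + 1 < 3 by omega)]
    at h1
  have h2 := hs.comm h1 (by simp [smul_dotProduct, E_dot_E])
  have h3 : (s • (E 0 + E 1) : Fin 3 → F) ⬝ᵥ (E (1 + 1) + E 1) = s := by
    simp [smul_dotProduct, add_dotProduct, dotProduct_add, E_dot_E]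
  rw [h3, smul_smul] at h2
  exact h2

theorem TM_one_two {G : Subgroup (SpecialLinearGroup (Fin 3) F)} (hu : jU 3 F ∈ G)
    (hs : (1 : F) ∈ sigma3 G) : TM G (E 1) (E 2) := by
  have hx20 : TM G (E 2) (E 0) := by simpa using mem_sigma3.1 hs
  have hT : TM G (E 2) (E 1) := by
    have hs2 : TM G (E 2) ((1 * 1 : F) • E 0) := by simpa using hx20
    simpa using (phi3_of_sigma hu hs hs).sub_right hs2
  have h1 := hT.conj hu
  have hbU : E 1 ᵥ* ((jU 3 F)⁻¹).1 = (E 1 - E 2 : Fin 3 → F) := by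
    have h2 := congrArg (fun x ↦ x ᵥ* ((jU 3 F)⁻¹).1) (E_vecMul_jU (F := F) (show 1 < 3 by omega))
    have h3 : E 2 ᵥ* ((jU 3 F)⁻¹).1 = (E 2 : Fin 3 → F) := E_vecMul_jU_inv_last (n := 3) (by omega)
    simp only [vecMul_vecMul, val_mul_inv, vecMul_one, add_vecMul] at h2
    rw [show (1 + 1 : ℕ) = 2 from rfl, h3] at h2
    exact eq_sub_of_add_eq h2.symm
  rw [jU_mulVec_E (show 1 + 1 < 3 by omega), hbU] at h1
  obtain ⟨hh, hmem⟩ := hT.neg_right
  have h3 := h1.conj hmem
  have e1 : (tv (E 2) (-E 1 : Fin 3 → F) hh).1 *ᵥ (E (1 + 1) + E 1) = E 1 := by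
    rw [tv_mulVec]
    simp [dotProduct_add, neg_dotProduct, E_dot_E]
  have e2 : (E 1 - E 2 : Fin 3 → F) ᵥ* ((tv (E 2) (-E 1 : Fin 3 → F) hh)⁻¹).1 = -E 2 := by
    rw [tv_inv, tv_val, vecMul_add, vecMul_one, vecMul_vecMulVec]
    simp [sub_dotProduct, E_dot_E]
    abel
  rw [e1, e2] at h3
  simpa using h3.neg_right

/-- Generation of `SL_3` from `jU` and a full root group. -/
theorem eq_top_three [Finite F] {G : Subgroup (SpecialLinearGroup (Fin 3) F)} (hu : jU 3 F ∈ G)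
    (h : ∀ s : F, TM G (E 2) (s • E 0)) : G = ⊤ := by
  obtain ⟨γ, -, hγ⟩ := exists_closed_generator F
  have hx20 : TM G (E 2) (E 0) := by simpa using h 1
  have h12 := TM_one_two hu (mem_sigma3.2 (h 1))
  have hinvl : E 2 ᵥ* ((jU 3 F)⁻¹).1 = (E 2 : Fin 3 → F) := E_vecMul_jU_inv_last (n := 3) (by omega)
  have h02 : TM G (E 0) (E 2) := by
    have h1 := h12.conj hu
    rw [hinvl, jU_mulVec_E (show 0 + 1 < 3 by omega)] at h1
    simpa using h1.sub_left h12
  have h21 : TM G (E 2) (γ • E 1) := by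
    have := (phi3_of_sigma hu (mem_sigma3.2 (h γ)) (mem_sigma3.2 (h 1))).sub_right (h (γ * 1))
    simpa [smul_add] using this
  have h01 : TM G (E 0) (γ • E 1) :=
    h02.comm_one h21 (by simp [smul_dotProduct, E_dot_E]) (by simp [E_dot_E])
  refine eq_top_core (n := 3) le_rfl hγ hu ?_ hx20
  have := h01.comm h12 (by simp [E_dot_E])
  simpa [smul_dotProduct, E_dot_E] using this

/-- An additive subgroup of a finite field closed under products and containing a non-zero
element contains `1` and inverses. -/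
theorem closed_mul_facts [Finite F] (S : AddSubgroup F) (hmul : ∀ a ∈ S, ∀ b ∈ S, a * b ∈ S)
    {a : F} (ha : a ∈ S) (h0 : a ≠ 0) : (1 : F) ∈ S ∧ a⁻¹ ∈ S := by
  haveI : Fintype F := Fintype.ofFinite F
  have hpow : ∀ k : ℕ, a ^ (k + 1) ∈ S := by
    intro k
    induction k with
    | zero => simpa using ha
    | succ k ih => rw [pow_succ]; exact hmul _ ih _ ha
  have h1 := FiniteField.pow_card_sub_one_eq_one a h0
  have hq := Fintype.one_lt_card (α := F)
  refine ⟨?_, ?_⟩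
  · rw [← h1, show Fintype.card F - 1 = Fintype.card F - 2 + 1 by omega]
    exact hpow _
  · have : a⁻¹ = a ^ (2 * (Fintype.card F - 1) - 1) := by
      refine inv_eq_of_mul_eq_one_right ?_
      rw [← pow_succ', show 2 * (Fintype.card F - 1) - 1 + 1 = (Fintype.card F - 1) * 2 by omega,
        pow_mul, h1, one_pow]
    rw [this, show 2 * (Fintype.card F - 1) - 1 = 2 * (Fintype.card F - 1) - 2 + 1 by omega]
    exact hpow _

/-- The scalar set attached to `sigma3` in the odd case is everything. -/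
theorem sigma3_eq_top_odd [Finite F] (p : ℕ) [hp : Fact p.Prime] [CharP F p] (hp2 : (2 : F) ≠ 0)
    {G : Subgroup (SpecialLinearGroup (Fin 3) F)} (hu : jU 3 F ∈ G) {δ τ : F} (hδ : δ ≠ 0)
    (hτ : τ ≠ 0) (hτδ : τ = -(δ ^ 2 + 12))
    (hgen : ∀ S : AddSubgroup F, δ ∈ S → (1 : F) ∈ S → (∀ a ∈ S, ∀ b ∈ S, a * b ∈ S) → S = ⊤)
    (h1 : τ ∈ sigma3 G)
    (hstep : ∀ s, TM G (E 2) (s • (E 0 + E 1)) → s * δ ∈ sigma3 G) : sigma3 G = ⊤ := by
  haveI : Fintype F := Fintype.ofFinite F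
  let S : AddSubgroup F := (sigma3 G).comap (AddMonoidHom.mulRight δ⁻¹)
  have hS : ∀ x, x ∈ S ↔ x * δ⁻¹ ∈ sigma3 G := fun x ↦ Iff.rfl
  have hmul : ∀ a ∈ S, ∀ b ∈ S, a * b ∈ S := by
    intro a ha b hb
    have := hstep _ (phi3_of_sigma hu ((hS a).1 ha) ((hS b).1 hb))
    rw [hS]
    convert this using 1
    field_simp
  have hτS : τ * δ ∈ S := by rw [hS, mul_assoc, mul_inv_cancel₀ hδ, mul_one]; exact h1
  have h1S := (closed_mul_facts S hmul hτS (mul_ne_zero hτ hδ)).1
  have h3 : δ ^ 3 ∈ S := by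
    have hσ := (hS 1).1 h1S
    rw [one_mul] at hσ
    have h4 := sigma_of_phi3 hu (phi3_of_sigma hu hσ hσ) (phi3_of_sigma hu hσ hσ)
    have h5 : (δ ^ 3)⁻¹ ∈ S := by
      rw [hS]
      convert h4 using 1
      rw [pow_succ, pow_two]
      simp only [_root_.mul_inv_rev]
      ring
    simpa using (closed_mul_facts S hmul h5 (inv_ne_zero (pow_ne_zero 3 hδ))).2
  have h12 : 12 * δ ∈ S := by
    have : 12 * δ = -(τ * δ) - δ ^ 3 := by rw [hτδ]; ring
    rw [this]
    exact S.sub_mem (S.neg_mem hτS) h3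
  have hδS : δ ∈ S := by
    by_cases hc : (12 : F) = 0
    · have hp3 : p = 3 := by
        have hd : p ∣ 12 := (CharP.cast_eq_zero_iff F p 12).1 (by exact_mod_cast hc)
        have hle := Nat.le_of_dvd (by norm_num) hd
        have hne : p ≠ 2 := by
          rintro rfl
          exact hp2 (by exact_mod_cast CharP.cast_eq_zero F 2)
        have := hp.out
        interval_cases p <;> first | rfl | omega | (norm_num at this) | (norm_num at hd)
      subst hp3
      obtain ⟨f, -, hf⟩ := FiniteField.card F 3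
      have hpow : ∀ k : ℕ, (δ ^ 3) ^ (k + 1) ∈ S := by
        intro k
        induction k with
        | zero => simpa using h3
        | succ k ih => rw [pow_succ]; exact hmul _ ih _ h3
      obtain ⟨e, he⟩ : ∃ e, (f : ℕ) = e + 1 := ⟨(f : ℕ) - 1, by have := f.pos; omega⟩
      have hpos : 1 ≤ 3 ^ e := Nat.one_le_pow _ _ (by norm_num)
      have := hpow (3 ^ e - 1)
      rw [Nat.sub_add_cancel hpos, ← pow_mul, ← pow_succ', ← he, ← hf, FiniteField.pow_card] at this
      exact this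
    · have h12S : (12 : F)⁻¹ ∈ S := by
        refine (closed_mul_facts S hmul ?_ hc).2
        simpa using S.nsmul_mem h1S 12
      simpa [← mul_assoc, hc] using hmul _ h12S _ h12
  have htop := hgen S hδS h1S hmul
  refine (AddSubgroup.eq_top_iff' _).2 fun x ↦ ?_
  have : x * δ ∈ S := by rw [htop]; trivial
  rw [hS, mul_assoc, mul_inv_cancel₀ hδ, mul_one] at this
  exact this

/-- `SL_3`, odd characteristic. -/
theorem three_odd [Finite F] (hp2 : (2 : F) ≠ 0) :
    ∃ x : SpecialLinearGroup (Fin 3) F,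
      Subgroup.closure ({jU 3 F, x * jU 3 F * x⁻¹} : Set _) = ⊤ := by
  obtain ⟨p, _⟩ := CharP.exists F
  haveI : Fact p.Prime := ⟨CharP.char_is_prime F p⟩
  obtain ⟨γ, hγ0, hγ⟩ := exists_closed_generator F
  obtain ⟨δ, hδ, hτ, hgen⟩ : ∃ δ : F, δ ≠ 0 ∧ δ ^ 2 + 12 ≠ 0 ∧
      ∀ S : AddSubgroup F, δ ∈ S → (1 : F) ∈ S → (∀ a ∈ S, ∀ b ∈ S, a * b ∈ S) → S = ⊤ := by
    have key : ∀ δ : F, (∀ S : AddSubgroup F, δ ∈ S → (1 : F) ∈ S → γ ∈ S) →
        ∀ S : AddSubgroup F, δ ∈ S → (1 : F) ∈ S → (∀ a ∈ S, ∀ b ∈ S, a * b ∈ S) → S = ⊤ :=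
      fun δ h S h1 h2 h3 ↦ hγ S (h S h1 h2) fun s hs ↦ h3 s hs γ (h S h1 h2)
    have k0 := key γ fun S h _ ↦ h
    have k1 := key (γ + 1) fun S h h1 ↦ by simpa using S.sub_mem h h1
    have k2 := key (γ + 2) fun S h h1 ↦ by
      have := S.sub_mem (S.sub_mem h h1) h1
      rwa [show γ + 2 - 1 - 1 = γ by ring] at this
    have h16 : (16 : F) ≠ 0 := by
      rw [show (16 : F) = 2 ^ 4 by norm_num]; exact pow_ne_zero _ hp2
    by_cases e0 : γ ^ 2 + 12 = 0
    swap
    · exact ⟨γ, hγ0, e0, k0⟩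
    by_cases hm : γ + 1 = 0
    · exact ⟨2, hp2, fun e ↦ h16 (by linear_combination e),
        key 2 fun S _ h1 ↦ by simpa [eq_neg_of_add_eq_zero_left hm] using S.neg_mem h1⟩
    by_cases e1 : (γ + 1) ^ 2 + 12 = 0
    swap
    · exact ⟨γ + 1, hm, e1, k1⟩
    exact ⟨γ + 2, fun e ↦ h16 (by linear_combination e0 - (γ - 2) * e),
      fun e ↦ hp2 (by linear_combination e + e0 - 2 * e1), k2⟩
  set g := 2 - δ with hg
  let z : SpecialLinearGroup (Fin 3) F :=
    ⟨!![-1, 0, 0; g, 1, 0; 8, 4 - g, -1], by simp [det_fin_three]⟩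
  let x : SpecialLinearGroup (Fin 3) F :=
    ⟨!![-1, -1, 0; 2, 1, 0; -g, -2, 1], by simp [det_fin_three]; ring⟩
  refine ⟨x, ?_⟩
  have hv : x * jU 3 F * x⁻¹ = (jU 3 F)⁻¹ * z := by
    rw [mul_inv_eq_iff_eq_mul, mul_assoc, eq_inv_mul_iff_mul_eq]
    refine Subtype.ext ?_
    show (jU 3 F).1 * ((x : SpecialLinearGroup (Fin 3) F).1 * (jU 3 F).1) = z.1 * x.1
    rw [jU3_val]
    ext i j
    fin_cases i <;> fin_cases j <;>
      simp [x, z, Matrix.mul_apply, Fin.sum_univ_three] <;> ring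
  set G := Subgroup.closure ({jU 3 F, x * jU 3 F * x⁻¹} : Set (SpecialLinearGroup (Fin 3) F))
  have hu : jU 3 F ∈ G := Subgroup.subset_closure (Set.mem_insert _ _)
  have hz : z ∈ G := by
    have : (jU 3 F)⁻¹ * z ∈ G := hv ▸ Subgroup.subset_closure (Set.mem_insert_of_mem _ rfl)
    simpa using mul_mem hu this
  have h1 : -(δ ^ 2 + 12) ∈ sigma3 G := by
    refine mem_sigma3.2 ⟨by simp [smul_dotProduct, E_dot_E], ?_⟩
    convert mul_mem hz hz using 1
    refine Subtype.ext ?_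
    show _ = z.1 * z.1
    rw [tv_val]
    ext i j
    fin_cases i <;> fin_cases j <;>
      simp [z, hg, vecMulVec, E, Matrix.mul_apply, Fin.sum_univ_three] <;> ring
  have hstep : ∀ s, TM G (E 2) (s • (E 0 + E 1)) → s * δ ∈ sigma3 G := by
    intro s hs
    have h2 := hs.conj hz
    have e1 : z.1 *ᵥ E 2 = (-1 : F) • (E 2 : Fin 3 → F) := by
      ext i; fin_cases i <;> simp [z, mulVec, dotProduct, Fin.sum_univ_three, E]
    have e2 : (E 0 + E 1 : Fin 3 → F) ᵥ* (z⁻¹).1 = (g - 1) • E 0 + E 1 := by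
      have : ((g - 1) • E 0 + E 1 : Fin 3 → F) ᵥ* z.1 = E 0 + E 1 := by
        ext i; fin_cases i <;> simp [z, vecMul, dotProduct, Fin.sum_univ_three, E] <;> ring
      rw [← this, vecMul_vecMul, val_mul_inv, vecMul_one]
    rw [smul_vecMul, e1, e2, TM.smul_iff] at h2
    rw [mem_sigma3]
    convert h2.add_right hs using 1
    rw [hg]
    module
  have htop := sigma3_eq_top_odd p hp2 hu hδ (neg_ne_zero.2 hτ) rfl hgen h1 hstep
  exact eq_top_three hu fun s ↦ mem_sigma3.1 (by rw [htop]; trivial)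

/-- `SL_3`, characteristic two. -/
theorem three_even [Finite F] (h2 : (2 : F) = 0) :
    ∃ x : SpecialLinearGroup (Fin 3) F,
      Subgroup.closure ({jU 3 F, x * jU 3 F * x⁻¹} : Set _) = ⊤ := by
  obtain ⟨γ, hγ0, hγ⟩ := exists_closed_generator F
  let L : F → SpecialLinearGroup (Fin 3) F := fun c ↦
    ⟨!![1, 0, 0; 1, 1, 0; c, 1, 1], by simp [det_fin_three]⟩
  let x : SpecialLinearGroup (Fin 3) F :=
    ⟨!![0, 0, 1; 0, 1, 0; 1, γ, 0], by
      simp [det_fin_three]; linear_combination (-1 : F) * h2⟩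
  refine ⟨x, ?_⟩
  have hv : x * jU 3 F * x⁻¹ = L γ := by
    rw [mul_inv_eq_iff_eq_mul]
    refine Subtype.ext ?_
    show x.1 * (jU 3 F).1 = (L γ).1 * x.1
    rw [jU3_val]
    ext i j
    fin_cases i <;> fin_cases j <;>
      simp [x, L, Matrix.mul_apply, Fin.sum_univ_three] <;> grind
  set G := Subgroup.closure ({jU 3 F, x * jU 3 F * x⁻¹} : Set (SpecialLinearGroup (Fin 3) F))
  have hu : jU 3 F ∈ G := Subgroup.subset_closure (Set.mem_insert _ _)
  have hL : L γ ∈ G := hv ▸ Subgroup.subset_closure (Set.mem_insert_of_mem _ rfl)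
  have h1 : (1 : F) ∈ sigma3 G := by
    refine mem_sigma3.2 ⟨by simp [E_dot_E], ?_⟩
    convert mul_mem hL hL using 1
    refine Subtype.ext ?_
    show _ = (L γ).1 * (L γ).1
    rw [tv_val]
    ext i j
    fin_cases i <;> fin_cases j <;>
      simp [L, vecMulVec, E, Matrix.mul_apply, Fin.sum_univ_three] <;> grind
  have h20 : TM G (E 2) (E 0) := by simpa using mem_sigma3.1 h1
  have h21 : TM G (E 2) (E 1) := by
    have hs2 : TM G (E 2) ((1 * 1 : F) • E 0) := by simpa using h20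
    have := (phi3_of_sigma hu h1 h1).sub_right hs2
    simpa using this
  have h12 := TM_one_two hu h1
  have h10 : TM G (E 1) (E 0) := h12.comm_one h20 (by simp [E_dot_E]) (by simp [E_dot_E])
  have h01 : TM G (E 0) (E 1) := by
    have hinvl : E 2 ᵥ* ((jU 3 F)⁻¹).1 = (E 2 : Fin 3 → F) := E_vecMul_jU_inv_last (n := 3) (by omega)
    have e := h12.conj hu
    rw [hinvl, jU_mulVec_E (show 0 + 1 < 3 by omega)] at e
    have h02 : TM G (E 0) (E 2) := by simpa using e.sub_left h12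
    exact h02.comm_one h21 (by simp [E_dot_E]) (by simp [E_dot_E])
  have hγs : γ ∈ sigma3 G := by
    have h3 : L γ = L 1 * tv (E 2) ((γ - 1) • E 0) (by simp [smul_dotProduct, E_dot_E]) := by
      refine Subtype.ext ?_
      show (L γ).1 = (L 1).1 * (tv (E 2) ((γ - 1) • E 0) _).1
      rw [tv_val]
      ext i j
      fin_cases i <;> fin_cases j <;>
        simp [L, vecMulVec, E, Matrix.mul_apply, Fin.sum_univ_three]
    have hL1 : L 1 ∈ G := by
      convert mul_mem h21.2 h10.2 using 1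
      refine Subtype.ext ?_
      show _ = (tv (E 2) (E 1) _).1 * (tv (E 1) (E 0) _).1
      rw [tv_val, tv_val]
      ext i j
      fin_cases i <;> fin_cases j <;>
        simp [L, vecMulVec, E, Matrix.mul_apply, Fin.sum_univ_three]
    have h4 : TM G (E 2) ((γ - 1) • E 0) := by
      refine ⟨by simp [smul_dotProduct, E_dot_E], ?_⟩
      have := mul_mem (inv_mem hL1) (h3 ▸ hL)
      rwa [inv_mul_cancel_left] at this
    simpa using (sigma3 G).add_mem (mem_sigma3.2 h4) h1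
  refine eq_top_three hu fun s ↦ mem_sigma3.1 ?_
  rw [hγ (sigma3 G) hγs fun s hs ↦ ?_]
  · trivial
  · -- products
    have e21 : TM G (E 2) (s • E 1) := by
      have := (mem_sigma3.1 hs).comm h01 (by simp [E_dot_E])
      simpa [smul_dotProduct, E_dot_E] using this
    have e10 : TM G (E 1) (γ • E 0) := by
      have := h12.comm (mem_sigma3.1 hγs) (by simp [smul_dotProduct, E_dot_E])
      simpa [E_dot_E] using this
    have := e21.comm e10 (by simp [smul_dotProduct, E_dot_E])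
    rw [mem_sigma3]
    simpa [smul_dotProduct, E_dot_E, smul_smul] using this

theorem three_conj [Finite F] :
    ∃ x : SpecialLinearGroup (Fin 3) F,
      Subgroup.closure ({jU 3 F, x * jU 3 F * x⁻¹} : Set _) = ⊤ := by
  by_cases h : (2 : F) = 0
  · exact three_even h
  · exact three_odd h

end CfsgLib.Linear.RegGen
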