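/-
`SU₃(q)` and two conjugate regular unipotent root elements: a generation criterion, and the word
`v u v` giving a torus element that fixes the centre of `u`.
-/
import Cfsg.Agent.Lib.Classical.Herm.Std

set_option autoImplicit false
set_option linter.unusedSectionVars false

namespace CfsgLib.Linear.SUThree

open CfsgLib.Classical.Herm Module

variable {F V : Type*} [Field F] [AddCommGroup V] [Module F V] {H : HermSpace F V}

/-- An orthogonal sum of a hyperbolic pair `a, b` and a vector `c` of norm one. -/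
structure Frame (H : HermSpace F V) where
  a : V
  b : V
  c : V
  aa : H.h a a = 0
  bb : H.h b b = 0
  ab : H.h a b = 1
  cc : H.h c c = 1
  ca : H.h c a = 0
  cb : H.h c b = 0

namespace Frame

variable (Φ : Frame H)

theorem cond_neg {z m : F} (h : m + H.conj m + z * H.conj z = 0) :
    m + H.conj m + -z * H.conj (-z) = 0 := by rw [map_neg, neg_mul_neg]; exact h

theorem ba : H.h Φ.b Φ.a = 1 := HermSpace.h_comm_one H Φ.ab
theorem ac : H.h Φ.a Φ.c = 0 := HermSpace.h_comm_zero H Φ.ca
theorem bc : H.h Φ.b Φ.c = 0 := HermSpace.h_comm_zero H Φ.cb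

theorem a_ne_zero : Φ.a ≠ 0 := fun h => by
  have := Φ.ab
  rw [h, H.zero_left] at this
  exact zero_ne_one this

theorem linInd : LinearIndependent F ![Φ.a, Φ.c, Φ.b] := by
  rw [Fintype.linearIndependent_iff]
  intro g hg
  simp [Fin.sum_univ_three] at hg
  have h1 := congrArg (fun x => H.h x Φ.a) hg
  have h2 := congrArg (fun x => H.h x Φ.c) hg
  have h3 := congrArg (fun x => H.h x Φ.b) hg
  simp only [H.add_left, H.smul_left, H.zero_left, Φ.aa, Φ.bb, Φ.ab, Φ.ba, Φ.cc, Φ.ca, Φ.cb, Φ.ac,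
    Φ.bc, mul_zero, mul_one, zero_add, add_zero] at h1 h2 h3
  intro i
  fin_cases i
  exacts [h3, h2, h1]

theorem eq_comb [FiniteDimensional F V] (hd : finrank F V = 3) (x : V) :
    x = H.h x Φ.b • Φ.a + H.h x Φ.c • Φ.c + H.h x Φ.a • Φ.b := by
  have hs := Φ.linInd.span_eq_top_of_card_eq_finrank (by simp [hd])
  have hx : x ∈ Submodule.span F (Set.range ![Φ.a, Φ.c, Φ.b]) := hs ▸ Submodule.mem_top
  obtain ⟨g, rfl⟩ := (Submodule.mem_span_range_iff_exists_fun F).1 hx
  simp [Fin.sum_univ_three, H.add_left, H.smul_left, Φ.aa, Φ.bb, Φ.ab, Φ.ba, Φ.cc, Φ.ca, Φ.cb,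
    Φ.ac, Φ.bc]

theorem cond_a {z l : F} (h : l + H.conj l + z * H.conj z = 0) : RootCond H Φ.a (z • Φ.c) l :=
  ⟨Φ.aa, by rw [H.smul_left, Φ.ca, mul_zero],
    by rw [H.smul_left, H.smul_right, Φ.cc, mul_one]; exact h⟩

theorem cond_b {z l : F} (h : l + H.conj l + z * H.conj z = 0) : RootCond H Φ.b (z • Φ.c) l :=
  ⟨Φ.bb, by rw [H.smul_left, Φ.cb, mul_zero],
    by rw [H.smul_left, H.smul_right, Φ.cc, mul_one]; exact h⟩

/-- A root element at `a` in normal form. -/
def ra (z l : F) (h : l + H.conj l + z * H.conj z = 0) : Unit' H :=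
  root H Φ.a (z • Φ.c) l (Φ.cond_a h)

/-- A root element at `b` in normal form. -/
def rb (z l : F) (h : l + H.conj l + z * H.conj z = 0) : Unit' H :=
  root H Φ.b (z • Φ.c) l (Φ.cond_b h)

theorem ra_apply {z l : F} (h : l + H.conj l + z * H.conj z = 0) (p r s : F) :
    (Φ.ra z l h).1 (p • Φ.a + r • Φ.c + s • Φ.b) =
      (p - r * H.conj z + l * s) • Φ.a + (r + s * z) • Φ.c + s • Φ.b := by
  simp only [ra, root_apply, H.add_left, H.smul_left, H.smul_right, Φ.aa, Φ.ba, Φ.ca, Φ.cc, Φ.ac,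
    Φ.bc]
  module

theorem rb_apply {z l : F} (h : l + H.conj l + z * H.conj z = 0) (p r s : F) :
    (Φ.rb z l h).1 (p • Φ.a + r • Φ.c + s • Φ.b) =
      p • Φ.a + (r + p * z) • Φ.c + (s - r * H.conj z + l * p) • Φ.b := by
  simp only [rb, root_apply, H.add_left, H.smul_left, H.smul_right, Φ.ab, Φ.bb, Φ.cb, Φ.cc, Φ.ac,
    Φ.bc]
  module

/-- The first root element satisfies `(u - 1)³ = 0` and `(u - 1)² ≠ 0`. -/
theorem ra_sub_sub (hd : finrank F V = 3) [FiniteDimensional F V] {z l : F}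
    (h : l + H.conj l + z * H.conj z = 0) (x : V) :
    let N := ((Φ.ra z l h).1 : V →ₗ[F] V) - LinearMap.id
    N (N (N x)) = 0 ∧ N (N Φ.b) = (-(z * H.conj z)) • Φ.a := by
  intro N
  have hN : ∀ y, N y = H.h y Φ.a • z • Φ.c + (-(H.h y (z • Φ.c)) + l * H.h y Φ.a) • Φ.a := fun y => by
    simp [N, ra, root_apply]
    abel
  constructor
  · simp only [hN, H.add_left, H.smul_left, H.smul_right, Φ.aa, Φ.ca, Φ.cc, Φ.ac]
    module
  · simp only [hN, H.add_left, H.smul_left, H.smul_right, Φ.aa, Φ.ba, Φ.ca, Φ.cc, Φ.ac, Φ.bc]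
    module

/-- An element of determinant one exchanging `a` and `b` and negating `c`. -/
theorem exists_swap [FiniteDimensional F V] (hd : finrank F V = 3) :
    ∃ g ∈ rootGen H, g.1 Φ.a = Φ.b ∧ g.1 Φ.b = Φ.a ∧ g.1 Φ.c = -Φ.c := by
  have hc : ShearCond H (Φ.a + Φ.b) (-1) := by
    unfold ShearCond
    simp [H.add_left, H.add_right, Φ.aa, Φ.bb, Φ.ab, Φ.ba]
    try ring
  let n : Unit' H := ⟨LinearEquiv.neg F, fun x y => by
    simp [LinearEquiv.neg_apply, H.neg_left, H.neg_right]⟩
  refine ⟨n * shear H (Φ.a + Φ.b) (-1) hc, ?_, ?_, ?_, ?_⟩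
  · have hp : IsHPair H Φ.a Φ.b := ⟨Φ.aa, Φ.bb, Φ.ba⟩
    rw [rootGen_eq_ker_det (big_of_finrank (by omega)) hp, MonoidHom.mem_ker, map_mul]
    refine Units.ext ?_
    rw [Units.val_mul, detHom_shear, Units.val_one]
    have hn : (detHom H n : F) = (-1) ^ 3 := by
      show (LinearEquiv.det (LinearEquiv.neg F : V ≃ₗ[F] V) : F) = _
      rw [LinearEquiv.coe_det, show ((LinearEquiv.neg F : V ≃ₗ[F] V) : V →ₗ[F] V) = (-1 : F) • LinearMap.id
        from LinearMap.ext fun x => by simp, LinearMap.det_smul, hd, LinearMap.det_id, mul_one]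
    rw [hn]
    simp [H.add_left, H.add_right, Φ.aa, Φ.bb, Φ.ab, Φ.ba]
    ring
  all_goals
    simp [n, shear_apply, H.add_right, Φ.aa, Φ.bb, Φ.ab, Φ.ba, Φ.ca, Φ.cb]

end Frame

variable [Finite F] [FiniteDimensional F V] (Φ : Frame H)

/-- The multiples `z` of `c` such that `G` contains a root element `(z c, *)` at `a`. -/
def coeffs (G : Subgroup (Unit' H)) : AddSubgroup F where
  carrier := {z | ∃ (l : F) (h : l + H.conj l + z * H.conj z = 0), Φ.ra z l h ∈ G}
  zero_mem' := ⟨0, by simp, by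
    have : Φ.ra 0 0 (by simp) = (1 : Unit' H) :=
      unit_ext fun x => by simp [Frame.ra, root_apply, H.zero_right]
    rw [this]; exact one_mem G⟩
  add_mem' := by
    rintro z z' ⟨l, h, hm⟩ ⟨l', h', hm'⟩
    have h2 := mul_mem hm hm'
    unfold Frame.ra at h2
    rw [root_mul] at h2
    refine ⟨l + l' - H.h (z' • Φ.c) (z • Φ.c), ?_, ?_⟩
    · rw [H.smul_left, H.smul_right, Φ.cc, map_sub, map_add, map_mul, map_mul, H.conj_conj, map_one,
        map_add]
      linear_combination h + h'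
    · unfold Frame.ra
      rwa [root_congr _ ((Φ.cond_a h).add (Φ.cond_a h')) rfl (add_smul z z' Φ.c) rfl]
  neg_mem' := by
    rintro z ⟨l, h, hm⟩
    have h2 := inv_mem hm
    unfold Frame.ra at h2
    rw [root_inv] at h2
    refine ⟨H.conj l, by rw [H.conj_conj, map_neg]; linear_combination h, ?_⟩
    unfold Frame.ra
    rwa [root_congr _ (Φ.cond_a h).neg rfl (neg_smul z Φ.c) rfl]

/-- If `G` has a regular unipotent element at `a`, an element moving `a`, and an element fixing the
line of `a` whose ratio generates the field, then `G` has every root element. -/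
theorem rootGen_le (hd : finrank F V = 3) {G : Subgroup (Unit' H)} {z₀ : F} (hz₀ : z₀ ≠ 0)
    (hu : z₀ ∈ coeffs Φ G) {Y : Unit' H} (hY : Y ∈ G) {t e x : F}
    (hYa : Y.1 Φ.a = t • Φ.a) (hYc : Y.1 Φ.c = x • Φ.a + e • Φ.c)
    (hgen : ∀ E : Subfield F, H.conj t * e ∈ E → E = ⊤)
    {m : Unit' H} (hm : m ∈ G) (hma : H.h (m.1 Φ.a) Φ.a ≠ 0) : rootGen H ≤ G := by
  set W := coeffs Φ G
  set r := H.conj t * e with hr
  have ht : t ≠ 0 := by
    intro h
    rw [h, zero_smul] at hYa
    exact unit_ne_zero Y Φ.a_ne_zero hYa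
  -- stability under `r`
  have hstab : ∀ z ∈ W, r * z ∈ W := by
    rintro z ⟨l, h, hl⟩
    have h1 := mul_mem (mul_mem hY hl) (inv_mem hY)
    unfold Frame.ra at h1
    rw [root_conj, root_congr _ (show RootCond H (t • Φ.a) (Y.1 (z • Φ.c)) l from
      hYa ▸ (Φ.cond_a h).map Y) hYa rfl rfl, root_smul t ht] at h1
    set d := H.conj t * (z * x)
    set L := t * H.conj t * l - (H.conj d - d) with hL
    have hw : H.conj t • Y.1 (z • Φ.c) = (r * z) • Φ.c + d • Φ.a := by
      rw [map_smul, hYc, hr]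
      module
    have c1 : RootCond H Φ.a (H.conj t • Y.1 (z • Φ.c)) (t * H.conj t * l) :=
      RootCond.smul t (hYa ▸ (Φ.cond_a h).map Y) ht
    have hcond : L + H.conj L + (r * z) * H.conj (r * z) = 0 := by
      have h3 := c1.2.2
      rw [hw, H.add_left, H.add_right, H.add_right, H.smul_left, H.smul_left, H.smul_left,
        H.smul_left, H.smul_right, H.smul_right, H.smul_right, H.smul_right, Φ.cc, Φ.ca, Φ.ac,
        Φ.aa] at h3
      rw [hL, map_sub, map_sub, H.conj_conj]
      linear_combination h3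
    refine ⟨L, hcond, ?_⟩
    have hcd : RootCond H Φ.a ((r * z) • Φ.c + d • Φ.a) (L + (H.conj d - d)) := by
      rw [hL, sub_add_cancel, ← hw]; exact c1
    unfold Frame.ra
    rw [← root_add_smul d (Φ.cond_a hcond) hcd]
    rwa [root_congr hcd c1 rfl hw.symm (by rw [hL, sub_add_cancel])]
  -- all multiples of `c`
  have hall : ∀ z, z ∈ W := by
    let S : Subring F :=
      { carrier := {x | ∀ z ∈ W, x * z ∈ W}
        one_mem' := fun z hz => by rwa [one_mul]
        mul_mem' := fun {a b} ha hb z hz => by rw [mul_assoc]; exact ha _ (hb z hz)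
        zero_mem' := fun z _ => by rw [zero_mul]; exact W.zero_mem
        add_mem' := fun {a b} ha hb z hz => by rw [add_mul]; exact W.add_mem (ha z hz) (hb z hz)
        neg_mem' := fun {a} ha z hz => by rw [neg_mul]; exact W.neg_mem (ha z hz) }
    let E : Subfield F :=
      { S with
        inv_mem' := fun y hy => by
          rcases eq_or_ne y 0 with rfl | hy0
          · rw [inv_zero]; exact S.zero_mem
          letI := Fintype.ofFinite F
          have h1 := FiniteField.pow_card_sub_one_eq_one y hy0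
          have hq := Fintype.one_lt_card (α := F)
          rw [show Fintype.card F - 1 = Fintype.card F - 2 + 1 by omega, pow_succ] at h1
          rw [inv_eq_of_mul_eq_one_left h1]
          exact S.pow_mem hy _ }
    have hE := hgen E hstab
    intro z
    have h := (show z * z₀⁻¹ ∈ E from hE ▸ Subfield.mem_top _) z₀ hu
    rwa [inv_mul_cancel_right₀ hz₀] at h
  -- all central elements
  have hskew : ∀ s (h : s + H.conj s + (0 : F) * H.conj 0 = 0), Φ.ra 0 s h ∈ G := by
    intro s h
    obtain ⟨w, hw⟩ := H.exists_trace_one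
    obtain ⟨l, hl, hlm⟩ := hall 1
    obtain ⟨l', hl', hlm'⟩ := hall (-(w * s))
    have h1 := mul_mem (mul_mem hlm hlm') (mul_mem (inv_mem hlm) (inv_mem hlm'))
    convert h1 using 1
    refine unit_ext fun y => ?_
    unfold Frame.ra
    simp only [root_inv, root_mul]
    rw [root_apply, root_apply]
    simp only [H.smul_left, H.smul_right, H.add_left, H.add_right, H.neg_left, H.neg_right, Φ.cc,
      map_zero, map_one, map_mul, map_neg, H.zero_right]
    have hs : H.conj s = -s := by simp at h; linear_combination h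
    rw [hs]
    simp only [map_mul, map_neg, map_one, hs] at hl hl'
    match_scalars <;> first | ring1 | linear_combination (H.h y Φ.a) * (-hl - hl' + s * hw) |
      linear_combination (H.h y Φ.a) * (-hl - hl' - s * hw) |
      linear_combination (H.h y Φ.a) * (s * hw)
  -- every root element at `a`
  have hfa : ∀ w l (c : RootCond H Φ.a w l), root H Φ.a w l c ∈ G := by
    intro w l c
    have hw := Φ.eq_comb hd w
    rw [c.2.1, zero_smul, add_zero, add_comm] at hw
    set z := H.h w Φ.c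
    set d := H.h w Φ.b
    set L := l - (H.conj d - d) with hL
    have hcond : L + H.conj L + z * H.conj z = 0 := by
      have h3 := c.2.2
      rw [hw, H.add_left, H.add_right, H.add_right, H.smul_left, H.smul_left, H.smul_left,
        H.smul_left, H.smul_right, H.smul_right, H.smul_right, H.smul_right, Φ.cc, Φ.ca, Φ.ac,
        Φ.aa] at h3
      rw [hL, map_sub, map_sub, H.conj_conj]
      linear_combination h3
    have hcd : RootCond H Φ.a (z • Φ.c + d • Φ.a) (L + (H.conj d - d)) := by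
      rw [hL, sub_add_cancel, ← hw]; exact c
    rw [← root_congr hcd c rfl hw.symm (by rw [hL, sub_add_cancel]),
      root_add_smul d (Φ.cond_a hcond) hcd]
    obtain ⟨l₀, h₀, hm₀⟩ := hall z
    have h00 : (L - l₀) + H.conj (L - l₀) + (0 : F) * H.conj 0 = 0 := by
      rw [map_sub, map_zero]; linear_combination hcond - h₀
    have hprod := mul_mem hm₀ (hskew _ h00)
    convert hprod using 1
    unfold Frame.ra
    rw [root_mul]
    exact root_congr _ _ rfl (by rw [zero_smul, add_zero]) (by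
      rw [H.smul_left, zero_mul]; ring)
  -- every root element
  rw [rootGen, Subgroup.closure_le]
  rintro _ ⟨p, w, l, c, rfl⟩
  by_cases hp : p = 0
  · subst hp
    have : root H 0 w l c = 1 := unit_ext fun y => by simp [root_apply, H.zero_right]
    rw [this]; exact G.one_mem
  suffices key : ∃ g ∈ G, ∃ k : F, k ≠ 0 ∧ g.1 Φ.a = k • p by
    obtain ⟨g, hg, k, hk, hga⟩ := key
    have hinv : (g⁻¹).1 p = k⁻¹ • Φ.a := by
      rw [← inv_smul_smul₀ hk p, map_smul, ← hga, inv_apply_self]
    have c' := c.map g⁻¹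
    have e : g⁻¹ * root H p w l c * g =
        root H (k⁻¹ • Φ.a) ((g⁻¹).1 w) l (hinv ▸ c') := by
      have := root_conj g⁻¹ c
      rw [inv_inv] at this
      rw [this]
      exact root_congr _ _ hinv rfl rfl
    rw [root_smul _ (inv_ne_zero hk)] at e
    have h1 := mul_mem (mul_mem hg (e.symm ▸ hfa _ _ _ : g⁻¹ * root H p w l c * g ∈ G)) (inv_mem hg)
    rwa [show g * (g⁻¹ * root H p w l c * g) * g⁻¹ = root H p w l c by group] at h1
  by_cases hpa : H.h p Φ.a = 0
  · -- `p` is a multiple of `a`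
    have hp' := Φ.eq_comb hd p
    rw [hpa, zero_smul, add_zero] at hp'
    have hpc : H.h p Φ.c = 0 := by
      have h3 := c.1
      rw [hp', H.add_left, H.add_right, H.add_right, H.smul_left, H.smul_left, H.smul_left,
        H.smul_left, H.smul_right, H.smul_right, H.smul_right, H.smul_right, Φ.cc, Φ.ca, Φ.ac,
        Φ.aa] at h3
      by_contra hne
      exact mul_ne_zero hne (H.conj_ne_zero hne) (by linear_combination h3)
    rw [hpc, zero_smul, add_zero] at hp'
    refine ⟨1, one_mem G, (H.h p Φ.b)⁻¹, ?_, ?_⟩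
    · refine inv_ne_zero fun h => hp ?_
      rw [hp', h, zero_smul]
    · have : H.h p Φ.b ≠ 0 := fun h => hp (by rw [hp', h, zero_smul])
      conv_rhs => arg 2; rw [hp']
      rw [smul_smul, inv_mul_cancel₀ this, one_smul]
      rfl
  · set a' := m.1 Φ.a
    have ha' : H.h a' a' = 0 := by rw [unit_h]; exact Φ.aa
    have p1 : IsHPair H Φ.a ((H.h a' Φ.a)⁻¹ • a') := ⟨Φ.aa, by
      rw [H.smul_left, H.smul_right, ha', mul_zero, mul_zero],
      by rw [H.smul_left, inv_mul_cancel₀ hma]⟩
    have p2 : IsHPair H Φ.a ((H.h p Φ.a)⁻¹ • p) := ⟨Φ.aa, by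
      rw [H.smul_left, H.smul_right, c.1, mul_zero, mul_zero],
      by rw [H.smul_left, inv_mul_cancel₀ hpa]⟩
    obtain ⟨w', l', c', hr', -⟩ := exists_root_partner p1 p2
    refine ⟨root H Φ.a w' l' c' * m, mul_mem (hfa _ _ _) hm, H.h a' Φ.a * (H.h p Φ.a)⁻¹,
      mul_ne_zero hma (inv_ne_zero hpa), ?_⟩
    rw [Subgroup.coe_mul]
    show (root H Φ.a w' l' c').1 a' = _
    rw [← smul_inv_smul₀ hma a', map_smul, hr', smul_smul, smul_inv_smul₀ hma]

/-- The pair `u`, `v`: `v` is conjugate to `u` and is the root element `(-z c, m)` at `b`. -/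
theorem exists_conj (hd : finrank F V = 3) {z l m : F} (hz : z ≠ 0)
    (hl : l + H.conj l + z * H.conj z = 0) (hm : m + H.conj m + z * H.conj z = 0) :
    ∃ g ∈ rootGen H, g * Φ.ra z l hl * g⁻¹ =
      Φ.rb (-z) m (by rw [map_neg, neg_mul_neg]; exact hm) := by
  obtain ⟨w, hw, hwa, hwb, hwc⟩ := Φ.exists_swap hd
  obtain ⟨t, ht⟩ := H.exists_trace_one
  set d := t * (m - l)
  set x := H.conj (-(d / z)) with hxd
  obtain ⟨L, hL⟩ := H.exists_trace (c := -(x * H.conj x)) (by
    rw [map_neg, map_mul, H.conj_conj, mul_comm])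
  have hxc : L + H.conj L + x * H.conj x = 0 := by linear_combination hL
  set R := Φ.ra x L hxc
  refine ⟨w * R, mul_mem hw (root_mem _), ?_⟩
  have hR : R * Φ.ra z l hl * R⁻¹ = Φ.ra z m hm := by
    have hd' : d - H.conj d = m - l := by
      have h1 : H.conj (m - l) = -(m - l) := by rw [map_sub]; linear_combination hm - hl
      simp only [d, map_mul, h1]
      linear_combination (m - l) * ht
    unfold Frame.ra
    rw [root_conj]
    have hRa : R.1 Φ.a = Φ.a := by
      have := Φ.ra_apply hxc 1 0 0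
      simpa using this
    have hRc : R.1 (z • Φ.c) = z • Φ.c + d • Φ.a := by
      have := Φ.ra_apply hxc 0 z 0
      simp only [zero_smul, zero_add, add_zero, mul_zero, zero_mul, zero_sub] at this
      rw [this, hxd, H.conj_conj, mul_neg, neg_neg, mul_div_cancel₀ _ hz, add_comm]
    have hl' : l = m + (H.conj d - d) := by linear_combination hd'
    have hcd : RootCond H Φ.a (z • Φ.c + d • Φ.a) (m + (H.conj d - d)) := by
      rw [← hl', ← hRc]
      have := (Φ.cond_a hl).map R
      rwa [hRa] at this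
    rw [root_congr _ hcd hRa hRc hl', root_add_smul d (Φ.cond_a hm) hcd]
  rw [show w * R * Φ.ra z l hl * (w * R)⁻¹ = w * (R * Φ.ra z l hl * R⁻¹) * w⁻¹ by group, hR]
  unfold Frame.ra Frame.rb
  rw [root_conj]
  exact root_congr _ _ hwa (by rw [map_smul, hwc, smul_neg, neg_smul]) rfl

/-- Two conjugate regular unipotent elements generate when the norm-one parameter is generic. -/
theorem exists_pair_norm_one (hd : finrank F V = 3) {ρ : F} (hρ : ρ * H.conj ρ = 1) (hρ1 : 1 + ρ ≠ 0)
    (hgen : ∀ E : Subfield F, H.conj ρ ^ 3 ∈ E → E = ⊤) :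
    ∃ (z l m : F) (h : l + H.conj l + z * H.conj z = 0) (hm : m + H.conj m + z * H.conj z = 0),
      z ≠ 0 ∧ rootGen H ≤ Subgroup.closure {Φ.ra z l h, Φ.rb (-z) m (Frame.cond_neg hm)} := by
  set σ := H.conj ρ
  set τ := 2 + ρ + σ with hτ
  have hτ0 : τ ≠ 0 := by
    intro h
    refine hρ1 (pow_eq_zero_iff two_ne_zero |>.1 (show (1 + ρ) ^ 2 = 0 from ?_))
    rw [hτ] at h
    linear_combination ρ * h - hρ
  obtain ⟨z, hz⟩ := H.norm_surj (-τ) (by
    rw [hτ, map_neg, map_add, map_add, H.conj_conj, map_ofNat]; ring)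
  have hz0 : z ≠ 0 := by
    rintro rfl
    rw [zero_mul, eq_comm, neg_eq_zero] at hz
    exact hτ0 hz
  set l := (2 * ρ + σ + 1) / (1 + ρ)
  have hρc : 1 + σ ≠ 0 := by
    have := H.conj_ne_zero hρ1
    rwa [map_add, map_one] at this
  have hl : l + H.conj l + z * H.conj z = 0 := by
    have h1 : l * (1 + ρ) = 2 * ρ + σ + 1 := div_mul_cancel₀ _ hρ1
    have h2 : H.conj l * (1 + σ) = 2 * σ + ρ + 1 := by
      have := congrArg H.conj h1
      simp only [map_mul, map_add, map_one, map_ofNat] at this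
      rwa [show H.conj σ = ρ from H.conj_conj ρ] at this
    rw [hz, hτ]
    refine (mul_eq_zero.1 (show (l + H.conj l + -(2 + ρ + σ)) * ((1 + ρ) * (1 + σ)) = 0 from ?_)).resolve_right
      (mul_ne_zero hρ1 hρc)
    linear_combination (1 + σ) * h1 + (1 + ρ) * h2 + (2 - (2 + ρ + σ)) * hρ
  have hm : (1 + ρ) + H.conj (1 + ρ) + z * H.conj z = 0 := by
    rw [hz, map_add, map_one, hτ]; ring
  refine ⟨z, l, 1 + ρ, hl, hm, hz0, ?_⟩
  set u := Φ.ra z l hl
  set v := Φ.rb (-z) (1 + ρ) (by rw [map_neg, neg_mul_neg]; exact hm)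
  set G := Subgroup.closure ({u, v} : Set (Unit' H))
  have hu : u ∈ G := Subgroup.subset_closure (by simp)
  have hv : v ∈ G := Subgroup.subset_closure (by simp)
  have hlm : l * (1 + ρ) = 2 * ρ + σ + 1 := div_mul_cancel₀ _ hρ1
  have hYa : (v * u * v).1 Φ.a = ρ • Φ.a := by
    show v.1 (u.1 (v.1 Φ.a)) = _
    rw [show Φ.a = (1 : F) • Φ.a + (0 : F) • Φ.c + (0 : F) • Φ.b by simp,
      Frame.rb_apply, Frame.ra_apply, Frame.rb_apply]
    simp only [map_neg]
    match_scalars
    · linear_combination hz + hlm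
    · linear_combination (-z) * (hz + hlm)
    · linear_combination ρ * hz + (1 + ρ) * (hz + hlm) - hρ
  have hYc : (v * u * v).1 Φ.c =
      ((l - 1) * H.conj z) • Φ.a + σ ^ 2 • Φ.c := by
    show v.1 (u.1 (v.1 Φ.c)) = _
    rw [show Φ.c = (0 : F) • Φ.a + (1 : F) • Φ.c + (0 : F) • Φ.b by simp,
      Frame.rb_apply, Frame.ra_apply, Frame.rb_apply]
    simp only [map_neg]
    match_scalars
    · ring
    · linear_combination (2 - l) * hz + (1 + σ) * hlm + (2 - l) * hρ
    · linear_combination (H.conj z) * (hz + hlm)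
  refine rootGen_le Φ hd hz0 ⟨l, hl, hu⟩ (mul_mem (mul_mem hv hu) hv) hYa hYc ?_ hv ?_
  · intro E hE
    refine hgen E ?_
    rwa [show σ ^ 3 = σ * σ ^ 2 from pow_succ' σ 2]
  · have h1 := Φ.rb_apply (z := -z) (l := 1 + ρ) (by rw [map_neg, neg_mul_neg]; exact hm) 1 0 0
    simp only [one_smul, zero_smul, add_zero, zero_add, zero_sub, zero_mul, mul_one, one_mul, neg_zero] at h1
    rw [h1]
    simp [H.add_left, H.smul_left, H.neg_left, Φ.aa, Φ.ca, Φ.ba, hρ1]

end CfsgLib.Linear.SUThree
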