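/-
Embedding of the three dimensional unitary group along a frame, and a closure criterion for the
root group.
-/
import Cfsg.Agent.Lib.Linear.SUThreeConj

set_option autoImplicit false
set_option linter.unusedSectionVars false

namespace CfsgLib.Linear.SUThree

open CfsgLib.Classical.Herm Module

variable {F V W : Type*} [Field F] [AddCommGroup V] [Module F V] [AddCommGroup W] [Module F W]
  {H₃ : HermSpace F W} {H : HermSpace F V}

namespace Frame

variable (Φ : Frame H₃) (Ψ : Frame H)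

/-- The linear map carrying the frame `Φ` to `Ψ`. -/
def emb : W →ₗ[F] V where
  toFun s := H₃.h s Φ.b • Ψ.a + H₃.h s Φ.c • Ψ.c + H₃.h s Φ.a • Ψ.b
  map_add' x y := by simp only [H₃.add_left]; module
  map_smul' r x := by simp only [H₃.smul_left, RingHom.id_apply]; module

/-- The projection onto the span of `Ψ`, read in `Φ`. -/
def proj : V →ₗ[F] W where
  toFun s := H.h s Ψ.b • Φ.a + H.h s Ψ.c • Φ.c + H.h s Ψ.a • Φ.b
  map_add' x y := by simp only [H.add_left]; module
  map_smul' r x := by simp only [H.smul_left, RingHom.id_apply]; module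

theorem emb_apply (s : W) :
    Φ.emb Ψ s = H₃.h s Φ.b • Ψ.a + H₃.h s Φ.c • Ψ.c + H₃.h s Φ.a • Ψ.b := rfl

theorem proj_apply (s : V) :
    Φ.proj Ψ s = H.h s Ψ.b • Φ.a + H.h s Ψ.c • Φ.c + H.h s Ψ.a • Φ.b := rfl

theorem emb_a : Φ.emb Ψ Φ.a = Ψ.a := by simp [emb_apply, Φ.aa, Φ.ab, Φ.ac]
theorem emb_b : Φ.emb Ψ Φ.b = Ψ.b := by simp [emb_apply, Φ.bb, Φ.ba, Φ.bc]
theorem emb_c : Φ.emb Ψ Φ.c = Ψ.c := by simp [emb_apply, Φ.cb, Φ.ca, Φ.cc]

theorem proj_emb [FiniteDimensional F W] (hd : finrank F W = 3) (s : W) :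
    Φ.proj Ψ (Φ.emb Ψ s) = s := by
  conv_rhs => rw [Φ.eq_comb hd s]
  simp [proj_apply, emb_apply, H.add_left, H.smul_left, Ψ.aa, Ψ.bb, Ψ.ab, Ψ.ba, Ψ.cc, Ψ.ca, Ψ.cb,
    Ψ.ac, Ψ.bc]

variable (hc : ∀ x, H₃.conj x = H.conj x)

include hc

theorem h_emb [FiniteDimensional F W] (hd : finrank F W = 3) (s : W) (y : V) :
    H.h (Φ.emb Ψ s) y = H₃.h s (Φ.proj Ψ y) := by
  simp only [emb_apply, proj_apply, H.add_left, H.smul_left, H₃.add_right, H₃.smul_right, hc,
    H.symm']
  ring

theorem h_emb_emb [FiniteDimensional F W] (hd : finrank F W = 3) (s t : W) :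
    H.h (Φ.emb Ψ s) (Φ.emb Ψ t) = H₃.h s t := by
  rw [Φ.h_emb Ψ hc hd, Φ.proj_emb Ψ hd]

theorem h_emb' [FiniteDimensional F W] (hd : finrank F W = 3) (y : V) (s : W) :
    H.h y (Φ.emb Ψ s) = H₃.h (Φ.proj Ψ y) s := by
  rw [← H.symm', Φ.h_emb Ψ hc hd, ← hc, H₃.symm']

variable [FiniteDimensional F W] (hd : finrank F W = 3)

include hd

/-- An element of the small group, extended by the identity. -/
def extFun (g : Unit' H₃) (x : V) : V := x + Φ.emb Ψ (g.1 (Φ.proj Ψ x) - Φ.proj Ψ x)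

theorem extFun_mul (g g' : Unit' H₃) (x : V) :
    Φ.extFun Ψ g (Φ.extFun Ψ g' x) = Φ.extFun Ψ (g * g') x := by
  have h1 : Φ.proj Ψ (Φ.extFun Ψ g' x) = g'.1 (Φ.proj Ψ x) := by
    rw [extFun, map_add, Φ.proj_emb Ψ hd]; abel
  conv_lhs => rw [extFun, h1]
  rw [extFun, extFun, mul_apply, add_assoc, ← map_add]
  congr 2
  abel

/-- The embedding of the small unitary group. -/
def ext : Unit' H₃ →* Unit' H where
  toFun g := ⟨
    { toFun := Φ.extFun Ψ g
      invFun := Φ.extFun Ψ g⁻¹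
      map_add' := fun x y => by simp only [extFun, map_add, map_sub]; abel
      map_smul' := fun r x => by simp only [extFun, map_smul, map_sub, RingHom.id_apply]; module
      left_inv := fun x => by
        rw [extFun_mul Φ Ψ hc hd, inv_mul_cancel, extFun, one_apply, sub_self, map_zero, add_zero]
      right_inv := fun x => by
        rw [extFun_mul Φ Ψ hc hd, mul_inv_cancel, extFun, one_apply, sub_self, map_zero, add_zero] },
    fun x y => by
      show H.h (Φ.extFun Ψ g x) (Φ.extFun Ψ g y) = H.h x y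
      simp only [extFun, H.add_left, H.add_right, Φ.h_emb_emb Ψ hc hd, Φ.h_emb' Ψ hc hd,
        Φ.h_emb Ψ hc hd, H₃.sub_left, H₃.sub_right, unit_h]
      ring⟩
  map_one' := unit_ext fun x => by
    show Φ.extFun Ψ 1 x = x
    simp [extFun]
  map_mul' g g' := unit_ext fun x => (Φ.extFun_mul Ψ hc hd g g' x).symm

theorem ext_apply (g : Unit' H₃) (x : V) :
    (Φ.ext Ψ hc hd g).1 x = x + Φ.emb Ψ (g.1 (Φ.proj Ψ x) - Φ.proj Ψ x) := rfl

theorem ext_emb (g : Unit' H₃) (s : W) :
    (Φ.ext Ψ hc hd g).1 (Φ.emb Ψ s) = Φ.emb Ψ (g.1 s) := by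
  rw [ext_apply, Φ.proj_emb Ψ hd, map_sub]; abel

theorem ext_fix (g : Unit' H₃) {x : V} (ha : H.h x Ψ.a = 0) (hb : H.h x Ψ.b = 0)
    (hc' : H.h x Ψ.c = 0) : (Φ.ext Ψ hc hd g).1 x = x := by
  have : Φ.proj Ψ x = 0 := by simp [proj_apply, ha, hb, hc']
  rw [ext_apply, this]; simp

theorem emb_cond {u w : W} {l : F} (c : RootCond H₃ u w l) :
    RootCond H (Φ.emb Ψ u) (Φ.emb Ψ w) l :=
  ⟨by rw [Φ.h_emb_emb Ψ hc hd]; exact c.1, by rw [Φ.h_emb_emb Ψ hc hd]; exact c.2.1,
    by rw [Φ.h_emb_emb Ψ hc hd, ← hc]; exact c.2.2⟩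

theorem ext_root {u w : W} {l : F} (c : RootCond H₃ u w l) :
    Φ.ext Ψ hc hd (root H₃ u w l c) =
      root H (Φ.emb Ψ u) (Φ.emb Ψ w) l (Φ.emb_cond Ψ hc hd c) := by
  refine unit_ext fun x => ?_
  rw [ext_apply, root_apply, root_apply, Φ.h_emb' Ψ hc hd, Φ.h_emb' Ψ hc hd]
  simp only [map_sub, map_add, map_smul]
  module

theorem cond_ext {z l : F} (h : l + H₃.conj l + z * H₃.conj z = 0) :
    l + H.conj l + z * H.conj z = 0 := by rwa [← hc, ← hc]

theorem ext_ra {z l : F} (h : l + H₃.conj l + z * H₃.conj z = 0) :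
    Φ.ext Ψ hc hd (Φ.ra z l h) = Ψ.ra z l (cond_ext hc hd h) := by
  rw [ra, Φ.ext_root Ψ hc hd]
  exact root_congr _ _ (Φ.emb_a Ψ) (by rw [map_smul, Φ.emb_c]) rfl

theorem ext_rb {z l : F} (h : l + H₃.conj l + z * H₃.conj z = 0) :
    Φ.ext Ψ hc hd (Φ.rb z l h) = Ψ.rb z l (cond_ext hc hd h) := by
  rw [rb, Φ.ext_root Ψ hc hd]
  exact root_congr _ _ (Φ.emb_b Ψ) (by rw [map_smul, Φ.emb_c]) rfl

end Frame

/-! ### The root group from one full root subgroup -/

/-- A subgroup with all root elements at `a` and an element moving `a` off `a^⊥` is everything. -/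
theorem rootGen_le_of_full (hB : Big H) {G : Subgroup (Unit' H)} {a : V} (ha : H.h a a = 0)
    (ha0 : a ≠ 0) (hfa : ∀ w l (c : RootCond H a w l), root H a w l c ∈ G) {m : Unit' H}
    (hm : m ∈ G) (hma : H.h (m.1 a) a ≠ 0) : rootGen H ≤ G := by
  have hG : ∀ (g : Unit' H), g ∈ G → ∀ (k : F), k ≠ 0 → ∀ p, g.1 a = k • p →
      ∀ w l (c : RootCond H p w l), root H p w l c ∈ G := by
    intro g hg k hk p hga w l c
    have hinv : (g⁻¹).1 p = k⁻¹ • a := by
      rw [← inv_smul_smul₀ hk p, map_smul, ← hga, inv_apply_self]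
    have c' := c.map g⁻¹
    have e : g⁻¹ * root H p w l c * g =
        root H (k⁻¹ • a) ((g⁻¹).1 w) l (hinv ▸ c') := by
      have := root_conj g⁻¹ c
      rw [inv_inv] at this
      rw [this]
      exact root_congr _ _ hinv rfl rfl
    rw [root_smul _ (inv_ne_zero hk)] at e
    have h1 := mul_mem (mul_mem hg (e.symm ▸ hfa _ _ _ : g⁻¹ * root H p w l c * g ∈ G)) (inv_mem hg)
    rwa [show g * (g⁻¹ * root H p w l c * g) * g⁻¹ = root H p w l c by group] at h1
  -- partners
  have key : ∀ p, H.h p p = 0 → H.h p a ≠ 0 → ∃ g ∈ G, ∃ k : F, k ≠ 0 ∧ g.1 a = k • p := by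
    intro p hp hpa
    set a' := m.1 a
    have ha' : H.h a' a' = 0 := by rw [unit_h]; exact ha
    have p1 : IsHPair H a ((H.h a' a)⁻¹ • a') := ⟨ha, by
      rw [H.smul_left, H.smul_right, ha', mul_zero, mul_zero],
      by rw [H.smul_left, inv_mul_cancel₀ hma]⟩
    have p2 : IsHPair H a ((H.h p a)⁻¹ • p) := ⟨ha, by
      rw [H.smul_left, H.smul_right, hp, mul_zero, mul_zero],
      by rw [H.smul_left, inv_mul_cancel₀ hpa]⟩
    obtain ⟨w', l', c', hr', -⟩ := exists_root_partner p1 p2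
    refine ⟨root H a w' l' c' * m, mul_mem (hfa _ _ _) hm, H.h a' a * (H.h p a)⁻¹,
      mul_ne_zero hma (inv_ne_zero hpa), ?_⟩
    rw [Subgroup.coe_mul]
    show (root H a w' l' c').1 a' = _
    rw [← smul_inv_smul₀ hma a', map_smul, hr', smul_smul, smul_inv_smul₀ hma]
  rw [rootGen, Subgroup.closure_le]
  rintro _ ⟨p, w, l, c, rfl⟩
  by_cases hp : p = 0
  · subst hp
    have : root H 0 w l c = 1 := unit_ext fun y => by simp [root_apply, H.zero_right]
    rw [this]; exact G.one_mem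
  by_cases hpa : H.h p a = 0
  · obtain ⟨z, hz, hzp, hza⟩ := exists_isotropic_nonorth hB c.1 hp ha ha0
    obtain ⟨g, hg, k, hk, hga⟩ := key z hz hza
    have hfz := hG g hg k hk z hga
    obtain ⟨z', p'⟩ : ∃ z', IsHPair H z ((H.h p z)⁻¹ • p) ∧ z' = (H.h a z)⁻¹ • a := by
      refine ⟨_, ⟨hz, by rw [H.smul_left, H.smul_right, c.1, mul_zero, mul_zero], ?_⟩, rfl⟩
      rw [H.smul_left, inv_mul_cancel₀ fun h => hzp (H.h_comm_zero h)]
    have haz : H.h a z ≠ 0 := fun h => hza (H.h_comm_zero h)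
    have hpz : H.h p z ≠ 0 := fun h => hzp (H.h_comm_zero h)
    have q1 : IsHPair H z ((H.h a z)⁻¹ • a) := ⟨hz, by
      rw [H.smul_left, H.smul_right, ha, mul_zero, mul_zero],
      by rw [H.smul_left, inv_mul_cancel₀ haz]⟩
    obtain ⟨w', l', c', hr', -⟩ := exists_root_partner q1 p'.1
    refine hG _ (hfz w' l' c') (H.h a z * (H.h p z)⁻¹) (mul_ne_zero haz (inv_ne_zero hpz)) p ?_ w l c
    rw [← smul_inv_smul₀ haz a, map_smul, hr', smul_smul, smul_inv_smul₀ haz]
  · obtain ⟨g, hg, k, hk, hga⟩ := key p c.1 hpa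
    exact hG g hg k hk p hga w l c

/-- A subgroup with the central root elements at `a`, an exchange of `a` with `b`, all dilations of
`a`, and a regular element fixing `a` is everything. -/
theorem rootGen_le_of_plane (hB : Big H) (hF4 : ∀ x y : F, ∃ t, t ≠ 0 ∧ t ≠ x ∧ t ≠ y)
    {G : Subgroup (Unit' H)} {a b : V} (hab : IsHPair H a b)
    (hs : ∀ s (c : RootCond H a 0 s), root H a 0 s c ∈ G)
    {u : Unit' H} (hu : u ∈ G) (hua : u.1 a = a) {w : V} (hw : w = u.1 b - b)
    (hwb : H.h w b = 0)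
    {σ : Unit' H} (hσ : σ ∈ G) (hσa : σ.1 a = b) (hσb : σ.1 b = a) (hσw : σ.1 w = w)
    (hdil : ∀ t : F, t ≠ 0 → ∃ d ∈ G, d.1 a = t • a ∧ d.1 w = w)
    (hspan : ∀ S : Submodule F V, a ∈ S → w ∈ S → (∀ x ∈ S, u.1 x ∈ S) →
      ∀ x, H.h x a = 0 → x ∈ S) : rootGen H ≤ G := by
  have hab' : H.h a b = 1 := H.h_comm_one hab.2.2
  have hwa : H.h w a = 0 := by
    rw [hw, H.sub_left]
    nth_rewrite 1 [← hua]
    rw [unit_h, sub_self]
  have hww : H.h w w = 0 := by
    have h1 := unit_h u b b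
    rw [show u.1 b = b + w by rw [hw]; abel, H.add_left, H.add_right, H.add_right, hwb,
      H.h_comm_zero hwb, hab.2.1] at h1
    linear_combination h1
  -- the set of directions
  let inK : V → Prop := fun x => H.h x a = 0 ∧ ∀ l (c : RootCond H a x l), root H a x l c ∈ G
  have hK : ∀ x l (c : RootCond H a x l), root H a x l c ∈ G → inK x := by
    refine fun x l c hx => ⟨c.2.1, fun l' c' => ?_⟩
    have c0 : RootCond H a 0 (l' - l) := ⟨hab.1, H.zero_left a, by
      rw [map_sub, H.zero_left]; linear_combination c'.2.2 - c.2.2⟩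
    have h1 := mul_mem hx (hs _ c0)
    rw [root_mul] at h1
    rwa [root_congr _ c' rfl (add_zero x) (by rw [H.zero_left]; ring)] at h1
  have hne : ∀ x, H.h x a = 0 → ∃ l, RootCond H a x l := fun x hx => by
    obtain ⟨l, hl⟩ := H.exists_trace (c := -H.h x x) (by rw [map_neg, H.conj_diag])
    exact ⟨l, hab.1, hx, by linear_combination hl⟩
  let S : Submodule F V :=
    { carrier := {x | ∀ r : F, inK (r • x)}
      add_mem' := fun {x y} hx hy r => by
        obtain ⟨l, c⟩ := hne _ (hx r).1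
        obtain ⟨l', c'⟩ := hne _ (hy r).1
        have h1 := mul_mem ((hx r).2 l c) ((hy r).2 l' c')
        rw [root_mul] at h1
        rw [smul_add]
        exact hK _ _ _ h1
      zero_mem' := fun r => by
        rw [smul_zero]
        exact ⟨H.zero_left a, fun l c => hs l c⟩
      smul_mem' := fun r x hx r' => by rw [smul_smul]; exact hx _ }
  have haS : a ∈ S := fun r => by
    refine ⟨by rw [H.smul_left, hab.1, mul_zero], fun l c => ?_⟩
    set L := l - (H.conj r - r) with hL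
    have c0 : RootCond H a 0 L := ⟨hab.1, H.zero_left a, by
      have h3 := c.2.2
      rw [H.smul_left, H.smul_right, hab.1] at h3
      rw [hL, map_sub, map_sub, H.conj_conj, H.zero_left]
      linear_combination h3⟩
    have hcd : RootCond H a (0 + r • a) (L + (H.conj r - r)) := by
      rw [hL, sub_add_cancel, zero_add]; exact c
    rw [← root_congr hcd c rfl (zero_add _) (by rw [hL, sub_add_cancel]), root_add_smul r c0 hcd]
    exact hs _ _
  have huS : ∀ x ∈ S, u.1 x ∈ S := fun x hx r => by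
    obtain ⟨l, c⟩ := hne _ (hx r).1
    have h1 := mul_mem (mul_mem hu ((hx r).2 l c)) (inv_mem hu)
    rw [root_conj, root_congr _ (show RootCond H a (r • u.1 x) l by
      have := c.map u; rwa [hua, map_smul] at this) hua (map_smul _ _ _) rfl] at h1
    exact hK _ _ _ h1
  -- central root elements at `a + w`
  have hq : ∀ s (c : RootCond H (a + w) 0 s), root H (a + w) 0 s c ∈ G := by
    intro s c
    have e : σ.1 (u.1 (σ.1 a)) = a + w := by
      rw [hσa, show u.1 b = b + w by rw [hw]; abel, map_add, hσb, hσw]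
    have cs : RootCond H a 0 s := ⟨hab.1, H.zero_left a, by
      have := c.2.2; rwa [H.zero_left] at this ⊢⟩
    set g := σ * u * σ
    have hg : g ∈ G := mul_mem (mul_mem hσ hu) hσ
    have h1 := mul_mem (mul_mem hg (hs s cs)) (inv_mem hg)
    rwa [root_conj, root_congr _ c (by simpa [g] using e) (map_zero _) rfl] at h1
  -- all multiples of `w`
  have hwS : w ∈ S := by
    obtain ⟨s₀, hs0, hs0c⟩ := H.exists_skew
    have part : ∀ t : F, t ≠ 0 → inK (((H.conj t - 1) * s₀) • w) := by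
      intro t ht
      obtain ⟨d, hd, hda, hdw⟩ := hdil t ht
      have hqq : H.h (a + w) (a + w) = 0 := by
        simp [H.add_left, H.add_right, hab.1, hww, hwa, H.h_comm_zero hwa]
      have cq : RootCond H (a + w) 0 s₀ := ⟨hqq, H.zero_left _, by
        rw [H.zero_left]; linear_combination hs0c⟩
      have h1 := mul_mem (mul_mem (mul_mem hd (hq _ cq)) (inv_mem hd)) (inv_mem (hq _ cq))
      set x := ((H.conj t - 1) * s₀) • w with hx
      set L := (t * H.conj t - 1) * s₀ with hL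
      have hs0' : H.conj s₀ = -s₀ := by linear_combination hs0c
      have cx : RootCond H a x L := ⟨hab.1, by rw [hx, H.smul_left, hwa, mul_zero], by
        rw [hx, hL, H.smul_left, H.smul_right, hww, map_mul, map_sub, map_mul, map_one, H.conj_conj,
          hs0']
        ring⟩
      refine hK x L cx ?_
      convert h1 using 1
      refine unit_ext fun y => ?_
      simp only [root_conj, root_inv, mul_apply, root_apply, map_add, map_zero, hda, hdw, neg_zero,
        hx, hL, hs0', H.add_left, H.add_right, H.smul_left, H.smul_right, H.zero_right, H.zero_left, hab.1, hwa,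
        hww, H.h_comm_zero hwa, map_mul, map_sub, map_one, map_neg, H.conj_conj]
      module
    have hne1 : ∀ r : F, r ≠ -s₀ → inK (r • w) := fun r hr => by
      have h := part (H.conj (1 + r / s₀)) (H.conj_ne_zero fun h0 => hr (by
        field_simp at h0; linear_combination h0))
      rwa [H.conj_conj, add_sub_cancel_left, div_mul_cancel₀ _ hs0] at h
    intro r
    obtain ⟨t, ht0, ht1, ht2⟩ := hF4 (-s₀) (r + s₀)
    have hrt : r - t ≠ -s₀ := fun h => ht2 (by linear_combination -h)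
    have A := hne1 t ht1
    have B := hne1 (r - t) hrt
    obtain ⟨l, c⟩ := hne _ A.1
    obtain ⟨l', c'⟩ := hne _ B.1
    have h1 := mul_mem (A.2 l c) (B.2 l' c')
    rw [root_mul, root_congr _ (show RootCond H a (r • w) (l + l' - H.h ((r - t) • w) (t • w)) by
      have := c.add c'
      rwa [← add_smul, add_sub_cancel] at this) rfl (by rw [← add_smul, add_sub_cancel]) rfl] at h1
    exact hK _ _ _ h1
  have hall := hspan S haS hwS huS
  refine rootGen_le_of_full hB hab.1 hab.left_ne_zero (fun x l c => ?_) hσ (by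
    rw [hσa, hab.2.2]; exact one_ne_zero)
  have h := (hall x c.2.1 1).2 l
  rw [one_smul] at h
  exact h c

end CfsgLib.Linear.SUThree
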