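/-
A Witt basis of an odd dimensional unitary space and a regular unipotent element.
-/
import Cfsg.Agent.Lib.Classical.Herm.Std

set_option autoImplicit false
set_option linter.unusedSectionVars false

namespace CfsgLib.Linear.SURegular

open CfsgLib.Classical.Herm Module

variable {F V : Type*} [Field F] [AddCommGroup V] [Module F V] {H : HermSpace F V} {k : ℕ}

/-- A Witt basis of a `2 (k + 2) + 1`-dimensional unitary space. -/
structure Hyp (H : HermSpace F V) (k : ℕ) where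
  a : Fin (k + 2) → V
  b : Fin (k + 2) → V
  c : V
  aa : ∀ i j, H.h (a i) (a j) = 0
  bb : ∀ i j, H.h (b i) (b j) = 0
  ab : ∀ i j, H.h (a i) (b j) = if i = j then 1 else 0
  cc : H.h c c = 1
  ca : ∀ i, H.h c (a i) = 0
  cb : ∀ i, H.h c (b i) = 0

namespace Hyp

variable (Φ : Hyp H k)

theorem ab_same (i : Fin (k + 2)) : H.h (Φ.a i) (Φ.b i) = 1 := by rw [Φ.ab, if_pos rfl]
theorem ba_same (i : Fin (k + 2)) : H.h (Φ.b i) (Φ.a i) = 1 :=
  HermSpace.h_comm_one H (Φ.ab_same i)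
theorem ab_ne {i j : Fin (k + 2)} (h : i ≠ j) : H.h (Φ.a i) (Φ.b j) = 0 := by rw [Φ.ab, if_neg h]
theorem ba_ne {i j : Fin (k + 2)} (h : i ≠ j) : H.h (Φ.b i) (Φ.a j) = 0 :=
  HermSpace.h_comm_zero H (Φ.ab_ne h.symm)
theorem ac (i : Fin (k + 2)) : H.h (Φ.a i) Φ.c = 0 := HermSpace.h_comm_zero H (Φ.ca i)
theorem bc (i : Fin (k + 2)) : H.h (Φ.b i) Φ.c = 0 := HermSpace.h_comm_zero H (Φ.cb i)

theorem a_ne_zero (i : Fin (k + 2)) : Φ.a i ≠ 0 := fun h => by
  have := Φ.ab_same i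
  rw [h, H.zero_left] at this
  exact zero_ne_one this

/-- The last index. -/
abbrev li : Fin (k + 2) := Fin.last (k + 1)

/-- The index before the last one. -/
abbrev pi' : Fin (k + 2) := ⟨k, by omega⟩

theorem pi_ne_li : (pi' : Fin (k + 2)) ≠ li := by simp [Fin.ext_iff, pi', li]
theorem zero_ne_li : (0 : Fin (k + 2)) ≠ li := by simp [Fin.ext_iff, li]

theorem step_cond {i : ℕ} (hi : i < k + 1) :
    RootCond H (Φ.a ⟨i, by omega⟩) (-Φ.b ⟨i + 1, by omega⟩) 0 := by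
  refine ⟨Φ.aa _ _, ?_, ?_⟩
  · rw [H.neg_left, Φ.ba_ne (by simp [Fin.ext_iff]), neg_zero]
  · simp [H.neg_left, H.neg_right, Φ.bb]

/-- A simple root element of the Levi subgroup. -/
def step (i : ℕ) (hi : i < k + 1) : Unit' H :=
  root H (Φ.a ⟨i, by omega⟩) (-Φ.b ⟨i + 1, by omega⟩) 0 (Φ.step_cond hi)

theorem step_apply {i : ℕ} (hi : i < k + 1) (x : V) : (Φ.step i hi).1 x =
    x - H.h x (Φ.a ⟨i, by omega⟩) • Φ.b ⟨i + 1, by omega⟩ +
      H.h x (Φ.b ⟨i + 1, by omega⟩) • Φ.a ⟨i, by omega⟩ := by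
  rw [step, root_apply, H.neg_right]
  module

theorem step_inv_apply {i : ℕ} (hi : i < k + 1) (x : V) : ((Φ.step i hi)⁻¹).1 x =
    x + H.h x (Φ.a ⟨i, by omega⟩) • Φ.b ⟨i + 1, by omega⟩ -
      H.h x (Φ.b ⟨i + 1, by omega⟩) • Φ.a ⟨i, by omega⟩ := by
  simp only [step, root_inv, root_apply, neg_neg, map_zero]
  module

/-- The products of the first simple root elements. -/
def lev : ℕ → Unit' H
  | 0 => 1
  | i + 1 => if h : i < k + 1 then Φ.step i h * lev i else lev i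

theorem lev_succ {i : ℕ} (hi : i < k + 1) : Φ.lev (i + 1) = Φ.step i hi * Φ.lev i := dif_pos hi

theorem lev_c : ∀ i, i ≤ k + 1 → (Φ.lev i).1 Φ.c = Φ.c
  | 0, _ => rfl
  | i + 1, hi => by
    rw [Φ.lev_succ (by omega), mul_apply, lev_c i (by omega), step_apply, Φ.ca, Φ.cb]
    simp

theorem lev_a : ∀ i, i ≤ k + 1 → (Φ.lev i).1 (Φ.a 0) = Φ.a 0 ∧
    ∀ (j : ℕ) (hj : j < k + 1), (Φ.lev i).1 (Φ.a ⟨j + 1, by omega⟩) =
      if j < i then Φ.a ⟨j + 1, by omega⟩ + Φ.a ⟨j, by omega⟩ else Φ.a ⟨j + 1, by omega⟩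
  | 0, _ => ⟨rfl, fun j hj => by simp [lev]⟩
  | i + 1, hi => by
    obtain ⟨h0, h1⟩ := lev_a i (by omega)
    refine ⟨?_, fun j hj => ?_⟩
    · rw [Φ.lev_succ (by omega), mul_apply, h0, step_apply, Φ.aa,
        Φ.ab_ne (by simp [Fin.ext_iff])]
      simp
    · rw [Φ.lev_succ (by omega), mul_apply, h1 j hj]
      rcases lt_trichotomy j i with h | h | h
      · rw [if_pos h, if_pos (by omega), step_apply, H.add_left, H.add_left, Φ.aa, Φ.aa,
          Φ.ab_ne (by simp [Fin.ext_iff]; omega), Φ.ab_ne (by simp [Fin.ext_iff]; omega)]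
        simp
      · subst h
        rw [if_neg (lt_irrefl _), if_pos (by omega), step_apply, Φ.aa, Φ.ab_same]
        simp
      · rw [if_neg (by omega), if_neg (by omega), step_apply, Φ.aa,
          Φ.ab_ne (by simp [Fin.ext_iff]; omega)]
        simp

theorem lev_b_fix : ∀ i, i ≤ k + 1 → ∀ j : Fin (k + 2), i ≤ (j : ℕ) → (Φ.lev i).1 (Φ.b j) = Φ.b j
  | 0, _, _, _ => rfl
  | i + 1, hi, j, hj => by
    rw [Φ.lev_succ (by omega), mul_apply, lev_b_fix i (by omega) j (by omega), step_apply, Φ.bb,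
      Φ.ba_ne (by simp [Fin.ext_iff]; omega)]
    simp

theorem lev_inv_b : ∀ i, i ≤ k + 1 → ∀ (j : ℕ) (hj : j < i) (hjk : j < k + 1),
    ((Φ.lev i)⁻¹).1 (Φ.b ⟨j, by omega⟩) = Φ.b ⟨j, by omega⟩ + Φ.b ⟨j + 1, by omega⟩
  | 0, _, _, hj, _ => absurd hj (by omega)
  | i + 1, hi, j, hj, hjk => by
    have hfix : ∀ j' : Fin (k + 2), i ≤ (j' : ℕ) → ((Φ.lev i)⁻¹).1 (Φ.b j') = Φ.b j' :=
      fun j' hj' => by
        conv_lhs => rw [← Φ.lev_b_fix i (by omega) j' hj']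
        rw [inv_apply_self]
    rw [Φ.lev_succ (by omega), mul_inv_rev, mul_apply, step_inv_apply, Φ.bb, zero_smul, sub_zero]
    rcases Nat.lt_or_ge j i with h | h
    · rw [Φ.ba_ne (by simp [Fin.ext_iff]; omega), zero_smul, add_zero,
        lev_inv_b i (by omega) j h hjk]
    · obtain rfl : j = i := by omega
      rw [Φ.ba_same, one_smul, map_add, hfix _ (by simp), hfix _ (by simp)]

theorem lev_b_iso : ∀ i, i ≤ k + 1 → ∀ j j', H.h ((Φ.lev i).1 (Φ.b j)) (Φ.b j') = 0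
  | 0, _, j, j' => Φ.bb j j'
  | i + 1, hi, j, j' => by
    rw [Φ.lev_succ (by omega), mul_apply,
      ← unit_h ((Φ.step i (by omega))⁻¹), inv_apply_self, step_inv_apply, H.sub_right, H.add_right,
      H.smul_right, H.smul_right, Φ.bb j', map_zero, zero_mul, sub_zero,
      lev_b_iso i (by omega) j j', lev_b_iso i (by omega) j _, mul_zero, zero_add]

/-! ### The regular unipotent element -/

theorem tail_cond {z l : F} (h : l + H.conj l + z * H.conj z = 0) :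
    RootCond H (Φ.a li) (z • Φ.c) l :=
  ⟨Φ.aa _ _, by rw [H.smul_left, Φ.ca, mul_zero],
    by rw [H.smul_left, H.smul_right, Φ.cc, mul_one]; exact h⟩

variable {z l : F} (hl : l + H.conj l + z * H.conj z = 0)

/-- The regular unipotent element. -/
def reg : Unit' H := Φ.lev (k + 1) * root H (Φ.a li) (z • Φ.c) l (Φ.tail_cond hl)

theorem reg_mem : Φ.reg hl ∈ rootGen H := by
  refine mul_mem ?_ (root_mem _)
  suffices ∀ i, Φ.lev i ∈ rootGen H from this _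
  intro i
  induction i with
  | zero => exact one_mem _
  | succ i ih =>
    unfold lev
    split
    · exact mul_mem (root_mem _) ih
    · exact ih

theorem reg_a (j : Fin (k + 2)) : (Φ.reg hl).1 (Φ.a j) = (Φ.lev (k + 1)).1 (Φ.a j) := by
  rw [reg, mul_apply, root_apply, Φ.aa, H.smul_right, Φ.ac]
  simp

theorem reg_a_zero : (Φ.reg hl).1 (Φ.a 0) = Φ.a 0 := by rw [reg_a, (Φ.lev_a _ le_rfl).1]

theorem reg_a_succ {j : ℕ} (hj : j < k + 1) : (Φ.reg hl).1 (Φ.a ⟨j + 1, by omega⟩) =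
    Φ.a ⟨j + 1, by omega⟩ + Φ.a ⟨j, by omega⟩ := by
  rw [reg_a, (Φ.lev_a _ le_rfl).2 j hj, if_pos hj]

theorem reg_a_li : (Φ.reg hl).1 (Φ.a li) = Φ.a li + Φ.a pi' := Φ.reg_a_succ hl (Nat.lt_succ_self k)

theorem reg_c : (Φ.reg hl).1 Φ.c = Φ.c - H.conj z • (Φ.a li + Φ.a pi') := by
  rw [reg, mul_apply, root_apply, Φ.ca, H.smul_right, Φ.cc]
  simp only [zero_smul, add_zero, mul_one, mul_zero, map_add, map_smul, Φ.lev_c _ le_rfl,
    show (Φ.lev (k + 1)).1 (Φ.a li) = Φ.a li + Φ.a pi' by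
      have := (Φ.lev_a _ le_rfl).2 k (Nat.lt_succ_self k)
      rwa [if_pos (Nat.lt_succ_self k)] at this]
  module

theorem reg_b_li : (Φ.reg hl).1 (Φ.b li) = Φ.b li + z • Φ.c + l • (Φ.a li + Φ.a pi') := by
  rw [reg, mul_apply, root_apply, Φ.ba_same, H.smul_right, Φ.bc]
  simp only [one_smul, mul_one, mul_zero, neg_zero, zero_add, map_add, map_smul, Φ.lev_c _ le_rfl,
    Φ.lev_b_fix _ le_rfl li (by simp [li]),
    show (Φ.lev (k + 1)).1 (Φ.a li) = Φ.a li + Φ.a pi' by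
      have := (Φ.lev_a _ le_rfl).2 k (Nat.lt_succ_self k)
      rwa [if_pos (Nat.lt_succ_self k)] at this]

theorem reg_b_lt {j : Fin (k + 2)} (hj : j ≠ li) :
    (Φ.reg hl).1 (Φ.b j) = (Φ.lev (k + 1)).1 (Φ.b j) := by
  rw [reg, mul_apply, root_apply, Φ.ba_ne hj, H.smul_right, Φ.bc]
  simp

theorem reg_b_succ {j : ℕ} (hj : j < k + 1) : (Φ.reg hl).1 (Φ.b ⟨j, by omega⟩) =
    Φ.b ⟨j, by omega⟩ - (Φ.lev (k + 1)).1 (Φ.b ⟨j + 1, by omega⟩) := by
  rw [Φ.reg_b_lt hl (by simp [Fin.ext_iff, li]; omega), eq_sub_iff_add_eq, ← map_add,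
    ← Φ.lev_inv_b _ le_rfl j hj hj, self_apply_inv]

theorem reg_b_pi : (Φ.reg hl).1 (Φ.b pi') = Φ.b pi' - Φ.b li := by
  have := Φ.reg_b_succ hl (Nat.lt_succ_self k)
  rwa [Φ.lev_b_fix _ le_rfl ⟨k + 1, by omega⟩ (le_refl _)] at this

/-- `u - 1`. -/
def nil : Module.End F V := ((Φ.reg hl).1 : V →ₗ[F] V) - 1

theorem nil_apply (x : V) : Φ.nil hl x = (Φ.reg hl).1 x - x := rfl

theorem nil_pow_succ (i : ℕ) (x : V) : (Φ.nil hl ^ (i + 1)) x = (Φ.nil hl ^ i) (Φ.nil hl x) := by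
  rw [pow_succ]; rfl

theorem nil_pow_comm (i : ℕ) (x : V) :
    (Φ.nil hl ^ i) ((Φ.reg hl).1 x) = (Φ.reg hl).1 ((Φ.nil hl ^ i) x) := by
  induction i generalizing x with
  | zero => rfl
  | succ i ih =>
    rw [nil_pow_succ, nil_pow_succ, nil_apply, nil_apply, ← ih, map_sub (Φ.reg hl).1]

theorem nil_pow_a : ∀ (j : ℕ) (hj : j < k + 2),
    (Φ.nil hl ^ j) (Φ.a ⟨j, hj⟩) = Φ.a 0 ∧ (Φ.nil hl ^ (j + 1)) (Φ.a ⟨j, hj⟩) = 0
  | 0, hj => by
    refine ⟨rfl, ?_⟩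
    rw [zero_add, pow_one, nil_apply, show (⟨0, hj⟩ : Fin (k + 2)) = 0 from rfl, reg_a_zero,
      sub_self]
  | j + 1, hj => by
    obtain ⟨h1, h2⟩ := nil_pow_a j (by omega)
    have e : Φ.nil hl (Φ.a ⟨j + 1, hj⟩) = Φ.a ⟨j, by omega⟩ := by
      rw [nil_apply, Φ.reg_a_succ hl (by omega), add_sub_cancel_left]
    exact ⟨by rw [nil_pow_succ, e, h1], by rw [nil_pow_succ, e, h2]⟩

theorem nil_pow_edge : (Φ.nil hl ^ (k + 1)) (Φ.a li + Φ.a pi') = Φ.a 0 ∧
    (Φ.nil hl ^ (k + 2)) (Φ.a li + Φ.a pi') = 0 := by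
  obtain ⟨h1, h2⟩ := Φ.nil_pow_a hl (k + 1) (by omega)
  obtain ⟨-, h4⟩ := Φ.nil_pow_a hl k (by omega)
  refine ⟨by rw [map_add, h4, add_zero]; exact h1, ?_⟩
  rw [map_add, show Φ.a li = Φ.a ⟨k + 1, by omega⟩ from rfl, h2, pow_succ', Module.End.mul_apply,
    h4, map_zero, zero_add]

theorem nil_pow_c : (Φ.nil hl ^ (k + 2)) Φ.c = -(H.conj z) • Φ.a 0 ∧
    (Φ.nil hl ^ (k + 3)) Φ.c = 0 := by
  obtain ⟨h1, h2⟩ := Φ.nil_pow_edge hl
  have e : Φ.nil hl Φ.c = -(H.conj z) • (Φ.a li + Φ.a pi') := by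
    rw [nil_apply, reg_c]; module
  exact ⟨by rw [nil_pow_succ, e, map_smul, h1], by rw [nil_pow_succ, e, map_smul, h2, smul_zero]⟩

theorem nil_pow_b_li : (Φ.nil hl ^ (k + 3)) (Φ.b li) = -(z * H.conj z) • Φ.a 0 ∧
    (Φ.nil hl ^ (k + 4)) (Φ.b li) = 0 := by
  obtain ⟨c1, c2⟩ := Φ.nil_pow_c hl
  obtain ⟨-, h2⟩ := Φ.nil_pow_edge hl
  have h3 : (Φ.nil hl ^ (k + 3)) (Φ.a li + Φ.a pi') = 0 := by
    rw [pow_succ', Module.End.mul_apply, h2, map_zero]
  have e : Φ.nil hl (Φ.b li) = z • Φ.c + l • (Φ.a li + Φ.a pi') := by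
    rw [nil_apply, reg_b_li]; module
  constructor
  · rw [nil_pow_succ, e, map_add, map_smul, map_smul, c1, h2]; module
  · rw [nil_pow_succ, e, map_add, map_smul, map_smul, c2, h3]; module

theorem nil_pow_b : ∀ (d j : ℕ) (hj : j + d = k + 1), ∀ ε : F, ε = (-1) ^ d →
    (Φ.nil hl ^ (k + 3 + d)) (Φ.b ⟨j, by omega⟩) = (-(ε * (z * H.conj z))) • Φ.a 0 ∧
      (Φ.nil hl ^ (k + 4 + d)) (Φ.b ⟨j, by omega⟩) = 0
  | 0, j, hj, ε, hε => by
    obtain rfl : j = k + 1 := by omega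
    rw [hε, pow_zero, one_mul]
    exact Φ.nil_pow_b_li hl
  | d + 1, j, hj, ε, hε => by
    have e : Φ.nil hl (Φ.b ⟨j, by omega⟩) = -(Φ.lev (k + 1)).1 (Φ.b ⟨j + 1, by omega⟩) := by
      rw [nil_apply, Φ.reg_b_succ hl (by omega)]; abel
    obtain ⟨h1, h2⟩ := nil_pow_b d (j + 1) (by omega) _ rfl
    have key : ∀ i, (Φ.nil hl ^ i) ((Φ.lev (k + 1)).1 (Φ.b ⟨j + 1, by omega⟩)) =
        if j + 1 = k + 1 then (Φ.nil hl ^ i) (Φ.b ⟨j + 1, by omega⟩)
        else (Φ.reg hl).1 ((Φ.nil hl ^ i) (Φ.b ⟨j + 1, by omega⟩)) := by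
      intro i
      split_ifs with hji
      · rw [Φ.lev_b_fix _ le_rfl _ (by simp [hji])]
      · rw [← nil_pow_comm, Φ.reg_b_lt hl (by simp [Fin.ext_iff, li]; omega)]
    constructor
    · rw [show k + 3 + (d + 1) = k + 3 + d + 1 by omega, nil_pow_succ, e, map_neg, key, h1, hε]
      split_ifs <;> (try simp only [map_smul, reg_a_zero]) <;> module
    · rw [show k + 4 + (d + 1) = k + 4 + d + 1 by omega, nil_pow_succ, e, map_neg, key, h2]
      simp

theorem nil_top_ne_zero (hz : z ≠ 0) : (Φ.nil hl ^ (2 * k + 4)) (Φ.b 0) ≠ 0 := by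
  have h := (Φ.nil_pow_b hl (k + 1) 0 (by omega) _ rfl).1
  rw [show k + 3 + (k + 1) = 2 * k + 4 by omega, show (⟨0, by omega⟩ : Fin (k + 2)) = 0 from rfl] at h
  rw [h]
  exact smul_ne_zero (neg_ne_zero.2 (mul_ne_zero (pow_ne_zero _ (neg_ne_zero.2 one_ne_zero))
    (mul_ne_zero hz (H.conj_ne_zero hz)))) (Φ.a_ne_zero 0)

theorem nil_pow_b_zero {i : ℕ} (hi : 2 * k + 5 ≤ i) : (Φ.nil hl ^ i) (Φ.b 0) = 0 := by
  obtain ⟨e, rfl⟩ := Nat.exists_eq_add_of_le hi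
  have h := (Φ.nil_pow_b hl (k + 1) 0 (by omega) _ rfl).2
  rw [show k + 4 + (k + 1) = 2 * k + 5 by omega, show (⟨0, by omega⟩ : Fin (k + 2)) = 0 from rfl] at h
  rw [add_comm, pow_add, Module.End.mul_apply, h, map_zero]

theorem linearIndependent_orbit (hz : z ≠ 0) :
    LinearIndependent F (fun j : Fin (2 * k + 5) => (Φ.nil hl ^ (j : ℕ)) (Φ.b 0)) := by
  classical
  rw [Fintype.linearIndependent_iff]
  intro c hc'
  by_contra hcon
  push Not at hcon
  have hne : (Finset.univ.filter fun j => c j ≠ 0).Nonempty := by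
    obtain ⟨j, hj⟩ := hcon
    exact ⟨j, Finset.mem_filter.2 ⟨Finset.mem_univ _, hj⟩⟩
  set j₀ := (Finset.univ.filter fun j => c j ≠ 0).min' hne with hj₀
  have hc0 : c j₀ ≠ 0 := (Finset.mem_filter.1 (Finset.min'_mem _ hne)).2
  have h := congrArg (Φ.nil hl ^ (2 * k + 4 - (j₀ : ℕ))) hc'
  simp only [map_zero, map_sum, map_smul, ← Module.End.mul_apply, ← pow_add] at h
  rw [Finset.sum_eq_single j₀] at h
  · rw [Nat.sub_add_cancel (by have := j₀.isLt; omega)] at h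
    exact smul_ne_zero hc0 (Φ.nil_top_ne_zero hl hz) h
  · intro j _ hj
    by_cases hcj : c j = 0
    · rw [hcj, zero_smul]
    · have hlt : j₀ < j := lt_of_le_of_ne
        (Finset.min'_le (Finset.univ.filter fun j => c j ≠ 0) j
          (Finset.mem_filter.2 ⟨Finset.mem_univ j, hcj⟩)) (Ne.symm hj)
      have : (j₀ : ℕ) < j := hlt
      rw [Φ.nil_pow_b_zero hl (by have := j.isLt; omega), smul_zero]
  · intro hh; exact absurd (Finset.mem_univ _) hh

theorem span_orbit [FiniteDimensional F V] (hd : finrank F V = 2 * k + 5) (hz : z ≠ 0) :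
    Submodule.span F (Set.range fun j : Fin (2 * k + 5) => (Φ.nil hl ^ (j : ℕ)) (Φ.b 0)) = ⊤ :=
  (Φ.linearIndependent_orbit hl hz).span_eq_top_of_card_eq_finrank' (by simp [hd])

theorem nil_pow_eq_zero [FiniteDimensional F V] (hd : finrank F V = 2 * k + 5) (hz : z ≠ 0)
    (x : V) : (Φ.nil hl ^ (2 * k + 5)) x = 0 := by
  have hx : x ∈ Submodule.span F (Set.range fun j : Fin (2 * k + 5) =>
      (Φ.nil hl ^ (j : ℕ)) (Φ.b 0)) := Φ.span_orbit hl hd hz ▸ Submodule.mem_top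
  obtain ⟨g, rfl⟩ := (Submodule.mem_span_range_iff_exists_fun F).1 hx
  rw [map_sum]
  refine Finset.sum_eq_zero fun j _ => ?_
  rw [map_smul, ← Module.End.mul_apply, ← pow_add, Φ.nil_pow_b_zero hl (by omega), smul_zero]

end Hyp

/-! ### Existence in the standard space -/

theorem exists_hyp {F : Type*} [Field F] [Fintype F] {q : ℕ} (hF : Fintype.card F = q ^ 2) (k : ℕ) :
    Nonempty (Hyp (stdHerm hF (2 * (k + 2) + 1)) k) := by
  set H := stdHerm hF (2 * (k + 2) + 1)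
  obtain ⟨ξ, hξ⟩ := H.norm_surj (-1) (by rw [map_neg, map_one])
  obtain ⟨ν, hν, hν1⟩ := H.exists_norm_one_ne_one
  set ξ' := ξ * ν
  have hξ' : ξ' * H.conj ξ' = -1 := by
    simp only [ξ', map_mul]; linear_combination ν * H.conj ν * hξ - hν
  have hne : 1 + ξ' * H.conj ξ ≠ 0 := fun h0 => hν1 (by
    simp only [ξ'] at h0; linear_combination ν * hξ - h0)
  let E : Fin (2 * (k + 2) + 1) → (Fin (2 * (k + 2) + 1) → F) := fun i => Pi.single i 1
  have hE : ∀ i j, H.h (E i) (E j) = if i = j then 1 else 0 := by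
    intro i j
    have hq : q ≠ 0 := by have := two_le_of_card hF; omega
    simp only [H, stdHerm_h, Cfsg.hermForm, E]
    rw [Finset.sum_eq_single i (fun x _ hx => by simp [hx]) (by simp)]
    rcases eq_or_ne i j with rfl | hij
    · simp
    · simp [hij, zero_pow hq]
  let o : Fin (k + 2) → Fin (2 * (k + 2) + 1) := fun i => ⟨2 * i, by omega⟩
  let o' : Fin (k + 2) → Fin (2 * (k + 2) + 1) := fun i => ⟨2 * i + 1, by omega⟩
  have o1 : ∀ i j, o i = o j ↔ i = j := fun i j => by simp [o, Fin.ext_iff]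
  have o2 : ∀ i j, o' i = o' j ↔ i = j := fun i j => by simp [o', Fin.ext_iff]
  have o3 : ∀ i j, o i ≠ o' j := fun i j => by simp [o, o', Fin.ext_iff]; omega
  have o4 : ∀ i, o i ≠ Fin.last (2 * (k + 2)) := fun i => by simp [o, Fin.ext_iff]; omega
  have o5 : ∀ i, o' i ≠ Fin.last (2 * (k + 2)) := fun i => by simp [o', Fin.ext_iff]; omega
  refine ⟨{
    a := fun i => E (o i) + ξ • E (o' i)
    b := fun i => (1 + ξ' * H.conj ξ)⁻¹ • (E (o i) + ξ' • E (o' i))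
    c := E (Fin.last (2 * (k + 2)))
    aa := ?_, bb := ?_, ab := ?_, cc := ?_, ca := ?_, cb := ?_ }⟩
  · intro i j
    simp only [H.add_left, H.add_right, H.smul_left, H.smul_right, hE, o1, o2, (o3 i j), (o3 j i).symm, if_false, mul_zero, add_zero, zero_add, mul_one]
    split_ifs <;> simp [hξ]
  · intro i j
    simp only [H.add_left, H.add_right, H.smul_left, H.smul_right, hE, o1, o2, (o3 i j), (o3 j i).symm, if_false, mul_zero, add_zero, zero_add, mul_one]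
    split_ifs <;> simp [hξ'] <;> exact Or.inr (by linear_combination (1 + H.conj ξ' * H.conj (H.conj ξ))⁻¹ * hξ')
  · intro i j
    simp only [H.add_left, H.add_right, H.smul_left, H.smul_right, hE, o1, o2, (o3 i j), (o3 j i).symm, if_false, mul_zero, add_zero, zero_add, mul_one]
    rcases eq_or_ne i j with rfl | hij
    · have hc : 1 + ξ * H.conj ξ' ≠ 0 := by
        have h1 := H.conj_ne_zero hne
        rwa [map_add, map_one, map_mul, H.conj_conj, mul_comm] at h1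
      simp only [if_true, map_inv₀, map_add, map_one, map_mul, H.conj_conj, mul_one]
      linear_combination mul_inv_cancel₀ hc
    · simp [hij]
  · simp [hE]
  · intro i
    simp [H.add_right, H.smul_right, hE, (o4 i).symm, (o5 i).symm]
  · intro i
    simp [H.add_right, H.smul_right, hE, (o4 i).symm, (o5 i).symm]

end CfsgLib.Linear.SURegular
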