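/-
Three conjugates of a regular unipotent element of `SU_{2m+1}(q)` containing a good pair.
-/
import Cfsg.Agent.Lib.Linear.SUHyp
import Cfsg.Agent.Lib.Linear.SUEmbed

set_option autoImplicit false
set_option linter.unusedSectionVars false
set_option linter.unusedSimpArgs false

namespace CfsgLib.Linear.SURegular

open CfsgLib.Classical.Herm Module
open CfsgLib.Linear.SUThree (Frame)

variable {F V : Type*} [Field F] [AddCommGroup V] [Module F V] {H : HermSpace F V} {k : ℕ}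

/-- The root group is transitive on frames. -/
theorem exists_frame_map [FiniteDimensional F V] (hB : Big H) (Ξ Ψ : Frame H) {v₀ : V}
    (hv : H.h v₀ v₀ = 1) (hva : H.h v₀ Ψ.a = 0) (hvb : H.h v₀ Ψ.b = 0) (hvc : H.h v₀ Ψ.c = 0) :
    ∃ g ∈ rootGen H, g.1 Ξ.a = Ψ.a ∧ g.1 Ξ.b = Ψ.b ∧ g.1 Ξ.c = Ψ.c := by
  have p : IsHPair H Ξ.a Ξ.b := ⟨Ξ.aa, Ξ.bb, Ξ.ba⟩
  have p' : IsHPair H Ψ.a Ψ.b := ⟨Ψ.aa, Ψ.bb, Ψ.ba⟩
  obtain ⟨g, hg, hga, hgb⟩ := rootGen_map_hpair hB p p'
  set c' := g.1 Ξ.c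
  have hcc : H.h c' c' = 1 := by rw [unit_h]; exact Ξ.cc
  have hca : H.h c' Ψ.a = 0 := by rw [← hga, unit_h]; exact Ξ.ca
  have hcb : H.h c' Ψ.b = 0 := by rw [← hgb, unit_h]; exact Ξ.cb
  let ok : Unit' H → Prop := fun s => s.1 Ψ.a = Ψ.a ∧ s.1 Ψ.b = Ψ.b ∧
    (detHom H s : F) * H.conj (detHom H s : F) = 1
  have key : ∀ x y : V, H.h x x = 1 → H.h y y = 1 → H.h x y ≠ 1 → H.h x Ψ.a = 0 → H.h x Ψ.b = 0 →
      H.h y Ψ.a = 0 → H.h y Ψ.b = 0 → ∃ s, ok s ∧ s.1 x = y := by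
    intro x y hx hy hxy hxa hxb hya hyb
    have hne : H.h x (y - x) ≠ 0 := by rw [H.sub_right, hx]; exact sub_ne_zero.2 hxy
    refine ⟨_, ⟨?_, ?_, ?_⟩, shear_move (by rw [hx, hy]) hne⟩
    · rw [shear_apply, show H.h Ψ.a (y - x) = 0 by
        rw [H.sub_right, H.h_comm_zero hya, H.h_comm_zero hxa, sub_zero]]; simp
    · rw [shear_apply, show H.h Ψ.b (y - x) = 0 by
        rw [H.sub_right, H.h_comm_zero hyb, H.h_comm_zero hxb, sub_zero]]; simp
    · have hc := (shearCond_move (by rw [hx, hy] : H.h x x = H.h y y) hne).eq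
      rw [detHom_shear, map_add, map_one, map_mul, H.conj_diag]
      linear_combination H.h (y - x) (y - x) * hc
  obtain ⟨s, ⟨hsa, hsb, hsd⟩, hsc⟩ : ∃ s, ok s ∧ s.1 c' = Ψ.c := by
    by_cases h1 : H.h c' Ψ.c = 1
    · obtain ⟨r, hr, hr1⟩ := H.exists_norm_one_ne_one
      have hmid : H.h (r • Ψ.c) (r • Ψ.c) = 1 := by
        rw [H.smul_left, H.smul_right, Ψ.cc, mul_one, hr]
      have hma : H.h (r • Ψ.c) Ψ.a = 0 := by rw [H.smul_left, Ψ.ca, mul_zero]
      have hmb : H.h (r • Ψ.c) Ψ.b = 0 := by rw [H.smul_left, Ψ.cb, mul_zero]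
      obtain ⟨s, ⟨a1, a2, a3⟩, hs⟩ := key c' (r • Ψ.c) hcc hmid
        (by rw [H.smul_right, h1, mul_one]
            exact fun h0 => hr1 (by rw [← H.conj_conj r, h0, map_one])) hca hcb hma hmb
      obtain ⟨s', ⟨b1, b2, b3⟩, hs'⟩ := key (r • Ψ.c) Ψ.c hmid Ψ.cc
        (by rw [H.smul_left, Ψ.cc, mul_one]; exact hr1) hma hmb Ψ.ca Ψ.cb
      refine ⟨s' * s, ⟨by rw [mul_apply, a1, b1], by rw [mul_apply, a2, b2], ?_⟩,
        by rw [mul_apply, hs, hs']⟩
      rw [map_mul, Units.val_mul, map_mul]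
      linear_combination (detHom H s' : F) * H.conj (detHom H s' : F) * a3 + b3
    · exact key c' Ψ.c hcc Ψ.cc h1 hca hcb Ψ.ca Ψ.cb
  set D : F := (detHom H s : F)
  have hμ : ShearCond H v₀ (H.conj D - 1) := by
    unfold ShearCond
    rw [hv, map_sub, map_one, H.conj_conj]
    linear_combination hsd
  refine ⟨shear H v₀ _ hμ * s * g, ?_, ?_, ?_, ?_⟩
  · rw [rootGen_eq_ker_det hB p', MonoidHom.mem_ker, map_mul, map_mul,
      MonoidHom.mem_ker.1 (rootGen_le_ker_det hg), mul_one]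
    apply Units.ext
    rw [Units.val_mul, detHom_shear, hv, mul_one, add_sub_cancel, Units.val_one, mul_comm]
    exact hsd
  · rw [mul_apply, mul_apply, hga, hsa, shear_apply, H.h_comm_zero hva]; simp
  · rw [mul_apply, mul_apply, hgb, hsb, shear_apply, H.h_comm_zero hvb]; simp
  · rw [mul_apply, mul_apply, hsc, shear_apply, H.h_comm_zero hvc]; simp

variable (Φ : Hyp H k)

/-- The frame at the first index. -/
def Hyp.frame : Frame H :=
  ⟨Φ.a 0, Φ.b 0, Φ.c, Φ.aa 0 0, Φ.bb 0 0, Φ.ab_same 0, Φ.cc, Φ.ca 0, Φ.cb 0⟩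

theorem Hyp.exists_aux_vector : ∃ v₀, H.h v₀ v₀ = 1 ∧ H.h v₀ Φ.frame.a = 0 ∧
    H.h v₀ Φ.frame.b = 0 ∧ H.h v₀ Φ.frame.c = 0 := by
  obtain ⟨t, ht⟩ := H.exists_trace_one
  refine ⟨Φ.b Hyp.li + t • Φ.a Hyp.li, ?_, ?_, ?_, ?_⟩
  · simp [H.add_left, H.add_right, H.smul_left, H.smul_right, Φ.aa, Φ.bb, Φ.ab_same, Φ.ba_same]
    linear_combination ht
  · simp [Hyp.frame, H.add_left, H.smul_left, Φ.aa, Φ.ba_ne Hyp.zero_ne_li.symm]
  · simp [Hyp.frame, H.add_left, H.smul_left, Φ.bb, Φ.ab_ne Hyp.zero_ne_li.symm]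
  · simp [Hyp.frame, H.add_left, H.smul_left, Φ.ac, Φ.bc]

theorem Hyp.h_reg_a {z₀ l₀ : F} (hl : l₀ + H.conj l₀ + z₀ * H.conj z₀ = 0) {v : V}
    (hv : ∀ i : Fin (k + 2), (i : ℕ) < k → H.h (Φ.a i) v = 0) : ∀ (j : ℕ) (hj : j ≤ k),
    H.h ((Φ.reg hl).1 (Φ.a ⟨j, by omega⟩)) v = H.h (Φ.a ⟨j, by omega⟩) v ∧
    H.h ((Φ.reg hl).1 ((Φ.reg hl).1 (Φ.a ⟨j, by omega⟩))) v = H.h (Φ.a ⟨j, by omega⟩) v
  | 0, _ => by simp [show (⟨0, by omega⟩ : Fin (k + 2)) = 0 from rfl, Φ.reg_a_zero]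
  | j + 1, hj => by
    obtain ⟨h1, -⟩ := h_reg_a hl hv j (by omega)
    have h0 := hv ⟨j, by omega⟩ (by show j < k; omega)
    rw [Φ.reg_a_succ hl (by omega)]
    refine ⟨by rw [H.add_left, h0, add_zero], ?_⟩
    rw [map_add, Φ.reg_a_succ hl (by omega), H.add_left, H.add_left, h1, h0, add_zero, add_zero]

/-- Vectors with prescribed first moments. -/
theorem exists_moments {z₀ l₀ : F} (hl : l₀ + H.conj l₀ + z₀ * H.conj z₀ = 0) (hz₀ : z₀ ≠ 0)
    {ν η : F} (hη : H.conj η = η)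
    (hΦ : η * (3 * ν + H.conj ν - 3) - ν ^ 2 * (η + 1) +
      H.conj (η * (3 * ν + H.conj ν - 3) - ν ^ 2 * (η + 1)) + z₀ * H.conj z₀ = 0) :
    ∃ y, H.h y y = η ∧ H.h ((Φ.reg hl).1 y) y = ν * η ∧
      H.h ((Φ.reg hl).1 ((Φ.reg hl).1 y)) y = ν ^ 2 * (η + 1) := by
  set P := η * (3 * ν + H.conj ν - 3) - ν ^ 2 * (η + 1) with hP
  obtain ⟨t, ht⟩ := H.exists_trace_one
  have hz1 := H.conj_ne_zero hz₀
  set σ := (l₀ - P) / (z₀ * H.conj z₀) with hσ
  have hσN : σ * (z₀ * H.conj z₀) = l₀ - P := div_mul_cancel₀ _ (mul_ne_zero hz₀ hz1)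
  have hσc : H.conj σ = -σ := by
    have : (H.conj σ + σ) * (z₀ * H.conj z₀) = 0 := by
      have h1 := congrArg H.conj hσN
      rw [map_mul, map_mul, H.conj_conj, map_sub] at h1
      linear_combination h1 + hσN + hl - hΦ
    linear_combination (mul_eq_zero.1 this).resolve_right (mul_ne_zero hz₀ hz1)
  set f := -(t * σ) with hf
  set fc := H.conj f with hfc
  have hff : fc = f + σ := by
    rw [hfc, hf, map_neg, map_mul, hσc]; linear_combination σ * ht
  set R := (2 - (ν + H.conj ν)) * η - f * fc * (z₀ * H.conj z₀) + f * l₀ + fc * H.conj l₀ with hR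
  have hRc : H.conj R = R := by
    simp only [hR, hfc, map_add, map_sub, map_mul, map_ofNat, H.conj_conj, hη]
    ring
  set e := t * R / H.conj z₀ with he
  have hA : e * H.conj z₀ = t * R := div_mul_cancel₀ _ hz1
  have hA' : H.conj e * z₀ = H.conj t * R := by
    have := congrArg H.conj hA
    rwa [map_mul, map_mul, H.conj_conj, hRc] at this
  set S := (ν - 1) * η - (f * z₀ * H.conj e - e * H.conj z₀ * fc + f * fc * l₀ - e * H.conj z₀
    + f * l₀) with hS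
  have hSc : H.conj S = -S := by
    simp only [hS, hfc, map_sub, map_add, map_mul, map_one, H.conj_conj, hη]
    simp only [← hfc]
    linear_combination hA + hA' + R * ht + hR - (f * fc) * hl
  set g := t * S with hg
  have hgg : g - H.conj g = S := by
    rw [hg, map_mul, hSc]; linear_combination S * ht
  set M := e * H.conj e + f * H.conj g + g * fc with hM
  have hMc : H.conj M = M := by
    simp only [hM, hfc, map_add, map_mul, H.conj_conj]; ring
  set q := t * (η - M) with hq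
  have hqq : q + H.conj q = η - M := by
    rw [hq, map_mul, map_sub, hη, hMc]; linear_combination (η - M) * ht
  set y := e • Φ.c + f • Φ.b Hyp.li + g • Φ.a Hyp.li + Φ.b Hyp.pi' + q • Φ.a Hyp.pi' with hy
  have ne1 := Hyp.pi_ne_li (k := k)
  have hc_y : H.h Φ.c y = H.conj e := by
    simp [hy, H.add_right, H.smul_right, Φ.cc, Φ.ca, Φ.cb]
  have hal_y : H.h (Φ.a Hyp.li) y = fc := by
    simp [hy, hfc, H.add_right, H.smul_right, Φ.aa, Φ.ac, Φ.ab_same, Φ.ab_ne ne1.symm]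
  have hap_y : H.h (Φ.a Hyp.pi') y = 1 := by
    simp [hy, H.add_right, H.smul_right, Φ.aa, Φ.ac, Φ.ab_same, Φ.ab_ne ne1]
  have hbl_y : H.h (Φ.b Hyp.li) y = H.conj g := by
    simp [hy, H.add_right, H.smul_right, Φ.bb, Φ.bc, Φ.ba_same, Φ.ba_ne ne1.symm]
  have hbp_y : H.h (Φ.b Hyp.pi') y = H.conj q := by
    simp [hy, H.add_right, H.smul_right, Φ.bb, Φ.bc, Φ.ba_same, Φ.ba_ne ne1]
  obtain ⟨hu1, hu2⟩ := Φ.h_reg_a hl (v := y) (fun i hi => by
    have n1 : i ≠ Hyp.li := by simp [Fin.ext_iff, Hyp.li]; omega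
    have n2 : i ≠ Hyp.pi' := by simp [Fin.ext_iff, Hyp.pi']; omega
    simp [hy, H.add_right, H.smul_right, Φ.aa, Φ.ac, Φ.ab_ne n1, Φ.ab_ne n2]) k le_rfl
  have h0 : H.h y y = η := by
    conv_lhs => arg 2; rw [hy]
    simp only [H.add_left, H.smul_left, hc_y, hal_y, hap_y, hbl_y, hbp_y]
    linear_combination hqq + hM
  have huy : (Φ.reg hl).1 y = (e + f * z₀) • Φ.c + (f - 1) • Φ.b Hyp.li
      + (g - e * H.conj z₀ + f * l₀) • Φ.a Hyp.li + (g - e * H.conj z₀ + f * l₀) • Φ.a Hyp.pi'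
      + Φ.b Hyp.pi' + q • (Φ.reg hl).1 (Φ.a Hyp.pi') := by
    rw [hy]
    simp only [map_add, map_smul, Φ.reg_c, Φ.reg_b_li, Φ.reg_a_li, Φ.reg_b_pi]
    module
  have h1 : H.h ((Φ.reg hl).1 y) y = ν * η := by
    rw [huy]
    simp only [H.add_left, H.smul_left, hc_y, hal_y, hap_y, hbl_y, hbp_y, hu1]
    linear_combination hqq + hM + hgg + hS
  refine ⟨y, h0, h1, ?_⟩
  rw [huy]
  simp only [map_add, map_sub, map_neg, map_smul, Φ.reg_c, Φ.reg_b_li, Φ.reg_a_li, Φ.reg_b_pi,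
    H.add_left, H.sub_left, H.smul_left, hc_y, hal_y, hap_y, hbl_y, hbp_y, hu1, hu2]
  linear_combination hqq + hM + 2 * (hgg + hS) - hA - hA' - R * ht - hR + hσN - hP
    - fc * hl + z₀ * H.conj z₀ * hff

variable [FiniteDimensional F V]

/-- The three conjugates contain a prescribed pair at the first index. -/
theorem exists_conjugators (hB : Big H) {z₀ l₀ : F} (hl : l₀ + H.conj l₀ + z₀ * H.conj z₀ = 0)
    (hz₀ : z₀ ≠ 0) {y : V} {ν η θ z l m : F} (hν : ν * H.conj ν = 1)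
    (h0 : H.h y y = η) (h1 : H.h ((Φ.reg hl).1 y) y = ν * η)
    (h2 : H.h ((Φ.reg hl).1 ((Φ.reg hl).1 y)) y = ν ^ 2 * (η + 1))
    (hθ : θ * H.conj θ * η = 1) (hlz : l₀ * (z * H.conj z) = l * (z₀ * H.conj z₀))
    (hz : z ≠ 0) (h : l + H.conj l + z * H.conj z = 0) (hm : m + H.conj m + z * H.conj z = 0)
    (hδ : m = l + θ * z - H.conj (θ * z)) :
    ∃ g ∈ rootGen H, ∃ g' ∈ rootGen H,
      Φ.frame.ra z l h ∈
          Subgroup.closure {Φ.reg hl, g * Φ.reg hl * g⁻¹, g' * Φ.reg hl * g'⁻¹} ∧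
      Φ.frame.rb (-z) m (Frame.cond_neg hm) ∈
          Subgroup.closure {Φ.reg hl, g * Φ.reg hl * g⁻¹, g' * Φ.reg hl * g'⁻¹} := by
  set u := Φ.reg hl
  -- the root element at the first vector
  have hz1 := H.conj_ne_zero hz₀
  set p := z / z₀
  set p' := p * l₀ / H.conj z₀
  set w₀ := p • Φ.b Hyp.li + p' • Φ.c with hw₀
  have hwa : H.h w₀ (Φ.a 0) = 0 := by
    simp [hw₀, H.add_left, H.smul_left, Φ.ca, Φ.ba_ne Hyp.zero_ne_li.symm]
  obtain ⟨L₀, hL₀⟩ := H.exists_trace (c := -H.h w₀ w₀) (by rw [map_neg, H.conj_diag])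
  have c₀ : RootCond H (Φ.a 0) w₀ L₀ := ⟨Φ.aa 0 0, hwa, by linear_combination hL₀⟩
  set g := root H (Φ.a 0) w₀ L₀ c₀
  have huw : u.1 w₀ = w₀ + z • Φ.c := by
    rw [hw₀, map_add, map_smul, map_smul, Φ.reg_b_li, Φ.reg_c]
    have e1 : p * z₀ = z := div_mul_cancel₀ _ hz₀
    have e2 : p' * H.conj z₀ = p * l₀ := div_mul_cancel₀ _ hz1
    match_scalars
    · ring
    · linear_combination e1
    · linear_combination -e2
    · linear_combination -e2
  have hX : u * (g * u⁻¹ * g⁻¹) = Φ.frame.ra z l h := by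
    have cu : RootCond H (Φ.a 0) (u.1 w₀) L₀ := by
      have := c₀.map u
      rwa [Φ.reg_a_zero] at this
    rw [show u * (g * u⁻¹ * g⁻¹) = u * g * u⁻¹ * g⁻¹ by group, root_conj, root_inv,
      root_congr _ cu (Φ.reg_a_zero hl) rfl rfl, root_mul]
    refine root_congr _ _ rfl (by rw [huw]; show _ = z • Φ.c; abel) ?_
    rw [huw, H.neg_left, H.add_right, H.smul_right]
    have e3 : H.h w₀ Φ.c = p' := by simp [hw₀, H.add_left, H.smul_left, Φ.cc, Φ.bc]
    rw [e3]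
    have e4 : p' * H.conj z = l := by
      simp only [p', p]
      field_simp
      linear_combination hlz
    linear_combination hL₀ + e4
  -- the conjugator
  have hηc : H.conj η = η := by rw [← h0, H.conj_diag]
  set x := y - ν • (u⁻¹).1 y with hx
  have e10 : H.h ((u⁻¹).1 y) y = H.conj ν * η := by
    rw [← unit_h u, self_apply_inv, ← H.symm', h1, map_mul, hηc]
  have e01 : H.h y ((u⁻¹).1 y) = ν * η := by
    rw [← H.symm', e10, map_mul, H.conj_conj, hηc]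
  have e11 : H.h ((u⁻¹).1 y) ((u⁻¹).1 y) = η := by rw [unit_h, h0]
  have eu1 : H.h (u.1 y) ((u⁻¹).1 y) = ν ^ 2 * (η + 1) := by
    rw [← unit_h u, self_apply_inv, h2]
  have hux : u.1 x = u.1 y - ν • y := by rw [hx, map_sub, map_smul, self_apply_inv]
  have hxx : H.h x x = 0 := by
    simp only [hx, H.sub_left, H.sub_right, H.smul_left, H.smul_right, h0, e10, e01, e11]
    linear_combination (-η) * hν
  have hyx : H.h y x = 0 := by
    simp only [hx, H.sub_right, H.smul_right, h0, e01]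
    linear_combination (-η) * hν
  have hyux : H.h y (u.1 x) = 0 := by
    rw [hux, H.sub_right, H.smul_right, h0, ← H.symm', h1, map_mul, hηc]; ring
  have huxx : H.h (u.1 x) x = -ν := by
    rw [hux]
    simp only [hx, H.sub_left, H.sub_right, H.smul_left, H.smul_right, h0, h1, e01, eu1]
    linear_combination (-ν) * hν
  let Ξ : Frame H :=
    { a := x
      b := -(H.conj ν) • u.1 x
      c := θ • y
      aa := hxx
      bb := by rw [H.smul_left, H.smul_right, unit_h, hxx, mul_zero, mul_zero]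
      ab := by
        rw [H.smul_right, ← H.symm', huxx, map_neg, map_neg, H.conj_conj]
        linear_combination hν
      cc := by rw [H.smul_left, H.smul_right, h0]; linear_combination hθ
      ca := by rw [H.smul_left, hyx, mul_zero]
      cb := by rw [H.smul_left, H.smul_right, hyux, mul_zero, mul_zero] }
  obtain ⟨v₀, hv1, hv2, hv3, hv4⟩ := Φ.exists_aux_vector
  obtain ⟨g', hg', ha', hb', hc'⟩ := exists_frame_map hB Ξ Φ.frame hv1 hv2 hv3 hv4
  refine ⟨g, root_mem _, g', hg', ?_, ?_⟩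
  all_goals set G := Subgroup.closure ({u, g * u * g⁻¹, g' * u * g'⁻¹} : Set (Unit' H))
  all_goals
    have hu : u ∈ G := Subgroup.subset_closure (by simp)
    have hgu : g * u * g⁻¹ ∈ G := Subgroup.subset_closure (by simp)
    have hv : g' * u * g'⁻¹ ∈ G := Subgroup.subset_closure (by simp)
    have hXG : Φ.frame.ra z l h ∈ G := by
      rw [← hX, show g * u⁻¹ * g⁻¹ = (g * u * g⁻¹)⁻¹ by group]
      exact mul_mem hu (inv_mem hgu)
  · exact hXG
  have h3 := mul_mem (mul_mem hv hXG) (inv_mem hv)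
  set v := g' * u * g'⁻¹
  have hva : v.1 Φ.frame.a = (-ν) • Φ.frame.b := by
    rw [← hb', ← ha']
    simp only [v, mul_apply, inv_apply_self]
    show g'.1 (u.1 x) = (-ν) • g'.1 (-(H.conj ν) • u.1 x)
    rw [map_smul, smul_smul, neg_mul_neg, hν, one_smul]
  have hvc : v.1 Φ.frame.c = ν • Φ.frame.c + (θ * -ν) • Φ.frame.b := by
    rw [← hb', ← hc']
    simp only [v, mul_apply, inv_apply_self]
    show g'.1 (u.1 (θ • y)) = ν • g'.1 (θ • y) + (θ * -ν) • g'.1 (-(H.conj ν) • u.1 x)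
    rw [show u.1 (θ • y) = θ • u.1 x + ν • θ • y by rw [map_smul, hux]; module]
    simp only [map_add, map_smul, smul_smul]
    match_scalars
    · linear_combination (-θ) * hν
    · ring
  have hν0 : (-ν) ≠ 0 := neg_ne_zero.2 fun h0' => by rw [h0', zero_mul] at hν; exact zero_ne_one hν
  unfold Frame.ra at h3
  rw [root_conj, root_congr _ (show RootCond H ((-ν) • Φ.frame.b) (v.1 (z • Φ.frame.c)) l by
    have := (Φ.frame.cond_a h).map v; rwa [hva] at this) hva rfl rfl, root_smul _ hν0] at h3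
  set d := θ * z
  have hcd : RootCond H Φ.frame.b ((-z) • Φ.frame.c + d • Φ.frame.b) (m + (H.conj d - d)) := by
    obtain ⟨c1, c2, c3⟩ := Φ.frame.cond_b (Frame.cond_neg hm)
    refine ⟨c1, by rw [H.add_left, c2, H.smul_left, c1]; ring, ?_⟩
    simp only [H.add_left, H.add_right, H.smul_left, H.smul_right, Φ.frame.cc, Φ.frame.cb,
      Φ.frame.bc, Φ.frame.bb, map_add, map_sub, H.conj_conj, map_neg]
    linear_combination hm
  unfold Frame.rb
  rw [← root_add_smul d (Φ.frame.cond_b (Frame.cond_neg hm)) hcd]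
  rwa [root_congr _ hcd rfl (by
    rw [map_smul, hvc, map_neg]
    match_scalars
    · linear_combination (-z) * hν
    · linear_combination z * θ * hν) (by
    rw [map_neg, hδ]
    linear_combination l * hν)] at h3

end CfsgLib.Linear.SURegular
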