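/-
The two exceptional parameters `q = 5, 8` of `SU₃(q)`: explicit words.
-/
import Cfsg.Agent.Lib.Linear.SUThreeConj

set_option autoImplicit false
set_option linter.unusedSectionVars false
set_option linter.unusedVariables false
set_option linter.unusedSimpArgs false
set_option linter.unreachableTactic false
set_option maxHeartbeats 1000000

namespace CfsgLib.Linear.SUThree

open CfsgLib.Classical.Herm Module

variable {F V : Type*} [Field F] [AddCommGroup V] [Module F V] {H : HermSpace F V}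
variable [Finite F] [FiniteDimensional F V] (Φ : Frame H)

theorem natCard_subfield (E : Subfield F) :
    ∃ d, 0 < d ∧ Nat.card F = Nat.card E ^ d ∧ (d = 1 → E = ⊤) := by
  refine ⟨Module.finrank E F, Module.finrank_pos, Module.natCard_eq_pow_finrank, fun h1 => ?_⟩
  have h := Module.natCard_eq_pow_finrank (K := E) (V := F)
  rw [h1, pow_one] at h
  exact SetLike.coe_injective
    ((Set.eq_of_subset_of_ncard_le (Set.subset_univ _) (by
      rw [← Nat.card_coe_set_eq, ← Nat.card_coe_set_eq, Nat.card_univ]; exact h.le)).trans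
      Subfield.coe_top.symm)

theorem pow_natCard_eq (E : Subfield F) {x : F} (hx : x ∈ E) : x ^ Nat.card E = x := by
  letI := Fintype.ofFinite E
  rw [Nat.card_eq_fintype_card]
  exact congrArg Subtype.val (FiniteField.pow_card (⟨x, hx⟩ : E))

theorem eq_top_of_mem_5 (hcard : Nat.card F = 25) {E : Subfield F} {r : F} (hr : r ∈ E)
    (hne : r ^ 5 ≠ r) : E = ⊤ := by
  obtain ⟨d, hd0, hd, h1⟩ := natCard_subfield E
  by_contra hE
  have hd1 : d ≠ 1 := fun h => hE (h1 h)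
  have h2 : 2 ≤ Nat.card E := Finite.one_lt_card
  rw [hcard] at hd
  have hle : Nat.card E ^ 2 ≤ 25 := hd.symm ▸ Nat.pow_le_pow_right (by omega) (by omega)
  have h5 : Nat.card E ≤ 5 := by nlinarith
  have hd4 : d ≤ 4 := by
    by_contra hcon
    have h6 : 2 ^ 5 ≤ 25 := le_trans (Nat.pow_le_pow_left h2 5)
      (hd.symm ▸ Nat.pow_le_pow_right (by omega) (by omega))
    norm_num at h6
  have hE5 : Nat.card E = 5 := by
    interval_cases (Nat.card E) <;> interval_cases d <;> simp_all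
  exact hne (hE5 ▸ pow_natCard_eq E hr)

theorem eq_top_of_mem_8 (hcard : Nat.card F = 64) {E : Subfield F} {r : F} (hr : r ∈ E)
    (hne : r ^ 8 ≠ r) (hne4 : r ^ 4 ≠ r) : E = ⊤ := by
  obtain ⟨d, hd0, hd, h1⟩ := natCard_subfield E
  by_contra hE
  have hd1 : d ≠ 1 := fun h => hE (h1 h)
  have h2 : 2 ≤ Nat.card E := Finite.one_lt_card
  rw [hcard] at hd
  have hle : Nat.card E ^ 2 ≤ 64 := hd.symm ▸ Nat.pow_le_pow_right (by omega) (by omega)
  have h8 : Nat.card E ≤ 8 := by nlinarith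
  have hd6 : d ≤ 6 := by
    by_contra hcon
    have h7 : 2 ^ 7 ≤ 64 := le_trans (Nat.pow_le_pow_left h2 7)
      (hd.symm ▸ Nat.pow_le_pow_right (by omega) (by omega))
    norm_num at h7
  have hr' := pow_natCard_eq E hr
  have : Nat.card E = 2 ∨ Nat.card E = 4 ∨ Nat.card E = 8 := by
    interval_cases (Nat.card E) <;> interval_cases d <;> simp_all
  rcases this with h | h | h <;> rw [h] at hr'
  · apply hne
    calc r ^ 8 = ((r ^ 2) ^ 2) ^ 2 := by ring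
      _ = r := by rw [hr', hr', hr']
  · exact hne4 hr'
  · exact hne hr'

/-- Coordinates in the frame. -/
def comb (p r s : F) : V := p • Φ.a + r • Φ.c + s • Φ.b

theorem comb_a : comb Φ 1 0 0 = Φ.a := by simp [comb]

theorem comb_c : comb Φ 0 1 0 = Φ.c := by simp [comb]


/-- The word for `q = 5`. -/
theorem exists_pair_5 (hd : finrank F V = 3) (hconj : ∀ x, H.conj x = x ^ 5)
    (hcard : Nat.card F = 25) (hp : (5 : F) = 0) {θ : F} (hθ : θ ^ 2 - 2 = 0) :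
    ∃ (z l m : F) (h : l + H.conj l + z * H.conj z = 0) (hm : m + H.conj m + z * H.conj z = 0),
      z ≠ 0 ∧ rootGen H ≤ Subgroup.closure {Φ.ra z l h, Φ.rb (-z) m (Frame.cond_neg hm)} := by
  have hθc : H.conj θ = ((4) * θ : F) := by rw [hconj]; linear_combination ((2) * θ + (1) * θ ^ 3 : F) * hθ + (0 : F) * hp
  set l : F := ((2) * 1 : F) with hl
  have hlc : H.conj l = ((2) * 1 : F) := by
    simp only [hl, map_add, map_mul, map_pow, map_one, map_zero, map_ofNat, map_intCast, map_natCast, hθc]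
    try linear_combination (0 : F) * hθ + (0 : F) * hp
  have hlt : l + H.conj l + (1 : F) * H.conj 1 = 0 := by
    rw [hlc, map_one, hl]; linear_combination (0 : F) * hθ + ((1) * 1 : F) * hp
  set m : F := ((2) * 1 + (2) * θ : F) with hm
  have hmc : H.conj m = ((2) * 1 + (3) * θ : F) := by
    simp only [hm, map_add, map_mul, map_pow, map_one, map_zero, map_ofNat, map_intCast, map_natCast, hθc]
    linear_combination (0 : F) * hθ + ((1) * θ : F) * hp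
  have hmt : m + H.conj m + (1 : F) * H.conj 1 = 0 := by
    rw [hmc, map_one, hm]; linear_combination (0 : F) * hθ + ((1) * 1 + (1) * θ : F) * hp
  refine ⟨1, l, m, hlt, hmt, one_ne_zero, ?_⟩
  set u := Φ.ra 1 l hlt with hu'
  set v := Φ.rb (-1) m (by rw [map_neg, neg_mul_neg]; exact hmt) with hv'
  set G := Subgroup.closure ({u, v} : Set (Unit' H))
  have hu : u ∈ G := Subgroup.subset_closure (by simp)
  have hv : v ∈ G := Subgroup.subset_closure (by simp)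
  have su : ∀ p r s p' r' s' : F, p' = p - r + l * s ∧ r' = r + s ∧ s' = s →
      u.1 (comb Φ p r s) = comb Φ p' r' s' := by
    rintro p r s p' r' s' ⟨rfl, rfl, rfl⟩
    rw [hu', comb, comb, Frame.ra_apply, map_one, mul_one, mul_one]
  have su' : ∀ p r s p' r' s' : F, p' = p + r + H.conj l * s ∧ r' = r - s ∧ s' = s →
      (u⁻¹).1 (comb Φ p r s) = comb Φ p' r' s' := by
    rintro p r s p' r' s' ⟨rfl, rfl, rfl⟩
    simp only [hu', Frame.ra, root_inv, comb]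
    simp [root_apply, H.add_left, H.smul_left, H.smul_right, H.neg_right, Φ.aa, Φ.ba, Φ.ca, Φ.cc,
      Φ.ac, Φ.bc]
    module
  have sv : ∀ p r s p' r' s' : F, p' = p ∧ r' = r - p ∧ s' = s + r + m * p →
      v.1 (comb Φ p r s) = comb Φ p' r' s' := by
    rintro p r s p' r' s' ⟨rfl, rfl, rfl⟩
    rw [hv', comb, comb, Frame.rb_apply, map_neg, map_one]
    module
  have sv' : ∀ p r s p' r' s' : F, p' = p ∧ r' = r + p ∧ s' = s - r + H.conj m * p →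
      (v⁻¹).1 (comb Φ p r s) = comb Φ p' r' s' := by
    rintro p r s p' r' s' ⟨rfl, rfl, rfl⟩
    simp only [hv', Frame.rb, root_inv, comb]
    simp [root_apply, H.add_left, H.smul_left, H.smul_right, H.neg_right, Φ.ab, Φ.bb, Φ.cb, Φ.cc,
      Φ.ac, Φ.bc]
    module
  have a0 := sv ((1) * 1 : F) (0 : F) (0 : F) ((1) * 1 : F) ((4) * 1 : F) ((2) * 1 + (2) * θ : F)
    ⟨by first | ring1 | (rw [hm]; linear_combination (0 : F) * hθ + (0 : F) * hp) | linear_combination (0 : F) * hθ + (0 : F) * hp,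
      by first | ring1 | (rw [hm]; linear_combination (0 : F) * hθ + ((1) * 1 : F) * hp) | linear_combination (0 : F) * hθ + ((1) * 1 : F) * hp,
      by first | ring1 | (rw [hm]; linear_combination (0 : F) * hθ + (0 : F) * hp) | linear_combination (0 : F) * hθ + (0 : F) * hp⟩
  have a1 := su ((1) * 1 : F) ((4) * 1 : F) ((2) * 1 + (2) * θ : F) ((1) * 1 + (4) * θ : F) ((1) * 1 + (2) * θ : F) ((2) * 1 + (2) * θ : F)
    ⟨by first | ring1 | (rw [hl]; linear_combination (0 : F) * hθ + (0 : F) * hp) | linear_combination (0 : F) * hθ + (0 : F) * hp,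
      by first | ring1 | (rw [hl]; linear_combination (0 : F) * hθ + ((-1) * 1 : F) * hp) | linear_combination (0 : F) * hθ + ((-1) * 1 : F) * hp,
      by first | ring1 | (rw [hl]; linear_combination (0 : F) * hθ + (0 : F) * hp) | linear_combination (0 : F) * hθ + (0 : F) * hp⟩
  have a2 := sv ((1) * 1 + (4) * θ : F) ((1) * 1 + (2) * θ : F) ((2) * 1 + (2) * θ : F) ((1) * 1 + (4) * θ : F) ((3) * θ : F) ((1) * 1 + (4) * θ : F)
    ⟨by first | ring1 | (rw [hm]; linear_combination (0 : F) * hθ + (0 : F) * hp) | linear_combination (0 : F) * hθ + (0 : F) * hp,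
      by first | ring1 | (rw [hm]; linear_combination (0 : F) * hθ + ((1) * θ : F) * hp) | linear_combination (0 : F) * hθ + ((1) * θ : F) * hp,
      by first | ring1 | (rw [hm]; linear_combination ((-8) * 1 : F) * hθ + ((-4) * 1 + (-2) * θ : F) * hp) | linear_combination ((-8) * 1 : F) * hθ + ((-4) * 1 + (-2) * θ : F) * hp⟩
  have a3 := su ((1) * 1 + (4) * θ : F) ((3) * θ : F) ((1) * 1 + (4) * θ : F) ((3) * 1 + (4) * θ : F) ((1) * 1 + (2) * θ : F) ((1) * 1 + (4) * θ : F)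
    ⟨by first | ring1 | (rw [hl]; linear_combination (0 : F) * hθ + ((-1) * θ : F) * hp) | linear_combination (0 : F) * hθ + ((-1) * θ : F) * hp,
      by first | ring1 | (rw [hl]; linear_combination (0 : F) * hθ + ((-1) * θ : F) * hp) | linear_combination (0 : F) * hθ + ((-1) * θ : F) * hp,
      by first | ring1 | (rw [hl]; linear_combination (0 : F) * hθ + (0 : F) * hp) | linear_combination (0 : F) * hθ + (0 : F) * hp⟩
  have a4 := sv ((3) * 1 + (4) * θ : F) ((1) * 1 + (2) * θ : F) ((1) * 1 + (4) * θ : F) ((3) * 1 + (4) * θ : F) ((3) * 1 + (3) * θ : F) ((4) * 1 : F)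
    ⟨by first | ring1 | (rw [hm]; linear_combination (0 : F) * hθ + (0 : F) * hp) | linear_combination (0 : F) * hθ + (0 : F) * hp,
      by first | ring1 | (rw [hm]; linear_combination (0 : F) * hθ + ((1) * 1 + (1) * θ : F) * hp) | linear_combination (0 : F) * hθ + ((1) * 1 + (1) * θ : F) * hp,
      by first | ring1 | (rw [hm]; linear_combination ((-8) * 1 : F) * hθ + ((-4) * 1 + (-4) * θ : F) * hp) | linear_combination ((-8) * 1 : F) * hθ + ((-4) * 1 + (-4) * θ : F) * hp⟩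
  have a5 := sv ((3) * 1 + (4) * θ : F) ((3) * 1 + (3) * θ : F) ((4) * 1 : F) ((3) * 1 + (4) * θ : F) ((4) * θ : F) ((4) * 1 + (2) * θ : F)
    ⟨by first | ring1 | (rw [hm]; linear_combination (0 : F) * hθ + (0 : F) * hp) | linear_combination (0 : F) * hθ + (0 : F) * hp,
      by first | ring1 | (rw [hm]; linear_combination (0 : F) * hθ + ((1) * θ : F) * hp) | linear_combination (0 : F) * hθ + ((1) * θ : F) * hp,
      by first | ring1 | (rw [hm]; linear_combination ((-8) * 1 : F) * hθ + ((-5) * 1 + (-3) * θ : F) * hp) | linear_combination ((-8) * 1 : F) * hθ + ((-5) * 1 + (-3) * θ : F) * hp⟩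
  have a6 := su' ((3) * 1 + (4) * θ : F) ((4) * θ : F) ((4) * 1 + (2) * θ : F) ((1) * 1 + (2) * θ : F) ((1) * 1 + (2) * θ : F) ((4) * 1 + (2) * θ : F)
    ⟨by first | ring1 | (rw [hlc]; linear_combination (0 : F) * hθ + ((-2) * 1 + (-2) * θ : F) * hp) | linear_combination (0 : F) * hθ + ((-2) * 1 + (-2) * θ : F) * hp,
      by first | ring1 | (rw [hlc]; linear_combination (0 : F) * hθ + ((1) * 1 : F) * hp) | linear_combination (0 : F) * hθ + ((1) * 1 : F) * hp,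
      by first | ring1 | (rw [hlc]; linear_combination (0 : F) * hθ + (0 : F) * hp) | linear_combination (0 : F) * hθ + (0 : F) * hp⟩
  have a7 := sv ((1) * 1 + (2) * θ : F) ((1) * 1 + (2) * θ : F) ((4) * 1 + (2) * θ : F) ((1) * 1 + (2) * θ : F) (0 : F) (0 : F)
    ⟨by first | ring1 | (rw [hm]; linear_combination (0 : F) * hθ + (0 : F) * hp) | linear_combination (0 : F) * hθ + (0 : F) * hp,
      by first | ring1 | (rw [hm]; linear_combination (0 : F) * hθ + (0 : F) * hp) | linear_combination (0 : F) * hθ + (0 : F) * hp,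
      by first | ring1 | (rw [hm]; linear_combination ((-4) * 1 : F) * hθ + ((-3) * 1 + (-2) * θ : F) * hp) | linear_combination ((-4) * 1 : F) * hθ + ((-3) * 1 + (-2) * θ : F) * hp⟩
  have c0 := sv (0 : F) ((1) * 1 : F) (0 : F) (0 : F) ((1) * 1 : F) ((1) * 1 : F)
    ⟨by first | ring1 | (rw [hm]; linear_combination (0 : F) * hθ + (0 : F) * hp) | linear_combination (0 : F) * hθ + (0 : F) * hp,
      by first | ring1 | (rw [hm]; linear_combination (0 : F) * hθ + (0 : F) * hp) | linear_combination (0 : F) * hθ + (0 : F) * hp,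
      by first | ring1 | (rw [hm]; linear_combination (0 : F) * hθ + (0 : F) * hp) | linear_combination (0 : F) * hθ + (0 : F) * hp⟩
  have c1 := su (0 : F) ((1) * 1 : F) ((1) * 1 : F) ((1) * 1 : F) ((2) * 1 : F) ((1) * 1 : F)
    ⟨by first | ring1 | (rw [hl]; linear_combination (0 : F) * hθ + (0 : F) * hp) | linear_combination (0 : F) * hθ + (0 : F) * hp,
      by first | ring1 | (rw [hl]; linear_combination (0 : F) * hθ + (0 : F) * hp) | linear_combination (0 : F) * hθ + (0 : F) * hp,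
      by first | ring1 | (rw [hl]; linear_combination (0 : F) * hθ + (0 : F) * hp) | linear_combination (0 : F) * hθ + (0 : F) * hp⟩
  have c2 := sv ((1) * 1 : F) ((2) * 1 : F) ((1) * 1 : F) ((1) * 1 : F) ((1) * 1 : F) ((2) * θ : F)
    ⟨by first | ring1 | (rw [hm]; linear_combination (0 : F) * hθ + (0 : F) * hp) | linear_combination (0 : F) * hθ + (0 : F) * hp,
      by first | ring1 | (rw [hm]; linear_combination (0 : F) * hθ + (0 : F) * hp) | linear_combination (0 : F) * hθ + (0 : F) * hp,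
      by first | ring1 | (rw [hm]; linear_combination (0 : F) * hθ + ((-1) * 1 : F) * hp) | linear_combination (0 : F) * hθ + ((-1) * 1 : F) * hp⟩
  have c3 := su ((1) * 1 : F) ((1) * 1 : F) ((2) * θ : F) ((4) * θ : F) ((1) * 1 + (2) * θ : F) ((2) * θ : F)
    ⟨by first | ring1 | (rw [hl]; linear_combination (0 : F) * hθ + (0 : F) * hp) | linear_combination (0 : F) * hθ + (0 : F) * hp,
      by first | ring1 | (rw [hl]; linear_combination (0 : F) * hθ + (0 : F) * hp) | linear_combination (0 : F) * hθ + (0 : F) * hp,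
      by first | ring1 | (rw [hl]; linear_combination (0 : F) * hθ + (0 : F) * hp) | linear_combination (0 : F) * hθ + (0 : F) * hp⟩
  have c4 := sv ((4) * θ : F) ((1) * 1 + (2) * θ : F) ((2) * θ : F) ((4) * θ : F) ((1) * 1 + (3) * θ : F) ((2) * 1 + (2) * θ : F)
    ⟨by first | ring1 | (rw [hm]; linear_combination (0 : F) * hθ + (0 : F) * hp) | linear_combination (0 : F) * hθ + (0 : F) * hp,
      by first | ring1 | (rw [hm]; linear_combination (0 : F) * hθ + ((1) * θ : F) * hp) | linear_combination (0 : F) * hθ + ((1) * θ : F) * hp,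
      by first | ring1 | (rw [hm]; linear_combination ((-8) * 1 : F) * hθ + ((-3) * 1 + (-2) * θ : F) * hp) | linear_combination ((-8) * 1 : F) * hθ + ((-3) * 1 + (-2) * θ : F) * hp⟩
  have c5 := sv ((4) * θ : F) ((1) * 1 + (3) * θ : F) ((2) * 1 + (2) * θ : F) ((4) * θ : F) ((1) * 1 + (4) * θ : F) ((4) * 1 + (3) * θ : F)
    ⟨by first | ring1 | (rw [hm]; linear_combination (0 : F) * hθ + (0 : F) * hp) | linear_combination (0 : F) * hθ + (0 : F) * hp,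
      by first | ring1 | (rw [hm]; linear_combination (0 : F) * hθ + ((1) * θ : F) * hp) | linear_combination (0 : F) * hθ + ((1) * θ : F) * hp,
      by first | ring1 | (rw [hm]; linear_combination ((-8) * 1 : F) * hθ + ((-3) * 1 + (-2) * θ : F) * hp) | linear_combination ((-8) * 1 : F) * hθ + ((-3) * 1 + (-2) * θ : F) * hp⟩
  have c6 := su' ((4) * θ : F) ((1) * 1 + (4) * θ : F) ((4) * 1 + (3) * θ : F) ((4) * 1 + (4) * θ : F) ((2) * 1 + (1) * θ : F) ((4) * 1 + (3) * θ : F)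
    ⟨by first | ring1 | (rw [hlc]; linear_combination (0 : F) * hθ + ((-1) * 1 + (-2) * θ : F) * hp) | linear_combination (0 : F) * hθ + ((-1) * 1 + (-2) * θ : F) * hp,
      by first | ring1 | (rw [hlc]; linear_combination (0 : F) * hθ + ((1) * 1 : F) * hp) | linear_combination (0 : F) * hθ + ((1) * 1 : F) * hp,
      by first | ring1 | (rw [hlc]; linear_combination (0 : F) * hθ + (0 : F) * hp) | linear_combination (0 : F) * hθ + (0 : F) * hp⟩
  have c7 := sv ((4) * 1 + (4) * θ : F) ((2) * 1 + (1) * θ : F) ((4) * 1 + (3) * θ : F) ((4) * 1 + (4) * θ : F) ((3) * 1 + (2) * θ : F) (0 : F)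
    ⟨by first | ring1 | (rw [hm]; linear_combination (0 : F) * hθ + (0 : F) * hp) | linear_combination (0 : F) * hθ + (0 : F) * hp,
      by first | ring1 | (rw [hm]; linear_combination (0 : F) * hθ + ((1) * 1 + (1) * θ : F) * hp) | linear_combination (0 : F) * hθ + ((1) * 1 + (1) * θ : F) * hp,
      by first | ring1 | (rw [hm]; linear_combination ((-8) * 1 : F) * hθ + ((-6) * 1 + (-4) * θ : F) * hp) | linear_combination ((-8) * 1 : F) * hθ + ((-6) * 1 + (-4) * θ : F) * hp⟩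
  have hYa : (v * u⁻¹ * v * v * u * v * u * v).1 Φ.a = ((1) * 1 + (2) * θ : F) • Φ.a := by
    show (v).1 ((u⁻¹).1 ((v).1 ((v).1 ((u).1 ((v).1 ((u).1 ((v).1 (Φ.a)))))))) = _
    rw [show Φ.a = comb Φ ((1) * 1 : F) 0 0 by simp [comb]]
    rw [a0, a1, a2, a3, a4, a5, a6, a7]
    simp [comb]
  have hYc : (v * u⁻¹ * v * v * u * v * u * v).1 Φ.c = ((4) * 1 + (4) * θ : F) • Φ.a + ((3) * 1 + (2) * θ : F) • Φ.c := by
    show (v).1 ((u⁻¹).1 ((v).1 ((v).1 ((u).1 ((v).1 ((u).1 ((v).1 (Φ.c)))))))) = _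
    rw [show Φ.c = comb Φ 0 ((1) * 1 : F) 0 by simp [comb]]
    rw [c0, c1, c2, c3, c4, c5, c6, c7]
    simp [comb]
  have hmv : H.h (v.1 Φ.a) Φ.a ≠ 0 := by
    rw [← comb_a Φ, sv 1 0 0 1 (-1) m ⟨rfl, by ring, by ring⟩]
    simp [comb, H.add_left, H.smul_left, H.smul_right, H.neg_left, Φ.aa, Φ.ca, Φ.ba]
    intro h0
    have h1 := hmt
    rw [h0] at h1
    simp at h1
  refine rootGen_le Φ hd one_ne_zero ⟨l, hlt, hu⟩ (Y := v * u⁻¹ * v * v * u * v * u * v) (by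
    repeat' first | exact hu | exact hv | exact inv_mem hu | exact inv_mem hv | apply mul_mem) hYa hYc
    (fun S hS => ?_) hv hmv
  have htc : H.conj ((1) * 1 + (2) * θ : F) = ((1) * 1 + (3) * θ : F) := by
    simp only [map_add, map_mul, map_pow, map_one, map_zero, map_ofNat, map_intCast, map_natCast, hθc]
    linear_combination (0 : F) * hθ + ((1) * θ : F) * hp
  have hr : ((1) * 1 + (3) * θ : F) * ((3) * 1 + (2) * θ : F) = ((1) * θ : F) := by linear_combination ((6) * 1 : F) * hθ + ((3) * 1 + (2) * θ : F) * hp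
  rw [htc, hr] at hS
  exact eq_top_of_mem_5 hcard hS (by
    intro h
    have h1 : ((1) * θ : F) ^ 5 - ((1) * θ : F) = ((3) * θ : F) := by
      linear_combination ((2) * θ + (1) * θ ^ 3 : F) * hθ + (0 : F) * hp
    rw [h, sub_self] at h1
    have h2 : ((3) * θ : F) * ((1) * θ : F) = 1 := by linear_combination ((3) * 1 : F) * hθ + ((1) * 1 : F) * hp
    rw [← h1, zero_mul] at h2
    exact zero_ne_one h2)


/-- The word for `q = 8`. -/
theorem exists_pair_8 (hd : finrank F V = 3) (hconj : ∀ x, H.conj x = x ^ 8)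
    (hcard : Nat.card F = 64) (hp : (2 : F) = 0) {θ : F} (hθ : θ ^ 6 + θ + 1 = 0) :
    ∃ (z l m : F) (h : l + H.conj l + z * H.conj z = 0) (hm : m + H.conj m + z * H.conj z = 0),
      z ≠ 0 ∧ rootGen H ≤ Subgroup.closure {Φ.ra z l h, Φ.rb (-z) m (Frame.cond_neg hm)} := by
  have hθc : H.conj θ = ((1) * θ ^ 2 + (1) * θ ^ 3 : F) := by rw [hconj]; linear_combination ((1) * θ ^ 2 : F) * hθ + ((-1) * θ ^ 2 + (-1) * θ ^ 3 : F) * hp
  set l : F := ((1) * θ + (1) * θ ^ 5 : F) with hl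
  have hlc : H.conj l = ((1) * 1 + (1) * θ + (1) * θ ^ 5 : F) := by
    simp only [hl, map_add, map_mul, map_pow, map_one, map_zero, map_ofNat, map_intCast, map_natCast, hθc]
    linear_combination ((-15) * 1 + (-20) * θ + (-15) * θ ^ 2 + (-6) * θ ^ 3 + (5) * θ ^ 5 + (10) * θ ^ 6 + (10) * θ ^ 7 + (5) * θ ^ 8 + (1) * θ ^ 9 : F) * hθ + ((7) * 1 + (17) * θ + (18) * θ ^ 2 + (11) * θ ^ 3 + (3) * θ ^ 4 + (-3) * θ ^ 5 : F) * hp
  have hlt : l + H.conj l + (1 : F) * H.conj 1 = 0 := by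
    rw [hlc, map_one, hl]; linear_combination (0 : F) * hθ + ((1) * 1 + (1) * θ + (1) * θ ^ 5 : F) * hp
  set m : F := ((1) * θ ^ 2 + (1) * θ ^ 4 + (1) * θ ^ 5 : F) with hm
  have hmc : H.conj m = ((1) * 1 + (1) * θ ^ 2 + (1) * θ ^ 4 + (1) * θ ^ 5 : F) := by
    simp only [hm, map_add, map_mul, map_pow, map_one, map_zero, map_ofNat, map_intCast, map_natCast, hθc]
    linear_combination ((-19) * 1 + (-21) * θ + (-14) * θ ^ 2 + (-2) * θ ^ 3 + (6) * θ ^ 4 + (9) * θ ^ 5 + (11) * θ ^ 6 + (10) * θ ^ 7 + (5) * θ ^ 8 + (1) * θ ^ 9 : F) * hθ + ((9) * 1 + (20) * θ + (17) * θ ^ 2 + (8) * θ ^ 3 + (-2) * θ ^ 4 + (-7) * θ ^ 5 : F) * hp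
  have hmt : m + H.conj m + (1 : F) * H.conj 1 = 0 := by
    rw [hmc, map_one, hm]; linear_combination (0 : F) * hθ + ((1) * 1 + (1) * θ ^ 2 + (1) * θ ^ 4 + (1) * θ ^ 5 : F) * hp
  refine ⟨1, l, m, hlt, hmt, one_ne_zero, ?_⟩
  set u := Φ.ra 1 l hlt with hu'
  set v := Φ.rb (-1) m (by rw [map_neg, neg_mul_neg]; exact hmt) with hv'
  set G := Subgroup.closure ({u, v} : Set (Unit' H))
  have hu : u ∈ G := Subgroup.subset_closure (by simp)
  have hv : v ∈ G := Subgroup.subset_closure (by simp)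
  have su : ∀ p r s p' r' s' : F, p' = p - r + l * s ∧ r' = r + s ∧ s' = s →
      u.1 (comb Φ p r s) = comb Φ p' r' s' := by
    rintro p r s p' r' s' ⟨rfl, rfl, rfl⟩
    rw [hu', comb, comb, Frame.ra_apply, map_one, mul_one, mul_one]
  have su' : ∀ p r s p' r' s' : F, p' = p + r + H.conj l * s ∧ r' = r - s ∧ s' = s →
      (u⁻¹).1 (comb Φ p r s) = comb Φ p' r' s' := by
    rintro p r s p' r' s' ⟨rfl, rfl, rfl⟩
    simp only [hu', Frame.ra, root_inv, comb]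
    simp [root_apply, H.add_left, H.smul_left, H.smul_right, H.neg_right, Φ.aa, Φ.ba, Φ.ca, Φ.cc,
      Φ.ac, Φ.bc]
    module
  have sv : ∀ p r s p' r' s' : F, p' = p ∧ r' = r - p ∧ s' = s + r + m * p →
      v.1 (comb Φ p r s) = comb Φ p' r' s' := by
    rintro p r s p' r' s' ⟨rfl, rfl, rfl⟩
    rw [hv', comb, comb, Frame.rb_apply, map_neg, map_one]
    module
  have sv' : ∀ p r s p' r' s' : F, p' = p ∧ r' = r + p ∧ s' = s - r + H.conj m * p →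
      (v⁻¹).1 (comb Φ p r s) = comb Φ p' r' s' := by
    rintro p r s p' r' s' ⟨rfl, rfl, rfl⟩
    simp only [hv', Frame.rb, root_inv, comb]
    simp [root_apply, H.add_left, H.smul_left, H.smul_right, H.neg_right, Φ.ab, Φ.bb, Φ.cb, Φ.cc,
      Φ.ac, Φ.bc]
    module
  have a0 := sv ((1) * 1 : F) (0 : F) (0 : F) ((1) * 1 : F) ((1) * 1 : F) ((1) * θ ^ 2 + (1) * θ ^ 4 + (1) * θ ^ 5 : F)
    ⟨by first | ring1 | (rw [hm]; linear_combination (0 : F) * hθ + (0 : F) * hp) | linear_combination (0 : F) * hθ + (0 : F) * hp,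
      by first | ring1 | (rw [hm]; linear_combination (0 : F) * hθ + ((1) * 1 : F) * hp) | linear_combination (0 : F) * hθ + ((1) * 1 : F) * hp,
      by first | ring1 | (rw [hm]; linear_combination (0 : F) * hθ + (0 : F) * hp) | linear_combination (0 : F) * hθ + (0 : F) * hp⟩
  have a1 := su ((1) * 1 : F) ((1) * 1 : F) ((1) * θ ^ 2 + (1) * θ ^ 4 + (1) * θ ^ 5 : F) ((1) * 1 + (1) * θ ^ 2 : F) ((1) * 1 + (1) * θ ^ 2 + (1) * θ ^ 4 + (1) * θ ^ 5 : F) ((1) * θ ^ 2 + (1) * θ ^ 4 + (1) * θ ^ 5 : F)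
    ⟨by first | ring1 | (rw [hl]; linear_combination ((-1) * 1 + (-1) * θ + (-1) * θ ^ 3 + (-1) * θ ^ 4 : F) * hθ + ((1) * 1 + (1) * θ + (1) * θ ^ 2 + (1) * θ ^ 4 : F) * hp) | linear_combination ((-1) * 1 + (-1) * θ + (-1) * θ ^ 3 + (-1) * θ ^ 4 : F) * hθ + ((1) * 1 + (1) * θ + (1) * θ ^ 2 + (1) * θ ^ 4 : F) * hp,
      by first | ring1 | (rw [hl]; linear_combination (0 : F) * hθ + (0 : F) * hp) | linear_combination (0 : F) * hθ + (0 : F) * hp,
      by first | ring1 | (rw [hl]; linear_combination (0 : F) * hθ + (0 : F) * hp) | linear_combination (0 : F) * hθ + (0 : F) * hp⟩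
  have a2 := sv ((1) * 1 + (1) * θ ^ 2 : F) ((1) * 1 + (1) * θ ^ 2 + (1) * θ ^ 4 + (1) * θ ^ 5 : F) ((1) * θ ^ 2 + (1) * θ ^ 4 + (1) * θ ^ 5 : F) ((1) * 1 + (1) * θ ^ 2 : F) ((1) * θ ^ 4 + (1) * θ ^ 5 : F) ((1) * θ ^ 5 : F)
    ⟨by first | ring1 | (rw [hm]; linear_combination (0 : F) * hθ + (0 : F) * hp) | linear_combination (0 : F) * hθ + (0 : F) * hp,
      by first | ring1 | (rw [hm]; linear_combination (0 : F) * hθ + (0 : F) * hp) | linear_combination (0 : F) * hθ + (0 : F) * hp,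
      by first | ring1 | (rw [hm]; linear_combination ((-1) * 1 + (-1) * θ : F) * hθ + ((1) * θ + (-1) * θ ^ 2 + (-2) * θ ^ 4 + (-1) * θ ^ 5 : F) * hp) | linear_combination ((-1) * 1 + (-1) * θ : F) * hθ + ((1) * θ + (-1) * θ ^ 2 + (-2) * θ ^ 4 + (-1) * θ ^ 5 : F) * hp⟩
  have a3 := su' ((1) * 1 + (1) * θ ^ 2 : F) ((1) * θ ^ 4 + (1) * θ ^ 5 : F) ((1) * θ ^ 5 : F) ((1) * θ + (1) * θ ^ 2 + (1) * θ ^ 5 : F) ((1) * θ ^ 4 : F) ((1) * θ ^ 5 : F)
    ⟨by first | ring1 | (rw [hlc]; linear_combination ((-1) * 1 + (-1) * θ ^ 4 : F) * hθ + ((1) * θ : F) * hp) | linear_combination ((-1) * 1 + (-1) * θ ^ 4 : F) * hθ + ((1) * θ : F) * hp,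
      by first | ring1 | (rw [hlc]; linear_combination (0 : F) * hθ + (0 : F) * hp) | linear_combination (0 : F) * hθ + (0 : F) * hp,
      by first | ring1 | (rw [hlc]; linear_combination (0 : F) * hθ + (0 : F) * hp) | linear_combination (0 : F) * hθ + (0 : F) * hp⟩
  have a4 := sv' ((1) * θ + (1) * θ ^ 2 + (1) * θ ^ 5 : F) ((1) * θ ^ 4 : F) ((1) * θ ^ 5 : F) ((1) * θ + (1) * θ ^ 2 + (1) * θ ^ 5 : F) ((1) * θ + (1) * θ ^ 2 + (1) * θ ^ 4 + (1) * θ ^ 5 : F) ((1) * θ + (1) * θ ^ 2 : F)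
    ⟨by first | ring1 | (rw [hmc]; linear_combination (0 : F) * hθ + (0 : F) * hp) | linear_combination (0 : F) * hθ + (0 : F) * hp,
      by first | ring1 | (rw [hmc]; linear_combination (0 : F) * hθ + (0 : F) * hp) | linear_combination (0 : F) * hθ + (0 : F) * hp,
      by first | ring1 | (rw [hmc]; linear_combination ((-2) * 1 + (-2) * θ + (-1) * θ ^ 3 + (-1) * θ ^ 4 : F) * hθ + ((1) * 1 + (2) * θ + (1) * θ ^ 2 + (1) * θ ^ 4 + (-1) * θ ^ 5 : F) * hp) | linear_combination ((-2) * 1 + (-2) * θ + (-1) * θ ^ 3 + (-1) * θ ^ 4 : F) * hθ + ((1) * 1 + (2) * θ + (1) * θ ^ 2 + (1) * θ ^ 4 + (-1) * θ ^ 5 : F) * hp⟩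
  have a5 := su' ((1) * θ + (1) * θ ^ 2 + (1) * θ ^ 5 : F) ((1) * θ + (1) * θ ^ 2 + (1) * θ ^ 4 + (1) * θ ^ 5 : F) ((1) * θ + (1) * θ ^ 2 : F) ((1) * 1 + (1) * θ + (1) * θ ^ 2 + (1) * θ ^ 3 + (1) * θ ^ 4 : F) ((1) * θ ^ 4 + (1) * θ ^ 5 : F) ((1) * θ + (1) * θ ^ 2 : F)
    ⟨by first | ring1 | (rw [hlc]; linear_combination ((-1) * 1 + (-1) * θ : F) * hθ + ((1) * 1 + (-1) * θ ^ 2 + (-1) * θ ^ 5 : F) * hp) | linear_combination ((-1) * 1 + (-1) * θ : F) * hθ + ((1) * 1 + (-1) * θ ^ 2 + (-1) * θ ^ 5 : F) * hp,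
      by first | ring1 | (rw [hlc]; linear_combination (0 : F) * hθ + (0 : F) * hp) | linear_combination (0 : F) * hθ + (0 : F) * hp,
      by first | ring1 | (rw [hlc]; linear_combination (0 : F) * hθ + (0 : F) * hp) | linear_combination (0 : F) * hθ + (0 : F) * hp⟩
  have a6 := sv ((1) * 1 + (1) * θ + (1) * θ ^ 2 + (1) * θ ^ 3 + (1) * θ ^ 4 : F) ((1) * θ ^ 4 + (1) * θ ^ 5 : F) ((1) * θ + (1) * θ ^ 2 : F) ((1) * 1 + (1) * θ + (1) * θ ^ 2 + (1) * θ ^ 3 + (1) * θ ^ 4 : F) ((1) * 1 + (1) * θ + (1) * θ ^ 2 + (1) * θ ^ 3 + (1) * θ ^ 5 : F) ((1) * 1 : F)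
    ⟨by first | ring1 | (rw [hm]; linear_combination (0 : F) * hθ + (0 : F) * hp) | linear_combination (0 : F) * hθ + (0 : F) * hp,
      by first | ring1 | (rw [hm]; linear_combination (0 : F) * hθ + ((1) * 1 + (1) * θ + (1) * θ ^ 2 + (1) * θ ^ 3 : F) * hp) | linear_combination (0 : F) * hθ + ((1) * 1 + (1) * θ + (1) * θ ^ 2 + (1) * θ ^ 3 : F) * hp,
      by first | ring1 | (rw [hm]; linear_combination ((-3) * 1 + (-2) * θ + (-2) * θ ^ 2 + (-1) * θ ^ 3 : F) * hθ + ((2) * 1 + (2) * θ + (1) * θ ^ 2 + (1) * θ ^ 3 + (-1) * θ ^ 4 + (-2) * θ ^ 5 : F) * hp) | linear_combination ((-3) * 1 + (-2) * θ + (-2) * θ ^ 2 + (-1) * θ ^ 3 : F) * hθ + ((2) * 1 + (2) * θ + (1) * θ ^ 2 + (1) * θ ^ 3 + (-1) * θ ^ 4 + (-2) * θ ^ 5 : F) * hp⟩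
  have a7 := sv ((1) * 1 + (1) * θ + (1) * θ ^ 2 + (1) * θ ^ 3 + (1) * θ ^ 4 : F) ((1) * 1 + (1) * θ + (1) * θ ^ 2 + (1) * θ ^ 3 + (1) * θ ^ 5 : F) ((1) * 1 : F) ((1) * 1 + (1) * θ + (1) * θ ^ 2 + (1) * θ ^ 3 + (1) * θ ^ 4 : F) ((1) * θ ^ 4 + (1) * θ ^ 5 : F) ((1) * 1 + (1) * θ ^ 3 + (1) * θ ^ 4 : F)
    ⟨by first | ring1 | (rw [hm]; linear_combination (0 : F) * hθ + (0 : F) * hp) | linear_combination (0 : F) * hθ + (0 : F) * hp,
      by first | ring1 | (rw [hm]; linear_combination (0 : F) * hθ + ((1) * θ ^ 4 : F) * hp) | linear_combination (0 : F) * hθ + ((1) * θ ^ 4 : F) * hp,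
      by first | ring1 | (rw [hm]; linear_combination ((-3) * 1 + (-2) * θ + (-2) * θ ^ 2 + (-1) * θ ^ 3 : F) * hθ + ((1) * 1 + (2) * θ + (1) * θ ^ 2 + (1) * θ ^ 3 + (-2) * θ ^ 5 : F) * hp) | linear_combination ((-3) * 1 + (-2) * θ + (-2) * θ ^ 2 + (-1) * θ ^ 3 : F) * hθ + ((1) * 1 + (2) * θ + (1) * θ ^ 2 + (1) * θ ^ 3 + (-2) * θ ^ 5 : F) * hp⟩
  have a8 := su ((1) * 1 + (1) * θ + (1) * θ ^ 2 + (1) * θ ^ 3 + (1) * θ ^ 4 : F) ((1) * θ ^ 4 + (1) * θ ^ 5 : F) ((1) * 1 + (1) * θ ^ 3 + (1) * θ ^ 4 : F) ((1) * 1 + (1) * θ ^ 3 + (1) * θ ^ 5 : F) ((1) * 1 + (1) * θ ^ 3 + (1) * θ ^ 5 : F) ((1) * 1 + (1) * θ ^ 3 + (1) * θ ^ 4 : F)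
    ⟨by first | ring1 | (rw [hl]; linear_combination ((-1) * θ ^ 2 + (-1) * θ ^ 3 : F) * hθ + ((-1) * θ + (1) * θ ^ 3 : F) * hp) | linear_combination ((-1) * θ ^ 2 + (-1) * θ ^ 3 : F) * hθ + ((-1) * θ + (1) * θ ^ 3 : F) * hp,
      by first | ring1 | (rw [hl]; linear_combination (0 : F) * hθ + ((-1) * θ ^ 4 : F) * hp) | linear_combination (0 : F) * hθ + ((-1) * θ ^ 4 : F) * hp,
      by first | ring1 | (rw [hl]; linear_combination (0 : F) * hθ + (0 : F) * hp) | linear_combination (0 : F) * hθ + (0 : F) * hp⟩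
  have a9 := sv ((1) * 1 + (1) * θ ^ 3 + (1) * θ ^ 5 : F) ((1) * 1 + (1) * θ ^ 3 + (1) * θ ^ 5 : F) ((1) * 1 + (1) * θ ^ 3 + (1) * θ ^ 4 : F) ((1) * 1 + (1) * θ ^ 3 + (1) * θ ^ 5 : F) (0 : F) (0 : F)
    ⟨by first | ring1 | (rw [hm]; linear_combination (0 : F) * hθ + (0 : F) * hp) | linear_combination (0 : F) * hθ + (0 : F) * hp,
      by first | ring1 | (rw [hm]; linear_combination (0 : F) * hθ + (0 : F) * hp) | linear_combination (0 : F) * hθ + (0 : F) * hp,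
      by first | ring1 | (rw [hm]; linear_combination ((-2) * θ + (-1) * θ ^ 2 + (-1) * θ ^ 3 + (-1) * θ ^ 4 : F) * hθ + ((-1) * 1 + (1) * θ + (1) * θ ^ 2 + (-1) * θ ^ 5 : F) * hp) | linear_combination ((-2) * θ + (-1) * θ ^ 2 + (-1) * θ ^ 3 + (-1) * θ ^ 4 : F) * hθ + ((-1) * 1 + (1) * θ + (1) * θ ^ 2 + (-1) * θ ^ 5 : F) * hp⟩
  have c0 := sv (0 : F) ((1) * 1 : F) (0 : F) (0 : F) ((1) * 1 : F) ((1) * 1 : F)
    ⟨by first | ring1 | (rw [hm]; linear_combination (0 : F) * hθ + (0 : F) * hp) | linear_combination (0 : F) * hθ + (0 : F) * hp,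
      by first | ring1 | (rw [hm]; linear_combination (0 : F) * hθ + (0 : F) * hp) | linear_combination (0 : F) * hθ + (0 : F) * hp,
      by first | ring1 | (rw [hm]; linear_combination (0 : F) * hθ + (0 : F) * hp) | linear_combination (0 : F) * hθ + (0 : F) * hp⟩
  have c1 := su (0 : F) ((1) * 1 : F) ((1) * 1 : F) ((1) * 1 + (1) * θ + (1) * θ ^ 5 : F) (0 : F) ((1) * 1 : F)
    ⟨by first | ring1 | (rw [hl]; linear_combination (0 : F) * hθ + ((1) * 1 : F) * hp) | linear_combination (0 : F) * hθ + ((1) * 1 : F) * hp,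
      by first | ring1 | (rw [hl]; linear_combination (0 : F) * hθ + ((-1) * 1 : F) * hp) | linear_combination (0 : F) * hθ + ((-1) * 1 : F) * hp,
      by first | ring1 | (rw [hl]; linear_combination (0 : F) * hθ + (0 : F) * hp) | linear_combination (0 : F) * hθ + (0 : F) * hp⟩
  have c2 := sv ((1) * 1 + (1) * θ + (1) * θ ^ 5 : F) (0 : F) ((1) * 1 : F) ((1) * 1 + (1) * θ + (1) * θ ^ 5 : F) ((1) * 1 + (1) * θ + (1) * θ ^ 5 : F) ((1) * θ ^ 4 + (1) * θ ^ 5 : F)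
    ⟨by first | ring1 | (rw [hm]; linear_combination (0 : F) * hθ + (0 : F) * hp) | linear_combination (0 : F) * hθ + (0 : F) * hp,
      by first | ring1 | (rw [hm]; linear_combination (0 : F) * hθ + ((1) * 1 + (1) * θ + (1) * θ ^ 5 : F) * hp) | linear_combination (0 : F) * hθ + ((1) * 1 + (1) * θ + (1) * θ ^ 5 : F) * hp,
      by first | ring1 | (rw [hm]; linear_combination ((-1) * 1 + (-1) * θ + (-1) * θ ^ 3 + (-1) * θ ^ 4 : F) * hθ + ((1) * θ + (1) * θ ^ 4 : F) * hp) | linear_combination ((-1) * 1 + (-1) * θ + (-1) * θ ^ 3 + (-1) * θ ^ 4 : F) * hθ + ((1) * θ + (1) * θ ^ 4 : F) * hp⟩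
  have c3 := su' ((1) * 1 + (1) * θ + (1) * θ ^ 5 : F) ((1) * 1 + (1) * θ + (1) * θ ^ 5 : F) ((1) * θ ^ 4 + (1) * θ ^ 5 : F) ((1) * 1 + (1) * θ + (1) * θ ^ 3 + (1) * θ ^ 4 + (1) * θ ^ 5 : F) ((1) * 1 + (1) * θ + (1) * θ ^ 4 : F) ((1) * θ ^ 4 + (1) * θ ^ 5 : F)
    ⟨by first | ring1 | (rw [hlc]; linear_combination ((-1) * 1 + (-1) * θ ^ 3 + (-1) * θ ^ 4 : F) * hθ + ((1) * θ ^ 3 + (1) * θ ^ 4 + (-1) * θ ^ 5 : F) * hp) | linear_combination ((-1) * 1 + (-1) * θ ^ 3 + (-1) * θ ^ 4 : F) * hθ + ((1) * θ ^ 3 + (1) * θ ^ 4 + (-1) * θ ^ 5 : F) * hp,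
      by first | ring1 | (rw [hlc]; linear_combination (0 : F) * hθ + ((1) * θ ^ 4 : F) * hp) | linear_combination (0 : F) * hθ + ((1) * θ ^ 4 : F) * hp,
      by first | ring1 | (rw [hlc]; linear_combination (0 : F) * hθ + (0 : F) * hp) | linear_combination (0 : F) * hθ + (0 : F) * hp⟩
  have c4 := sv' ((1) * 1 + (1) * θ + (1) * θ ^ 3 + (1) * θ ^ 4 + (1) * θ ^ 5 : F) ((1) * 1 + (1) * θ + (1) * θ ^ 4 : F) ((1) * θ ^ 4 + (1) * θ ^ 5 : F) ((1) * 1 + (1) * θ + (1) * θ ^ 3 + (1) * θ ^ 4 + (1) * θ ^ 5 : F) ((1) * θ ^ 3 + (1) * θ ^ 5 : F) ((1) * θ ^ 2 + (1) * θ ^ 4 : F)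
    ⟨by first | ring1 | (rw [hmc]; linear_combination (0 : F) * hθ + (0 : F) * hp) | linear_combination (0 : F) * hθ + (0 : F) * hp,
      by first | ring1 | (rw [hmc]; linear_combination (0 : F) * hθ + ((-1) * 1 + (-1) * θ + (-1) * θ ^ 4 : F) * hp) | linear_combination (0 : F) * hθ + ((-1) * 1 + (-1) * θ + (-1) * θ ^ 4 : F) * hp,
      by first | ring1 | (rw [hmc]; linear_combination ((-2) * 1 + (-2) * θ + (-2) * θ ^ 2 + (-2) * θ ^ 3 + (-1) * θ ^ 4 : F) * hθ + ((1) * 1 + (2) * θ + (2) * θ ^ 2 + (1) * θ ^ 3 + (1) * θ ^ 4 + (-2) * θ ^ 5 : F) * hp) | linear_combination ((-2) * 1 + (-2) * θ + (-2) * θ ^ 2 + (-2) * θ ^ 3 + (-1) * θ ^ 4 : F) * hθ + ((1) * 1 + (2) * θ + (2) * θ ^ 2 + (1) * θ ^ 3 + (1) * θ ^ 4 + (-2) * θ ^ 5 : F) * hp⟩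
  have c5 := su' ((1) * 1 + (1) * θ + (1) * θ ^ 3 + (1) * θ ^ 4 + (1) * θ ^ 5 : F) ((1) * θ ^ 3 + (1) * θ ^ 5 : F) ((1) * θ ^ 2 + (1) * θ ^ 4 : F) ((1) * 1 + (1) * θ ^ 4 + (1) * θ ^ 5 : F) ((1) * θ ^ 2 + (1) * θ ^ 3 + (1) * θ ^ 4 + (1) * θ ^ 5 : F) ((1) * θ ^ 2 + (1) * θ ^ 4 : F)
    ⟨by first | ring1 | (rw [hlc]; linear_combination ((-1) * θ + (-1) * θ ^ 3 : F) * hθ + ((-1) * θ ^ 3 + (-1) * θ ^ 5 : F) * hp) | linear_combination ((-1) * θ + (-1) * θ ^ 3 : F) * hθ + ((-1) * θ ^ 3 + (-1) * θ ^ 5 : F) * hp,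
      by first | ring1 | (rw [hlc]; linear_combination (0 : F) * hθ + ((1) * θ ^ 2 + (1) * θ ^ 4 : F) * hp) | linear_combination (0 : F) * hθ + ((1) * θ ^ 2 + (1) * θ ^ 4 : F) * hp,
      by first | ring1 | (rw [hlc]; linear_combination (0 : F) * hθ + (0 : F) * hp) | linear_combination (0 : F) * hθ + (0 : F) * hp⟩
  have c6 := sv ((1) * 1 + (1) * θ ^ 4 + (1) * θ ^ 5 : F) ((1) * θ ^ 2 + (1) * θ ^ 3 + (1) * θ ^ 4 + (1) * θ ^ 5 : F) ((1) * θ ^ 2 + (1) * θ ^ 4 : F) ((1) * 1 + (1) * θ ^ 4 + (1) * θ ^ 5 : F) ((1) * 1 + (1) * θ ^ 2 + (1) * θ ^ 3 : F) ((1) * 1 + (1) * θ ^ 2 + (1) * θ ^ 5 : F)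
    ⟨by first | ring1 | (rw [hm]; linear_combination (0 : F) * hθ + (0 : F) * hp) | linear_combination (0 : F) * hθ + (0 : F) * hp,
      by first | ring1 | (rw [hm]; linear_combination (0 : F) * hθ + ((1) * 1 : F) * hp) | linear_combination (0 : F) * hθ + ((1) * 1 : F) * hp,
      by first | ring1 | (rw [hm]; linear_combination ((-1) * 1 + (-1) * θ + (-1) * θ ^ 2 + (-2) * θ ^ 3 + (-1) * θ ^ 4 : F) * hθ + ((1) * 1 + (1) * θ + (1) * θ ^ 3 : F) * hp) | linear_combination ((-1) * 1 + (-1) * θ + (-1) * θ ^ 2 + (-2) * θ ^ 3 + (-1) * θ ^ 4 : F) * hθ + ((1) * 1 + (1) * θ + (1) * θ ^ 3 : F) * hp⟩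
  have c7 := sv ((1) * 1 + (1) * θ ^ 4 + (1) * θ ^ 5 : F) ((1) * 1 + (1) * θ ^ 2 + (1) * θ ^ 3 : F) ((1) * 1 + (1) * θ ^ 2 + (1) * θ ^ 5 : F) ((1) * 1 + (1) * θ ^ 4 + (1) * θ ^ 5 : F) ((1) * θ ^ 2 + (1) * θ ^ 3 + (1) * θ ^ 4 + (1) * θ ^ 5 : F) ((1) * 1 + (1) * θ ^ 2 + (1) * θ ^ 5 : F)
    ⟨by first | ring1 | (rw [hm]; linear_combination (0 : F) * hθ + (0 : F) * hp) | linear_combination (0 : F) * hθ + (0 : F) * hp,
      by first | ring1 | (rw [hm]; linear_combination (0 : F) * hθ + ((1) * θ ^ 4 + (1) * θ ^ 5 : F) * hp) | linear_combination (0 : F) * hθ + ((1) * θ ^ 4 + (1) * θ ^ 5 : F) * hp,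
      by first | ring1 | (rw [hm]; linear_combination ((-1) * 1 + (-1) * θ + (-1) * θ ^ 2 + (-2) * θ ^ 3 + (-1) * θ ^ 4 : F) * hθ + ((1) * θ + (1) * θ ^ 3 + (1) * θ ^ 4 : F) * hp) | linear_combination ((-1) * 1 + (-1) * θ + (-1) * θ ^ 2 + (-2) * θ ^ 3 + (-1) * θ ^ 4 : F) * hθ + ((1) * θ + (1) * θ ^ 3 + (1) * θ ^ 4 : F) * hp⟩
  have c8 := su ((1) * 1 + (1) * θ ^ 4 + (1) * θ ^ 5 : F) ((1) * θ ^ 2 + (1) * θ ^ 3 + (1) * θ ^ 4 + (1) * θ ^ 5 : F) ((1) * 1 + (1) * θ ^ 2 + (1) * θ ^ 5 : F) ((1) * θ + (1) * θ ^ 4 : F) ((1) * 1 + (1) * θ ^ 3 + (1) * θ ^ 4 : F) ((1) * 1 + (1) * θ ^ 2 + (1) * θ ^ 5 : F)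
    ⟨by first | ring1 | (rw [hl]; linear_combination ((-1) * 1 + (-1) * θ + (-1) * θ ^ 4 : F) * hθ + ((1) * θ + (1) * θ ^ 2 + (1) * θ ^ 4 : F) * hp) | linear_combination ((-1) * 1 + (-1) * θ + (-1) * θ ^ 4 : F) * hθ + ((1) * θ + (1) * θ ^ 2 + (1) * θ ^ 4 : F) * hp,
      by first | ring1 | (rw [hl]; linear_combination (0 : F) * hθ + ((-1) * θ ^ 2 + (-1) * θ ^ 5 : F) * hp) | linear_combination (0 : F) * hθ + ((-1) * θ ^ 2 + (-1) * θ ^ 5 : F) * hp,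
      by first | ring1 | (rw [hl]; linear_combination (0 : F) * hθ + (0 : F) * hp) | linear_combination (0 : F) * hθ + (0 : F) * hp⟩
  have c9 := sv ((1) * θ + (1) * θ ^ 4 : F) ((1) * 1 + (1) * θ ^ 3 + (1) * θ ^ 4 : F) ((1) * 1 + (1) * θ ^ 2 + (1) * θ ^ 5 : F) ((1) * θ + (1) * θ ^ 4 : F) ((1) * 1 + (1) * θ + (1) * θ ^ 3 : F) (0 : F)
    ⟨by first | ring1 | (rw [hm]; linear_combination (0 : F) * hθ + (0 : F) * hp) | linear_combination (0 : F) * hθ + (0 : F) * hp,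
      by first | ring1 | (rw [hm]; linear_combination (0 : F) * hθ + ((1) * θ : F) * hp) | linear_combination (0 : F) * hθ + ((1) * θ : F) * hp,
      by first | ring1 | (rw [hm]; linear_combination ((-2) * 1 + (-1) * θ ^ 2 + (-1) * θ ^ 3 : F) * hθ + ((1) * θ + (-1) * θ ^ 5 : F) * hp) | linear_combination ((-2) * 1 + (-1) * θ ^ 2 + (-1) * θ ^ 3 : F) * hθ + ((1) * θ + (-1) * θ ^ 5 : F) * hp⟩
  have hYa : (v * u * v * v * u⁻¹ * v⁻¹ * u⁻¹ * v * u * v).1 Φ.a = ((1) * 1 + (1) * θ ^ 3 + (1) * θ ^ 5 : F) • Φ.a := by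
    show (v).1 ((u).1 ((v).1 ((v).1 ((u⁻¹).1 ((v⁻¹).1 ((u⁻¹).1 ((v).1 ((u).1 ((v).1 (Φ.a)))))))))) = _
    rw [show Φ.a = comb Φ ((1) * 1 : F) 0 0 by simp [comb]]
    rw [a0, a1, a2, a3, a4, a5, a6, a7, a8, a9]
    simp [comb]
  have hYc : (v * u * v * v * u⁻¹ * v⁻¹ * u⁻¹ * v * u * v).1 Φ.c = ((1) * θ + (1) * θ ^ 4 : F) • Φ.a + ((1) * 1 + (1) * θ + (1) * θ ^ 3 : F) • Φ.c := by
    show (v).1 ((u).1 ((v).1 ((v).1 ((u⁻¹).1 ((v⁻¹).1 ((u⁻¹).1 ((v).1 ((u).1 ((v).1 (Φ.c)))))))))) = _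
    rw [show Φ.c = comb Φ 0 ((1) * 1 : F) 0 by simp [comb]]
    rw [c0, c1, c2, c3, c4, c5, c6, c7, c8, c9]
    simp [comb]
  have hmv : H.h (v.1 Φ.a) Φ.a ≠ 0 := by
    rw [← comb_a Φ, sv 1 0 0 1 (-1) m ⟨rfl, by ring, by ring⟩]
    simp [comb, H.add_left, H.smul_left, H.smul_right, H.neg_left, Φ.aa, Φ.ca, Φ.ba]
    intro h0
    have h1 := hmt
    rw [h0] at h1
    simp at h1
  refine rootGen_le Φ hd one_ne_zero ⟨l, hlt, hu⟩ (Y := v * u * v * v * u⁻¹ * v⁻¹ * u⁻¹ * v * u * v) (by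
    repeat' first | exact hu | exact hv | exact inv_mem hu | exact inv_mem hv | apply mul_mem) hYa hYc
    (fun S hS => ?_) hv hmv
  have htc : H.conj ((1) * 1 + (1) * θ ^ 3 + (1) * θ ^ 5 : F) = ((1) * 1 + (1) * θ + (1) * θ ^ 2 + (1) * θ ^ 3 + (1) * θ ^ 4 + (1) * θ ^ 5 : F) := by
    simp only [map_add, map_mul, map_pow, map_one, map_zero, map_ofNat, map_intCast, map_natCast, hθc]
    linear_combination ((-14) * 1 + (-17) * θ + (-12) * θ ^ 2 + (-5) * θ ^ 3 + (5) * θ ^ 5 + (10) * θ ^ 6 + (10) * θ ^ 7 + (5) * θ ^ 8 + (1) * θ ^ 9 : F) * hθ + ((7) * 1 + (15) * θ + (14) * θ ^ 2 + (8) * θ ^ 3 + (2) * θ ^ 4 + (-3) * θ ^ 5 : F) * hp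
  have hr : ((1) * 1 + (1) * θ + (1) * θ ^ 2 + (1) * θ ^ 3 + (1) * θ ^ 4 + (1) * θ ^ 5 : F) * ((1) * 1 + (1) * θ + (1) * θ ^ 3 : F) = ((1) * 1 + (1) * θ + (1) * θ ^ 4 + (1) * θ ^ 5 : F) := by linear_combination ((2) * 1 + (1) * θ + (1) * θ ^ 2 : F) * hθ + ((-1) * 1 + (-1) * θ + (1) * θ ^ 3 + (1) * θ ^ 4 + (1) * θ ^ 5 : F) * hp
  rw [htc, hr] at hS
  exact eq_top_of_mem_8 hcard hS (by
    intro h
    have h1 : ((1) * 1 + (1) * θ + (1) * θ ^ 4 + (1) * θ ^ 5 : F) ^ 8 - ((1) * 1 + (1) * θ + (1) * θ ^ 4 + (1) * θ ^ 5 : F) = ((1) * θ ^ 3 + (1) * θ ^ 4 : F) := by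
      linear_combination ((1206) * 1 + (-557) * θ + (-721) * θ ^ 2 + (732) * θ ^ 3 + (334) * θ ^ 4 + (-897) * θ ^ 5 + (-57) * θ ^ 6 + (1070) * θ ^ 7 + (240) * θ ^ 8 + (-300) * θ ^ 9 + (974) * θ ^ 10 + (1555) * θ ^ 11 + (526) * θ ^ 12 + (420) * θ ^ 13 + (1692) * θ ^ 14 + (1968) * θ ^ 15 + (1076) * θ ^ 16 + (1065) * θ ^ 17 + (1937) * θ ^ 18 + (2011) * θ ^ 19 + (1309) * θ ^ 20 + (1091) * θ ^ 21 + (1361) * θ ^ 22 + (1270) * θ ^ 23 + (811) * θ ^ 24 + (538) * θ ^ 25 + (505) * θ ^ 26 + (420) * θ ^ 27 + (243) * θ ^ 28 + (119) * θ ^ 29 + (78) * θ ^ 30 + (56) * θ ^ 31 + (28) * θ ^ 32 + (8) * θ ^ 33 + (1) * θ ^ 34 : F) * hθ + ((-603) * 1 + (-321) * θ + (653) * θ ^ 2 + (22) * θ ^ 3 + (-495) * θ ^ 4 + (341) * θ ^ 5 : F) * hp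
    rw [h, sub_self] at h1
    have h2 : ((1) * θ ^ 3 + (1) * θ ^ 4 : F) * ((1) * 1 + (1) * θ + (1) * θ ^ 2 + (1) * θ ^ 4 : F) = 1 := by linear_combination ((1) * 1 + (1) * θ + (1) * θ ^ 2 : F) * hθ + ((-1) * 1 + (-1) * θ + (-1) * θ ^ 2 + (1) * θ ^ 4 + (1) * θ ^ 5 : F) * hp
    rw [← h1, zero_mul] at h2
    exact zero_ne_one h2) (by
    intro h
    have h1 : ((1) * 1 + (1) * θ + (1) * θ ^ 4 + (1) * θ ^ 5 : F) ^ 4 - ((1) * 1 + (1) * θ + (1) * θ ^ 4 + (1) * θ ^ 5 : F) = ((1) * 1 + (1) * θ ^ 2 + (1) * θ ^ 3 : F) := by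
      linear_combination ((9) * 1 + (10) * θ + (-15) * θ ^ 2 + (-10) * θ ^ 3 + (16) * θ ^ 4 + (15) * θ ^ 5 + (6) * θ ^ 7 + (19) * θ ^ 8 + (15) * θ ^ 9 + (5) * θ ^ 10 + (4) * θ ^ 11 + (6) * θ ^ 12 + (4) * θ ^ 13 + (1) * θ ^ 14 : F) * hθ + ((-5) * 1 + (-8) * θ + (5) * θ ^ 2 + (14) * θ ^ 3 + (-1) * θ ^ 4 + (-8) * θ ^ 5 : F) * hp
    rw [h, sub_self] at h1
    have h2 : ((1) * 1 + (1) * θ ^ 2 + (1) * θ ^ 3 : F) * ((1) * θ ^ 3 + (1) * θ ^ 5 : F) = 1 := by linear_combination ((1) * 1 + (1) * θ + (1) * θ ^ 2 : F) * hθ + ((-1) * 1 + (-1) * θ + (-1) * θ ^ 2 + (1) * θ ^ 5 : F) * hp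
    rw [← h1, zero_mul] at h2
    exact zero_ne_one h2)

end CfsgLib.Linear.SUThree
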