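/-
`SU₃(q)`, `q ≥ 3`, is generated by two conjugate regular unipotent root elements.
-/
import Cfsg.Agent.Lib.Linear.SUThreeSmall

set_option autoImplicit false
set_option linter.unusedSectionVars false

namespace CfsgLib.Linear.SUThree

open CfsgLib.Classical.Herm Module Polynomial

variable {F : Type*} [Field F] [Fintype F] {q : ℕ}

set_option maxHeartbeats 4000000 in
theorem exists_root_64 (hcard : Fintype.card F = 64) (h2 : (2 : F) = 0) :
    ∃ θ : F, θ ^ 6 + θ + 1 = 0 := by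
  set f : F[X] := X ^ 6 + X + 1 with hf
  set g : F[X] := X + X ^ 2 + X ^ 3 + X ^ 4 + X ^ 5 + X ^ 6 + X ^ 8 + X ^ 10 + X ^ 12 + X ^ 13 + X ^ 16 + X ^ 17 + X ^ 19 + X ^ 20 + X ^ 21 + X ^ 23 + X ^ 24 + X ^ 26 + X ^ 29 + X ^ 32 + X ^ 33 + X ^ 34 + X ^ 38 + X ^ 40 + X ^ 41 + X ^ 42 + X ^ 43 + X ^ 46 + X ^ 48 + X ^ 52 + X ^ 53 + X ^ 58 with hg
  have h2' : (2 : F[X]) = 0 := by
    rw [← map_ofNat (C : F →+* F[X]) 2, h2, map_zero]
  have hfg : f * g = X ^ 64 - X := by
    rw [hf, hg]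
    linear_combination -((-1) * X + (-1) * X ^ 2 + (-1) * X ^ 3 + (-1) * X ^ 4 + (-1) * X ^ 5 + (-1) * X ^ 6 + (-1) * X ^ 7 + (-1) * X ^ 8 + (-1) * X ^ 9 + (-1) * X ^ 10 + (-1) * X ^ 11 + (-1) * X ^ 12 + (-1) * X ^ 13 + (-1) * X ^ 14 + (-1) * X ^ 16 + (-1) * X ^ 17 + (-1) * X ^ 18 + (-1) * X ^ 19 + (-1) * X ^ 20 + (-1) * X ^ 21 + (-1) * X ^ 22 + (-1) * X ^ 23 + (-1) * X ^ 24 + (-1) * X ^ 25 + (-1) * X ^ 26 + (-1) * X ^ 27 + (-1) * X ^ 29 + (-1) * X ^ 30 + (-1) * X ^ 32 + (-1) * X ^ 33 + (-1) * X ^ 34 + (-1) * X ^ 35 + (-1) * X ^ 38 + (-1) * X ^ 39 + (-1) * X ^ 40 + (-1) * X ^ 41 + (-1) * X ^ 42 + (-1) * X ^ 43 + (-1) * X ^ 44 + (-1) * X ^ 46 + (-1) * X ^ 47 + (-1) * X ^ 48 + (-1) * X ^ 49 + (-1) * X ^ 52 + (-1) * X ^ 53 + (-1) * X ^ 54 + (-1) * X ^ 58 + (-1) * X ^ 59 : F[X]) * h2'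
  have hne : (X ^ 64 - X : F[X]) ≠ 0 := FiniteField.X_pow_card_sub_X_ne_zero F (by norm_num)
  have hf0 : f ≠ 0 := fun h => hne (by rw [← hfg, h, zero_mul])
  have hg0 : g ≠ 0 := fun h => hne (by rw [← hfg, h, mul_zero])
  have hroots : (f * g).roots.card = 64 := by
    rw [hfg, ← hcard, FiniteField.roots_X_pow_card_sub_X]
    exact Finset.card_univ
  have hdeg : (f * g).natDegree = 64 := by
    rw [hfg]
    exact FiniteField.X_pow_card_sub_X_natDegree_eq F (by norm_num)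
  have hdf : f.natDegree = 6 := by
    rw [hf]; compute_degree!
  rw [roots_mul (mul_ne_zero hf0 hg0), Multiset.card_add] at hroots
  rw [natDegree_mul hf0 hg0, hdf] at hdeg
  have hgle := g.card_roots'
  obtain ⟨θ, hθ⟩ := Multiset.card_pos_iff_exists_mem.1 (show 0 < f.roots.card by omega)
  refine ⟨θ, ?_⟩
  have := (mem_roots hf0).1 hθ
  simpa [hf] using this

theorem exists_good (hq : 3 ≤ q) (hF : Fintype.card F = q ^ 2) :
    ∃ (Φ : Frame (stdHerm hF 3)) (z l m : F)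
      (h : l + (stdHerm hF 3).conj l + z * (stdHerm hF 3).conj z = 0)
      (hm : m + (stdHerm hF 3).conj m + z * (stdHerm hF 3).conj z = 0),
      z ≠ 0 ∧ rootGen (stdHerm hF 3) ≤
        Subgroup.closure {Φ.ra z l h, Φ.rb (-z) m (Frame.cond_neg hm)} := by
  obtain ⟨e, f, p⟩ := exists_pair_std hF (le_refl 3)
  obtain ⟨y, hye, hyf, hyy⟩ := exists_unit_orth (big_std hF (le_refl 3)) p
  let Φ : Frame (stdHerm hF 3) := ⟨e, f, y, p.1, p.2.1, HermSpace.h_comm_one _ p.2.2, hyy, hye, hyf⟩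
  refine ⟨Φ, ?_⟩
  have hd : finrank F (Fin 3 → F) = 3 := Module.finrank_fin_fun F
  have hcard : Nat.card F = q ^ 2 := by rw [Nat.card_eq_fintype_card, hF]
  have hconj : ∀ x, (stdHerm hF 3).conj x = x ^ q := stdHerm_conj hF 3
  have hcast := FiniteField.cast_card_eq_zero F
  rw [hF, Nat.cast_pow, pow_eq_zero_iff two_ne_zero] at hcast
  by_cases h5 : q = 5
  · subst h5
    have h5' : (5 : F) = 0 := by exact_mod_cast hcast
    obtain ⟨θ, hθ⟩ : IsSquare (2 : F) := by
      have h2 : (2 : F) ≠ 0 := fun h => one_ne_zero (α := F) (by linear_combination h5' - 2 * h)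
      have hchar : ringChar F ≠ 2 := fun h => h2 (by
        have := ringChar.Nat.cast_ringChar (R := F)
        rw [h] at this
        exact_mod_cast this)
      rw [FiniteField.isSquare_iff hchar h2, hF]
      norm_num
      linear_combination 819 * h5'
    exact exists_pair_5 Φ hd hconj (by rw [hcard]; norm_num) h5'
      (θ := θ) (by linear_combination -hθ)
  by_cases h8 : q = 8
  · subst h8
    have h8' : (8 : F) = 0 := by exact_mod_cast hcast
    have h2 : (2 : F) = 0 := by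
      have : (2 : F) ^ 3 = 0 := by linear_combination h8'
      exact (pow_eq_zero_iff three_ne_zero).1 this
    obtain ⟨θ, hθ⟩ := exists_root_64 (by rw [hF]; norm_num) h2
    exact exists_pair_8 Φ hd hconj (by rw [hcard]; norm_num) h2 (θ := θ) (by linear_combination hθ)
  obtain ⟨w, hw⟩ := IsCyclic.exists_generator (α := Fˣ)
  have how : orderOf w = q ^ 2 - 1 := by
    rw [orderOf_eq_card_of_forall_mem_zpowers hw, Nat.card_units, hcard]
  have hfac : q ^ 2 - 1 = (q - 1) * (q + 1) := by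
    obtain ⟨k, rfl⟩ : ∃ k, q = k + 1 := ⟨q - 1, by omega⟩
    rw [Nat.add_sub_cancel]; ring_nf; omega
  have hoρ : orderOf (w ^ (q - 1)) = q + 1 := by
    rw [orderOf_pow_of_dvd (by omega) (by rw [how, hfac]; exact dvd_mul_right _ _), how, hfac,
      Nat.mul_div_cancel_left _ (by omega)]
  set ρu := w ^ (q - 1) with hρu
  have hpow : ∀ k, (ρu : F) ^ k = 1 ↔ q + 1 ∣ k := fun k => by
    rw [← Units.val_pow_eq_pow_val, Units.val_eq_one, ← orderOf_dvd_iff_pow_eq_one, hoρ]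
  refine exists_pair_norm_one Φ hd (ρ := (ρu : F)) ?_ ?_ ?_
  · rw [hconj, ← pow_succ', hpow]
  · intro h
    have h1 : (ρu : F) ^ 2 = 1 := by linear_combination ((ρu : F) - 1) * h
    have := Nat.le_of_dvd two_pos ((hpow 2).1 h1)
    omega
  · intro E hE
    rw [hconj] at hE
    obtain ⟨d, hd0, hdE, h1⟩ := natCard_subfield E
    by_contra hne
    have hd1 : d ≠ 1 := fun h => hne (h1 h)
    set k := Nat.card E with hk
    have hk2 : 2 ≤ k := Finite.one_lt_card
    have hx := pow_natCard_eq E hE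
    rw [← hk, show k = k - 1 + 1 by omega, pow_succ, mul_eq_right₀ (pow_ne_zero _ (pow_ne_zero _
      (Units.ne_zero _))), ← pow_mul, ← pow_mul, hpow] at hx
    have hdiv : q + 1 ∣ 3 * (k - 1) := by
      refine (Nat.Coprime.dvd_mul_left (m := q) ?_).1 hx
      simp
    rw [hcard] at hdE
    rcases Nat.lt_or_ge d 3 with hd3 | hd3
    · have hd2 : d = 2 := by omega
      rw [hd2] at hdE
      have hkq : k = q := (Nat.pow_left_injective two_ne_zero hdE).symm
      rw [hkq] at hdiv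
      have h6 : q + 1 ∣ 6 := by
        have h3 : q + 1 ∣ 3 * (q + 1) := dvd_mul_left _ _
        have := Nat.dvd_sub h3 hdiv
        rwa [show 3 * (q + 1) - 3 * (q - 1) = 6 by omega] at this
      have := Nat.le_of_dvd (by norm_num) h6
      have hq5 : q ≤ 5 := by omega
      interval_cases q <;> first | omega | norm_num at h6
    · have hk3 : k ^ 3 ≤ q ^ 2 := hdE ▸ Nat.pow_le_pow_right (by omega) hd3
      have hle := Nat.le_of_dvd (by omega) hdiv
      have hk' : q + 4 ≤ 3 * k := by omega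
      have hk8 : k < 27 := by
        by_contra hcon
        have h27 : 27 * k ^ 2 ≤ k ^ 3 := by
          rw [pow_succ k 2, mul_comm]; exact Nat.mul_le_mul_left _ (by omega)
        nlinarith
      have hq27 : q < 81 := by omega
      have hk9 : k < 9 := by
        by_contra hcon
        have h9 : 9 * k ^ 2 ≤ k ^ 3 := by
          rw [pow_succ k 2, mul_comm]; exact Nat.mul_le_mul_left _ (by omega)
        nlinarith
      have hq24 : q ≤ 20 := by omega
      interval_cases k <;> interval_cases q <;> first | omega | (norm_num at hdiv) | (norm_num at hk3)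

theorem exists_pair (hq : 3 ≤ q) (hF : Fintype.card F = q ^ 2) :
    ∃ (Φ : Frame (stdHerm hF 3)) (z l : F)
      (h : l + (stdHerm hF 3).conj l + z * (stdHerm hF 3).conj z = 0) (g : Unit' (stdHerm hF 3)),
      z ≠ 0 ∧ g ∈ rootGen (stdHerm hF 3) ∧
        rootGen (stdHerm hF 3) ≤ Subgroup.closure {Φ.ra z l h, g * Φ.ra z l h * g⁻¹} := by
  obtain ⟨Φ, z, l, m, h, hm, hz, hle⟩ := exists_good hq hF
  obtain ⟨g, hg, hgv⟩ := exists_conj Φ (Module.finrank_fin_fun F) hz h hm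
  exact ⟨Φ, z, l, h, g, hz, hg, hgv.symm ▸ hle⟩

end CfsgLib.Linear.SUThree
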