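/-
`SU_{2m+1}(q)` is generated by three conjugates of a regular unipotent element.
-/
import Cfsg.Agent.Lib.Linear.SUThreeGens
import Cfsg.Agent.Lib.Linear.SUThreeMain

set_option autoImplicit false
set_option linter.unusedSectionVars false
set_option linter.unusedSimpArgs false

namespace CfsgLib.Linear.SURegular

open CfsgLib.Classical.Herm Module
open CfsgLib.Linear.SUThree (Frame)

variable {F V W : Type*} [Field F] [AddCommGroup V] [Module F V] [AddCommGroup W] [Module F W]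
  {H₃ : HermSpace F W} {H : HermSpace F V} {k : ℕ} [FiniteDimensional F V] [FiniteDimensional F W]

/-- The three conjugates generate as soon as the pair in dimension three is rich enough. -/
theorem exists_three (Φ : Hyp H k) (hd : finrank F V = 2 * k + 5) (hd₃ : finrank F W = 3)
    (hc : ∀ x, H₃.conj x = H.conj x) (hF4 : ∀ x y : F, ∃ t, t ≠ 0 ∧ t ≠ x ∧ t ≠ y)
    (Φ₃ : Frame H₃) {z l m : F} (h : l + H₃.conj l + z * H₃.conj z = 0)
    (hm : m + H₃.conj m + z * H₃.conj z = 0)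
    (hcen : ∀ s (c : RootCond H₃ Φ₃.a 0 s), root H₃ Φ₃.a 0 s c ∈
      Subgroup.closure {Φ₃.ra z l h, Φ₃.rb (-z) m (Frame.cond_neg hm)})
    (hswap : ∃ σ ∈ Subgroup.closure {Φ₃.ra z l h, Φ₃.rb (-z) m (Frame.cond_neg hm)},
      σ.1 Φ₃.a = Φ₃.b ∧ σ.1 Φ₃.b = Φ₃.a)
    (hdil : ∀ t : F, t ≠ 0 → ∃ d ∈ Subgroup.closure {Φ₃.ra z l h, Φ₃.rb (-z) m (Frame.cond_neg hm)},
      d.1 Φ₃.a = t • Φ₃.a)
    {z₀ l₀ : F} (hl : l₀ + H.conj l₀ + z₀ * H.conj z₀ = 0) (hz₀ : z₀ ≠ 0) {y : V} {ν η θ : F}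
    (hν : ν * H.conj ν = 1) (h0 : H.h y y = η) (h1 : H.h ((Φ.reg hl).1 y) y = ν * η)
    (h2 : H.h ((Φ.reg hl).1 ((Φ.reg hl).1 y)) y = ν ^ 2 * (η + 1))
    (hθ : θ * H.conj θ * η = 1) (hlz : l₀ * (z * H.conj z) = l * (z₀ * H.conj z₀)) (hz : z ≠ 0)
    (hδ : m = l + θ * z - H.conj (θ * z)) :
    ∃ g ∈ rootGen H, ∃ g' ∈ rootGen H,
      rootGen H ≤ Subgroup.closure {Φ.reg hl, g * Φ.reg hl * g⁻¹, g' * Φ.reg hl * g'⁻¹} := by
  have hB : Big H := big_of_finrank (by omega)
  have h' : l + H.conj l + z * H.conj z = 0 := Frame.cond_ext hc hd₃ h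
  have hm' : m + H.conj m + z * H.conj z = 0 := Frame.cond_ext hc hd₃ hm
  obtain ⟨g, hg, g', hg', hX, hY⟩ :=
    exists_conjugators Φ hB hl hz₀ hν h0 h1 h2 hθ hlz hz h' hm' hδ
  refine ⟨g, hg, g', hg', ?_⟩
  set u := Φ.reg hl
  set G := Subgroup.closure ({u, g * u * g⁻¹, g' * u * g'⁻¹} : Set (Unit' H))
  set ι := Φ₃.ext Φ.frame hc hd₃
  have hι : ∀ x ∈ Subgroup.closure {Φ₃.ra z l h, Φ₃.rb (-z) m (Frame.cond_neg hm)}, ι x ∈ G := by
    intro x hx
    refine ((Subgroup.closure_le (G.comap ι)).2 ?_ hx : x ∈ G.comap ι)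
    rintro _ (rfl | rfl)
    · show ι _ ∈ G
      simp only [ι, Frame.ext_ra]; exact hX
    · show ι _ ∈ G
      simp only [ι, Frame.ext_rb]; exact hY
  set w := u.1 (Φ.b 0) - Φ.b 0 with hw
  have e0 : Φ.frame.a = Φ.a 0 := rfl
  have e1 : Φ.frame.b = Φ.b 0 := rfl
  have hub : u.1 (Φ.b 0) = (Φ.lev (k + 1)).1 (Φ.b 0) := Φ.reg_b_lt hl Hyp.zero_ne_li
  have hwb : H.h w (Φ.b 0) = 0 := by
    rw [hw, H.sub_left, hub, Φ.lev_b_iso _ le_rfl, Φ.bb, sub_zero]
  have hwa : H.h w (Φ.a 0) = 0 := by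
    rw [hw, H.sub_left]
    nth_rewrite 1 [← Φ.reg_a_zero hl]
    rw [unit_h, sub_self]
  have hwc : H.h w Φ.c = 0 := by
    rw [hw, H.sub_left, hub]
    nth_rewrite 1 [← Φ.lev_c (k + 1) le_rfl]
    rw [unit_h, sub_self]
  have hfix : ∀ x, (ι x).1 w = w := fun x => Φ₃.ext_fix Φ.frame hc hd₃ x hwa hwb hwc
  obtain ⟨σ, hσ, hσa, hσb⟩ := hswap
  refine SUThree.rootGen_le_of_plane hB hF4 (a := Φ.a 0) (b := Φ.b 0)
    ⟨Φ.aa 0 0, Φ.bb 0 0, Φ.ba_same 0⟩ ?_ (Subgroup.subset_closure (Set.mem_insert _ _)) (Φ.reg_a_zero hl) hw hwb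
    (hι σ hσ) ?_ ?_ (hfix σ) ?_ ?_
  · intro s c
    have c₃ : RootCond H₃ Φ₃.a 0 s := ⟨Φ₃.aa, H₃.zero_left _, by
      have := c.2.2
      rw [H.zero_left, ← hc] at this
      rw [H₃.zero_left]; exact this⟩
    have h3 := hι _ (hcen s c₃)
    simp only [ι, Frame.ext_root] at h3
    rwa [root_congr _ c (by rw [Frame.emb_a, e0]) (map_zero _) rfl] at h3
  · rw [← e0, ← Φ₃.emb_a Φ.frame, Φ₃.ext_emb Φ.frame hc hd₃, hσa, Frame.emb_b, e1]
  · rw [← e1, ← Φ₃.emb_b Φ.frame, Φ₃.ext_emb Φ.frame hc hd₃, hσb, Frame.emb_a, e0]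
  · intro t ht
    obtain ⟨d, hd', hda⟩ := hdil t ht
    refine ⟨ι d, hι d hd', ?_, hfix d⟩
    rw [← e0, ← Φ₃.emb_a Φ.frame, Φ₃.ext_emb Φ.frame hc hd₃, hda, map_smul]
  · intro S haS hwS huS x hx
    have hN : ∀ j : ℕ, (Φ.nil hl ^ (j + 1)) (Φ.b 0) ∈ S ∧
        H.h ((Φ.nil hl ^ (j + 1)) (Φ.b 0)) (Φ.a 0) = 0 := by
      intro j
      induction j with
      | zero => exact ⟨by rw [zero_add, pow_one]; exact hwS, by rw [zero_add, pow_one]; exact hwa⟩
      | succ j ih =>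
        rw [pow_succ', Module.End.mul_apply, Φ.nil_apply]
        refine ⟨S.sub_mem (huS _ ih.1) ih.1, ?_⟩
        rw [H.sub_left, ih.2, sub_zero]
        nth_rewrite 1 [← Φ.reg_a_zero hl]
        rw [unit_h, ih.2]
    have hmem : x ∈ Submodule.span F
        (Set.range fun j : Fin (2 * k + 5) => (Φ.nil hl ^ (j : ℕ)) (Φ.b 0)) :=
      Φ.span_orbit hl hd hz₀ ▸ Submodule.mem_top
    obtain ⟨cf, rfl⟩ := (Submodule.mem_span_range_iff_exists_fun F).1 hmem
    rw [Fin.sum_univ_succ] at hx ⊢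
    have hrest : ∑ i : Fin (2 * k + 4), cf i.succ • (Φ.nil hl ^ (i.succ : ℕ)) (Φ.b 0) ∈ S ∧
        H.h (∑ i : Fin (2 * k + 4), cf i.succ • (Φ.nil hl ^ (i.succ : ℕ)) (Φ.b 0)) (Φ.a 0) = 0 := by
      refine ⟨S.sum_mem fun i _ => S.smul_mem _ (hN i).1, ?_⟩
      rw [← H.form_apply, map_sum]
      exact Finset.sum_eq_zero fun i _ => by
        rw [map_smul, H.form_apply, Fin.val_succ, (hN i).2, smul_zero]
    rw [H.add_left, hrest.2, add_zero, H.smul_left, Fin.val_zero, pow_zero, Module.End.one_apply,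
      Φ.ba_same, mul_one] at hx
    rw [hx, zero_smul, zero_add]
    exact hrest.1

theorem exists_moments_two (Φ : Hyp H k) (h2 : (2 : F) = 0) {ω : F} (hω : ω ^ 2 + ω + 1 = 0)
    (hωc : H.conj ω = ω + 1) (hl : ω + H.conj ω + 1 * H.conj 1 = 0) :
    ∃ y, H.h y y = 1 ∧ H.h ((Φ.reg hl).1 y) y = (ω + 1) * 1 ∧
      H.h ((Φ.reg hl).1 ((Φ.reg hl).1 y)) y = (ω + 1) ^ 2 * (1 + 1) := by
  have hneg : -(1 : F) = 1 := by linear_combination -h2
  have huy : (Φ.reg hl).1 (Φ.b Hyp.li + ω • Φ.a Hyp.li) = Φ.b Hyp.li + Φ.c := by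
    rw [map_add, map_smul, Φ.reg_b_li, Φ.reg_a_li]
    match_scalars
    · ring
    · ring
    · linear_combination ω * h2
    · linear_combination ω * h2
  refine ⟨Φ.b Hyp.li + ω • Φ.a Hyp.li, ?_, ?_, ?_⟩
  · simp [H.add_left, H.add_right, H.smul_left, H.smul_right, Φ.aa, Φ.bb, Φ.ab_same, Φ.ba_same, hωc]
    linear_combination ω * h2
  · rw [huy]
    simp [H.add_left, H.add_right, H.smul_left, H.smul_right, Φ.aa, Φ.bb, Φ.ab_same, Φ.ba_same, hωc,
      Φ.ca, Φ.cb, Φ.bc]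
  · rw [huy, map_add, Φ.reg_b_li, Φ.reg_c]
    simp [H.add_left, H.add_right, H.sub_left, H.smul_left, H.smul_right, Φ.aa, Φ.bb, Φ.ab_same,
      Φ.ba_same, hωc, Φ.ca, Φ.cb, Φ.bc, Φ.ac, Φ.ab_ne Hyp.pi_ne_li, Φ.ba_ne Hyp.pi_ne_li]
    linear_combination (ω - (ω + 1) ^ 2) * h2

section Std

variable {K : Type*} [Field K] [Fintype K] {q : ℕ}

theorem exists_generators (hF : Fintype.card K = q ^ 2) (k : ℕ) :
    ∃ (Φ : Hyp (stdHerm hF (2 * (k + 2) + 1)) k) (z₀ l₀ : K)
      (hl : l₀ + (stdHerm hF (2 * (k + 2) + 1)).conj l₀ +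
        z₀ * (stdHerm hF (2 * (k + 2) + 1)).conj z₀ = 0), z₀ ≠ 0 ∧
      ∃ g ∈ rootGen (stdHerm hF (2 * (k + 2) + 1)), ∃ g' ∈ rootGen (stdHerm hF (2 * (k + 2) + 1)),
        rootGen (stdHerm hF (2 * (k + 2) + 1)) ≤
          Subgroup.closure {Φ.reg hl, g * Φ.reg hl * g⁻¹, g' * Φ.reg hl * g'⁻¹} := by
  classical
  obtain ⟨Φ⟩ := exists_hyp hF k
  set H := stdHerm hF (2 * (k + 2) + 1)
  have hd : finrank K (Fin (2 * (k + 2) + 1) → K) = 2 * k + 5 := by
    rw [Module.finrank_fin_fun]; omega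
  have hd₃ : finrank K (Fin 3 → K) = 3 := Module.finrank_fin_fun K
  have hc : ∀ x, (stdHerm hF 3).conj x = H.conj x := fun x => rfl
  have hq2 := two_le_of_card hF
  have hF4 : ∀ x y : K, ∃ t, t ≠ 0 ∧ t ≠ x ∧ t ≠ y := by
    intro x y
    obtain ⟨t, ht⟩ := Finset.exists_mem_notMem_of_card_lt_card (s := {0, x, y})
      (t := (Finset.univ : Finset K)) (by
        refine lt_of_le_of_lt Finset.card_le_three ?_
        rw [Finset.card_univ, hF]; nlinarith)
    exact ⟨t, fun e => ht.2 (by simp [e]), fun e => ht.2 (by simp [e]), fun e => ht.2 (by simp [e])⟩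
  refine ⟨Φ, ?_⟩
  rcases Nat.lt_or_ge q 3 with hq | hq
  · -- `q = 2`
    obtain rfl : q = 2 := by omega
    have h2 : (2 : K) = 0 := by
      have := FiniteField.cast_card_eq_zero K
      rw [hF, Nat.cast_pow, pow_eq_zero_iff two_ne_zero] at this
      exact_mod_cast this
    obtain ⟨ω, hω0, hω1, -⟩ := hF4 1 0
    have hω3 : ω ^ 3 = 1 := by
      have := FiniteField.pow_card_sub_one_eq_one ω hω0
      rwa [hF] at this
    have hω : ω ^ 2 + ω + 1 = 0 :=
      (mul_eq_zero.1 (show (ω - 1) * (ω ^ 2 + ω + 1) = 0 by linear_combination hω3)).resolve_left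
        (sub_ne_zero.2 hω1)
    have hconj : ∀ (n : ℕ) (x : K), (stdHerm hF n).conj x = x ^ 2 := stdHerm_conj hF
    have hωc : H.conj ω = ω + 1 := by rw [hconj]; linear_combination hω - (ω + 1) * h2
    have hl : ω + H.conj ω + 1 * H.conj 1 = 0 := by
      rw [hωc, map_one]; linear_combination (ω + 1) * h2
    refine ⟨1, ω, hl, one_ne_zero, ?_⟩
    obtain ⟨y, h0, h1, h2'⟩ := exists_moments_two Φ h2 hω hωc hl
    obtain ⟨e, f, p⟩ := exists_pair_std hF (le_refl 3)
    obtain ⟨c₃, hce, hcf, hcc⟩ := exists_unit_orth (big_std hF (le_refl 3)) p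
    let Φ₃ : Frame (stdHerm hF 3) :=
      ⟨e, f, c₃, p.1, p.2.1, HermSpace.h_comm_one _ p.2.2, hcc, hce, hcf⟩
    have h3 : ω + (stdHerm hF 3).conj ω + 1 * (stdHerm hF 3).conj 1 = 0 := hl
    set X := Φ₃.ra 1 ω h3 with hX
    set Y := Φ₃.rb (-1) ω (Frame.cond_neg h3) with hY
    set G₃ := Subgroup.closure ({X, Y} : Set (Unit' (stdHerm hF 3)))
    have hXG : X ∈ G₃ := Subgroup.subset_closure (by simp)
    have hYG : Y ∈ G₃ := Subgroup.subset_closure (by simp)
    have hω2 : ω + ω - 1 = (1 : K) := by linear_combination (ω - 1) * h2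
    have hXX : ∀ x, (X * X).1 x = x + (stdHerm hF 3).h x Φ₃.a • Φ₃.a := fun x => by
      rw [hX, Frame.ra, root_mul, root_apply]
      simp only [one_smul, Φ₃.cc, hω2, (stdHerm hF 3).add_right]
      match_scalars
      · ring
      · linear_combination (stdHerm hF 3).h x Φ₃.a * h2
      · linear_combination (-(stdHerm hF 3).h x Φ₃.c) * h2
    have hYY : ∀ x, (Y * Y).1 x = x + (stdHerm hF 3).h x Φ₃.b • Φ₃.b := fun x => by
      rw [hY, Frame.rb, root_mul, root_apply]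
      simp only [neg_one_smul, (stdHerm hF 3).neg_left, (stdHerm hF 3).neg_right, Φ₃.cc,
        (stdHerm hF 3).add_right, neg_neg, hω2]
      match_scalars
      · ring
      · linear_combination (-(stdHerm hF 3).h x Φ₃.b) * h2
      · linear_combination (stdHerm hF 3).h x Φ₃.c * h2
    refine exists_three Φ hd hd₃ hc hF4 Φ₃ h3 h3 ?_ ?_ ?_ hl one_ne_zero (θ := 1) (η := 1)
      (ν := ω + 1) ?_ h0 h1 h2' (by simp) rfl one_ne_zero ?_
    · intro s c
      have hs : s * (s + 1) = 0 := by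
        have := c.2.2
        rw [hconj, (stdHerm hF 3).zero_left] at this
        linear_combination this
      rcases mul_eq_zero.1 hs with rfl | hs1
      · have : root _ Φ₃.a 0 0 c = 1 := unit_ext fun x => by
          rw [root_apply, HermSpace.zero_right]; simp
        rw [this]; exact one_mem _
      · have : root _ Φ₃.a 0 s c = X * X := unit_ext fun x => by
          rw [hXX, root_apply, (stdHerm hF 3).zero_right]
          match_scalars
          · ring
          · linear_combination (stdHerm hF 3).h x Φ₃.a * (hs1 - h2)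
        rw [this]; exact mul_mem hXG hXG
    · refine ⟨(X * X) * (Y * Y) * (X * X),
        mul_mem (mul_mem (mul_mem hXG hXG) (mul_mem hYG hYG)) (mul_mem hXG hXG), ?_, ?_⟩
      · rw [mul_apply, mul_apply, hXX, hYY, hXX]
        simp only [(stdHerm hF 3).add_left, (stdHerm hF 3).smul_left, Φ₃.aa, Φ₃.ab, Φ₃.ba, Φ₃.bb]
        match_scalars <;> first | ring1 | linear_combination h2
      · rw [mul_apply, mul_apply, hXX, hYY, hXX]
        simp only [(stdHerm hF 3).add_left, (stdHerm hF 3).smul_left, Φ₃.aa, Φ₃.ab, Φ₃.ba, Φ₃.bb]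
        match_scalars <;> first | ring1 | linear_combination h2
    · have hd' : (Y * X * Y).1 Φ₃.a = (ω + 1) • Φ₃.a := by
        have hcq : (stdHerm hF 3).conj 1 = 1 := map_one _
        show Y.1 (X.1 (Y.1 Φ₃.a)) = _
        rw [show Φ₃.a = (1 : K) • Φ₃.a + (0 : K) • Φ₃.c + (0 : K) • Φ₃.b by simp, hX, hY,
          Frame.rb_apply, Frame.ra_apply, Frame.rb_apply]
        simp only [map_neg, hcq]
        match_scalars
        · linear_combination hω - ω * h2
        · linear_combination -hω + (ω - 1) * h2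
        · linear_combination (ω + 1) * hω - (ω ^ 2 + ω + 1) * h2 + 2 * ω * h2
      intro t ht
      have ht3 : t ^ 3 = 1 := by
        have := FiniteField.pow_card_sub_one_eq_one t ht
        rwa [hF] at this
      have hmem : t = 1 ∨ t = ω + 1 ∨ t = (ω + 1) * (ω + 1) := by
        have : (t - 1) * (t - (ω + 1)) * (t - (ω + 1) * (ω + 1)) = 0 := by
          linear_combination ht3 + (-(t ^ 2) + (t - ω + 1) * (ω + 1)) * hω
            + ((-t) * (ω + 1) + ω + (-1)) * h2 + (ω ^ 2 - ω + 1) * hω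
            + (2 * t + 3 * t * ω + t * ω ^ 2 - t ^ 2 - t ^ 2 * ω - 3 * ω - 2 * ω ^ 2) * h2
        rcases mul_eq_zero.1 this with h | h
        · rcases mul_eq_zero.1 h with h | h
          · exact Or.inl (sub_eq_zero.1 h)
          · exact Or.inr (Or.inl (sub_eq_zero.1 h))
        · exact Or.inr (Or.inr (sub_eq_zero.1 h))
      have hD : Y * X * Y ∈ G₃ := mul_mem (mul_mem hYG hXG) hYG
      rcases hmem with rfl | rfl | rfl
      · exact ⟨1, one_mem _, by simp⟩
      · exact ⟨_, hD, hd'⟩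
      · exact ⟨_, mul_mem hD hD, by rw [mul_apply, hd', map_smul, hd', smul_smul]⟩
    · rw [map_add, map_one, hωc]; linear_combination hω + (ω + 1) * h2 - h2
    · simp
  · -- `q ≥ 3`
    obtain ⟨Φ₃, z, l, m, h, hm, hz, hle⟩ := SUThree.exists_good hq hF
    have h' : l + H.conj l + z * H.conj z = 0 := h
    have hm' : m + H.conj m + z * H.conj z = 0 := hm
    obtain ⟨t, ht⟩ := H.exists_trace_one
    set D := m - l
    have hDc : H.conj D = -D := by simp only [D, map_sub]; linear_combination hm' - h'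
    have hN : z * H.conj z ≠ 0 := mul_ne_zero hz (H.conj_ne_zero hz)
    have htD : t * D - H.conj (t * D) = D := by
      rw [map_mul, hDc]; linear_combination D * ht
    -- the shift and the norm-one parameter
    obtain ⟨δ, ν, hδD, hδ0, hν, hK⟩ : ∃ δ ν : K, δ - H.conj δ = D ∧ δ ≠ 0 ∧
        ν * H.conj ν = 1 ∧ (z * H.conj z) / (δ * H.conj δ) * (ν + H.conj ν - 2) ^ 2 +
          ((ν + H.conj ν) ^ 2 - 2) ≠ 0 := by
      by_cases h2 : (2 : K) = 0
      · obtain ⟨ν, hν, hν1⟩ := H.exists_norm_one_ne_one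
        have hs : ν + H.conj ν ≠ 0 := fun h0 => hν1 (by
          have : (ν - 1) ^ 2 = 0 := by linear_combination ν * h0 - hν + (1 - ν) * h2 - h2
          exact sub_eq_zero.1 ((pow_eq_zero_iff two_ne_zero).1 this))
        suffices ∃ δ : K, δ - H.conj δ = D ∧ δ ≠ 0 ∧ δ * H.conj δ ≠ z * H.conj z by
          obtain ⟨δ, e1, e2, e3⟩ := this
          refine ⟨δ, ν, e1, e2, hν, fun h0 => e3 ?_⟩
          have hnδ : δ * H.conj δ ≠ 0 := mul_ne_zero e2 (H.conj_ne_zero e2)
          have h4 : (z * H.conj z / (δ * H.conj δ) + 1) * (ν + H.conj ν) ^ 2 = 0 := by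
            linear_combination h0 + ((2 : K) * (z * H.conj z / (δ * H.conj δ)) * (ν + H.conj ν - 1) + 1) * h2
          have h5 := (mul_eq_zero.1 h4).resolve_right (pow_ne_zero 2 hs)
          have h6 : z * H.conj z / (δ * H.conj δ) = 1 := by linear_combination h5 - h2
          exact ((div_eq_one_iff_eq hnδ).1 h6).symm
        -- three fixed elements
        obtain ⟨x₁, x₂, hx1, hx2, hn1, hn2, hn12⟩ : ∃ x₁ x₂ : K, H.conj x₁ = x₁ ∧ H.conj x₂ = x₂ ∧
            x₁ ≠ 0 ∧ x₂ ≠ 0 ∧ x₁ ≠ x₂ := by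
          obtain ⟨w, hw⟩ := IsCyclic.exists_generator (α := Kˣ)
          have how : orderOf w = q ^ 2 - 1 := by
            rw [orderOf_eq_card_of_forall_mem_zpowers hw, Nat.card_units, Nat.card_eq_fintype_card, hF]
          refine ⟨1, (w : K) * H.conj (w : K), map_one _, by rw [map_mul, H.conj_conj, mul_comm],
            one_ne_zero, mul_ne_zero w.ne_zero (H.conj_ne_zero w.ne_zero), fun h1 => ?_⟩
          rw [stdHerm_conj, ← pow_succ', ← Units.val_pow_eq_pow_val, eq_comm, Units.val_eq_one,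
            ← orderOf_dvd_iff_pow_eq_one, how] at h1
          have := Nat.le_of_dvd (by omega) h1
          have : 3 * q ≤ q * q := Nat.mul_le_mul_right q hq
          have : q ^ 2 = q * q := pow_two q
          omega
        by_cases hD : D = 0
        · rcases eq_or_ne (x₁ * x₁) (z * H.conj z) with e | e
          · refine ⟨x₂, by rw [hx2, hD, sub_self], hn2, fun e' => hn12 ?_⟩
            rw [hx2, ← e] at e'
            have : (x₁ - x₂) ^ 2 = 0 := by linear_combination e' + (x₁ * x₁ - x₁ * x₂) * h2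
            exact sub_eq_zero.1 ((pow_eq_zero_iff two_ne_zero).1 this)
          · exact ⟨x₁, by rw [hx1, hD, sub_self], hn1, by rwa [hx1]⟩
        · have hnz : ∀ x, H.conj x = x → t * D + x ≠ 0 := fun x hx h0 => hD (by
            have h1 := congrArg H.conj h0
            rw [map_add, hx, map_zero] at h1
            linear_combination h0 - h1 - htD)
          by_cases e : t * D * H.conj (t * D) = z * H.conj z
          · obtain ⟨x, hx, hx0, hxT⟩ : ∃ x, H.conj x = x ∧ x ≠ 0 ∧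
                x ≠ -(t * D + H.conj (t * D)) := by
              rcases eq_or_ne x₁ (-(t * D + H.conj (t * D))) with e1 | e1
              · exact ⟨x₂, hx2, hn2, fun e2 => hn12 (e1.trans e2.symm)⟩
              · exact ⟨x₁, hx1, hn1, e1⟩
            refine ⟨t * D + x, by rw [map_add, hx]; linear_combination htD, hnz x hx, fun e' => ?_⟩
            rw [map_add, hx] at e'
            have : x * (t * D + H.conj (t * D) + x) = 0 := by linear_combination e' - e
            exact hxT (by linear_combination (mul_eq_zero.1 this).resolve_left hx0)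
          · exact ⟨t * D, htD, by simpa using hnz 0 (map_zero _), e⟩
      · by_cases hD : D = 0
        · exact ⟨1, 1, by rw [map_one, hD, sub_self], one_ne_zero, by simp, by
            rw [map_one]; norm_num; exact h2⟩
        · exact ⟨t * D, 1, htD, fun h0 => hD (by rw [h0] at htD; simpa using htD.symm), by simp, by
            rw [map_one]; norm_num; exact h2⟩
    set η := (z * H.conj z) / (δ * H.conj δ) with hη
    set M := η * (ν + H.conj ν - 2) ^ 2 + ((ν + H.conj ν) ^ 2 - 2) with hM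
    have hηc : H.conj η = η := by
      rw [hη, map_div₀, map_mul, map_mul, H.conj_conj, H.conj_conj]; ring
    have hMc : H.conj M = M := by
      simp only [hM, map_add, map_sub, map_mul, map_pow, map_ofNat, H.conj_conj, hηc]; ring
    obtain ⟨z₀, hz₀⟩ := H.norm_surj M hMc
    have hz₀' : z₀ ≠ 0 := fun h0 => hK (by rw [← hz₀, h0, zero_mul])
    set l₀ := l * (z₀ * H.conj z₀) / (z * H.conj z) with hl₀
    have hlz : l₀ * (z * H.conj z) = l * (z₀ * H.conj z₀) := div_mul_cancel₀ _ hN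
    have hl : l₀ + H.conj l₀ + z₀ * H.conj z₀ = 0 := by
      refine (mul_eq_zero.1 (show (l₀ + H.conj l₀ + z₀ * H.conj z₀) * (z * H.conj z) = 0 from ?_)).resolve_right hN
      have h1 := congrArg H.conj hlz
      simp only [map_mul, H.conj_conj] at h1
      linear_combination hlz + h1 + (z₀ * H.conj z₀) * h'
    refine ⟨z₀, l₀, hl, hz₀', ?_⟩
    obtain ⟨y, h0, h1, h2⟩ := exists_moments Φ hl hz₀' (ν := ν) hηc (by
      rw [hz₀, hM]
      simp only [map_add, map_sub, map_mul, map_pow, map_ofNat, map_one, H.conj_conj, hηc]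
      linear_combination (2 * η + 2) * hν)
    have hcen : ∀ x ∈ rootGen (stdHerm hF 3),
        x ∈ Subgroup.closure {Φ₃.ra z l h, Φ₃.rb (-z) m (Frame.cond_neg hm)} := hle
    refine exists_three Φ hd hd₃ hc hF4 Φ₃ h hm (fun s c => hcen _ (root_mem c)) ?_ ?_ hl hz₀'
      (θ := δ / z) hν h0 h1 h2 ?_ hlz hz ?_
    · obtain ⟨σ, hσ, ha, hb, -⟩ := Φ₃.exists_swap hd₃
      exact ⟨σ, hcen σ hσ, ha, hb⟩
    · intro u hu
      obtain ⟨d, hd', hda, -⟩ := rootGen_map_hpair (big_of_finrank (by omega))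
        (⟨Φ₃.aa, Φ₃.bb, Φ₃.ba⟩ : IsHPair (stdHerm hF 3) Φ₃.a Φ₃.b)
        (u' := u • Φ₃.a) (z' := ((stdHerm hF 3).conj u)⁻¹ • Φ₃.b)
        ⟨by rw [HermSpace.smul_right, (stdHerm hF 3).smul_left, Φ₃.aa]; ring,
          by rw [HermSpace.smul_right, (stdHerm hF 3).smul_left, Φ₃.bb]; ring, by
          rw [HermSpace.smul_right, (stdHerm hF 3).smul_left, Φ₃.ba, mul_one,
            mul_inv_cancel₀ ((stdHerm hF 3).conj_ne_zero hu)]⟩
      exact ⟨d, hcen d hd', hda⟩
    · rw [map_div₀, hη]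
      field_simp [hδ0, H.conj_ne_zero hδ0, hz, H.conj_ne_zero hz]
    · rw [div_mul_cancel₀ _ hz]; linear_combination -hδD

end Std

end CfsgLib.Linear.SURegular
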