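/-
A Witt basis of a unitary space of either parity, transvection lines, exchanges and the cyclic
monomial element used to generate `SU_n(q)` by two elements.
-/
import Cfsg.Agent.Lib.Linear.SUEmbed

set_option autoImplicit false
set_option linter.unusedSectionVars false
set_option linter.unusedSimpArgs false

namespace CfsgLib.Linear.SUTwo

open CfsgLib.Classical.Herm Module

variable {F V : Type*} [Field F] [AddCommGroup V] [Module F V] {H : HermSpace F V} {k : ℕ}

/-- `k + 2` orthogonal hyperbolic pairs and a vector `e` orthogonal to them, spanning the space. -/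
structure WB (H : HermSpace F V) (k : ℕ) where
  a : Fin (k + 2) → V
  b : Fin (k + 2) → V
  e : V
  aa : ∀ i j, H.h (a i) (a j) = 0
  bb : ∀ i j, H.h (b i) (b j) = 0
  ab : ∀ i j, H.h (a i) (b j) = if i = j then 1 else 0
  ea : ∀ i, H.h e (a i) = 0
  eb : ∀ i, H.h e (b i) = 0
  span : ∀ S : Submodule F V, (∀ i, a i ∈ S) → (∀ i, b i ∈ S) → e ∈ S → S = ⊤

namespace WB

variable (Φ : WB H k)

theorem ab_same (i : Fin (k + 2)) : H.h (Φ.a i) (Φ.b i) = 1 := by rw [Φ.ab, if_pos rfl]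
theorem ba_same (i : Fin (k + 2)) : H.h (Φ.b i) (Φ.a i) = 1 :=
  HermSpace.h_comm_one H (Φ.ab_same i)
theorem ab_ne {i j : Fin (k + 2)} (h : i ≠ j) : H.h (Φ.a i) (Φ.b j) = 0 := by rw [Φ.ab, if_neg h]
theorem ba_ne {i j : Fin (k + 2)} (h : i ≠ j) : H.h (Φ.b i) (Φ.a j) = 0 :=
  HermSpace.h_comm_zero H (Φ.ab_ne h.symm)
theorem ae (i : Fin (k + 2)) : H.h (Φ.a i) Φ.e = 0 := HermSpace.h_comm_zero H (Φ.ea i)
theorem be (i : Fin (k + 2)) : H.h (Φ.b i) Φ.e = 0 := HermSpace.h_comm_zero H (Φ.eb i)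

theorem pair (i : Fin (k + 2)) : IsHPair H (Φ.a i) (Φ.b i) := ⟨Φ.aa i i, Φ.bb i i, Φ.ba_same i⟩

theorem ext' {g g' : Unit' H} (ha : ∀ i, g.1 (Φ.a i) = g'.1 (Φ.a i))
    (hb : ∀ i, g.1 (Φ.b i) = g'.1 (Φ.b i)) (he : g.1 Φ.e = g'.1 Φ.e) : g = g' := by
  refine unit_ext fun x => ?_
  have h := Φ.span (LinearMap.eqLocus (g.1 : V →ₗ[F] V) (g'.1 : V →ₗ[F] V)) ha hb he
  exact (show x ∈ LinearMap.eqLocus (g.1 : V →ₗ[F] V) (g'.1 : V →ₗ[F] V) from
    h ▸ Submodule.mem_top)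

end WB

/-! ### Transvection lines -/

/-- `G` contains every transvection along the isotropic vector `v`. -/
def Full (G : Subgroup (Unit' H)) (v : V) : Prop :=
  ∀ (s : F) (c : RootCond H v 0 s), root H v 0 s c ∈ G

theorem cond_central {v : V} {s : F} (hv : H.h v v = 0) (hs : H.conj s = -s) : RootCond H v 0 s :=
  ⟨hv, H.zero_left v, by rw [hs, H.zero_left]; ring⟩

theorem skew_of_cond {v : V} {s : F} (c : RootCond H v 0 s) : H.conj s = -s := by
  have := c.2.2
  rw [H.zero_left] at this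
  linear_combination this

theorem central_apply {v : V} {s : F} (c : RootCond H v 0 s) (x : V) :
    (root H v 0 s c).1 x = x + (s * H.h x v) • v := by
  rw [root_apply, H.zero_right]; module

variable {G : Subgroup (Unit' H)} {v : V}

theorem Full.smul (hv : Full G v) {r : F} (hr : r ≠ 0) : Full G (r • v) := by
  intro s c
  have hvv : H.h v v = 0 := by
    have := c.1
    rw [H.smul_left, H.smul_right] at this
    exact (mul_eq_zero.1 ((mul_eq_zero.1 this).resolve_left hr)).resolve_left (H.conj_ne_zero hr)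
  have hs := skew_of_cond c
  rw [root_smul r hr, root_congr _ (cond_central hvv (s := r * H.conj r * s) (by
    rw [map_mul, map_mul, H.conj_conj, hs]; ring)) rfl (smul_zero _) rfl]
  exact hv _ _

theorem Full.of_smul {r : F} (hr : r ≠ 0) (hv : Full G (r • v)) : Full G v := by
  have := hv.smul (inv_ne_zero hr)
  rwa [inv_smul_smul₀ hr] at this

theorem Full.image (hv : Full G v) {g : Unit' H} (hg : g ∈ G) : Full G (g.1 v) := by
  intro s c
  have hvv : H.h v v = 0 := by rw [← unit_h g]; exact c.1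
  have h := mul_mem (mul_mem hg (hv s (cond_central hvv (skew_of_cond c)))) (inv_mem hg)
  rwa [root_conj, root_congr _ c rfl (map_zero _) rfl] at h

/-! ### Exchanges in a hyperbolic pair -/

variable {a b : V}

theorem inv_skew {s : F} (hs : H.conj s = -s) : H.conj (-s⁻¹) = -(-s⁻¹) := by
  rw [map_neg, map_inv₀, hs, inv_neg]

/-- The exchange `a ↦ -s⁻¹ b`, `b ↦ s a` of a hyperbolic pair. -/
def sw (p : IsHPair H a b) {s : F} (hs : H.conj s = -s) : Unit' H :=
  root H a 0 s (cond_central p.1 hs) * root H b 0 (-s⁻¹) (cond_central p.2.1 (inv_skew hs)) *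
    root H a 0 s (cond_central p.1 hs)

theorem sw_apply (p : IsHPair H a b) {s : F} (hs : H.conj s = -s) (hs0 : s ≠ 0) :
    (sw p hs).1 a = -s⁻¹ • b ∧ (sw p hs).1 b = s • a ∧
      ∀ x, H.h x a = 0 → H.h x b = 0 → (sw p hs).1 x = x := by
  have hab : H.h a b = 1 := H.h_comm_one p.2.2
  refine ⟨?_, ?_, fun x hxa hxb => ?_⟩
  · simp only [sw, mul_apply, central_apply, p.1, p.2.1, p.2.2, hab, H.add_left, H.smul_left,
      mul_zero, zero_smul, add_zero]
    match_scalars <;> field_simp <;> ring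
  · simp only [sw, mul_apply, central_apply, p.1, p.2.1, p.2.2, hab, H.add_left, H.smul_left,
      mul_zero, zero_smul, add_zero, mul_one]
    match_scalars <;> field_simp <;> ring
  · simp [sw, central_apply, hxa, hxb]

theorem sw_mem_rootGen (p : IsHPair H a b) {s : F} (hs : H.conj s = -s) : sw p hs ∈ rootGen H :=
  mul_mem (mul_mem (root_mem _) (root_mem _)) (root_mem _)

theorem sw_mem (p : IsHPair H a b) {s : F} (hs : H.conj s = -s) (ha : Full G a) (hb : Full G b) :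
    sw p hs ∈ G :=
  mul_mem (mul_mem (ha _ _) (hb _ _)) (ha _ _)

/-- The dilation `a ↦ λ a`, `b ↦ λ⁻¹ b` by a fixed scalar. -/
theorem exists_dil (p : IsHPair H a b) {l : F} (hl : H.conj l = l) (hl0 : l ≠ 0) {s : F}
    (hs : H.conj s = -s) (hs0 : s ≠ 0) :
    ∃ d, d ∈ rootGen H ∧ (∀ G : Subgroup (Unit' H), Full G a → Full G b → d ∈ G) ∧ d.1 a = l • a ∧
      d.1 b = l⁻¹ • b ∧ ∀ x, H.h x a = 0 → H.h x b = 0 → d.1 x = x := by
  have hs' : H.conj (-(l * s)) = -(-(l * s)) := by rw [map_neg, map_mul, hl, hs]; ring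
  have h0' : -(l * s) ≠ 0 := neg_ne_zero.2 (mul_ne_zero hl0 hs0)
  obtain ⟨a1, b1, f1⟩ := sw_apply p hs hs0
  obtain ⟨a2, b2, f2⟩ := sw_apply p hs' h0'
  refine ⟨sw p hs' * sw p hs, mul_mem (sw_mem_rootGen _ _) (sw_mem_rootGen _ _),
    fun G ha hb => mul_mem (sw_mem _ _ ha hb) (sw_mem _ _ ha hb), ?_, ?_, fun x hxa hxb => ?_⟩
  · rw [mul_apply, a1, map_smul, b2, smul_smul]
    congr 1; field_simp
  · rw [mul_apply, b1, map_smul, a2, smul_smul]
    congr 1; field_simp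
  · rw [mul_apply, f1 x hxa hxb, f2 x hxa hxb]

/-! ### The cyclic monomial element -/

namespace WB

variable (Φ : WB H k)

theorem lx_cond (i j : Fin (k + 2)) (hij : i ≠ j) (r : F) :
    RootCond H (Φ.a i) (r • Φ.b j) 0 :=
  ⟨Φ.aa i i, by rw [H.smul_left, Φ.ba_ne hij.symm, mul_zero],
    by simp [H.smul_left, H.smul_right, Φ.bb]⟩

/-- A simple root element of the Levi subgroup. -/
def lx (i j : Fin (k + 2)) (hij : i ≠ j) (r : F) : Unit' H :=
  root H (Φ.a i) (r • Φ.b j) 0 (Φ.lx_cond i j hij r)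

theorem lx_apply (i j : Fin (k + 2)) (hij : i ≠ j) (r : F) (x : V) :
    (Φ.lx i j hij r).1 x =
      x + (r * H.h x (Φ.a i)) • Φ.b j - (H.conj r * H.h x (Φ.b j)) • Φ.a i := by
  rw [lx, root_apply, H.smul_right]; module

/-- An exchange of two planes. -/
def tau (i j : Fin (k + 2)) (hij : i ≠ j) : Unit' H :=
  Φ.lx i j hij (-1) * Φ.lx j i hij.symm 1 * Φ.lx i j hij (-1)

theorem tau_apply (i j : Fin (k + 2)) (hij : i ≠ j) :
    (Φ.tau i j hij).1 (Φ.a i) = -Φ.a j ∧ (Φ.tau i j hij).1 (Φ.a j) = Φ.a i ∧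
    (Φ.tau i j hij).1 (Φ.b i) = -Φ.b j ∧ (Φ.tau i j hij).1 (Φ.b j) = Φ.b i ∧
    ∀ x, H.h x (Φ.a i) = 0 → H.h x (Φ.a j) = 0 → H.h x (Φ.b i) = 0 → H.h x (Φ.b j) = 0 →
      (Φ.tau i j hij).1 x = x := by
  refine ⟨?_, ?_, ?_, ?_, fun x h1 h2 h3 h4 => ?_⟩
  all_goals simp only [tau, mul_apply, lx_apply, H.add_left, H.sub_left, H.smul_left, Φ.aa, Φ.bb,
    Φ.ab_same, Φ.ba_same, Φ.ab_ne hij, Φ.ab_ne hij.symm, Φ.ba_ne hij, Φ.ba_ne hij.symm, map_neg,
    map_one]
  · module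
  · module
  · module
  · module
  · simp [h1, h2, h3, h4]

/-- `τ₀ τ₁ ⋯ τ_{i-1}`. -/
def cyc : ℕ → Unit' H
  | 0 => 1
  | i + 1 => if h : i < k + 1 then
      cyc i * Φ.tau ⟨i, by omega⟩ ⟨i + 1, by omega⟩ (by simp [Fin.ext_iff]) else cyc i

theorem cyc_succ {i : ℕ} (hi : i < k + 1) : Φ.cyc (i + 1) =
    Φ.cyc i * Φ.tau ⟨i, by omega⟩ ⟨i + 1, by omega⟩ (by simp [Fin.ext_iff]) := dif_pos hi

theorem cyc_fix : ∀ i, i ≤ k + 1 → ∀ x, (∀ j : Fin (k + 2), (j : ℕ) ≤ i →
    H.h x (Φ.a j) = 0 ∧ H.h x (Φ.b j) = 0) → (Φ.cyc i).1 x = x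
  | 0, _, _, _ => rfl
  | i + 1, hi, x, hx => by
    rw [Φ.cyc_succ (by omega), mul_apply,
      (Φ.tau_apply _ _ _).2.2.2.2 x (hx ⟨i, by omega⟩ (by simp)).1 (hx ⟨i + 1, by omega⟩ (by simp)).1
        (hx ⟨i, by omega⟩ (by simp)).2 (hx ⟨i + 1, by omega⟩ (by simp)).2,
      cyc_fix i (by omega) x fun j hj => hx j (by omega)]

theorem cyc_apply : ∀ i (hi : i ≤ k + 1),
    (∀ j (hj : j < i), (Φ.cyc i).1 (Φ.a ⟨j, by omega⟩) = -Φ.a ⟨j + 1, by omega⟩ ∧
      (Φ.cyc i).1 (Φ.b ⟨j, by omega⟩) = -Φ.b ⟨j + 1, by omega⟩) ∧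
    (Φ.cyc i).1 (Φ.a ⟨i, by omega⟩) = Φ.a 0 ∧ (Φ.cyc i).1 (Φ.b ⟨i, by omega⟩) = Φ.b 0
  | 0, _ => ⟨fun j hj => absurd hj (by omega), rfl, rfl⟩
  | i + 1, hi => by
    obtain ⟨h1, h2, h3⟩ := cyc_apply i (by omega)
    obtain ⟨t1, t2, t3, t4, t5⟩ := Φ.tau_apply (⟨i, by omega⟩ : Fin (k + 2)) ⟨i + 1, by omega⟩
      (by simp [Fin.ext_iff])
    have hfix : ∀ j : Fin (k + 2), i < (j : ℕ) →
        (Φ.cyc i).1 (Φ.a j) = Φ.a j ∧ (Φ.cyc i).1 (Φ.b j) = Φ.b j := by
      intro j hj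
      have hne : ∀ j' : Fin (k + 2), (j' : ℕ) ≤ i → j ≠ j' := fun j' hj' e => by
        rw [e] at hj; omega
      constructor
      · exact Φ.cyc_fix i (by omega) _ fun j' hj' => ⟨Φ.aa _ _, Φ.ab_ne (hne j' hj')⟩
      · exact Φ.cyc_fix i (by omega) _ fun j' hj' => ⟨Φ.ba_ne (hne j' hj'), Φ.bb _ _⟩
    refine ⟨fun j hj => ?_, ?_, ?_⟩
    · rw [Φ.cyc_succ (by omega), mul_apply, mul_apply]
      rcases Nat.lt_or_ge j i with hlt | hge
      · have n1 : (⟨j, by omega⟩ : Fin (k + 2)) ≠ ⟨i, by omega⟩ := by simp [Fin.ext_iff]; omega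
        have n2 : (⟨j, by omega⟩ : Fin (k + 2)) ≠ ⟨i + 1, by omega⟩ := by simp [Fin.ext_iff]; omega
        rw [t5 _ (Φ.aa _ _) (Φ.aa _ _) (Φ.ab_ne n1) (Φ.ab_ne n2),
          t5 _ (Φ.ba_ne n1) (Φ.ba_ne n2) (Φ.bb _ _) (Φ.bb _ _)]
        exact h1 j hlt
      · obtain rfl : j = i := by omega
        rw [t1, t3, map_neg, map_neg, (hfix _ (by simp)).1, (hfix _ (by simp)).2]
        exact ⟨rfl, rfl⟩
    · rw [Φ.cyc_succ (by omega), mul_apply, t2, h2]
    · rw [Φ.cyc_succ (by omega), mul_apply, t4, h3]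

theorem cyc_mem_rootGen : ∀ i, Φ.cyc i ∈ rootGen H
  | 0 => one_mem _
  | i + 1 => by
    unfold cyc
    split
    · exact mul_mem (cyc_mem_rootGen i) (mul_mem (mul_mem (root_mem _) (root_mem _)) (root_mem _))
    · exact cyc_mem_rootGen i

end WB

/-! ### Existence in the standard space -/

theorem exists_wb {F : Type*} [Field F] [Fintype F] {q : ℕ} (hF : Fintype.card F = q ^ 2)
    {n : ℕ} (hn : n = 2 * (k + 2) ∨ n = 2 * (k + 2) + 1) :
    ∃ Φ : WB (stdHerm hF n) k,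
      (n = 2 * (k + 2) → Φ.e = 0) ∧
        (n = 2 * (k + 2) + 1 → (stdHerm hF n).h Φ.e Φ.e = -1) := by
  classical
  set H := stdHerm hF n
  obtain ⟨ξ, hξ⟩ := H.norm_surj (-1) (by rw [map_neg, map_one])
  obtain ⟨ν, hν, hν1⟩ := H.exists_norm_one_ne_one
  set ξ' := ξ * ν with hξ'def
  have hξ' : ξ' * H.conj ξ' = -1 := by
    simp only [ξ', map_mul]; linear_combination ν * H.conj ν * hξ - hν
  have hne : 1 + ξ' * H.conj ξ ≠ 0 := fun h0 => hν1 (by
    simp only [ξ'] at h0; linear_combination ν * hξ - h0)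
  have hc : 1 + ξ * H.conj ξ' ≠ 0 := by
    have h1 := H.conj_ne_zero hne
    rwa [map_add, map_one, map_mul, H.conj_conj, mul_comm] at h1
  let E : Fin n → (Fin n → F) := fun i => Pi.single i 1
  have hE : ∀ i j, H.h (E i) (E j) = if i = j then 1 else 0 := by
    intro i j
    have hq : q ≠ 0 := by have := two_le_of_card hF; omega
    simp only [H, stdHerm_h, Cfsg.hermForm, E]
    rw [Finset.sum_eq_single i (fun x _ hx => by simp [hx]) (by simp)]
    rcases eq_or_ne i j with rfl | hij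
    · simp
    · simp [hij, zero_pow hq]
  let o : Fin (k + 2) → Fin n := fun i => ⟨2 * i, by omega⟩
  let o' : Fin (k + 2) → Fin n := fun i => ⟨2 * i + 1, by omega⟩
  have o1 : ∀ i j, o i = o j ↔ i = j := fun i j => by simp [o, Fin.ext_iff]
  have o2 : ∀ i j, o' i = o' j ↔ i = j := fun i j => by simp [o', Fin.ext_iff]
  have o3 : ∀ i j, o i ≠ o' j := fun i j => by simp [o, o', Fin.ext_iff]; omega
  let e : Fin n → F := if h : 2 * (k + 2) < n then ξ • E ⟨2 * (k + 2), h⟩ else 0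
  have hex : ∀ i : Fin (k + 2), H.h e (E (o i)) = 0 ∧ H.h e (E (o' i)) = 0 := by
    intro i
    simp only [e]
    split_ifs with h
    · rw [H.smul_left, H.smul_left, hE, hE, if_neg (by simp [o, Fin.ext_iff]; omega),
        if_neg (by simp [o', Fin.ext_iff]; omega)]
      simp
    · exact ⟨H.zero_left _, H.zero_left _⟩
  refine ⟨{
    a := fun i => E (o i) + ξ • E (o' i)
    b := fun i => (1 + ξ' * H.conj ξ)⁻¹ • (E (o i) + ξ' • E (o' i))
    e := e
    aa := ?_, bb := ?_, ab := ?_, ea := ?_, eb := ?_, span := ?_ }, ?_, ?_⟩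
  · intro i j
    simp only [H.add_left, H.add_right, H.smul_left, H.smul_right, hE, o1, o2, (o3 i j),
      (o3 j i).symm, if_false, mul_zero, add_zero, zero_add, mul_one]
    split_ifs <;> simp [hξ]
  · intro i j
    simp only [H.add_left, H.add_right, H.smul_left, H.smul_right, hE, o1, o2, (o3 i j),
      (o3 j i).symm, if_false, mul_zero, add_zero, zero_add, mul_one]
    split_ifs <;> simp [hξ'] <;>
      exact Or.inr (by linear_combination (1 + H.conj ξ' * H.conj (H.conj ξ))⁻¹ * hξ')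
  · intro i j
    simp only [H.add_left, H.add_right, H.smul_left, H.smul_right, hE, o1, o2, (o3 i j),
      (o3 j i).symm, if_false, mul_zero, add_zero, zero_add, mul_one]
    rcases eq_or_ne i j with rfl | hij
    · simp only [if_true, map_inv₀, map_add, map_one, map_mul, H.conj_conj, mul_one]
      linear_combination mul_inv_cancel₀ hc
    · simp [hij]
  · intro i
    rw [H.add_right, H.smul_right, (hex i).1, (hex i).2]; simp
  · intro i
    rw [H.smul_right, H.add_right, H.smul_right, (hex i).1, (hex i).2]; simp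
  · intro S ha hb he
    have hd : ξ' - ξ ≠ 0 := fun h0 => hν1 (by
      rw [hξ'def] at h0
      have : ξ ≠ 0 := fun hz => by rw [hz, zero_mul] at hξ; exact one_ne_zero (α := F) (by linear_combination hξ)
      have : ξ * (ν - 1) = 0 := by linear_combination h0
      exact sub_eq_zero.1 ((mul_eq_zero.1 this).resolve_left ‹ξ ≠ 0›))
    have hsum : ∀ i, E (o i) ∈ S ∧ E (o' i) ∈ S := by
      intro i
      have h1 : E (o i) + ξ' • E (o' i) ∈ S := by
        have := S.smul_mem (1 + ξ' * H.conj ξ) (hb i)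
        rwa [smul_inv_smul₀ hne] at this
      have h2 : E (o' i) ∈ S := by
        have := S.smul_mem (ξ' - ξ)⁻¹ (S.sub_mem h1 (ha i))
        rwa [add_sub_add_left_eq_sub, ← sub_smul, inv_smul_smul₀ hd] at this
      refine ⟨?_, h2⟩
      have := S.sub_mem (ha i) (S.smul_mem ξ h2)
      rwa [add_sub_cancel_right] at this
    rw [eq_top_iff]
    intro x _
    rw [← Finset.univ_sum_single x]
    refine S.sum_mem fun i _ => ?_
    rw [← mul_one (x i), ← smul_eq_mul, Pi.single_smul]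
    refine S.smul_mem _ ?_
    by_cases hi : (i : ℕ) < 2 * (k + 2)
    · rcases Nat.even_or_odd' (i : ℕ) with ⟨j, hj | hj⟩
      · have := (hsum ⟨j, by omega⟩).1
        rwa [show o ⟨j, _⟩ = i from Fin.ext hj.symm] at this
      · have := (hsum ⟨j, by omega⟩).2
        rwa [show o' ⟨j, _⟩ = i from Fin.ext hj.symm] at this
    · have hlt : 2 * (k + 2) < n := by have := i.isLt; omega
      have h0 : ξ ≠ 0 := fun hz => by
        rw [hz, zero_mul] at hξ; exact one_ne_zero (α := F) (by linear_combination hξ)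
      have := S.smul_mem ξ⁻¹ he
      simp only [e, dif_pos hlt, inv_smul_smul₀ h0] at this
      rwa [show (⟨2 * (k + 2), hlt⟩ : Fin n) = i from Fin.ext (by simp; omega)] at this
  · intro h
    simp only [e, dif_neg (show ¬ 2 * (k + 2) < n by omega)]
  · intro h
    simp only [e, dif_pos (show 2 * (k + 2) < n by omega), H.smul_left, H.smul_right, hE, if_pos rfl]
    simpa using hξ

end CfsgLib.Linear.SUTwo
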