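/-
`SU_n(q)`, `n ≥ 4`, is generated by two elements: a transvection times a commuting dilation, and a
root element times a monomial cycle.
-/
import Cfsg.Agent.Lib.Linear.SUTwoBasis

set_option autoImplicit false
set_option linter.unusedSectionVars false
set_option linter.unusedSimpArgs false

namespace CfsgLib.Linear.SUTwo

open CfsgLib.Classical.Herm Module

variable {F V : Type*} [Field F] [AddCommGroup V] [Module F V] {H : HermSpace F V} {k : ℕ}
  {G : Subgroup (Unit' H)}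

/-! ### Directions at one centre -/

/-- `G` contains the root elements at `A` in direction `x`. -/
def InK (G : Subgroup (Unit' H)) (A x : V) : Prop :=
  H.h x A = 0 ∧ ∀ (l : F) (c : RootCond H A x l), root H A x l c ∈ G

section Dirs

variable {A B : V}

theorem InK.of_root (hA : Full G A) {x : V} {l : F} (c : RootCond H A x l)
    (hx : root H A x l c ∈ G) : InK G A x := by
  refine ⟨c.2.1, fun l' c' => ?_⟩
  have c0 : RootCond H A 0 (l' - l) := ⟨c.1, H.zero_left A, by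
    rw [map_sub, H.zero_left]; linear_combination c'.2.2 - c.2.2⟩
  have h1 := mul_mem hx (hA _ c0)
  rw [root_mul] at h1
  rwa [root_congr _ c' rfl (add_zero x) (by rw [H.zero_left]; ring)] at h1

theorem exists_cond (hAA : H.h A A = 0) {x : V} (hx : H.h x A = 0) : ∃ l, RootCond H A x l := by
  obtain ⟨l, hl⟩ := H.exists_trace (c := -H.h x x) (by rw [map_neg, H.conj_diag])
  exact ⟨l, hAA, hx, by linear_combination hl⟩

theorem InK.add (hA : Full G A) (hAA : H.h A A = 0) {x y : V} (hx : InK G A x) (hy : InK G A y) :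
    InK G A (x + y) := by
  obtain ⟨l, c⟩ := exists_cond hAA hx.1
  obtain ⟨m, c'⟩ := exists_cond hAA hy.1
  have h1 := mul_mem (hx.2 l c) (hy.2 m c')
  rw [root_mul] at h1
  exact InK.of_root hA _ h1

theorem InK.neg (hA : Full G A) (hAA : H.h A A = 0) {x : V} (hx : InK G A x) : InK G A (-x) := by
  obtain ⟨l, c⟩ := exists_cond hAA hx.1
  have h1 := inv_mem (hx.2 l c)
  rw [root_inv] at h1
  exact InK.of_root hA _ h1

theorem InK.sub (hA : Full G A) (hAA : H.h A A = 0) {x y : V} (hx : InK G A x) (hy : InK G A y) :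
    InK G A (x - y) := by rw [sub_eq_add_neg]; exact hx.add hA hAA (hy.neg hA hAA)

theorem InK.zero (hA : Full G A) : InK G A (0 : V) := ⟨H.zero_left A, fun l c => hA l c⟩

theorem isotropic_add_smul (hAA : H.h A A = 0) (hBB : H.h B B = 0) (hBA : H.h B A = 0) (μ : F) :
    H.h (B + μ • A) (B + μ • A) = 0 := by
  simp [H.add_left, H.add_right, H.smul_left, H.smul_right, hAA, hBB, hBA, H.h_comm_zero hBA]

theorem line_cond (hAA : H.h A A = 0) (hBB : H.h B B = 0) (hBA : H.h B A = 0) (μ : F) {s : F}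
    (hs : H.conj s = -s) : RootCond H A ((s * H.conj μ) • B) (s * (μ * H.conj μ)) :=
  ⟨hAA, by rw [H.smul_left, hBA, mul_zero], by
    rw [H.smul_left, H.smul_right, hBB]
    simp only [map_mul, H.conj_conj, hs]; ring⟩

theorem line_eq (hAA : H.h A A = 0) (hBB : H.h B B = 0) (hBA : H.h B A = 0) (μ : F) {s : F}
    (hs : H.conj s = -s) :
    root H (B + μ • A) 0 s (cond_central (isotropic_add_smul hAA hBB hBA μ) hs) =
      root H A _ _ (line_cond hAA hBB hBA μ hs) * root H B 0 s (cond_central hBB hs) := by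
  refine unit_ext fun y => ?_
  simp only [mul_apply, central_apply, root_apply, H.add_left, H.add_right, H.smul_left,
    H.smul_right, H.zero_left, H.zero_right, hBB, hBA, map_mul, H.conj_conj, hs]
  module

theorem inK_line (hA : Full G A) (hAA : H.h A A = 0) (hB : Full G B) (hBB : H.h B B = 0)
    (hBA : H.h B A = 0) {μ : F} (h : Full G (B + μ • A)) {s : F} (hs : H.conj s = -s) :
    InK G A ((s * H.conj μ) • B) := by
  refine InK.of_root hA (line_cond hAA hBB hBA μ hs) ?_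
  have h1 := h s (cond_central (isotropic_add_smul hAA hBB hBA μ) hs)
  rw [line_eq hAA hBB hBA μ hs] at h1
  exact (Subgroup.mul_mem_cancel_right _ (hB s _)).1 h1

theorem full_of_line (hAA : H.h A A = 0) (hBB : H.h B B = 0) (hBA : H.h B A = 0) {μ : F}
    (h : Full G (B + μ • A))
    (hK : ∀ s, H.conj s = -s → InK G A ((s * H.conj μ) • B)) : Full G B := by
  intro s c
  have hs := skew_of_cond c
  have h1 := h s (cond_central (isotropic_add_smul hAA hBB hBA μ) hs)
  rw [line_eq hAA hBB hBA μ hs] at h1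
  exact (Subgroup.mul_mem_cancel_left _ ((hK s hs).2 _ _)).1 h1

theorem inK_two (hA : Full G A) (hAA : H.h A A = 0) (hBB : H.h B B = 0) (hBA : H.h B A = 0)
    {μ μ' : F} (h : Full G (B + μ • A)) (h' : Full G (B + μ' • A)) {s : F} (hs : H.conj s = -s) :
    InK G A ((s * (H.conj μ - H.conj μ')) • B) := by
  have h1 := mul_mem (h s (cond_central (isotropic_add_smul hAA hBB hBA μ) hs))
    (inv_mem (h' s (cond_central (isotropic_add_smul hAA hBB hBA μ') hs)))
  rw [line_eq hAA hBB hBA μ hs, line_eq hAA hBB hBA μ' hs, mul_inv_rev, mul_assoc,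
    mul_inv_cancel_left, root_inv, root_mul] at h1
  have h2 := InK.of_root hA _ h1
  rwa [← sub_eq_add_neg, ← sub_smul, ← mul_sub] at h2

/-- Two transvection centres on a line through `A` give the third. -/
theorem full_of_two (hA : Full G A) (hAA : H.h A A = 0) (hBB : H.h B B = 0) (hBA : H.h B A = 0)
    {μ r : F} (hr : H.conj r = r) (hr1 : r ≠ 1) (h : Full G (B + μ • A))
    (h' : Full G (B + (r * μ) • A)) : Full G B := by
  refine full_of_line hAA hBB hBA h fun s hs => ?_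
  have h1 : (1 : F) - r ≠ 0 := sub_ne_zero.2 (Ne.symm hr1)
  have hs' : H.conj (s / (1 - r)) = -(s / (1 - r)) := by
    rw [map_div₀, map_sub, map_one, hr, hs, neg_div]
  have h2 := inK_two hA hAA hBB hBA h h' hs'
  rwa [map_mul, hr, show s / (1 - r) * (H.conj μ - r * H.conj μ) = s * H.conj μ by
    field_simp] at h2

theorem InK.rule (hA : Full G A) (hAA : H.h A A = 0) {u p : V} (hu : InK G A u) (hp : Full G p)
    (hpp : H.h p p = 0) (hpA : H.h p A = 0) {s : F} (hs : H.conj s = -s) :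
    InK G A ((s * H.h u p) • p) := by
  obtain ⟨l, c⟩ := exists_cond hAA hu.1
  have hg := hp s (cond_central hpp hs)
  have h1 := mul_mem (mul_mem hg (hu.2 l c)) (inv_mem hg)
  rw [root_conj] at h1
  have e : (root H p 0 s (cond_central hpp hs)).1 A = A := by
    rw [central_apply, H.h_comm_zero hpA, mul_zero, zero_smul, add_zero]
  have c' : RootCond H A ((root H p 0 s (cond_central hpp hs)).1 u) l := by
    have := c.map (root H p 0 s (cond_central hpp hs))
    rwa [e] at this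
  rw [root_congr _ c' e rfl rfl] at h1
  have h2 := (InK.of_root hA _ h1).sub hA hAA hu
  rwa [central_apply, add_sub_cancel_left] at h2

/-- The directions all whose multiples lie in `G`. -/
def dirs (hA : Full G A) (hAA : H.h A A = 0) : Submodule F V where
  carrier := {x | ∀ r : F, InK G A (r • x)}
  add_mem' := fun {x y} hx hy r => by rw [smul_add]; exact (hx r).add hA hAA (hy r)
  zero_mem' := fun r => by rw [smul_zero]; exact InK.zero hA
  smul_mem' := fun r x hx r' => by rw [smul_smul]; exact hx _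

theorem mem_dirs (hA : Full G A) (hAA : H.h A A = 0) {x : V} :
    x ∈ dirs hA hAA ↔ ∀ r : F, InK G A (r • x) := Iff.rfl

theorem self_mem_dirs (hA : Full G A) (hAA : H.h A A = 0) : A ∈ dirs hA hAA := fun r => by
  refine ⟨by rw [H.smul_left, hAA, mul_zero], fun l c => ?_⟩
  set L := l - (H.conj r - r) with hL
  have c0 : RootCond H A 0 L := ⟨hAA, H.zero_left A, by
    have h3 := c.2.2
    rw [H.smul_left, H.smul_right, hAA] at h3
    rw [hL, map_sub, map_sub, H.conj_conj, H.zero_left]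
    linear_combination h3⟩
  have hcd : RootCond H A (0 + r • A) (L + (H.conj r - r)) := by
    rw [hL, sub_add_cancel, zero_add]; exact c
  rw [← root_congr hcd c rfl (zero_add _) (by rw [hL, sub_add_cancel]), root_add_smul r c0 hcd]
  exact hA _ _

theorem dirs_rule (hA : Full G A) (hAA : H.h A A = 0) {u p : V} (hu : u ∈ dirs hA hAA)
    (hp : Full G p) (hpp : H.h p p = 0) (hpA : H.h p A = 0) (hup : H.h u p ≠ 0) :
    p ∈ dirs hA hAA := by
  intro r
  obtain ⟨s, hs0, hs⟩ := H.exists_skew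
  have h := (hu (r / (s * H.h u p))).rule hA hAA hp hpp hpA (s := s) (by linear_combination hs)
  rwa [H.smul_left, show s * (r / (s * H.h u p) * H.h u p) = r by field_simp] at h

end Dirs

/-! ### The indexed basis -/

namespace WB

variable (Φ : WB H k)

/-- The vectors `aᵢ`, indexed by naturals. -/
def A (i : ℕ) : V := if h : i < k + 2 then Φ.a ⟨i, h⟩ else 0

/-- The vectors `bᵢ`, indexed by naturals. -/
def B (i : ℕ) : V := if h : i < k + 2 then Φ.b ⟨i, h⟩ else 0

theorem AA (i j : ℕ) : H.h (Φ.A i) (Φ.A j) = 0 := by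
  simp only [A]; split_ifs <;> simp [Φ.aa, H.zero_left, H.zero_right]

theorem BB (i j : ℕ) : H.h (Φ.B i) (Φ.B j) = 0 := by
  simp only [B]; split_ifs <;> simp [Φ.bb, H.zero_left, H.zero_right]

theorem AB {i : ℕ} (hi : i ≤ k + 1) (j : ℕ) :
    H.h (Φ.A i) (Φ.B j) = if i = j then 1 else 0 := by
  simp only [A, B, dif_pos (show i < k + 2 by omega)]
  rcases eq_or_ne i j with rfl | hij
  · rw [dif_pos (show i < k + 2 by omega), Φ.ab_same, if_pos rfl]
  · rw [if_neg hij]
    split_ifs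
    · exact Φ.ab_ne (by simpa [Fin.ext_iff] using hij)
    · exact H.zero_right _

theorem AB_ne {i j : ℕ} (h : i ≠ j) : H.h (Φ.A i) (Φ.B j) = 0 := by
  by_cases hi : i ≤ k + 1
  · rw [Φ.AB hi, if_neg h]
  · simp [A, show ¬ i < k + 2 by omega, H.zero_left]

theorem BA_ne {i j : ℕ} (h : i ≠ j) : H.h (Φ.B i) (Φ.A j) = 0 :=
  H.h_comm_zero (Φ.AB_ne h.symm)

theorem AB_same {i : ℕ} (hi : i ≤ k + 1) : H.h (Φ.A i) (Φ.B i) = 1 := by
  rw [Φ.AB hi, if_pos rfl]

theorem BA_same {i : ℕ} (hi : i ≤ k + 1) : H.h (Φ.B i) (Φ.A i) = 1 :=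
  H.h_comm_one (Φ.AB_same hi)

theorem AE (i : ℕ) : H.h (Φ.A i) Φ.e = 0 := by
  simp only [A]; split_ifs <;> simp [Φ.ae, H.zero_left]

theorem BE (i : ℕ) : H.h (Φ.B i) Φ.e = 0 := by
  simp only [B]; split_ifs <;> simp [Φ.be, H.zero_left]

theorem EA (i : ℕ) : H.h Φ.e (Φ.A i) = 0 := H.h_comm_zero (Φ.AE i)

theorem EB (i : ℕ) : H.h Φ.e (Φ.B i) = 0 := H.h_comm_zero (Φ.BE i)

theorem pairN {i : ℕ} (hi : i ≤ k + 1) : IsHPair H (Φ.A i) (Φ.B i) :=
  ⟨Φ.AA i i, Φ.BB i i, Φ.BA_same hi⟩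

theorem span' (S : Submodule F V) (ha : ∀ i ≤ k + 1, Φ.A i ∈ S) (hb : ∀ i ≤ k + 1, Φ.B i ∈ S)
    (he : Φ.e ∈ S) : S = ⊤ :=
  Φ.span S (fun i => by simpa [A] using ha i (by omega))
    (fun i => by simpa [B] using hb i (by omega)) he

theorem extN {g g' : Unit' H} (ha : ∀ i ≤ k + 1, g.1 (Φ.A i) = g'.1 (Φ.A i))
    (hb : ∀ i ≤ k + 1, g.1 (Φ.B i) = g'.1 (Φ.B i)) (he : g.1 Φ.e = g'.1 Φ.e) : g = g' :=
  Φ.ext' (fun i => by simpa [A] using ha i (by omega))
    (fun i => by simpa [B] using hb i (by omega)) he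

theorem cycN : (∀ i ≤ k, (Φ.cyc (k + 1)).1 (Φ.A i) = -Φ.A (i + 1) ∧
      (Φ.cyc (k + 1)).1 (Φ.B i) = -Φ.B (i + 1)) ∧
    (Φ.cyc (k + 1)).1 (Φ.A (k + 1)) = Φ.A 0 ∧ (Φ.cyc (k + 1)).1 (Φ.B (k + 1)) = Φ.B 0 := by
  obtain ⟨h1, h2, h3⟩ := Φ.cyc_apply (k + 1) le_rfl
  refine ⟨fun i hi => ?_, ?_, ?_⟩
  · simpa [A, B, show i < k + 2 by omega, show i + 1 < k + 2 by omega] using h1 i (by omega)
  · simpa [A] using h2
  · simpa [B] using h3

end WB

/-! ### The data -/

/-- The parameters of the two generators. -/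
structure Dat (H : HermSpace F V) (k : ℕ) where
  Φ : WB H k
  s : F
  hs : H.conj s = -s
  hs0 : s ≠ 0
  t : F
  ht : t + H.conj t = 1
  L : F
  hL : L + H.conj L + (1 + H.h Φ.e Φ.e) = 0
  he : Φ.e = 0 ∨ L = 0

namespace Dat

variable (D : Dat H k)

/-- The direction of the root element in the second generator. -/
def w : V := D.Φ.B 1 + D.t • D.Φ.A 1 + D.Φ.e

theorem w_A0 : H.h D.w (D.Φ.A 0) = 0 := by
  simp [w, H.add_left, H.smul_left, D.Φ.BA_ne, D.Φ.AA, D.Φ.EA]

theorem w_w : H.h D.w D.w = 1 + H.h D.Φ.e D.Φ.e := by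
  simp only [w, H.add_left, H.add_right, H.smul_left, H.smul_right, D.Φ.AA, D.Φ.BB, D.Φ.AE, D.Φ.BE,
    D.Φ.EA, D.Φ.EB, D.Φ.BA_same (show 1 ≤ k + 1 by omega), D.Φ.AB_same (show 1 ≤ k + 1 by omega)]
  linear_combination D.ht

theorem condE : RootCond H (D.Φ.A 0) D.w D.L :=
  ⟨D.Φ.AA 0 0, D.w_A0, by rw [D.w_w]; exact D.hL⟩

/-- The exchange in the first plane. -/
def sw0 : Unit' H := sw (D.Φ.pairN (Nat.zero_le (k + 1))) D.hs

/-- The second generator. -/
def bEl : Unit' H := root H (D.Φ.A 0) D.w D.L D.condE * (D.sw0 * D.Φ.cyc (k + 1))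

theorem bEl_mem : D.bEl ∈ rootGen H :=
  mul_mem (root_mem _) (mul_mem (sw_mem_rootGen _ _) (D.Φ.cyc_mem_rootGen _))

/-- The central root element at `a₀`. -/
def T : Unit' H := root H (D.Φ.A 0) 0 D.s (cond_central (D.Φ.AA 0 0) D.hs)

theorem sw0_fix {i : ℕ} (hi : i ≠ 0) :
    D.sw0.1 (D.Φ.A i) = D.Φ.A i ∧ D.sw0.1 (D.Φ.B i) = D.Φ.B i := by
  have h := (sw_apply (D.Φ.pairN (Nat.zero_le (k + 1))) D.hs D.hs0).2.2
  exact ⟨h _ (D.Φ.AA _ _) (D.Φ.AB_ne hi), h _ (D.Φ.BA_ne hi) (D.Φ.BB _ _)⟩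

theorem bA0 : D.bEl.1 (D.Φ.A 0) = -(D.Φ.A 1 - D.Φ.A 0) := by
  simp only [bEl, mul_apply, (D.Φ.cycN.1 0 (Nat.zero_le k)).1, map_neg, (D.sw0_fix (i := 1) (by simp)).1,
    root_apply, zero_add, w, H.add_right, H.smul_right, D.Φ.AA, D.Φ.AE,
    D.Φ.AB_same (show 1 ≤ k + 1 by omega)]
  module

theorem bA {i : ℕ} (hi0 : i ≠ 0) (hi : i ≤ k) : D.bEl.1 (D.Φ.A i) = -D.Φ.A (i + 1) := by
  simp only [bEl, mul_apply, (D.Φ.cycN.1 i hi).1, map_neg,
    (D.sw0_fix (i := i + 1) (by omega)).1,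
    root_apply, w, H.add_right, H.smul_right, D.Φ.AA, D.Φ.AE,
    D.Φ.AB_ne (show i + 1 ≠ 1 by omega)]
  module

theorem bB {i : ℕ} (hi0 : i ≠ 0) (hi : i ≤ k) : D.bEl.1 (D.Φ.B i) = -D.Φ.B (i + 1) := by
  simp only [bEl, mul_apply, (D.Φ.cycN.1 i hi).2, map_neg,
    (D.sw0_fix (i := i + 1) (by omega)).2,
    root_apply, w, H.add_right, H.smul_right, D.Φ.BB, D.Φ.BE,
    D.Φ.BA_ne (show i + 1 ≠ 1 by omega), D.Φ.BA_ne (show i + 1 ≠ 0 by omega)]
  module

theorem bB0 : D.bEl.1 (D.Φ.B 0) = -D.Φ.B 1 + H.conj D.t • D.Φ.A 0 := by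
  simp only [bEl, mul_apply, (D.Φ.cycN.1 0 (Nat.zero_le k)).2, map_neg, (D.sw0_fix (i := 1) (by simp)).2,
    root_apply, zero_add, w, H.add_right, H.smul_right, D.Φ.BB, D.Φ.BE,
    D.Φ.BA_same (show 1 ≤ k + 1 by omega), D.Φ.BA_ne (show (1 : ℕ) ≠ 0 by omega)]
  module

theorem bAl : D.bEl.1 (D.Φ.A (k + 1)) =
    (-D.s⁻¹) • (D.Φ.B 0 + D.w + D.L • D.Φ.A 0) := by
  rw [bEl, mul_apply, mul_apply, D.Φ.cycN.2.1,
    show D.sw0.1 (D.Φ.A 0) = _ from (sw_apply _ D.hs D.hs0).1, map_smul, root_apply,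
    D.Φ.BA_same (Nat.zero_le _),
    show H.h (D.Φ.B 0) D.w = 0 by
      simp [w, H.add_right, H.smul_right, D.Φ.BB, D.Φ.BE, D.Φ.BA_ne (show (0 : ℕ) ≠ 1 by omega)]]
  module

theorem bBl : D.bEl.1 (D.Φ.B (k + 1)) = D.s • D.Φ.A 0 := by
  rw [bEl, mul_apply, mul_apply, D.Φ.cycN.2.2,
    show D.sw0.1 (D.Φ.B 0) = _ from (sw_apply _ D.hs D.hs0).2.1, map_smul, root_apply,
    D.Φ.AA, H.h_comm_zero D.w_A0]
  module

variable {G : Subgroup (Unit' H)} (hb : D.bEl ∈ G)

include hb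

theorem exists_B1 (hT : D.T ∈ G) :
    ∃ σ, σ ≠ 0 ∧ ∃ c : RootCond H (D.Φ.B 1) 0 σ, root H (D.Φ.B 1) 0 σ c ∈ G := by
  have key : ∀ i j, i + j = k + 1 → j ≤ k →
      ∃ σ, σ ≠ 0 ∧ ∃ c : RootCond H (D.Φ.B i) 0 σ, root H (D.Φ.B i) 0 σ c ∈ G := by
    have hinv := inv_mem hb
    have step : ∀ (v u : V) (r σ : F) (c : RootCond H v 0 σ), root H v 0 σ c ∈ G → σ ≠ 0 →
        H.h u u = 0 → r ≠ 0 → (D.bEl⁻¹).1 v = r • u →
        ∃ σ', σ' ≠ 0 ∧ ∃ c : RootCond H u 0 σ', root H u 0 σ' c ∈ G := by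
      intro v u r σ c hm hσ huu hr e
      have hsk : H.conj (r * H.conj r * σ) = -(r * H.conj r * σ) := by
        rw [map_mul, map_mul, H.conj_conj, skew_of_cond c]; ring
      refine ⟨r * H.conj r * σ, mul_ne_zero (mul_ne_zero hr (H.conj_ne_zero hr)) hσ,
        cond_central huu hsk, ?_⟩
      have h1 := mul_mem (mul_mem hinv hm) (inv_mem hinv)
      rw [root_conj, root_congr _ (cond_central (by
        rw [H.smul_left, H.smul_right, huu]; simp) (skew_of_cond c)) e (map_zero _) rfl,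
        root_smul r hr, root_congr _ (cond_central huu hsk) rfl (smul_zero _) rfl] at h1
      exact h1
    intro i j
    induction j generalizing i with
    | zero =>
      intro hij _
      obtain rfl : i = k + 1 := by omega
      refine step _ _ D.s⁻¹ D.s _ hT D.hs0 (D.Φ.BB _ _) (inv_ne_zero D.hs0) ?_
      conv_lhs => rw [← inv_smul_smul₀ D.hs0 (D.Φ.A 0), map_smul, ← D.bBl, inv_apply_self]
    | succ j ih =>
      intro hij hj
      obtain ⟨σ, hσ, c, hc⟩ := ih (i + 1) (by omega) (by omega)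
      refine step _ _ (-1) σ c hc hσ (D.Φ.BB _ _) (by simp) ?_
      rw [← neg_neg (D.Φ.B (i + 1)), ← D.bB (by omega) (by omega), map_neg, inv_apply_self,
        neg_one_smul]
  exact key 1 k (by omega) le_rfl

variable (hB1 : Full G (D.Φ.B 1))

include hB1

theorem full_B : ∀ i, i ≠ 0 → i ≤ k + 1 → Full G (D.Φ.B i) := by
  intro i
  induction i with
  | zero => intro h; exact absurd rfl h
  | succ i ih =>
    intro _ hi
    rcases eq_or_ne i 0 with rfl | h0
    · exact hB1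
    · have h := (ih h0 (by omega)).image hb
      rw [D.bB h0 (by omega), ← neg_one_smul F] at h
      exact h.of_smul (by simp)

theorem full_A0 : Full G (D.Φ.A 0) := by
  have h := (D.full_B hb hB1 (k + 1) (by simp) le_rfl).image hb
  rw [D.bBl] at h
  exact h.of_smul D.hs0

theorem full_q1 : Full G (D.Φ.A 1 + (-1 : F) • D.Φ.A 0) := by
  have h := (D.full_A0 hb hB1).image hb
  rw [D.bA0, ← neg_one_smul F, sub_eq_add_neg, ← neg_one_smul F (D.Φ.A 0)] at h
  exact h.of_smul (by simp)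

theorem full_r0 : Full G (D.Φ.B 0 + (-H.conj D.t / D.s) • D.Φ.B (k + 1)) := by
  have h := hB1.image (inv_mem hb)
  have e : (D.bEl⁻¹).1 (D.Φ.B 1) =
      (-1 : F) • (D.Φ.B 0 + (-H.conj D.t / D.s) • D.Φ.B (k + 1)) := by
    rw [← D.bEl.1.injective.eq_iff, self_apply_inv, map_smul, map_add, map_smul, D.bB0, D.bBl,
      smul_smul, div_mul_cancel₀ _ D.hs0]
    module
  rw [e] at h
  exact h.of_smul (by simp)

variable (hA1 : Full G (D.Φ.A 1))

include hA1

theorem full_A : ∀ i, i ≤ k + 1 → Full G (D.Φ.A i) := by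
  intro i
  induction i with
  | zero => intro _; exact D.full_A0 hb hB1
  | succ i ih =>
    intro hi
    rcases eq_or_ne i 0 with rfl | h0
    · exact hA1
    · have h := (ih (by omega)).image hb
      rw [D.bA h0 (by omega), ← neg_one_smul F] at h
      exact h.of_smul (by simp)

omit hB1 hA1 hb in
/-- The alternating sums `qᵢ = aᵢ - qᵢ₋₁`. -/
def q : ℕ → V
  | 0 => D.Φ.A 0
  | i + 1 => D.Φ.A (i + 1) - q i

omit hB1 hA1 hb in
theorem qA : ∀ i j, H.h (D.q i) (D.Φ.A j) = 0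
  | 0, j => D.Φ.AA 0 j
  | i + 1, j => by rw [q, H.sub_left, D.Φ.AA, qA i j, sub_zero]

omit hB1 hA1 hb in
theorem qq : ∀ i j, H.h (D.q j) (D.q i) = 0
  | 0, j => D.qA j 0
  | i + 1, j => by rw [q, H.sub_right, D.qA, qq i j, sub_zero]

omit hB1 hA1 hb in
theorem qB : ∀ i, i ≤ k + 1 → ∀ j,
    (i < j → H.h (D.q i) (D.Φ.B j) = 0) ∧ (i = j → H.h (D.q i) (D.Φ.B j) = 1) ∧
      (j ≤ i → H.h (D.q i) (D.Φ.B j) ≠ 0)
  | 0, hi, j => by
    refine ⟨fun h => D.Φ.AB_ne (by omega), ?_, fun h => ?_⟩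
    · rintro rfl; exact D.Φ.AB_same hi
    · obtain rfl : j = 0 := by omega
      rw [show H.h (D.q 0) (D.Φ.B 0) = 1 from D.Φ.AB_same hi]
      exact one_ne_zero
  | i + 1, hi, j => by
    obtain ⟨h1, h2, h3⟩ := qB i (by omega) j
    rw [q, H.sub_left, D.Φ.AB hi]
    refine ⟨fun h => ?_, fun h => ?_, fun h => ?_⟩
    · rw [if_neg (by omega), h1 (by omega), sub_zero]
    · rw [if_pos h, h1 (by omega), sub_zero]
    · rcases eq_or_ne (i + 1) j with rfl | hne
      · rw [if_pos rfl, h1 (by omega), sub_zero]; exact one_ne_zero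
      · rw [if_neg hne, zero_sub, neg_ne_zero]; exact h3 (by omega)

theorem full_q : ∀ i, i ≤ k + 1 → Full G (D.q i) := by
  intro i
  induction i with
  | zero => intro _; exact D.full_A0 hb hB1
  | succ i ih =>
    intro hi
    have h := (ih (by omega)).image hb
    suffices e : D.bEl.1 (D.q i) = (-1 : F) • D.q (i + 1) by
      rw [e] at h; exact h.of_smul (by simp)
    clear h ih
    induction i with
    | zero => rw [q, q, q, D.bA0, neg_one_smul]
    | succ i ih2 =>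
      rw [q, map_sub, ih2 (by omega), D.bA (by omega) (by omega)]
      conv_rhs => rw [q]
      module

theorem inK_A1 {s : F} (hs : H.conj s = -s) : InK G (D.Φ.A 0) (s • D.Φ.A 1) := by
  have h := inK_line (D.full_A0 hb hB1) (D.Φ.AA 0 0) hA1 (D.Φ.AA 1 1) (D.Φ.AA 1 0)
    (D.full_q1 hb hB1) (s := -s) (by rw [map_neg, hs])
  rwa [map_neg, map_one, neg_mul_neg, mul_one] at h

theorem inK_real : ∀ i, i ≠ 0 → i ≤ k + 1 → ∀ r, H.conj r = r →
    InK G (D.Φ.A 0) (r • D.Φ.B i) := by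
  intro i
  have hA0 := D.full_A0 hb hB1
  have h00 := D.Φ.AA 0 0
  induction i with
  | zero => intro h; exact absurd rfl h
  | succ i ih =>
    intro _ hi r hr
    rcases eq_or_ne i 0 with rfl | h0
    · have hu := D.inK_A1 hb hB1 hA1 (s := r / D.s) (by rw [map_div₀, hr, D.hs, div_neg])
      have h := hu.rule hA0 h00 hB1 (D.Φ.BB 1 1) (D.Φ.BA_ne (by simp)) D.hs
      rwa [H.smul_left, D.Φ.AB_same (by omega), mul_one, mul_comm, div_mul_cancel₀ _ D.hs0] at h
    · have hq : H.h (D.Φ.B i) (D.q (i + 1)) = -1 := by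
        rw [q, H.sub_right, D.Φ.BA_ne (show i ≠ i + 1 by omega),
          H.h_comm_one ((D.qB i (by omega) i).2.1 rfl), zero_sub]
      have h := (ih h0 (by omega) 1 (map_one _)).rule hA0 h00
        (D.full_q hb hB1 hA1 (i + 1) hi) (D.qq _ _) (D.qA _ _) (s := r / D.s)
        (by rw [map_div₀, hr, D.hs, div_neg])
      rw [one_smul, hq] at h
      have h' := h.rule hA0 h00 (D.full_B hb hB1 (i + 1) (by simp) hi) (D.Φ.BB _ _)
        (D.Φ.BA_ne (by simp)) (s := -D.s) (by rw [map_neg, D.hs])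
      rwa [H.smul_left, (D.qB (i + 1) hi (i + 1)).2.1 rfl,
        show -D.s * (r / D.s * -1 * 1) = r by have := D.hs0; field_simp] at h'

theorem inK_Al {s : F} (hs : H.conj s = -s) :
    InK G (D.Φ.A 0) (s • D.Φ.A (k + 1)) := by
  have h := (D.inK_real hb hB1 hA1 (k + 1) (by simp) le_rfl 1 (map_one _)).rule
    (D.full_A0 hb hB1) (D.Φ.AA 0 0) (D.full_A hb hB1 hA1 (k + 1) le_rfl) (D.Φ.AA _ _)
    (D.Φ.AA _ _) hs
  rwa [one_smul, D.Φ.BA_same le_rfl, mul_one] at h

variable (hB0 : Full G (D.Φ.B 0))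

include hB0

theorem rootGen_le (hBig : Big H) : rootGen H ≤ G := by
  have hA0 := D.full_A0 hb hB1
  have h00 := D.Φ.AA 0 0
  set S := dirs hA0 h00 with hS
  have hsw : D.sw0 ∈ G := sw_mem _ D.hs hA0 hB0
  obtain ⟨sa, sb, sf⟩ := sw_apply (D.Φ.pairN (Nat.zero_le (k + 1))) D.hs D.hs0
  set γ := -H.conj D.t / D.s with hγ
  have hct : H.conj D.t ≠ 0 := fun h => by
    have h1 : D.t = 0 := by rw [← H.conj_conj D.t, h, map_zero]
    simpa [h, h1] using D.ht
  have hγ0 : γ ≠ 0 := div_ne_zero (neg_ne_zero.2 hct) D.hs0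
  have hγc : H.conj γ ≠ γ := fun h => by
    simp only [hγ, map_div₀, map_neg, H.conj_conj, D.hs, neg_div_neg_eq] at h
    rw [div_left_inj' D.hs0] at h
    exact one_ne_zero (α := F) (by linear_combination h - D.ht)
  have hBl0 : H.h (D.Φ.B (k + 1)) (D.Φ.A 0) = 0 := D.Φ.BA_ne (by simp)
  have hline : ∀ s, H.conj s = -s →
      InK G (D.Φ.A 0) ((s * H.conj (D.s / γ)) • D.Φ.B (k + 1)) := by
    intro s hs
    refine inK_line hA0 h00 (D.full_B hb hB1 (k + 1) (by simp) le_rfl) (D.Φ.BB _ _) hBl0 ?_ hs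
    have h := (D.full_r0 hb hB1).image hsw
    rw [map_add, map_smul, ← hγ, show D.sw0.1 (D.Φ.B 0) = _ from sb,
      (D.sw0_fix (i := k + 1) (by simp)).2] at h
    refine Full.of_smul hγ0 ?_
    rw [smul_add, smul_smul, mul_div_cancel₀ _ hγ0, add_comm]
    exact h
  have hBlS : D.Φ.B (k + 1) ∈ S := by
    intro x
    set z := D.s * H.conj (D.s / γ) with hz
    have hzz : H.conj z ≠ z := fun h => by
      simp only [hz, map_mul, map_div₀, H.conj_conj, D.hs, map_neg, neg_neg] at h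
      have := D.hs0
      have := H.conj_ne_zero hγ0
      field_simp at h
      exact hγc (neg_injective h)
    set v := (x - H.conj x) / (z - H.conj z) with hv
    have hd : z - H.conj z ≠ 0 := sub_ne_zero.2 (Ne.symm hzz)
    have hvc : H.conj v = v := by
      rw [hv, map_div₀, map_sub, map_sub, H.conj_conj, H.conj_conj, ← neg_sub x, ← neg_sub z,
        neg_div_neg_eq]
    have huc : H.conj (x - v * z) = x - v * z := by
      rw [map_sub, map_mul, hvc]
      have : v * (z - H.conj z) = x - H.conj x := div_mul_cancel₀ _ hd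
      linear_combination this
    have h := (D.inK_real hb hB1 hA1 (k + 1) (by simp) le_rfl _ huc).add hA0 h00
      (hline (v * D.s) (by rw [map_mul, hvc, D.hs]; ring))
    rwa [← add_smul, mul_assoc, ← hz, sub_add_cancel] at h
  have hAlS : D.Φ.A (k + 1) ∈ S := dirs_rule hA0 h00 hBlS (D.full_A hb hB1 hA1 _ le_rfl)
    (D.Φ.AA _ _) (D.Φ.AA _ _) (by rw [D.Φ.BA_same le_rfl]; exact one_ne_zero)
  have hqS : D.q (k + 1) ∈ S := dirs_rule hA0 h00 hBlS (D.full_q hb hB1 hA1 _ le_rfl)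
    (D.qq _ _) (D.qA _ _)
    (by rw [H.h_comm_one ((D.qB (k + 1) le_rfl (k + 1)).2.1 rfl)]; exact one_ne_zero)
  have hBS : ∀ i, i ≠ 0 → i ≤ k + 1 → D.Φ.B i ∈ S := fun i h0 hi =>
    dirs_rule hA0 h00 hqS (D.full_B hb hB1 i h0 hi) (D.Φ.BB _ _) (D.Φ.BA_ne h0)
      ((D.qB (k + 1) le_rfl i).2.2 hi)
  have hAS : ∀ i, i ≤ k + 1 → D.Φ.A i ∈ S := by
    intro i hi
    rcases eq_or_ne i 0 with rfl | h0
    · exact self_mem_dirs hA0 h00
    · exact dirs_rule hA0 h00 (hBS i h0 hi) (D.full_A hb hB1 hA1 i hi) (D.Φ.AA _ _)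
        (D.Φ.AA _ _) (by rw [D.Φ.BA_same hi]; exact one_ne_zero)
  have heS : D.Φ.e ∈ S := by
    rcases D.he with he | hL
    · rw [he]; exact S.zero_mem
    have hy := ((D.full_A hb hB1 hA1 (k + 1) le_rfl).image hb)
    rw [D.bAl, hL, zero_smul, add_zero] at hy
    have hp := (hy.of_smul (neg_ne_zero.2 (inv_ne_zero D.hs0))).image hsw
    have hswe : D.sw0.1 D.Φ.e = D.Φ.e := sf _ (D.Φ.EA 0) (D.Φ.EB 0)
    rw [map_add, show D.sw0.1 (D.Φ.B 0) = _ from sb, w, map_add, map_add, map_smul, hswe,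
      (D.sw0_fix (i := 1) (by simp)).1, (D.sw0_fix (i := 1) (by simp)).2, ← w] at hp
    have hww : H.h D.w D.w = 0 := by
      have := D.hL; rw [hL] at this; rw [D.w_w]; simpa using this
    have hwS : D.s • D.Φ.A 0 + D.w ∈ S := dirs_rule hA0 h00 (hAS 1 (by omega)) hp
      (by simp [H.add_left, H.add_right, H.smul_left, H.smul_right, h00, hww, D.w_A0,
        H.h_comm_zero D.w_A0])
      (by simp [H.add_left, H.smul_left, h00, D.w_A0])
      (by simp [w, H.add_right, H.smul_right, D.Φ.AA, D.Φ.AE,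
        D.Φ.AB_same (show 1 ≤ k + 1 by omega)])
    have h1 := S.sub_mem hwS (S.smul_mem D.s (hAS 0 (Nat.zero_le _)))
    rw [add_sub_cancel_left, w] at h1
    have h2 := S.sub_mem h1 (S.add_mem (hBS 1 (by simp) (by omega))
      (S.smul_mem D.t (hAS 1 (by omega))))
    rwa [add_sub_cancel_left] at h2
  have htop : S ⊔ F ∙ D.Φ.B 0 = ⊤ := by
    refine D.Φ.span' _ (fun i hi => Submodule.mem_sup_left (hAS i hi)) (fun i hi => ?_)
      (Submodule.mem_sup_left heS)
    rcases eq_or_ne i 0 with rfl | h0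
    · exact Submodule.mem_sup_right (Submodule.mem_span_singleton_self _)
    · exact Submodule.mem_sup_left (hBS i h0 hi)
  have hm := hB0 D.s (cond_central (D.Φ.BB 0 0) D.hs)
  refine SUThree.rootGen_le_of_full hBig h00 (D.Φ.pairN (Nat.zero_le _)).left_ne_zero
    (fun x l c => ?_) hm ?_
  · have hx : x ∈ S := by
      obtain ⟨y, hy, z, hz, rfl⟩ := Submodule.mem_sup.1 (htop ▸ Submodule.mem_top : x ∈ S ⊔ F ∙ D.Φ.B 0)
      obtain ⟨r, rfl⟩ := Submodule.mem_span_singleton.1 hz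
      have hyA : H.h y (D.Φ.A 0) = 0 := by simpa using (hy 1).1
      have h := c.2.1
      rw [H.add_left, hyA, H.smul_left, D.Φ.BA_same (Nat.zero_le _), zero_add, mul_one] at h
      rw [h, zero_smul, add_zero]
      exact hy
    have h := hx 1
    rw [one_smul] at h
    exact h.2 l c
  · rw [central_apply, D.Φ.AB_same (Nat.zero_le _), H.add_left, H.smul_left, h00,
      D.Φ.BA_same (Nat.zero_le _), zero_add, mul_one, mul_one]
    exact D.hs0

end Dat

/-! ### The first generator -/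

theorem central_pow {v : V} (hv : H.h v v = 0) {s : F} (hs : H.conj s = -s) (n : ℕ) :
    (root H v 0 s (cond_central hv hs)) ^ n =
      root H v 0 (n * s) (cond_central hv (by rw [map_mul, map_natCast, hs]; ring)) := by
  induction n with
  | zero => exact unit_ext fun x => by rw [pow_zero, central_apply]; simp
  | succ n ih =>
    rw [pow_succ, ih, root_mul]
    exact root_congr _ _ rfl (add_zero _) (by rw [H.zero_left]; push_cast; ring)

theorem sum_two_squares (K : Type*) [Field K] [Finite K] (x : K) : ∃ y z : K, x = y ^ 2 + z ^ 2 := by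
  classical
  haveI := Fintype.ofFinite K
  by_cases h2 : ringChar K = 2
  · obtain ⟨y, hy⟩ := FiniteField.isSquare_of_char_two h2 x
    exact ⟨y, 0, by rw [hy]; ring⟩
  · obtain ⟨y, z, h⟩ := FiniteField.exists_root_sum_quadratic (R := K)
      (f := Polynomial.X ^ 2) (g := Polynomial.X ^ 2 - Polynomial.C x)
      (Polynomial.degree_X_pow 2) (Polynomial.degree_X_pow_sub_C (by norm_num) x)
      (FiniteField.odd_card_of_char_ne_two h2)
    exact ⟨y, z, by simp at h; linear_combination -h⟩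

namespace Dat

variable (D : Dat H k)

/-- For a fixed scalar other than `0, 1`, generating the fixed field, `T` times a dilation works. -/
theorem generators_of_dilation (hBig : Big H) {g : F} (hg : H.conj g = g) (hg0 : g ≠ 0)
    (hg1 : g ≠ 1) {m : ℕ} (hgm : g ^ m = 1) (hm : (m : F) = -1)
    (hgen : ∀ x : F, H.conj x = x → ∃ i j : ℕ, ∃ e e' : Bool,
      x = (if e then (g ^ 2) ^ i else 0) + (if e' then (g ^ 2) ^ j else 0)) :
    ∃ a ∈ rootGen H, ∀ G : Subgroup (Unit' H), a ∈ G → D.bEl ∈ G → rootGen H ≤ G := by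
  obtain ⟨M, hMr, -, hMa, hMb, hMf⟩ :=
    exists_dil (D.Φ.pairN (i := 1) (by omega)) hg hg0 D.hs D.hs0
  have hM0 : M.1 (D.Φ.A 0) = D.Φ.A 0 := hMf _ (D.Φ.AA _ _) (D.Φ.AB_ne (by simp))
  refine ⟨D.T * M, mul_mem (root_mem _) hMr, fun G ha hb => ?_⟩
  have hcomm : Commute D.T M := by
    show D.T * M = M * D.T
    rw [eq_comm, ← mul_inv_eq_iff_eq_mul]
    show M * root H _ _ _ _ * M⁻¹ = _
    rw [root_conj]
    exact root_congr _ _ hM0 (map_zero _) rfl
  have hMm : M ^ m = 1 := by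
    have hp : ∀ n : ℕ, (M ^ n).1 (D.Φ.A 1) = g ^ n • D.Φ.A 1 ∧
        (M ^ n).1 (D.Φ.B 1) = g⁻¹ ^ n • D.Φ.B 1 ∧
        ∀ x, H.h x (D.Φ.A 1) = 0 → H.h x (D.Φ.B 1) = 0 → (M ^ n).1 x = x := by
      intro n
      induction n with
      | zero => simp
      | succ n ih =>
        refine ⟨?_, ?_, fun x h1 h2 => ?_⟩
        · rw [pow_succ, mul_apply, hMa, map_smul, ih.1, smul_smul]; congr 1; ring
        · rw [pow_succ, mul_apply, hMb, map_smul, ih.2.1, smul_smul]; congr 1; ring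
        · rw [pow_succ, mul_apply, hMf x h1 h2, ih.2.2 x h1 h2]
    obtain ⟨p1, p2, p3⟩ := hp m
    refine D.Φ.extN (fun i hi => ?_) (fun i hi => ?_) (p3 _ (D.Φ.EA 1) (D.Φ.EB 1))
    · rcases eq_or_ne i 1 with rfl | h1
      · rw [p1, hgm, one_smul, one_apply]
      · rw [p3 _ (D.Φ.AA _ _) (D.Φ.AB_ne h1), one_apply]
    · rcases eq_or_ne i 1 with rfl | h1
      · rw [p2, inv_pow, hgm, inv_one, one_smul, one_apply]
      · rw [p3 _ (D.Φ.BA_ne h1) (D.Φ.BB _ _), one_apply]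
  have hT : D.T ∈ G := by
    have h := inv_mem (pow_mem ha m)
    rw [hcomm.mul_pow, hMm, mul_one, T, central_pow (D.Φ.AA 0 0) D.hs, root_inv] at h
    rwa [root_congr _ (cond_central (D.Φ.AA 0 0) D.hs) rfl neg_zero (by
      rw [hm, map_mul, map_neg, map_one, D.hs]; ring)] at h
  have hM : M ∈ G := (Subgroup.mul_mem_cancel_left _ hT).1 ha
  -- the full line at `b₁`
  obtain ⟨σ, hσ, cσ, hσm⟩ := D.exists_B1 hb hT
  have hσs := skew_of_cond cσ
  have hb11 := D.Φ.BB 1 1
  have hB1 : Full G (D.Φ.B 1) := by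
    let P : F → Prop := fun x => ∃ c : RootCond H (D.Φ.B 1) 0 (x * σ), root H _ _ _ c ∈ G
    have P1 : P 1 := ⟨cond_central hb11 (by rw [one_mul, hσs]), by
      rw [root_congr _ cσ rfl rfl (one_mul σ)]; exact hσm⟩
    have Padd : ∀ x y, P x → P y → P (x + y) := by
      rintro x y ⟨c, hc⟩ ⟨c', hc'⟩
      have h := mul_mem hc hc'
      rw [root_mul] at h
      have c'' : RootCond H (D.Φ.B 1) 0 ((x + y) * σ) := cond_central hb11 (by
        rw [add_mul, map_add, skew_of_cond c, skew_of_cond c']; ring)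
      exact ⟨c'', by rwa [root_congr _ c'' rfl (add_zero _) (by rw [H.zero_left]; ring)] at h⟩
    have P0 : P 0 := ⟨cond_central hb11 (by simp), by
      rw [show root H (D.Φ.B 1) 0 (0 * σ) _ = 1 from unit_ext fun x => by
        rw [central_apply]; simp]
      exact one_mem G⟩
    have Pg : ∀ x, P x → P (g ^ 2 * x) := by
      rintro x ⟨c, hc⟩
      have h := mul_mem (mul_mem (inv_mem hM) hc) (inv_mem (inv_mem hM))
      have e : (M⁻¹).1 (D.Φ.B 1) = g • D.Φ.B 1 := by
        rw [← M.1.injective.eq_iff, self_apply_inv, map_smul, hMb, smul_inv_smul₀ hg0]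
      rw [root_conj, root_congr _ (cond_central (by
        rw [H.smul_left, H.smul_right, hb11]; simp) (skew_of_cond c)) e (map_zero _) rfl,
        root_smul g hg0] at h
      have c' : RootCond H (D.Φ.B 1) 0 (g ^ 2 * x * σ) := cond_central hb11 (by
        have := skew_of_cond c
        rw [map_mul] at this
        rw [map_mul, map_mul, map_pow, hg]; linear_combination g ^ 2 * this)
      exact ⟨c', by rwa [root_congr _ c' rfl (smul_zero _) (by rw [hg]; ring)] at h⟩
    have Ppow : ∀ i : ℕ, P ((g ^ 2) ^ i) := by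
      intro i
      induction i with
      | zero => simpa using P1
      | succ i ih => rw [pow_succ']; exact Pg _ ih
    intro s c
    have hsc := skew_of_cond c
    obtain ⟨i, j, e, e', hx⟩ := hgen (s / σ) (by rw [map_div₀, hsc, hσs, neg_div_neg_eq])
    have : P (s / σ) := by
      rw [hx]
      refine Padd _ _ ?_ ?_ <;> split_ifs
      exacts [Ppow i, P0, Ppow j, P0]
    obtain ⟨c', hc'⟩ := this
    rwa [root_congr _ c rfl rfl (div_mul_cancel₀ _ hσ)] at hc'
  have hA0 := D.full_A0 hb hB1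
  have hA1 : Full G (D.Φ.A 1) := by
    refine full_of_two hA0 (D.Φ.AA 0 0) (D.Φ.AA 1 1) (D.Φ.AA 1 0) (r := g⁻¹)
      (by rw [map_inv₀, hg]) (fun h => hg1 (inv_eq_one.1 h)) (D.full_q1 hb hB1) ?_
    have h := (D.full_q1 hb hB1).image hM
    rw [map_add, map_smul, hMa, hM0] at h
    refine Full.of_smul hg0 ?_
    rwa [smul_add, smul_smul, ← mul_assoc, mul_inv_cancel₀ hg0, one_mul]
  refine D.rootGen_le hb hB1 hA1 ?_ hBig
  have hl : k + 1 ≤ k + 1 := le_rfl
  obtain ⟨d, -, hdG, -, hdb, hdf⟩ :=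
    exists_dil (D.Φ.pairN hl) hg hg0 D.hs D.hs0
  have hd := hdG G (D.full_A hb hB1 hA1 _ hl) (D.full_B hb hB1 _ (by simp) hl)
  refine full_of_two (D.full_B hb hB1 _ (by simp) hl) (D.Φ.BB _ _) (D.Φ.BB _ _) (D.Φ.BB _ _)
    (r := g⁻¹) (by rw [map_inv₀, hg]) (fun h => hg1 (inv_eq_one.1 h)) (D.full_r0 hb hB1) ?_
  have h := (D.full_r0 hb hB1).image hd
  rw [map_add, map_smul, hdb, hdf _ (D.Φ.BA_ne (by simp)) (D.Φ.BB _ _), smul_smul,
    mul_comm _ g⁻¹] at h
  exact h

/-- The case where the fixed field has two elements. -/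
theorem generators_of_two (hBig : Big H) (h2 : ∀ x : F, H.conj x = x → x = 0 ∨ x = 1) :
    ∃ a ∈ rootGen H, ∀ G : Subgroup (Unit' H), a ∈ G → D.bEl ∈ G → rootGen H ≤ G := by
  have two : (2 : F) = 0 := by
    rcases h2 2 (by rw [map_ofNat]) with h | h
    · exact h
    · exact absurd (show (1 : F) = 0 by linear_combination h) one_ne_zero
  have hneg : ∀ x : F, -x = x := fun x => by linear_combination (-x) * two
  have hone : H.conj (1 : F) = -(1 : F) := by rw [map_one, hneg]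
  have hsone : D.s = 1 := (h2 D.s (by rw [D.hs, hneg])).resolve_left D.hs0
  have p1 := D.Φ.pairN (i := 1) (by omega)
  set U := root H (D.Φ.A 1) 0 1 (cond_central p1.1 hone) with hU
  set W := root H (D.Φ.B 1) 0 1 (cond_central p1.2.1 hone) with hW
  set M := U * W with hMdef
  have hMa : M.1 (D.Φ.A 1) = D.Φ.B 1 := by
    simp only [hMdef, hU, hW, mul_apply, central_apply, p1.1, H.add_left, H.smul_left,
      D.Φ.AB_same (show 1 ≤ k + 1 by omega), D.Φ.BA_same (show 1 ≤ k + 1 by omega)]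
    match_scalars <;> grind
  have hMb : M.1 (D.Φ.B 1) = D.Φ.A 1 + D.Φ.B 1 := by
    simp only [hMdef, hU, hW, mul_apply, central_apply, p1.2.1, H.add_left, H.smul_left,
      D.Φ.BA_same (show 1 ≤ k + 1 by omega)]
    module
  have hMf : ∀ x, H.h x (D.Φ.A 1) = 0 → H.h x (D.Φ.B 1) = 0 → M.1 x = x := by
    intro x h1 h2
    simp [hMdef, hU, hW, central_apply, h1, h2]
  have hM0 : M.1 (D.Φ.A 0) = D.Φ.A 0 := hMf _ (D.Φ.AA _ _) (D.Φ.AB_ne (by simp))
  have hMa2 : (M ^ 2).1 (D.Φ.B 1) = D.Φ.A 1 := by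
    rw [pow_two, mul_apply, hMb, map_add, hMa, hMb, add_left_comm, ← two_smul F (D.Φ.B 1), two,
      zero_smul, add_zero]
  have hM3 : M ^ 3 = 1 := by
    refine D.Φ.extN (fun i hi => ?_) (fun i hi => ?_) ?_
    · rcases eq_or_ne i 1 with rfl | h1
      · rw [show M ^ 3 = M ^ 2 * M from pow_succ M 2, mul_apply, hMa, hMa2, one_apply]
      · simp [pow_succ, hMf _ (D.Φ.AA _ _) (D.Φ.AB_ne h1)]
    · rcases eq_or_ne i 1 with rfl | h1
      · rw [show M ^ 3 = M * M ^ 2 from pow_succ' M 2, mul_apply, hMa2, hMa, one_apply]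
      · simp [pow_succ, hMf _ (D.Φ.BA_ne h1) (D.Φ.BB _ _)]
    · simp [pow_succ, hMf _ (D.Φ.EA 1) (D.Φ.EB 1)]
  refine ⟨D.T * M, mul_mem (root_mem _) (mul_mem (root_mem _) (root_mem _)), fun G ha hb => ?_⟩
  have hcomm : Commute D.T M := by
    show D.T * M = M * D.T
    rw [eq_comm, ← mul_inv_eq_iff_eq_mul]
    show M * root H _ _ _ _ * M⁻¹ = _
    rw [root_conj]
    exact root_congr _ _ hM0 (map_zero _) rfl
  have hT : D.T ∈ G := by
    have h := pow_mem ha 3
    rw [hcomm.mul_pow, hM3, mul_one, T, central_pow (D.Φ.AA 0 0) D.hs] at h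
    rwa [root_congr _ (cond_central (D.Φ.AA 0 0) D.hs) rfl rfl (by
      push_cast; linear_combination D.s * two)] at h
  have hM : M ∈ G := (Subgroup.mul_mem_cancel_left _ hT).1 ha
  obtain ⟨σ, hσ, cσ, hσm⟩ := D.exists_B1 hb hT
  have hskew : ∀ s, H.conj s = -s → s = 0 ∨ s = 1 := fun s hs => h2 s (by rw [hs, hneg])
  have hσ1 : σ = 1 := (hskew σ (skew_of_cond cσ)).resolve_left hσ
  have hB1 : Full G (D.Φ.B 1) := by
    intro s c
    rcases hskew s (skew_of_cond c) with rfl | rfl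
    · rw [show root H (D.Φ.B 1) 0 0 c = 1 from unit_ext fun x => by rw [central_apply]; simp]
      exact one_mem G
    · rwa [root_congr _ c rfl rfl hσ1] at hσm
  have hA0 := D.full_A0 hb hB1
  have hA1 : Full G (D.Φ.A 1) := by
    have h := hB1.image (pow_mem hM 2)
    rwa [hMa2] at h
  refine D.rootGen_le hb hB1 hA1 ?_ hBig
  -- the centre `b₀`
  set γ := -H.conj D.t / D.s with hγdef
  have hγ : γ = H.conj D.t := by rw [hγdef, hsone, hneg, div_one]
  have htt : D.t * H.conj D.t = 1 := by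
    refine (h2 _ (by rw [map_mul, H.conj_conj, mul_comm])).resolve_left fun h => ?_
    rcases mul_eq_zero.1 h with h | h
    · simpa [h] using D.ht
    · have ht0 : D.t = 0 := by rw [← H.conj_conj D.t, h, map_zero]
      simpa [h, ht0] using D.ht
  have hl : k + 1 ≤ k + 1 := le_rfl
  have hl0 : k + 1 ≠ 0 := by simp
  have hAl := D.full_A hb hB1 hA1 _ hl
  have hBl := D.full_B hb hB1 _ hl0 hl
  have hswl := sw_mem (D.Φ.pairN hl) hone hAl hBl
  obtain ⟨-, sb, sf⟩ := sw_apply (D.Φ.pairN hl) hone one_ne_zero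
  have hb0A := D.Φ.BA_ne (show 0 ≠ k + 1 by omega)
  have hb0B := D.Φ.BB 0 (k + 1)
  have r0 := D.full_r0 hb hB1
  rw [← hγdef] at r0
  have r1 : Full G (D.Φ.B 0 + γ • D.Φ.A (k + 1)) := by
    have h := r0.image hswl
    rwa [map_add, map_smul, sb, sf _ hb0A hb0B, one_smul] at h
  have hb00 := D.Φ.BA_same (Nat.zero_le (k + 1))
  have kA := D.inK_Al hb hB1 hA1 hone
  rw [one_smul] at kA
  have r2 : Full G (D.Φ.B 0 + D.t • D.Φ.A (k + 1)) := by
    have cA : RootCond H (D.Φ.A 0) (D.Φ.A (k + 1)) 0 :=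
      ⟨D.Φ.AA _ _, D.Φ.AA _ _, by rw [map_zero, D.Φ.AA]; ring⟩
    have h := r1.image (kA.2 0 cA)
    have e : γ + 1 = D.t := by rw [hγ]; linear_combination D.ht + (1 - D.t) * two
    rw [root_apply] at h
    simp only [H.add_left, H.smul_left, hb00, hb0A, D.Φ.AA, mul_zero, add_zero, zero_mul,
      neg_zero, zero_smul, one_smul] at h
    convert h using 1
    rw [← e]; module
  have r3 : Full G (D.Φ.B 0 + D.Φ.B (k + 1) + D.Φ.A (k + 1)) := by
    have hrr : H.h (D.Φ.B 0 + D.t • D.Φ.A (k + 1)) (D.Φ.B 0 + D.t • D.Φ.A (k + 1)) = 0 := by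
      simp [H.add_left, H.add_right, H.smul_left, H.smul_right, D.Φ.AA, D.Φ.BB, hb0A,
        H.h_comm_zero hb0A]
    have h := r0.image (r2 1 (cond_central hrr hone))
    rw [central_apply] at h
    refine Full.of_smul (r := γ) (by rw [hγ]; exact right_ne_zero_of_mul_eq_one htt) ?_
    convert h using 1
    simp only [H.add_left, H.add_right, H.smul_left, H.smul_right, D.Φ.BB, hb0A,
      D.Φ.BA_same hl, hγ]
    match_scalars
    exacts [by linear_combination htt - H.conj D.t * D.ht, by ring,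
      by linear_combination -H.conj D.t * htt]
  have kB := D.inK_real hb hB1 hA1 (k + 1) hl0 hl 1 (map_one _)
  rw [one_smul] at kB
  have kx := kB.add hA0 (D.Φ.AA 0 0) kA
  have cx : RootCond H (D.Φ.A 0) (D.Φ.B (k + 1) + D.Φ.A (k + 1)) 0 :=
    ⟨D.Φ.AA _ _, kx.1, by
      simp only [map_zero, H.add_left, H.add_right, D.Φ.AA, D.Φ.BB, D.Φ.BA_same hl, D.Φ.AB_same hl]
      linear_combination two⟩
  have h := r3.image (kx.2 0 cx)
  convert h using 1
  simp only [root_apply, H.add_left, H.add_right, H.smul_left, D.Φ.AA, D.Φ.BB, hb00, hb0A,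
    D.Φ.BA_ne (show k + 1 ≠ 0 by omega), D.Φ.BA_same hl, D.Φ.AB_same hl]
  match_scalars <;> grind

end Dat

/-! ### Existence -/

/-- `SU_n(q)`, `n ≥ 4`, is generated by two elements. -/
theorem exists_two_generators {F : Type*} [Field F] [Fintype F] {q : ℕ}
    (hF : Fintype.card F = q ^ 2) {n : ℕ} (k : ℕ) (hn : n = 2 * (k + 2) ∨ n = 2 * (k + 2) + 1) :
    ∃ a ∈ rootGen (stdHerm hF n), ∃ b ∈ rootGen (stdHerm hF n),
      rootGen (stdHerm hF n) ≤ Subgroup.closure {a, b} := by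
  classical
  set H := stdHerm hF n
  obtain ⟨Φ, he0, he1⟩ := exists_wb (k := k) hF hn
  obtain ⟨s, hs0, hs⟩ := H.exists_skew
  obtain ⟨t, ht⟩ := H.exists_trace_one
  obtain ⟨D⟩ : Nonempty (Dat H k) := by
    rcases hn with h | h
    · exact ⟨⟨Φ, s, by linear_combination hs, hs0, t, ht, -t, by
        rw [he0 h, H.zero_left, map_neg]; linear_combination -ht, Or.inl (he0 h)⟩⟩
    · exact ⟨⟨Φ, s, by linear_combination hs, hs0, t, ht, 0, by
        rw [he1 h, map_zero]; ring, Or.inr rfl⟩⟩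
  have hBig : Big H := big_std hF (by omega)
  suffices ∃ a ∈ rootGen H, ∀ G : Subgroup (Unit' H), a ∈ G → D.bEl ∈ G → rootGen H ≤ G by
    obtain ⟨a, ha, hG⟩ := this
    exact ⟨a, ha, D.bEl, D.bEl_mem, hG _ (Subgroup.subset_closure (by simp))
      (Subgroup.subset_closure (by simp))⟩
  by_cases h2 : ∀ x : F, H.conj x = x → x = 0 ∨ x = 1
  · exact D.generators_of_two hBig h2
  let K : Subfield F := RingHom.eqLocusField H.conj (RingHom.id F)
  have hK : ∀ x : F, x ∈ K ↔ H.conj x = x := fun x => Iff.rfl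
  haveI : Fintype K := Fintype.ofFinite K
  obtain ⟨u, hu⟩ := IsCyclic.exists_generator (α := Kˣ)
  refine D.generators_of_dilation hBig (g := ((u : K) : F)) (u : K).2 (by simp) ?_
    (m := Fintype.card K - 1) ?_ ?_ ?_
  · intro h1
    apply h2
    intro x hx
    by_cases hx0 : x = 0
    · exact Or.inl hx0
    right
    have hu1 : u = 1 := Units.ext (Subtype.ext h1)
    obtain ⟨i, hi⟩ := hu (Units.mk0 (⟨x, hx⟩ : K) fun h => hx0 (congrArg Subtype.val h))
    simp only [hu1, one_zpow] at hi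
    exact (congrArg (fun y : Kˣ => ((y : K) : F)) hi).symm
  · exact_mod_cast congrArg (Subtype.val) (FiniteField.pow_card_sub_one_eq_one (u : K) u.ne_zero)
  · have h : ((Fintype.card K : ℕ) : F) = 0 :=
      (map_natCast K.subtype _).symm.trans (by rw [Nat.cast_card_eq_zero, map_zero])
    rw [Nat.cast_sub Fintype.card_pos, h, Nat.cast_one, zero_sub]
  · intro x hx
    obtain ⟨y, z, hyz⟩ := sum_two_squares K ⟨x, hx⟩
    have key : ∀ y : K, ∃ i : ℕ, ∃ e : Bool,
        ((y ^ 2 : K) : F) = if e then (((u : K) : F) ^ 2) ^ i else 0 := by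
      intro y
      by_cases hy : y = 0
      · exact ⟨0, false, by simp [hy]⟩
      obtain ⟨i, hi⟩ := (mem_powers_iff_mem_zpowers (x := u)).2 (hu (Units.mk0 y hy))
      refine ⟨i, true, ?_⟩
      have := congrArg (fun v : Kˣ => ((v : K) : F)) hi
      simp only [Units.val_pow_eq_pow_val, SubmonoidClass.coe_pow, Units.val_mk0] at this
      rw [if_pos rfl, SubmonoidClass.coe_pow, ← this, ← pow_mul, ← pow_mul, mul_comm]
    obtain ⟨i, e, h1⟩ := key y
    obtain ⟨j, e', h2⟩ := key z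
    refine ⟨i, j, e, e', ?_⟩
    rw [← h1, ← h2]
    exact congrArg Subtype.val hyz

end CfsgLib.Linear.SUTwo
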