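/-
`Sp_{2n}(q)`, `n ≥ 2`, is generated by two elements: the product of a transvection with a commuting
element of a second hyperbolic plane, and a Coxeter-type monomial element times a short root element.
-/
import Cfsg.Agent.Lib.Linear.SympThreeConj

set_option autoImplicit false
set_option linter.unusedSimpArgs false
set_option linter.unusedSectionVars false

namespace CfsgLib.Linear.SympTwo

open Matrix Cfsg CfsgLib.Linear.Symp CfsgLib.Linear.SympReg CfsgLib.Linear.Dickson
open scoped MatrixGroups

variable {F : Type*} [Field F] {k : ℕ}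

/-- The cyclic permutation of the indices. -/
def cycMat (k : ℕ) (F : Type*) [Field F] : Matrix (Fin (k + 2)) (Fin (k + 2)) F :=
  Equiv.Perm.permMatrix F (finRotate (k + 2)).symm

theorem cycMat_mul_transpose : cycMat k F * (cycMat k F)ᵀ = 1 := by
  rw [cycMat, Matrix.transpose_permMatrix, ← Matrix.permMatrix_mul, inv_mul_cancel,
    Matrix.permMatrix_one]

theorem isUnit_det_cycMat : IsUnit (cycMat k F).det := by
  rw [cycMat, Matrix.det_permutation]
  rcases Int.units_eq_one_or (Equiv.Perm.sign (finRotate (k + 2)).symm) with h | h <;> rw [h] <;>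
    simp

theorem cycMat_inv_transpose : (cycMat k F)⁻¹ᵀ = cycMat k F := by
  rw [Matrix.inv_eq_right_inv cycMat_mul_transpose, transpose_transpose]

/-- The short root matrix. -/
def shortMat (k : ℕ) (F : Type*) [Field F] : Matrix (Fin (k + 2)) (Fin (k + 2)) F :=
  1 + Matrix.single 0 1 1

theorem shortMat_mul : shortMat k F * (1 - Matrix.single 0 1 1) = 1 := by
  rw [shortMat, add_mul, mul_sub, mul_sub, one_mul, one_mul, mul_one,
    Matrix.single_mul_single_of_ne _ _ _ _ (by simp : (1 : Fin (k + 2)) ≠ 0)]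
  abel

theorem isUnit_det_shortMat : IsUnit (shortMat k F).det :=
  Matrix.isUnit_det_of_right_inverse shortMat_mul

/-- The second generator. -/
noncomputable def coxElt (k : ℕ) (F : Type*) [Field F] : symplecticGroup (Fin (k + 2)) F :=
  blockDiag (shortMat k F) isUnit_det_shortMat *
    (planeHom 0 (up (-1) * lo 1 * up (-1)) * blockDiag (cycMat k F) isUnit_det_cycMat)

theorem blockDiag_smul_eA (A : Matrix (Fin (k + 2)) (Fin (k + 2)) F) (hA : IsUnit A.det)
    (i : Fin (k + 2)) :
    blockDiag A hA • (eA i : Fin (k + 2) ⊕ Fin (k + 2) → F) = ∑ j, A j i • eA j := by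
  rw [smul_def]
  ext (l | l)
  · show (fromBlocks _ _ _ _ *ᵥ _) _ = _
    simp [eA, fromBlocks, Finset.sum_apply, Pi.single_apply]
  · show (fromBlocks _ _ _ _ *ᵥ _) _ = _
    simp [eA, fromBlocks, Finset.sum_apply]

theorem blockDiag_smul_eB (A : Matrix (Fin (k + 2)) (Fin (k + 2)) F) (hA : IsUnit A.det)
    (i : Fin (k + 2)) :
    blockDiag A hA • (eB i : Fin (k + 2) ⊕ Fin (k + 2) → F) = ∑ j, A⁻¹ᵀ j i • eB j := by
  rw [smul_def]
  ext (l | l)
  · show (fromBlocks _ _ _ _ *ᵥ _) _ = _
    simp [eB, fromBlocks, Finset.sum_apply]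
  · show (fromBlocks _ _ _ _ *ᵥ _) _ = _
    simp [eB, fromBlocks, Finset.sum_apply, Pi.single_apply]

theorem cyc_smul (i : Fin (k + 2)) :
    blockDiag (cycMat k F) isUnit_det_cycMat • (eA i : Fin (k + 2) ⊕ Fin (k + 2) → F) = eA (i + 1) ∧
    blockDiag (cycMat k F) isUnit_det_cycMat • (eB i : Fin (k + 2) ⊕ Fin (k + 2) → F) = eB (i + 1) := by
  rw [blockDiag_smul_eA, blockDiag_smul_eB, cycMat_inv_transpose]
  have h : ∀ j : Fin (k + 2), cycMat k F j i = if j = i + 1 then 1 else 0 := fun j => by
    simp [cycMat, Equiv.Perm.permMatrix, PEquiv.toMatrix_apply, Equiv.eq_symm_apply,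
      Equiv.symm_apply_eq]
    exact if_congr sub_eq_iff_eq_add rfl rfl
  simp [h]

theorem short_smul (i : Fin (k + 2)) :
    blockDiag (shortMat k F) isUnit_det_shortMat • (eA i : Fin (k + 2) ⊕ Fin (k + 2) → F) =
      eA i + (if i = 1 then (1 : F) else 0) • eA 0 ∧
    blockDiag (shortMat k F) isUnit_det_shortMat • (eB i : Fin (k + 2) ⊕ Fin (k + 2) → F) =
      eB i - (if i = 0 then (1 : F) else 0) • eB 1 := by
  rw [blockDiag_smul_eA, blockDiag_smul_eB, Matrix.inv_eq_right_inv shortMat_mul]
  constructor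
  · rcases eq_or_ne i 1 with rfl | h
    · simp [shortMat, Matrix.one_apply, Matrix.single_apply, add_smul, Finset.sum_add_distrib,
        eq_comm]
    · simp [shortMat, Matrix.one_apply, Matrix.single_apply, add_smul, Finset.sum_add_distrib, h,
        h.symm, eq_comm]
  · rcases eq_or_ne i 0 with rfl | h
    · simp [Matrix.transpose_apply, Matrix.one_apply, Matrix.single_apply, sub_smul,
        Finset.sum_sub_distrib, eq_comm]
    · simp [Matrix.transpose_apply, Matrix.one_apply, Matrix.single_apply, sub_smul,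
        Finset.sum_sub_distrib, h, h.symm, eq_comm]

theorem rot_smul (i : Fin (k + 2)) :
    planeHom (0 : Fin (k + 2)) (up (-1) * lo 1 * up (-1) : SL(2, F)) •
      (eA i : Fin (k + 2) ⊕ Fin (k + 2) → F) = (if i = 0 then eB 0 else eA i) ∧
    planeHom (0 : Fin (k + 2)) (up (-1) * lo 1 * up (-1) : SL(2, F)) •
      (eB i : Fin (k + 2) ⊕ Fin (k + 2) → F) = (if i = 0 then -eA 0 else eB i) := by
  constructor <;> rw [planeHom_smul] <;> rcases eq_or_ne i 0 with rfl | h <;>
    simp [eA, eB, up_val, lo_val, SL2_mul_apply, *, Ne.symm]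

theorem add_one_ne_zero' {i : Fin (k + 2)} (h : i ≠ Fin.last (k + 1)) : i + 1 ≠ 0 := fun e => by
  have := congrArg Fin.val e
  rw [Fin.val_add_one_of_lt (Fin.lt_last_iff_ne_last.2 h)] at this
  simp at this

theorem mk_add_one (i : ℕ) (h : i + 1 < k + 2) :
    (⟨i, by omega⟩ : Fin (k + 2)) + 1 = ⟨i + 1, h⟩ :=
  Fin.ext (Fin.val_add_one_of_lt (i := (⟨i, by omega⟩ : Fin (k + 2))) (by simp [Fin.lt_def]; omega))

theorem cox_eA (i : Fin (k + 2)) (h : i ≠ Fin.last (k + 1)) :
    coxElt k F • (eA i : Fin (k + 2) ⊕ Fin (k + 2) → F) =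
      eA (i + 1) + (if i = 0 then (1 : F) else 0) • eA 0 := by
  have h1 : i + 1 ≠ 0 := add_one_ne_zero' h
  rw [coxElt, mul_smul, mul_smul, (cyc_smul i).1, (rot_smul _).1, if_neg h1, (short_smul _).1]
  congr 2
  by_cases hi : i = 0
  · simp [hi]
  · rw [if_neg hi, if_neg]
    intro e
    exact hi (by simpa using e)

theorem cox_eA_last :
    coxElt k F • (eA (Fin.last (k + 1)) : Fin (k + 2) ⊕ Fin (k + 2) → F) = eB 0 - eB 1 := by
  rw [coxElt, mul_smul, mul_smul, (cyc_smul _).1, Fin.last_add_one, (rot_smul _).1, if_pos rfl,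
    (short_smul _).2, if_pos rfl, one_smul]

theorem cox_eB (i : Fin (k + 2)) (h : i ≠ Fin.last (k + 1)) :
    coxElt k F • (eB i : Fin (k + 2) ⊕ Fin (k + 2) → F) = eB (i + 1) := by
  have h1 : i + 1 ≠ 0 := add_one_ne_zero' h
  rw [coxElt, mul_smul, mul_smul, (cyc_smul i).2, (rot_smul _).2, if_neg h1, (short_smul _).2,
    if_neg h1, zero_smul, sub_zero]

theorem cox_eB_last :
    coxElt k F • (eB (Fin.last (k + 1)) : Fin (k + 2) ⊕ Fin (k + 2) → F) = -eA 0 := by
  rw [coxElt, mul_smul, mul_smul, (cyc_smul _).2, Fin.last_add_one, (rot_smul _).2, if_pos rfl,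
    smul_neg, (short_smul _).1, if_neg (by simp), zero_smul, add_zero]

variable [Finite F] {G : Subgroup (symplecticGroup (Fin (k + 2)) F)}

theorem tv_neg (v : Fin (k + 2) ⊕ Fin (k + 2) → F) (c : F) : tv (-v) c = tv v c := by
  rw [← neg_one_smul F v, tv_smul_vec]; simp

theorem tv_eB_mem (hb : coxElt k F ∈ G) {c : F} (h : tv (eA 0) c ∈ G) :
    ∀ i : Fin (k + 2), tv (eB i) c ∈ G := by
  have hback : ∀ v w : Fin (k + 2) ⊕ Fin (k + 2) → F, coxElt k F • v = w → tv w c ∈ G →
      tv v c ∈ G := by
    intro v w e hw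
    have := mul_mem (mul_mem (inv_mem hb) hw) (inv_mem (inv_mem hb))
    rwa [tv_conj, ← e, inv_smul_smul] at this
  suffices ∀ (d : ℕ) (i : Fin (k + 2)), (i : ℕ) + d = k + 1 → tv (eB i) c ∈ G from
    fun i => this (k + 1 - i) i (by have := i.isLt; omega)
  intro d
  induction d with
  | zero =>
    intro i hi
    rw [show i = Fin.last (k + 1) from Fin.ext (by simpa using hi)]
    exact hback _ _ cox_eB_last (by rwa [tv_neg])
  | succ d ih =>
    intro i hi
    refine hback _ _ (cox_eB i (by simp [Fin.ext_iff]; omega)) (ih _ ?_)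
    rw [Fin.val_add_one_of_lt (by simp [Fin.lt_def]; omega)]
    omega

/-- From full lines at the basis and one shift, everything. -/
theorem eq_top_of_seed (hb : coxElt k F ∈ G) (ha0 : FullVec G (eA 0))
    (hB : ∀ i, FullVec G (eB i)) (hA1 : FullVec G (eA (1 : Fin (k + 2))))
    (hk1 : eA (1 : Fin (k + 2)) ∈ shiftSpace G (eA 0)) : G = ⊤ := by
  set K := shiftSpace G (eA (0 : Fin (k + 2)))
  have hs : sympForm (k + 2) F (eB 0) (eA (0 : Fin (k + 2))) ≠ 0 := by
    rw [form_eB_eA]; exact one_ne_zero
  have pair : ∀ {h x : Fin (k + 2) ⊕ Fin (k + 2) → F}, sympForm (k + 2) F h (eA 0) = 0 →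
      FullVec G h → x ∈ K → sympForm (k + 2) F (eB 0) h = 0 → sympForm (k + 2) F x h ≠ 0 → h ∈ K := by
    intro h x hh hf hx h0 hxh
    have hv := hx.2 _ (hB 0) hs
    have hne : sympForm (k + 2) F (eB 0 + x) h ≠ 0 := by rwa [form_add_left, h0, zero_add]
    exact mem_shiftSpace_of_pair hh hx hxh hv
      (by rwa [form_add_left, hx.1, add_zero]) (hv.add hf hne)
  have hAfull : ∀ i : ℕ, (hi : i + 1 < k + 2) → FullVec G (eA (⟨i + 1, hi⟩ : Fin (k + 2))) := by
    intro i
    induction i with
    | zero => intro hi; exact hA1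
    | succ i ih =>
      intro hi
      have h1 := (ih (by omega)).image hb
      rw [cox_eA _ (by simp [Fin.ext_iff]; omega), if_neg (by simp [Fin.ext_iff]), zero_smul,
        add_zero, mk_add_one (i + 1) hi] at h1
      exact h1
  have hY : ∀ i : ℕ, (hi : i + 1 < k + 2) →
      FullVec G (eB (⟨i, by omega⟩ : Fin (k + 2)) - eB (⟨i + 1, hi⟩ : Fin (k + 2))) := by
    intro i
    induction i with
    | zero =>
      intro hi
      have h1 := (hAfull k (by omega)).image hb
      rw [show (⟨k + 1, _⟩ : Fin (k + 2)) = Fin.last (k + 1) from rfl, cox_eA_last] at h1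
      exact h1
    | succ i ih =>
      intro hi
      have h1 := (ih (by omega)).image hb
      rw [smul_sub, cox_eB _ (by simp [Fin.ext_iff]; omega), cox_eB _ (by simp [Fin.ext_iff]; omega),
        mk_add_one i (by omega), mk_add_one (i + 1) hi] at h1
      exact h1
  have hmain : ∀ i : ℕ, (hi : i + 1 < k + 2) →
      eA (⟨i + 1, hi⟩ : Fin (k + 2)) ∈ K ∧ eB (⟨i + 1, hi⟩ : Fin (k + 2)) ∈ K := by
    intro i
    induction i with
    | zero =>
      intro hi
      refine ⟨hk1, pair ?_ (hB _) hk1 (form_eB_eB _ _) ?_⟩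
      · rw [form_eA]; simp [eB, Fin.ext_iff]
      · rw [show (⟨0 + 1, hi⟩ : Fin (k + 2)) = 1 from rfl, form_eA_eB]
        exact neg_ne_zero.2 one_ne_zero
    | succ i ih =>
      intro hi
      obtain ⟨hkA, hkB⟩ := ih (by omega)
      have hkY : eB (⟨i + 1, by omega⟩ : Fin (k + 2)) - eB (⟨i + 2, hi⟩ : Fin (k + 2)) ∈ K := by
        refine pair ?_ (hY (i + 1) hi) hkA ?_ ?_
        · rw [form_sub_left, form_eA, form_eA]; simp [eB, Fin.ext_iff]
        · rw [sub_eq_add_neg, ← neg_one_smul F (eB _), form_add_right, form_smul_right, form_eB_eB,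
            form_eB_eB]
          ring
        · rw [form_swap, form_sub_left, form_eA, form_eA]; simp [eB, Fin.ext_iff]
      have hkB' : eB (⟨i + 2, hi⟩ : Fin (k + 2)) ∈ K := by
        have := K.sub_mem hkB hkY
        rwa [sub_sub_cancel] at this
      refine ⟨pair ?_ (hAfull (i + 1) hi) hkB' ?_ ?_, hkB'⟩
      · exact form_eA_eA _ _
      · rw [form_eA]; simp [eB, Fin.ext_iff]
      · rw [form_eB_eA]; exact one_ne_zero
  refine eq_top_of_shiftSpace (hB 0) hs fun v hv => ?_
  rw [form_eA] at hv
  rw [← Finset.univ_sum_single v]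
  refine Submodule.sum_mem _ fun j _ => ?_
  rw [← mul_one (v j), ← smul_eq_mul, Pi.single_smul]
  rcases j with j | j <;> rcases eq_or_ne j 0 with rfl | hj
  · exact K.smul_mem _ (self_mem_shiftSpace ha0)
  · obtain ⟨i, hi⟩ : ∃ i, (j : ℕ) = i + 1 := ⟨(j : ℕ) - 1, by
      have : (j : ℕ) ≠ 0 := fun e => hj (Fin.ext e)
      omega⟩
    have := (hmain i (by have := j.isLt; omega)).1
    rw [show (⟨i + 1, _⟩ : Fin (k + 2)) = j from Fin.ext hi.symm] at this
    exact K.smul_mem _ this
  · rw [hv, zero_smul]; exact K.zero_mem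
  · obtain ⟨i, hi⟩ : ∃ i, (j : ℕ) = i + 1 := ⟨(j : ℕ) - 1, by
      have : (j : ℕ) ≠ 0 := fun e => hj (Fin.ext e)
      omega⟩
    have := (hmain i (by have := j.isLt; omega)).2
    rw [show (⟨i + 1, _⟩ : Fin (k + 2)) = j from Fin.ext hi.symm] at this
    exact K.smul_mem _ this

theorem exists_two_generators (k : ℕ) :
    ∃ a b : symplecticGroup (Fin (k + 2)) F, Subgroup.closure ({a, b} : Set _) = ⊤ := by
  classical
  letI := Fintype.ofFinite F
  set T : symplecticGroup (Fin (k + 2)) F := tv (eA 0) 1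
  have h10 : (1 : Fin (k + 2)) ≠ 0 := by simp
  have hcomm : ∀ M : SL(2, F), Commute T (planeHom (1 : Fin (k + 2)) M) := fun M => by
    have : planeHom (1 : Fin (k + 2)) M • (eA 0 : Fin (k + 2) ⊕ Fin (k + 2) → F) = eA 0 := by
      rw [planeHom_smul]; simp [eA, h10]
    have h2 := tv_conj (planeHom (1 : Fin (k + 2)) M) (eA 0) (1 : F)
    rw [this] at h2
    exact (mul_inv_eq_iff_eq_mul.1 h2).symm
  by_cases h2 : Nat.card F = 2
  · have two : (2 : F) = 0 := by
      have := FiniteField.cast_card_eq_zero F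
      rw [← Nat.card_eq_fintype_card, h2] at this
      exact_mod_cast this
    set M : SL(2, F) := lo 1 * up 1
    have hM : M ^ 3 = 1 := by
      refine Subtype.ext (Matrix.ext fun i j => ?_)
      simp only [pow_succ, pow_zero, one_mul, M, SL2_mul_apply, up_val, lo_val]
      fin_cases i <;> fin_cases j <;> simp <;>
        first | linear_combination (4 : F) * two | linear_combination (2 : F) * two |
          linear_combination (6 : F) * two | linear_combination (1 : F) * two
    refine ⟨T * planeHom (1 : Fin (k + 2)) M, coxElt k F, ?_⟩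
    set G := Subgroup.closure ({T * planeHom (1 : Fin (k + 2)) M, coxElt k F} : Set _)
    have ha : T * planeHom (1 : Fin (k + 2)) M ∈ G := Subgroup.subset_closure (by simp)
    have hb : coxElt k F ∈ G := Subgroup.subset_closure (by simp)
    have hT3 : (T * planeHom (1 : Fin (k + 2)) M) ^ 3 = T := by
      rw [(hcomm M).mul_pow, ← map_pow, hM, map_one, mul_one, tv_pow]
      congr 1
      push_cast
      linear_combination two
    have hT : T ∈ G := hT3 ▸ pow_mem ha 3
    have hR : planeHom (1 : Fin (k + 2)) M ∈ G := by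
      have := mul_mem (inv_mem hT) ha
      rwa [inv_mul_cancel_left] at this
    have full_of : ∀ v, tv v 1 ∈ G → FullVec G v := fun v hv c => by
      obtain ⟨j, rfl⟩ := exists_natCast_of_card_prime Nat.prime_two h2 c
      rw [show (j : F) = (j : F) * 1 by rw [mul_one], ← tv_pow]
      exact pow_mem hv j
    have ha0 := full_of _ hT
    have hB : ∀ i, FullVec G (eB i) := fun i => full_of _ (tv_eB_mem hb hT i)
    have hA1 : FullVec G (eA (1 : Fin (k + 2))) := by
      have h1 := (hB 1).image hR
      convert h1 using 1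
      rw [planeHom_smul]
      simp [M, up_val, lo_val, SL2_mul_apply, eA, eB]
      rw [add_right_comm, ← two_smul F (Pi.single (Sum.inr (1 : Fin (k + 2))) (1 : F) : Fin (k + 2) ⊕ Fin (k + 2) → F), two,
        zero_smul, zero_add]
    have h01 : FullVec G (eA 0 + eA (1 : Fin (k + 2))) := by
      have h1 := ha0.image hb
      rw [cox_eA 0 (by simp [Fin.ext_iff]), if_pos rfl, one_smul, zero_add, add_comm (eA (1 : Fin (k + 2)))] at h1
      exact h1
    refine eq_top_of_seed hb ha0 hB hA1 ⟨form_eA_eA _ _, fun v hv hve => ?_⟩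
    by_cases h0 : sympForm (k + 2) F v (eA 1) = 0
    · have h1 : FullVec G (v + (eA 0 + eA 1)) :=
        hv.add h01 (by rw [form_add_right, h0, add_zero]; exact hve)
      have h3 := h1.sub ha0 (by simp only [form_add_left, form_eA_eA, add_zero]; exact hve)
      convert h3 using 1
      module
    · exact hv.add hA1 h0
  · obtain ⟨w, hw⟩ := IsCyclic.exists_generator (α := Fˣ)
    set M : SL(2, F) := ⟨!![(w : F), 0; 0, (w : F)⁻¹], by simp [Matrix.det_fin_two]⟩
    have hMpow : ∀ n : ℕ, ((M ^ n).1 : Matrix (Fin 2) (Fin 2) F) = !![(w : F) ^ n, 0; 0, ((w : F) ^ n)⁻¹] := by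
      intro n
      induction n with
      | zero => simp [Matrix.one_fin_two]
      | succ n ih =>
        rw [pow_succ]
        show (M ^ n).1 * M.1 = _
        rw [ih]
        simp [M, pow_succ, mul_comm]
    have hM : M ^ (Nat.card F - 1) = 1 := by
      refine Subtype.ext ?_
      rw [hMpow, Nat.card_eq_fintype_card, FiniteField.pow_card_sub_one_eq_one _ w.ne_zero]
      simp [Matrix.one_fin_two]
    refine ⟨T * planeHom (1 : Fin (k + 2)) M, coxElt k F, ?_⟩
    set G := Subgroup.closure ({T * planeHom (1 : Fin (k + 2)) M, coxElt k F} : Set _)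
    have ha : T * planeHom (1 : Fin (k + 2)) M ∈ G := Subgroup.subset_closure (by simp)
    have hb : coxElt k F ∈ G := Subgroup.subset_closure (by simp)
    have hT : T ∈ G := by
      have h1 := inv_mem (pow_mem ha (Nat.card F - 1))
      rw [(hcomm M).mul_pow, ← map_pow, hM, map_one, mul_one, tv_pow, tv_inv,
        Nat.cast_sub Finite.card_pos, Nat.card_eq_fintype_card, FiniteField.cast_card_eq_zero] at h1
      simpa [T] using h1
    have hD : planeHom (1 : Fin (k + 2)) M ∈ G := by
      have := mul_mem (inv_mem hT) ha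
      rwa [inv_mul_cancel_left] at this
    have hDb : planeHom (1 : Fin (k + 2)) M • (eB 1 : Fin (k + 2) ⊕ Fin (k + 2) → F) =
        ((w : F)⁻¹) • eB 1 := by
      rw [planeHom_smul]
      simp [M, eA, eB]
      module
    -- the line at `b₁`
    let W : AddSubgroup F :=
      { carrier := {c | tv (eB (1 : Fin (k + 2))) c ∈ G}
        zero_mem' := by show tv _ 0 ∈ G; rw [tv_zero]; exact one_mem G
        add_mem' := fun {x y} hx hy => by show tv _ (x + y) ∈ G; rw [← tv_add]; exact mul_mem hx hy
        neg_mem' := fun {x} hx => by show tv _ (-x) ∈ G; rw [← tv_inv]; exact inv_mem hx }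
    let S : Subring F :=
      { carrier := {x | ∀ z ∈ W, x * z ∈ W}
        one_mem' := fun z hz => by rwa [one_mul]
        mul_mem' := fun {a b} ha hb z hz => by rw [mul_assoc]; exact ha _ (hb z hz)
        zero_mem' := fun z _ => by rw [zero_mul]; exact W.zero_mem
        add_mem' := fun {a b} ha hb z hz => by rw [add_mul]; exact W.add_mem (ha z hz) (hb z hz)
        neg_mem' := fun {a} ha z hz => by rw [neg_mul]; exact W.neg_mem (ha z hz) }
    let E : Subfield F :=
      { S with
        inv_mem' := fun y hy => by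
          rcases eq_or_ne y 0 with rfl | hy0
          · rw [_root_.inv_zero]; exact S.zero_mem
          have h1 := FiniteField.pow_card_sub_one_eq_one y hy0
          have hq := Fintype.one_lt_card (α := F)
          rw [show Fintype.card F - 1 = Fintype.card F - 2 + 1 by omega, pow_succ] at h1
          rw [inv_eq_of_mul_eq_one_left h1]
          exact S.pow_mem hy _ }
    have hE : E = ⊤ := by
      have hm : ((w : F)⁻¹) ^ 2 ∈ E := fun z hz => by
        show tv _ _ ∈ G
        have := mul_mem (mul_mem hD hz) (inv_mem hD)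
        rwa [tv_conj, hDb, tv_smul_vec, ← pow_two] at this
      refine subfield_eq_top_of_sq_mem w hw E ?_
      rw [← inv_inv ((w : F) ^ 2), ← inv_pow]
      exact E.inv_mem hm
    have hb1 : FullVec G (eB (1 : Fin (k + 2))) := fun c => by
      have h := (show c ∈ E from hE ▸ Subfield.mem_top _) 1 (tv_eB_mem hb hT 1)
      rwa [mul_one] at h
    -- up to `a₀`
    have hup : ∀ i : ℕ, (hi : i + 1 < k + 2) → FullVec G (eB (⟨i + 1, hi⟩ : Fin (k + 2))) := by
      intro i
      induction i with
      | zero => intro hi; exact hb1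
      | succ i ih =>
        intro hi
        have h1 := (ih (by omega)).image hb
        rw [cox_eB _ (by simp [Fin.ext_iff]; omega), mk_add_one (i + 1) hi] at h1
        exact h1
    have ha0 : FullVec G (eA (0 : Fin (k + 2))) := by
      have h1 := (hup k (by omega)).image hb
      rw [show (⟨k + 1, _⟩ : Fin (k + 2)) = Fin.last (k + 1) from rfl, cox_eB_last] at h1
      have h3 := h1.smul (-1)
      rwa [neg_one_smul, neg_neg] at h3
    have hB : ∀ i, FullVec G (eB i) := fun i c => tv_eB_mem hb (ha0 c) i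
    have hq : ∀ a b : F, ∃ t, t ≠ a ∧ t ≠ b := fun a b => by
      obtain ⟨t, ht⟩ := Finset.exists_mem_notMem_of_card_lt_card (s := {a, b})
        (t := (Finset.univ : Finset F)) (by
          refine lt_of_le_of_lt Finset.card_le_two ?_
          rw [Finset.card_univ, ← Nat.card_eq_fintype_card]
          have := Finite.one_lt_card (α := F); omega)
      exact ⟨t, fun e => ht.2 (by simp [e]), fun e => ht.2 (by simp [e])⟩
    have h01 : FullVec G (eA 0 + eA (1 : Fin (k + 2))) := by
      have h1 := ha0.image hb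
      rw [cox_eA 0 (by simp [Fin.ext_iff]), if_pos rfl, one_smul, zero_add, add_comm (eA (1 : Fin (k + 2)))] at h1
      exact h1
    have hf : sympForm (k + 2) F (eB 0) (eA 0 + eA (1 : Fin (k + 2))) = 1 := by
      rw [form_add_right, form_eB_eA, form_eA]; simp [eB]
    have hv : FullVec G (eB 0 + (eA 0 + eA (1 : Fin (k + 2)))) :=
      (hB 0).add h01 (by rw [hf]; exact one_ne_zero)
    have hk1 : eA (1 : Fin (k + 2)) ∈ shiftSpace G (eA 0) := by
      have h3 := sub_mem_shiftSpace hq ha0 (hB 0) hv (by rw [form_eB_eA]; exact one_ne_zero)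
        (by rw [form_add_left, form_add_left, form_eA_eA, form_eA_eA, add_zero, add_zero])
      rw [add_sub_cancel_left] at h3
      have := (shiftSpace G (eA (0 : Fin (k + 2)))).sub_mem h3 (self_mem_shiftSpace ha0)
      rwa [add_sub_cancel_left] at this
    refine eq_top_of_seed hb ha0 hB ?_ hk1
    have hv2 : FullVec G (eB 0 + (eA 0 + eA 1) + eB (1 : Fin (k + 2))) := hv.add (hB 1) (by
      simp only [form_add_left, form_eB]
      simp [eA, eB])
    have hve : sympForm (k + 2) F (eB 0 + (eA 0 + eA 1) + eB (1 : Fin (k + 2))) (eA 0) ≠ 0 := by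
      simp only [form_add_left, form_eA]
      simp [eA, eB]
    have h5 := (hk1.2 _ hv2 hve).sub hv2 (by
      rw [form_add_left, form_self, zero_add, form_swap]
      refine neg_ne_zero.2 ?_
      simp only [form_add_left, form_eA]
      simp [eA, eB])
    rwa [add_sub_cancel_left] at h5

end CfsgLib.Linear.SympTwo
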